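import Mathlib

set_option autoImplicit false

namespace Cfsg.Agent.Lib.Helper4

variable {G : Type*} [Group G]

/-- The conjugate `g H g⁻¹` of a subgroup. -/
abbrev cj (g : G) (H : Subgroup G) : Subgroup G := H.map (MulAut.conj g).toMonoidHom

theorem cj_def (g : G) (H : Subgroup G) : cj g H = H.map (MulAut.conj g).toMonoidHom := rfl

theorem conj_injective (g : G) : Function.Injective (MulAut.conj g).toMonoidHom :=
  (MulAut.conj g).injective

theorem mem_cj_iff (g : G) (H : Subgroup G) (x : G) : x ∈ cj g H ↔ g⁻¹ * x * g ∈ H := by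
  constructor
  · rintro ⟨k', hk', rfl⟩
    simpa [MulAut.conj_apply, mul_assoc] using hk'
  · intro hz
    refine ⟨g⁻¹ * x * g, hz, ?_⟩
    simp [MulAut.conj_apply, mul_assoc]

theorem conj_mem_cj (g : G) (H : Subgroup G) {x : G} (hx : x ∈ H) : g * x * g⁻¹ ∈ cj g H :=
  ⟨x, hx, by simp [MulAut.conj_apply]⟩

theorem cj_mul (a b : G) (H : Subgroup G) : cj (a * b) H = cj a (cj b H) := by
  ext x
  simp only [mem_cj_iff]
  have : (a * b)⁻¹ * x * (a * b) = b⁻¹ * (a⁻¹ * x * a) * b := by group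
  rw [this]

theorem cj_one (H : Subgroup G) : cj 1 H = H := by
  ext x
  simp [mem_cj_iff]

theorem cj_mono (g : G) {A B : Subgroup G} (h : A ≤ B) : cj g A ≤ cj g B := Subgroup.map_mono h

theorem cj_normalizer (g : G) (H : Subgroup G) :
    Subgroup.normalizer ((cj g H : Subgroup G) : Set G) = cj g (Subgroup.normalizer (H : Set G)) :=
  (Subgroup.map_equiv_normalizer_eq H (MulAut.conj g)).symm

theorem cj_inf (g : G) (A B : Subgroup G) : cj g (A ⊓ B) = cj g A ⊓ cj g B :=
  Subgroup.map_inf A B _ (conj_injective g)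

theorem cj_relIndex (g : G) (A B : Subgroup G) : (cj g A).relIndex (cj g B) = A.relIndex B :=
  Subgroup.relIndex_map_map_of_injective A B (conj_injective g)

theorem cj_isPGroup (p : ℕ) (g : G) {A : Subgroup G} (h : IsPGroup p A) : IsPGroup p (cj g A) :=
  h.map _

theorem sylow_smul_eq_cj {p : ℕ} (g : G) (P : Sylow p G) :
    ((g • P : Sylow p G) : Subgroup G) = cj g (P : Subgroup G) := by
  ext z
  rw [Sylow.coe_subgroup_smul, Subgroup.mem_pointwise_smul_iff_inv_smul_mem, mem_cj_iff]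
  simp [MulAut.smul_def, MulAut.conj_apply, mul_assoc]

/-- A `p`-subgroup of `B` of index prime to `p` in `B` is a maximal `p`-subgroup of `B`. -/
theorem eq_of_le_of_not_dvd_relIndex [Finite G] (p : ℕ) [hp : Fact p.Prime] {A A' B : Subgroup G}
    (h1 : A ≤ A') (h2 : A' ≤ B) (hA' : IsPGroup p A') (hidx : ¬ p ∣ A.relIndex B) : A = A' := by
  have hmul : A.relIndex A' * A'.relIndex B = A.relIndex B := Subgroup.relIndex_mul_relIndex A A' B h1 h2
  have hdvd : A.relIndex A' ∣ Nat.card A' := Subgroup.relIndex_dvd_card A A'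
  obtain ⟨k, hk⟩ := (IsPGroup.iff_card).1 hA'
  rw [hk] at hdvd
  obtain ⟨i, -, hi⟩ := (Nat.dvd_prime_pow hp.out).1 hdvd
  rcases Nat.eq_zero_or_pos i with rfl | hpos
  · have h1' : A.relIndex A' = 1 := by simpa using hi
    exact le_antisymm h1 (Subgroup.relIndex_eq_one.1 h1')
  · exfalso
    apply hidx
    rw [← hmul, hi]
    exact dvd_mul_of_dvd_left (dvd_pow_self p hpos.ne') _

/-- Given a `p`-subgroup `M ≤ N_G(U)`, some conjugation `g` moves `M` into the Sylow subgroup `S`
and makes `N_S(gUg⁻¹)` a Sylow `p`-subgroup of `N_G(gUg⁻¹)`. -/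
theorem exists_cj_sylow_normalizer [Finite G] (p : ℕ) [hp : Fact p.Prime] (S : Sylow p G)
    (U M : Subgroup G) (hMU : M ≤ Subgroup.normalizer (U : Set G)) (hM : IsPGroup p M) :
    ∃ g : G, cj g M ≤ (S : Subgroup G) ∧
      ¬ p ∣ ((S : Subgroup G) ⊓ Subgroup.normalizer ((cj g U : Subgroup G) : Set G)).relIndex
        (Subgroup.normalizer ((cj g U : Subgroup G) : Set G)) := by
  classical
  set N : Subgroup G := Subgroup.normalizer (U : Set G) with hN
  have hM' : IsPGroup p (M.subgroupOf N) := hM.comap_subtype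
  obtain ⟨R', hR'⟩ := hM'.exists_le_sylow
  set R : Subgroup G := (R' : Subgroup N).map N.subtype with hR
  have hMR : M ≤ R := by
    intro m hm
    exact ⟨⟨m, hMU hm⟩, hR' (by rw [Subgroup.mem_subgroupOf]; exact hm), rfl⟩
  have hRN : R ≤ N := by
    rintro _ ⟨x, _, rfl⟩; exact x.2
  have hRp : IsPGroup p R := R'.2.map _
  have hRidx : ¬ p ∣ R.relIndex N := by
    have : R.subgroupOf N = (R' : Subgroup N) :=
      Subgroup.comap_map_eq_self_of_injective (Subgroup.subtype_injective N) _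
    rw [Subgroup.relIndex, this]
    exact R'.not_dvd_index
  obtain ⟨P, hP⟩ := hRp.exists_le_sylow
  obtain ⟨g, hg⟩ := MulAction.exists_smul_eq G P S
  have hgP : cj g (P : Subgroup G) = (S : Subgroup G) := by
    rw [← sylow_smul_eq_cj, hg]
  have hgR : cj g R ≤ (S : Subgroup G) := by
    rw [← hgP]; exact cj_mono g hP
  refine ⟨g, (cj_mono g hMR).trans hgR, ?_⟩
  have hRN' : cj g R ≤ Subgroup.normalizer ((cj g U : Subgroup G) : Set G) := by
    rw [cj_normalizer]; exact cj_mono g hRN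
  have hidx' : ¬ p ∣ (cj g R).relIndex (Subgroup.normalizer ((cj g U : Subgroup G) : Set G)) := by
    rw [cj_normalizer, cj_relIndex]; exact hRidx
  have heq : cj g R = (S : Subgroup G) ⊓ Subgroup.normalizer ((cj g U : Subgroup G) : Set G) :=
    eq_of_le_of_not_dvd_relIndex p (le_inf hgR hRN') inf_le_right (S.2.to_le inf_le_left) hidx'
  rw [← heq]; exact hidx'

end Cfsg.Agent.Lib.Helper4
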