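import Cfsg.Agent.Lib.Helper4.Frobenius2

set_option autoImplicit false
set_option linter.unusedSectionVars false

namespace Cfsg.Agent.Lib.Helper4

open Cfsg

section
variable {G : Type*} [Group G] [Finite G] (p : ℕ) [hp : Fact p.Prime]

/-- If a normal subgroup `C` contains a Sylow `r`-subgroup for every prime `r ≠ p`, then `G/C` is a
`p`-group. -/
theorem isPGroup_quotient_of_sylow_le (C : Subgroup G) [C.Normal]
    (h : ∀ (r : ℕ) [Fact r.Prime], r ≠ p → ∃ R : Sylow r G, (R : Subgroup G) ≤ C) :
    IsPGroup p (G ⧸ C) := by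
  have hidx : C.index ≠ 0 := Subgroup.index_ne_zero_of_finite
  have hpow : ∃ a, C.index = p ^ a := by
    refine ⟨C.index.factorization p, ?_⟩
    apply Nat.eq_pow_of_factorization_eq_single hidx
    ext r
    by_cases hr : r = p
    · subst hr; simp
    · rw [Finsupp.single_apply, if_neg (Ne.symm hr)]
      by_cases hrp : r.Prime
      · haveI : Fact r.Prime := ⟨hrp⟩
        obtain ⟨R, hR⟩ := h r hr
        apply Nat.factorization_eq_zero_of_not_dvd
        intro hdvd
        exact R.not_dvd_index (dvd_trans hdvd (Subgroup.index_dvd_of_le hR))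
      · exact Nat.factorization_eq_zero_of_not_prime _ hrp
  obtain ⟨a, ha⟩ := hpow
  apply IsPGroup.of_card (n := a)
  rw [← Subgroup.index_eq_card, ha]

/-- A finite nilpotent group satisfies Frobenius' hypothesis. -/
theorem frobHyp_of_isNilpotent [hn : Group.IsNilpotent G] : FrobHyp p G := by
  intro Q hQ g hg hgp
  obtain ⟨P, hQP⟩ := hQ.exists_le_sylow
  have hPn : (P : Subgroup G).Normal := inferInstance
  set C : Subgroup G := Subgroup.centralizer ((P : Subgroup G) : Set G) with hC
  have hCn : C.Normal := Subgroup.normal_centralizer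
  have hquot : IsPGroup p (G ⧸ C) := by
    apply isPGroup_quotient_of_sylow_le
    intro r _ hr
    obtain ⟨R⟩ : Nonempty (Sylow r G) := inferInstance
    have hRn : (R : Subgroup G).Normal := inferInstance
    refine ⟨R, ?_⟩
    intro x hx
    rw [hC, Subgroup.mem_centralizer_iff]
    intro y hy
    have hdisj : Disjoint (R : Subgroup G) (P : Subgroup G) :=
      IsPGroup.disjoint_of_ne r p hr _ _ R.2 P.2
    have h1 : x * y * x⁻¹ * y⁻¹ ∈ (R : Subgroup G) := by
      have : x * y * x⁻¹ * y⁻¹ = x * (y * x⁻¹ * y⁻¹) := by group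
      rw [this]
      exact Subgroup.mul_mem _ hx (hRn.conj_mem _ (inv_mem hx) y)
    have h2 : x * y * x⁻¹ * y⁻¹ ∈ (P : Subgroup G) :=
      Subgroup.mul_mem _ (hPn.conj_mem _ hy x) (inv_mem hy)
    have h3 : x * y * x⁻¹ * y⁻¹ ∈ (R : Subgroup G) ⊓ (P : Subgroup G) := ⟨h1, h2⟩
    rw [hdisj.eq_bot, Subgroup.mem_bot] at h3
    have e : x * y = (x * y * x⁻¹ * y⁻¹) * (y * x) := by group
    rw [e, h3, one_mul]
  have hgC : g ∈ C := mem_of_coprime_of_isPGroup_quotient p C hquot g hgp
  exact Subgroup.centralizer_le hQP hgC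

/-- A group with a normal `p`-complement satisfies Frobenius' hypothesis. -/
theorem frobHyp_of_hasNormalPComplement (h : HasNormalPComplement p G) : FrobHyp p G := by
  apply frobHyp_of_local
  intro Q _ _
  exact hasNormalPComplement_subgroup p h _

end

end Cfsg.Agent.Lib.Helper4
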