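import Cfsg.Agent.Lib.Helper4.CoprimeAct

set_option autoImplicit false
set_option linter.unusedSectionVars false

namespace Cfsg.Agent.Lib.Helper4

open scoped Pointwise

universe u

section
variable {G : Type u} [Group G] [Finite G]

theorem card_comap_mk_quot (M : Subgroup G) [M.Normal] (N : Subgroup (G ⧸ M)) :
    Nat.card (N.comap (QuotientGroup.mk' M)) = Nat.card N * Nat.card M := by
  have h1 : (N.comap (QuotientGroup.mk' M)).index = N.index :=
    Subgroup.index_comap_of_surjective N (QuotientGroup.mk'_surjective M)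
  have h2 : Nat.card (N.comap (QuotientGroup.mk' M)) * (N.comap (QuotientGroup.mk' M)).index = Nat.card G :=
    Subgroup.card_mul_index _
  have h3 : Nat.card N * N.index = Nat.card (G ⧸ M) := Subgroup.card_mul_index _
  have h4 : Nat.card M * M.index = Nat.card G := Subgroup.card_mul_index _
  have h5 : M.index = Nat.card (G ⧸ M) := Subgroup.index_eq_card M
  have hidx : N.index ≠ 0 := Subgroup.index_ne_zero_of_finite
  rw [h1] at h2
  have : Nat.card (N.comap (QuotientGroup.mk' M)) * N.index = (Nat.card N * Nat.card M) * N.index := by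
    rw [h2, ← h4, h5, ← h3]; ring
  exact Nat.eq_of_mul_eq_mul_right (Nat.pos_of_ne_zero hidx) this

theorem card_sup_normal_eq (M H : Subgroup G) [M.Normal] :
    Nat.card (H ⊔ M : Subgroup G) = Nat.card (H.map (QuotientGroup.mk' M)) * Nat.card M := by
  rw [← card_comap_mk_quot, Subgroup.comap_map_eq, QuotientGroup.ker_mk']

theorem card_sup_mul_inf_normal (M H : Subgroup G) [hM : M.Normal] :
    Nat.card (H ⊔ M : Subgroup G) * Nat.card (H ⊓ M : Subgroup G) = Nat.card H * Nat.card M := by
  apply Cfsg.Agent.Lib.Helper2.card_sup_mul_card_inf H M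
  rw [Subgroup.normalizer_eq_top_iff.2 hM]; exact le_top

theorem card_quot_lt (M : Subgroup G) [M.Normal] (hM : M ≠ ⊥) : Nat.card (G ⧸ M) < Nat.card G := by
  rw [← Subgroup.index_eq_card, ← Subgroup.index_mul_card M]
  have h1 : 1 < Nat.card M := by
    rw [Finite.one_lt_card_iff_nontrivial]
    exact (Subgroup.nontrivial_iff_ne_bot M).2 hM
  have h2 : 0 < M.index := Nat.pos_of_ne_zero Subgroup.index_ne_zero_of_finite
  nlinarith

theorem card_lt_of_ne_top (L : Subgroup G) (hL : L ≠ ⊤) : Nat.card L < Nat.card G := by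
  have hle : Nat.card L ≤ Nat.card G := Subgroup.card_le_card_group L
  rcases hle.lt_or_eq with h | h
  · exact h
  · exact absurd ((Subgroup.card_eq_iff_eq_top L).1 h) hL

end

/-- The three parts of Hall's theorem for a group `G`. -/
def HallProp (G : Type u) [Group G] : Prop :=
  ∀ m n : ℕ, Nat.card G = m * n → m.Coprime n →
    (∃ H : Subgroup G, Nat.card H = m) ∧
    (∀ H K : Subgroup G, Nat.card H = m → Nat.card K = m → ∃ g : G, cj g H = K) ∧
    (∀ K : Subgroup G, (Nat.card K).Coprime n → ∃ H : Subgroup G, Nat.card H = m ∧ K ≤ H)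

/-- Lifting conjugacy from a quotient: if the images are conjugate then the subgroups are conjugate
up to `M`. -/
theorem cj_sup_of_map_cj {G : Type u} [Group G] (M : Subgroup G) [M.Normal] (H K : Subgroup G)
    (x : G ⧸ M) (hx : cj x (H.map (QuotientGroup.mk' M)) = K.map (QuotientGroup.mk' M)) :
    ∃ g : G, cj g H ⊔ M = K ⊔ M := by
  obtain ⟨g, rfl⟩ := QuotientGroup.mk'_surjective M x
  refine ⟨g, ?_⟩
  rw [← map_cj] at hx
  have h1 := congrArg (Subgroup.comap (QuotientGroup.mk' M)) hx
  rw [Subgroup.comap_map_eq, Subgroup.comap_map_eq, QuotientGroup.ker_mk'] at h1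
  exact h1

theorem hall_all : ∀ (N : ℕ) (G : Type u) [Group G] [Finite G] [Group.IsSolvable G],
    Nat.card G = N → HallProp G := by
  intro N
  induction N using Nat.strong_induction_on with
  | _ N ih =>
  intro G _ _ _ hN m n hmn hcop
  classical
  by_cases h1 : Nat.card G = 1
  · have hm : m = 1 := by
      rw [h1] at hmn
      exact Nat.eq_one_of_mul_eq_one_right hmn.symm
    have hsub : Subsingleton G := (Nat.card_eq_one_iff_unique.1 h1).1
    refine ⟨⟨⊥, by rw [Subgroup.card_bot, hm]⟩, ?_, ?_⟩
    · intro H K _ _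
      exact ⟨1, Subsingleton.elim _ _⟩
    · intro K _
      exact ⟨⊤, by rw [Subgroup.card_top, h1, hm], le_top⟩
  have hnt : Nontrivial G := by
    rw [← Finite.one_lt_card_iff_nontrivial]
    have : Nat.card G ≠ 0 := Nat.card_pos.ne'
    omega
  obtain ⟨p, hp, M, hMn, hMne, hMp⟩ := exists_normal_pSubgroup_of_solvable (G := G)
  have hp' : p.Prime := hp.out
  obtain ⟨a, ha⟩ := (IsPGroup.iff_card).1 hMp
  have hppos : 0 < p ^ a := pow_pos hp'.pos a
  have ihQ : HallProp (G ⧸ M) :=
    ih _ (by rw [← hN]; exact card_quot_lt M hMne) (G ⧸ M) rfl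
  have ihL : ∀ L : Subgroup G, L ≠ ⊤ → HallProp L := fun L hL =>
    ih _ (by rw [← hN]; exact card_lt_of_ne_top L hL) L rfl
  have hdvd : p ^ a ∣ m * n := by
    rw [← hmn, ← ha]; exact Subgroup.card_subgroup_dvd_card M
  have hcardQM : Nat.card (G ⧸ M) * p ^ a = m * n := by
    rw [← ha, ← Subgroup.index_eq_card, Subgroup.index_mul_card, hmn]
  have hMsolv : Group.IsSolvable M := by
    have : Group.IsNilpotent M := hMp.isNilpotent
    infer_instance
  have hMnorm : ∀ L : Subgroup G, L ≤ Subgroup.normalizer (M : Set G) := by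
    intro L
    rw [Subgroup.normalizer_eq_top_iff.2 hMn]; exact le_top
  have hcase : p ^ a ∣ m ∨ p ^ a ∣ n := by
    by_cases hpm : p ∣ m
    · left
      have hpn : ¬ p ∣ n := by
        intro h
        have := Nat.dvd_gcd hpm h
        rw [hcop.gcd_eq_one] at this
        exact hp'.ne_one (Nat.dvd_one.1 this)
      exact (Nat.Coprime.pow_left a ((Nat.Prime.coprime_iff_not_dvd hp').2 hpn)).dvd_of_dvd_mul_right hdvd
    · right
      exact (Nat.Coprime.pow_left a ((Nat.Prime.coprime_iff_not_dvd hp').2 hpm)).dvd_of_dvd_mul_left hdvd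
  rcases hcase with hpm | hpn
  · -- Case 1: |M| divides m
    obtain ⟨m', hm'⟩ := hpm
    have hcardQ : Nat.card (G ⧸ M) = m' * n := by
      apply Nat.eq_of_mul_eq_mul_right hppos
      rw [hcardQM, hm']; ring
    have hcopQ : m'.Coprime n := Nat.Coprime.coprime_dvd_left ⟨p ^ a, by rw [hm']; ring⟩ hcop
    obtain ⟨hE, hC, hD⟩ := ihQ m' n hcardQ hcopQ
    have hF1 : ∀ H : Subgroup G, Nat.card H = m → M ≤ H := by
      intro H hH
      have h2 := card_sup_mul_inf_normal M H
      have h3 : Nat.card (H ⊓ M : Subgroup G) ∣ p ^ a := by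
        rw [← ha]; exact Subgroup.card_dvd_of_le inf_le_right
      obtain ⟨e, he⟩ := h3
      have hdpos : 0 < Nat.card (H ⊓ M : Subgroup G) := Nat.card_pos
      have h4 : Nat.card (H ⊔ M : Subgroup G) = m * e := by
        apply Nat.eq_of_mul_eq_mul_right hdpos
        rw [h2, hH, ha, he]; ring
      have h5 : m * e ∣ m * n := by
        rw [← h4, ← hmn]; exact Subgroup.card_subgroup_dvd_card _
      have hmpos : 0 < m := by
        rcases Nat.eq_zero_or_pos m with h0 | h0
        · rw [h0, zero_mul] at hmn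
          exact absurd hmn Nat.card_pos.ne'
        · exact h0
      have h6 : e ∣ n := (Nat.mul_dvd_mul_iff_left hmpos).1 h5
      have h7 : e ∣ m := ⟨Nat.card (H ⊓ M : Subgroup G) * m', by rw [hm', he]; ring⟩
      have h8 : e = 1 := Nat.eq_one_of_dvd_coprimes hcop h7 h6
      have h9 : Nat.card (H ⊓ M : Subgroup G) = Nat.card M := by
        rw [ha, he, h8, mul_one]
      have h10 : H ⊓ M = M := Subgroup.eq_of_le_of_card_ge inf_le_right (le_of_eq h9.symm)
      rw [← h10]; exact inf_le_left
    refine ⟨?_, ?_, ?_⟩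
    · obtain ⟨Hbar, hHbar⟩ := hE
      refine ⟨Hbar.comap (QuotientGroup.mk' M), ?_⟩
      rw [card_comap_mk_quot, hHbar, ha, hm']; ring
    · intro H K hH hK
      have hMH := hF1 H hH
      have hMK := hF1 K hK
      have hcardbar : ∀ X : Subgroup G, Nat.card X = m → M ≤ X →
          Nat.card (X.map (QuotientGroup.mk' M)) = m' := by
        intro X hX hMX
        have h2 := card_sup_normal_eq M X
        rw [sup_eq_left.2 hMX, hX, ha, hm'] at h2
        apply Nat.eq_of_mul_eq_mul_right hppos
        rw [← h2]; ring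
      obtain ⟨x, hx⟩ := hC _ _ (hcardbar H hH hMH) (hcardbar K hK hMK)
      obtain ⟨g, hg⟩ := cj_sup_of_map_cj M H K x hx
      refine ⟨g, ?_⟩
      have h2 : M ≤ cj g H := by
        have := cj_mono g hMH
        rwa [cj_self_of_normal M g] at this
      rw [sup_eq_left.2 h2, sup_eq_left.2 hMK] at hg
      exact hg
    · intro K hK
      have h2 : (Nat.card (K.map (QuotientGroup.mk' M))).Coprime n :=
        Nat.Coprime.coprime_dvd_left (Subgroup.card_map_dvd _ _) hK
      obtain ⟨Hbar, hHbar, hKH⟩ := hD _ h2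
      refine ⟨Hbar.comap (QuotientGroup.mk' M), ?_, ?_⟩
      · rw [card_comap_mk_quot, hHbar, ha, hm']; ring
      · exact (Subgroup.le_comap_map _ K).trans (Subgroup.comap_mono hKH)
  · -- Case 2: |M| divides n
    obtain ⟨n', hn'⟩ := hpn
    have hcardQ : Nat.card (G ⧸ M) = m * n' := by
      apply Nat.eq_of_mul_eq_mul_right hppos
      rw [hcardQM, hn']; ring
    have hcopQ : m.Coprime n' := Nat.Coprime.coprime_dvd_right ⟨p ^ a, by rw [hn']; ring⟩ hcop
    have hcopmp : m.Coprime (p ^ a) := Nat.Coprime.coprime_dvd_right ⟨n', hn'⟩ hcop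
    obtain ⟨hE, hC, hD⟩ := ihQ m n' hcardQ hcopQ
    -- existence
    have hexists : ∃ H : Subgroup G, Nat.card H = m := by
      obtain ⟨Lbar, hLbar⟩ := hE
      set L : Subgroup G := Lbar.comap (QuotientGroup.mk' M) with hL
      have hcardL : Nat.card L = m * p ^ a := by rw [hL, card_comap_mk_quot, hLbar, ha]
      by_cases hLtop : L = ⊤
      · have hcG : Nat.card G = m * p ^ a := by
          rw [← hcardL, hLtop, Subgroup.card_top]
        have hidx : M.index = m := by
          have := Subgroup.index_mul_card M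
          rw [ha, hcG] at this
          exact Nat.eq_of_mul_eq_mul_right hppos this
        have hcopM : (Nat.card M).Coprime M.index := by
          rw [ha, hidx]; exact hcopmp.symm
        obtain ⟨H, hH⟩ := Subgroup.exists_right_complement'_of_coprime hcopM
        exact ⟨H, by rw [← hH.symm.index_eq_card, hidx]⟩
      · obtain ⟨hE', -, -⟩ := ihL L hLtop m (p ^ a) hcardL hcopmp
        obtain ⟨H', hH'⟩ := hE'
        exact ⟨H'.map L.subtype, by rw [Subgroup.card_map_of_injective L.subtype_injective, hH']⟩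
    have hdisj : ∀ X : Subgroup G, (Nat.card X).Coprime (p ^ a) → X ⊓ M = ⊥ := by
      intro X hX
      exact (Subgroup.disjoint_of_coprime_natCard (by rw [ha]; exact hX)).eq_bot
    have hcardsup : ∀ X : Subgroup G, (Nat.card X).Coprime (p ^ a) →
        Nat.card (X ⊔ M : Subgroup G) = Nat.card X * p ^ a := by
      intro X hX
      have h2 := card_sup_mul_inf_normal M X
      rw [hdisj X hX, Subgroup.card_bot, mul_one, ha] at h2
      exact h2
    have hcardbar : ∀ X : Subgroup G, (Nat.card X).Coprime (p ^ a) →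
        Nat.card (X.map (QuotientGroup.mk' M)) = Nat.card X := by
      intro X hX
      have h2 := card_sup_normal_eq M X
      rw [hcardsup X hX, ha] at h2
      exact (Nat.eq_of_mul_eq_mul_right hppos h2).symm
    refine ⟨hexists, ?_, ?_⟩
    · intro H K hH hK
      have hHc : (Nat.card H).Coprime (p ^ a) := by rw [hH]; exact hcopmp
      have hKc : (Nat.card K).Coprime (p ^ a) := by rw [hK]; exact hcopmp
      obtain ⟨x, hx⟩ := hC _ _ ((hcardbar H hHc).trans hH) ((hcardbar K hKc).trans hK)
      obtain ⟨g, hg⟩ := cj_sup_of_map_cj M H K x hx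
      set L : Subgroup G := K ⊔ M with hL
      have hcardL : Nat.card L = m * p ^ a := by rw [hL, hcardsup K hKc, hK]
      have hH₁L : cj g H ≤ L := by rw [← hg]; exact le_sup_left
      have hcardH₁ : Nat.card (cj g H) = m := by rw [card_cj', hH]
      obtain ⟨l, -, hl⟩ := sz_conj_sub L M (cj g H) K le_sup_right (hMnorm L) hH₁L le_sup_left
        (by rw [ha, hcardH₁, hcardL]; ring) (by rw [ha, hK, hcardL]; ring)
        (by rw [ha, hcardH₁]; exact hcopmp.symm) (Or.inl hMsolv)
      exact ⟨l * g, by rw [cj_mul]; exact hl⟩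
    · intro K hK
      have hKc : (Nat.card K).Coprime (p ^ a) :=
        Nat.Coprime.coprime_dvd_right ⟨n', hn'⟩ hK
      have h2 : (Nat.card (K.map (QuotientGroup.mk' M))).Coprime n' :=
        Nat.Coprime.coprime_dvd_left (Subgroup.card_map_dvd _ _)
          (Nat.Coprime.coprime_dvd_right ⟨p ^ a, by rw [hn']; ring⟩ hK)
      obtain ⟨Lbar, hLbar, hKL⟩ := hD _ h2
      set L : Subgroup G := Lbar.comap (QuotientGroup.mk' M) with hL
      have hcardL : Nat.card L = m * p ^ a := by rw [hL, card_comap_mk_quot, hLbar, ha]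
      have hKL' : K ≤ L := (Subgroup.le_comap_map _ K).trans (Subgroup.comap_mono hKL)
      by_cases hLtop : L = ⊤
      · -- M is a normal Hall subgroup with complement H
        obtain ⟨H, hH⟩ := hexists
        have hHc : (Nat.card H).Coprime (p ^ a) := by rw [hH]; exact hcopmp
        have hcG : Nat.card G = m * p ^ a := by
          rw [← hcardL, hLtop, Subgroup.card_top]
        have hMH : Subgroup.IsComplement' M H := by
          apply Subgroup.isComplement'_of_coprime
          · rw [ha, hH, hcG]; ring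
          · rw [ha, hH]; exact hcopmp.symm
        set Γ : Subgroup G := K ⊔ M with hΓ
        have hcardΓ : Nat.card Γ = Nat.card K * p ^ a := hcardsup K hKc
        have hcompl := isComplement'_subgroupOf M H Γ hMH (Or.inl le_sup_right)
        have hcard2 := hcompl.card_mul_card
        have hcM : Nat.card (M.subgroupOf Γ) = Nat.card M := card_subgroupOf_of_le le_sup_right
        have hcH : Nat.card (H.subgroupOf Γ) = Nat.card (H ⊓ Γ : Subgroup G) := by
          rw [← Subgroup.subgroupOf_map_subtype, Subgroup.card_map_of_injective Γ.subtype_injective]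
        rw [hcM, hcH] at hcard2
        obtain ⟨x, -, hx⟩ := sz_conj_sub Γ M K (H ⊓ Γ) le_sup_right (hMnorm Γ) le_sup_left
          inf_le_right (by rw [ha, hcardΓ]; ring) hcard2 (by rw [ha]; exact hKc.symm)
          (Or.inl hMsolv)
        refine ⟨cj x⁻¹ H, by rw [card_cj', hH], ?_⟩
        have h3 : cj x K ≤ H := by rw [hx]; exact inf_le_left
        have h4 := cj_mono x⁻¹ h3
        rwa [cj_inv_cj'] at h4
      · obtain ⟨-, -, hD'⟩ := ihL L hLtop m (p ^ a) hcardL hcopmp
        have hK' : (Nat.card (K.subgroupOf L)).Coprime (p ^ a) := by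
          rw [card_subgroupOf_of_le hKL']; exact hKc
        obtain ⟨H', hH', hKH'⟩ := hD' (K.subgroupOf L) hK'
        refine ⟨H'.map L.subtype, by rw [Subgroup.card_map_of_injective L.subtype_injective, hH'], ?_⟩
        intro k hk
        exact ⟨⟨k, hKL' hk⟩, hKH' (Subgroup.mem_subgroupOf.2 hk), rfl⟩

end Cfsg.Agent.Lib.Helper4
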