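import Cfsg.Agent.Lib.Helper4.SZ
import Cfsg.Agent.Lib.Helper2.Index

set_option autoImplicit false
set_option linter.unusedSectionVars false

namespace Cfsg.Agent.Lib.Helper4

open scoped Pointwise

section rel
variable {G : Type*} [Group G] [Finite G]

theorem card_subgroupOf_of_le {H L : Subgroup G} (h : H ≤ L) :
    Nat.card (H.subgroupOf L) = Nat.card H :=
  Nat.card_congr (Subgroup.subgroupOfEquivOfLe h).toEquiv

/-- Relative form of Schur--Zassenhaus conjugacy. -/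
theorem sz_conj_sub (Γ N H K : Subgroup G) (hNΓ : N ≤ Γ)
    (hnorm : Γ ≤ Subgroup.normalizer (N : Set G)) (hHΓ : H ≤ Γ) (hKΓ : K ≤ Γ)
    (hH : Nat.card N * Nat.card H = Nat.card Γ) (hK : Nat.card N * Nat.card K = Nat.card Γ)
    (hcop : (Nat.card N).Coprime (Nat.card H))
    (hsolv : Group.IsSolvable N ∨ Group.IsSolvable H) : ∃ g ∈ Γ, cj g H = K := by
  haveI hNn : (N.subgroupOf Γ).Normal := (Subgroup.normal_subgroupOf_iff_le_normalizer hNΓ).2 hnorm
  have hcardK : Nat.card K = Nat.card H := by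
    have hpos : 0 < Nat.card N := Nat.card_pos
    exact Nat.eq_of_mul_eq_mul_left hpos (hK.trans hH.symm)
  have hcH : Subgroup.IsComplement' (N.subgroupOf Γ) (H.subgroupOf Γ) := by
    apply Subgroup.isComplement'_of_coprime
    · rw [card_subgroupOf_of_le hNΓ, card_subgroupOf_of_le hHΓ, hH]
    · rw [card_subgroupOf_of_le hNΓ, card_subgroupOf_of_le hHΓ]; exact hcop
  have hcK : Subgroup.IsComplement' (N.subgroupOf Γ) (K.subgroupOf Γ) := by
    apply Subgroup.isComplement'_of_coprime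
    · rw [card_subgroupOf_of_le hNΓ, card_subgroupOf_of_le hKΓ, hK]
    · rw [card_subgroupOf_of_le hNΓ, card_subgroupOf_of_le hKΓ, hcardK]; exact hcop
  have hcop' : (Nat.card (N.subgroupOf Γ)).Coprime (N.subgroupOf Γ).index := by
    rw [hcH.symm.index_eq_card, card_subgroupOf_of_le hNΓ, card_subgroupOf_of_le hHΓ]
    exact hcop
  have hsolv' : Group.IsSolvable (N.subgroupOf Γ) ∨ Group.IsSolvable (Γ ⧸ N.subgroupOf Γ) := by
    rcases hsolv with hs | hs
    · left
      exact Group.isSolvable_of_isSolvable_injective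
        (f := (Subgroup.subgroupOfEquivOfLe hNΓ).toMonoidHom) (Subgroup.subgroupOfEquivOfLe hNΓ).injective
    · right
      have e1 : Γ ⧸ N.subgroupOf Γ ≃* H.subgroupOf Γ := hcH.symm.QuotientMulEquiv
      have e2 : H.subgroupOf Γ ≃* H := Subgroup.subgroupOfEquivOfLe hHΓ
      exact Group.isSolvable_of_isSolvable_injective
        (f := (e1.trans e2).toMonoidHom) (e1.trans e2).injective
  obtain ⟨l, hl⟩ := sz_conj (Nat.card Γ) Γ rfl (N.subgroupOf Γ) hcop' hsolv' _ _ hcH hcK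
  refine ⟨(l : G), l.2, ?_⟩
  have h1 := congrArg (Subgroup.map Γ.subtype) hl
  rw [map_cj, Subgroup.subgroupOf_map_subtype, Subgroup.subgroupOf_map_subtype,
    inf_of_le_left hHΓ, inf_of_le_left hKΓ] at h1
  exact h1

/-- Relative form of Schur--Zassenhaus existence. -/
theorem sz_exists_sub (Γ N : Subgroup G) (hNΓ : N ≤ Γ)
    (hnorm : Γ ≤ Subgroup.normalizer (N : Set G))
    (hcop : (Nat.card N).Coprime (N.relIndex Γ)) :
    ∃ B : Subgroup G, B ≤ Γ ∧ Nat.card N * Nat.card B = Nat.card Γ ∧ N ⊓ B = ⊥ := by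
  haveI hNn : (N.subgroupOf Γ).Normal := (Subgroup.normal_subgroupOf_iff_le_normalizer hNΓ).2 hnorm
  have hcop' : (Nat.card (N.subgroupOf Γ)).Coprime (N.subgroupOf Γ).index := by
    rw [card_subgroupOf_of_le hNΓ]; exact hcop
  obtain ⟨B', hB'⟩ := Subgroup.exists_right_complement'_of_coprime hcop'
  refine ⟨B'.map Γ.subtype, Subgroup.map_subtype_le B', ?_, ?_⟩
  · rw [Subgroup.card_map_of_injective Γ.subtype_injective, ← card_subgroupOf_of_le hNΓ]
    exact hB'.card_mul_card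
  · rw [eq_bot_iff]
    rintro x ⟨hxN, y, hy, rfl⟩
    have : y ∈ N.subgroupOf Γ ⊓ B' := ⟨Subgroup.mem_subgroupOf.2 hxN, hy⟩
    rw [hB'.disjoint.eq_bot, Subgroup.mem_bot] at this
    rw [this]; exact Subgroup.one_mem _

end rel

section act
variable {G : Type*} [Group G] [Finite G] (A K : Subgroup G)

theorem act_inf_eq_bot (hcop : (Nat.card A).Coprime (Nat.card K)) : K ⊓ A = ⊥ :=
  (Subgroup.disjoint_of_coprime_natCard hcop.symm).eq_bot

theorem act_card_sup (hAK : A ≤ Subgroup.normalizer (K : Set G))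
    (hcop : (Nat.card A).Coprime (Nat.card K)) :
    Nat.card (K ⊔ A : Subgroup G) = Nat.card K * Nat.card A := by
  have h1 := Cfsg.Agent.Lib.Helper2.card_sup_mul_card_inf A K hAK
  rw [inf_comm, act_inf_eq_bot A K hcop, Subgroup.card_bot, mul_one, sup_comm] at h1
  rw [h1, mul_comm]

theorem act_sup_le_normalizer (hAK : A ≤ Subgroup.normalizer (K : Set G)) :
    K ⊔ A ≤ Subgroup.normalizer (K : Set G) :=
  sup_le Subgroup.le_normalizer hAK

theorem act_mem_sup (hAK : A ≤ Subgroup.normalizer (K : Set G)) {g : G} (hg : g ∈ K ⊔ A) :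
    ∃ k ∈ K, ∃ a ∈ A, g = k * a := by
  have hg' : g⁻¹ ∈ A ⊔ K := by rw [sup_comm]; exact inv_mem hg
  obtain ⟨a, ha, k, hk, h⟩ := Cfsg.Agent.Lib.Helper2.exists_mul_of_mem_sup_of_le_normalizer hAK hg'
  refine ⟨k⁻¹, inv_mem hk, a⁻¹, inv_mem ha, ?_⟩
  rw [← mul_inv_rev, ← h, inv_inv]

theorem cj_eq_of_mem_normalizer {X : Subgroup G} {g : G} (hg : g ∈ Subgroup.normalizer (X : Set G)) :
    cj g X = X := Subgroup.mem_normalizer_iff_map_conj_eq.1 hg

/-- Conjugacy of complements in the semidirect product `K A`, by an element of `K`. -/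
theorem sz_act_conj (hAK : A ≤ Subgroup.normalizer (K : Set G))
    (hcop : (Nat.card A).Coprime (Nat.card K))
    (hsolv : Group.IsSolvable A ∨ Group.IsSolvable K) (B : Subgroup G) (hB : B ≤ K ⊔ A)
    (hcard : Nat.card B = Nat.card A) : ∃ k ∈ K, cj k A = B := by
  have hcardΓ := act_card_sup A K hAK hcop
  obtain ⟨g, hg, hgA⟩ := sz_conj_sub (K ⊔ A) K A B le_sup_left (act_sup_le_normalizer A K hAK)
    le_sup_right hB hcardΓ.symm (by rw [hcard]; exact hcardΓ.symm) hcop.symm hsolv.symm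
  obtain ⟨k, hk, a, ha, rfl⟩ := act_mem_sup A K hAK hg
  refine ⟨k, hk, ?_⟩
  rw [cj_mul, cj_self_of_mem' ha] at hgA
  exact hgA

/-- An element of `K` normalizing `A` centralizes `A`. -/
theorem act_centralizes (hAK : A ≤ Subgroup.normalizer (K : Set G))
    (hcop : (Nat.card A).Coprime (Nat.card K)) {c : G} (hcK : c ∈ K) (hc : cj c A = A) :
    c ∈ Subgroup.centralizer (A : Set G) := by
  rw [Subgroup.mem_centralizer_iff]
  intro a ha
  have h1 : c * a * c⁻¹ ∈ A := by rw [← hc]; exact conj_mem_cj c A ha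
  have h2 : c * a * c⁻¹ * a⁻¹ ∈ A := A.mul_mem h1 (A.inv_mem ha)
  have h3 : c * a * c⁻¹ * a⁻¹ ∈ K := by
    have : c * a * c⁻¹ * a⁻¹ = c * (a * c⁻¹ * a⁻¹) := by group
    rw [this]
    exact K.mul_mem hcK ((Subgroup.mem_normalizer_iff.1 (hAK ha) c⁻¹).1 (K.inv_mem hcK))
  have h4 : c * a * c⁻¹ * a⁻¹ ∈ K ⊓ A := ⟨h3, h2⟩
  rw [act_inf_eq_bot A K hcop, Subgroup.mem_bot] at h4
  have e : c * a = (c * a * c⁻¹ * a⁻¹) * (a * c) := by group
  rw [e, h4, one_mul]

/-- Glauberman's lemma, existence of a fixed point. -/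
theorem glauberman_fix {Ω : Type*} [MulAction G Ω] (hAK : A ≤ Subgroup.normalizer (K : Set G))
    (hcop : (Nat.card A).Coprime (Nat.card K))
    (hsolv : Group.IsSolvable A ∨ Group.IsSolvable K) (ω₀ : Ω)
    (h : ∀ a ∈ A, ∃ k ∈ K, a • ω₀ = k • ω₀) : ∃ k ∈ K, ∀ a ∈ A, a • (k • ω₀) = k • ω₀ := by
  set Γ : Subgroup G := K ⊔ A with hΓ
  set S : Subgroup G := MulAction.stabilizer G ω₀ ⊓ Γ with hS
  set Kω : Subgroup G := S ⊓ K with hKω
  have hΓN := act_sup_le_normalizer A K hAK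
  have hSK : S ≤ Subgroup.normalizer (K : Set G) := inf_le_right.trans hΓN
  have hSKω : S ≤ Subgroup.normalizer (Kω : Set G) := by
    intro s hs
    rw [Subgroup.mem_normalizer_iff_map_conj_eq]
    show cj s Kω = Kω
    rw [hKω, cj_inf, cj_self_of_mem' hs, cj_eq_of_mem_normalizer (hSK hs)]
  have hsup : S ⊔ K = Γ := by
    apply le_antisymm (sup_le inf_le_right le_sup_left)
    refine sup_le le_sup_right ?_
    intro a ha
    obtain ⟨k, hk, hak⟩ := h a ha
    have h1 : k⁻¹ * a ∈ S := by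
      have h0 : k⁻¹ * a ∈ MulAction.stabilizer G ω₀ := by
        rw [MulAction.mem_stabilizer_iff, mul_smul, hak, ← mul_smul, inv_mul_cancel, one_smul]
      exact ⟨h0, Γ.mul_mem (Γ.inv_mem (le_sup_left (a := K) hk)) (le_sup_right (b := A) ha)⟩
    have : a = k * (k⁻¹ * a) := by group
    rw [this]
    exact Subgroup.mul_mem _ (le_sup_right (b := K) hk) (le_sup_left (a := S) h1)
  have hcard1 := Cfsg.Agent.Lib.Helper2.card_sup_mul_card_inf S K hSK
  rw [hsup, ← hKω] at hcard1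
  have hcardΓ : Nat.card Γ = Nat.card K * Nat.card A := act_card_sup A K hAK hcop
  have hcardS : Nat.card S = Nat.card Kω * Nat.card A := by
    have hpos : 0 < Nat.card K := Nat.card_pos
    apply Nat.eq_of_mul_eq_mul_right hpos
    rw [← hcard1, hcardΓ]; ring
  have hrel : Kω.relIndex S = Nat.card A := by
    have h1 := Subgroup.relIndex_mul_relIndex ⊥ Kω S bot_le inf_le_left
    rw [Subgroup.relIndex_bot_left, Subgroup.relIndex_bot_left, hcardS] at h1
    have hpos : 0 < Nat.card Kω := Nat.card_pos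
    exact Nat.eq_of_mul_eq_mul_left hpos h1
  have hKωK : Nat.card Kω ∣ Nat.card K := Subgroup.card_dvd_of_le inf_le_right
  have hcop' : (Nat.card Kω).Coprime (Kω.relIndex S) := by
    rw [hrel]; exact Nat.Coprime.coprime_dvd_left hKωK hcop.symm
  obtain ⟨B, hBS, hBcard, -⟩ := sz_exists_sub S Kω inf_le_left hSKω hcop'
  have hBA : Nat.card B = Nat.card A := by
    rw [hcardS] at hBcard
    have hpos : 0 < Nat.card Kω := Nat.card_pos
    exact Nat.eq_of_mul_eq_mul_left hpos hBcard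
  obtain ⟨k, hk, hkA⟩ := sz_act_conj A K hAK hcop hsolv B (hBS.trans inf_le_right) hBA
  refine ⟨k⁻¹, inv_mem hk, fun a ha => ?_⟩
  have h1 : k * a * k⁻¹ ∈ B := by rw [← hkA]; exact conj_mem_cj k A ha
  have h2 : (k * a * k⁻¹) • ω₀ = ω₀ := MulAction.mem_stabilizer_iff.1 (hBS h1).1
  calc a • k⁻¹ • ω₀ = k⁻¹ • ((k * a * k⁻¹) • ω₀) := by
        rw [← mul_smul, ← mul_smul]; congr 1; group
    _ = k⁻¹ • ω₀ := by rw [h2]

/-- Glauberman's lemma, transitivity of the centralizer on fixed points. -/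
theorem glauberman_trans {Ω : Type*} [MulAction G Ω] (hAK : A ≤ Subgroup.normalizer (K : Set G))
    (hcop : (Nat.card A).Coprime (Nat.card K))
    (hsolv : Group.IsSolvable A ∨ Group.IsSolvable K) (ω : Ω) (hω : ∀ a ∈ A, a • ω = ω)
    (k : G) (hk : k ∈ K) (hkω : ∀ a ∈ A, a • (k • ω) = k • ω) :
    ∃ c ∈ K ⊓ Subgroup.centralizer (A : Set G), c • ω = k • ω := by
  set Γ : Subgroup G := K ⊔ A with hΓ
  set S : Subgroup G := MulAction.stabilizer G ω ⊓ Γ with hS
  set Kω : Subgroup G := S ⊓ K with hKω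
  have hΓN := act_sup_le_normalizer A K hAK
  have hSK : S ≤ Subgroup.normalizer (K : Set G) := inf_le_right.trans hΓN
  have hAS : A ≤ S := fun a ha => ⟨MulAction.mem_stabilizer_iff.2 (hω a ha), le_sup_right (b := A) ha⟩
  have hAKω : A ≤ Subgroup.normalizer (Kω : Set G) := by
    intro s hs
    rw [Subgroup.mem_normalizer_iff_map_conj_eq]
    show cj s Kω = Kω
    rw [hKω, cj_inf, cj_self_of_mem' (hAS hs), cj_eq_of_mem_normalizer (hAK hs)]
  have hKωK : Nat.card Kω ∣ Nat.card K := Subgroup.card_dvd_of_le inf_le_right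
  have hcop' : (Nat.card A).Coprime (Nat.card Kω) := Nat.Coprime.coprime_dvd_right hKωK hcop
  have hsolv' : Group.IsSolvable A ∨ Group.IsSolvable Kω := by
    rcases hsolv with hs | hs
    · exact Or.inl hs
    · right
      exact Group.isSolvable_of_isSolvable_injective
        (f := Subgroup.inclusion (inf_le_right : Kω ≤ K)) (Subgroup.inclusion_injective _)
  have hA₂S : cj k⁻¹ A ≤ S := by
    rintro _ ⟨a, ha, rfl⟩
    refine ⟨?_, ?_⟩
    · show (k⁻¹ * a * k⁻¹⁻¹) ∈ MulAction.stabilizer G ω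
      rw [MulAction.mem_stabilizer_iff]
      rw [inv_inv, mul_smul, mul_smul, hkω a ha, ← mul_smul, inv_mul_cancel, one_smul]
    · show k⁻¹ * a * k⁻¹⁻¹ ∈ Γ
      exact Γ.mul_mem (Γ.mul_mem (Γ.inv_mem (le_sup_left (a := K) hk)) (le_sup_right (b := A) ha))
        (Γ.inv_mem (Γ.inv_mem (le_sup_left (a := K) hk)))
  have hA₂ : cj k⁻¹ A ≤ Kω ⊔ A := by
    intro x hx
    have hxS := hA₂S hx
    obtain ⟨k', hk', a', ha', rfl⟩ := act_mem_sup A K hAK hxS.2
    have hk'S : k' ∈ S := by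
      have : k' = (k' * a') * a'⁻¹ := by group
      rw [this]
      exact S.mul_mem hxS (S.inv_mem (hAS ha'))
    exact Subgroup.mul_mem _ (le_sup_left (a := Kω) ⟨hk'S, hk'⟩) (le_sup_right (b := A) ha')
  obtain ⟨n, hn, hnA⟩ := sz_act_conj A Kω hAKω hcop' hsolv' (cj k⁻¹ A) hA₂ (card_cj' _ _)
  have hc : cj (k * n) A = A := by
    rw [cj_mul, hnA, ← cj_mul, mul_inv_cancel, cj_one]
  have hcK : k * n ∈ K := K.mul_mem hk hn.2
  refine ⟨k * n, ⟨hcK, act_centralizes A K hAK hcop hcK hc⟩, ?_⟩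
  rw [mul_smul, MulAction.mem_stabilizer_iff.1 hn.1.1]

end act

end Cfsg.Agent.Lib.Helper4
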