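import Mathlib

set_option autoImplicit false

namespace Cfsg.Agent.Lib.Helper4

/-- Sylow's theorem relative to a subgroup `N`: a `p`-subgroup `Q ≤ N` is `N`-conjugate into any
`p`-subgroup `R ≤ N` of index prime to `p` in `N`. -/
theorem exists_conj_le_of_relIndex {G : Type*} [Group G] [Finite G] (p : ℕ) [Fact p.Prime]
    (N R Q : Subgroup G) (hR : IsPGroup p R) (hidx : ¬ p ∣ R.relIndex N)
    (hQN : Q ≤ N) (hQ : IsPGroup p Q) :
    ∃ n ∈ N, ∀ q ∈ Q, n * q * n⁻¹ ∈ R := by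
  have hR' : IsPGroup p (R.subgroupOf N) := hR.comap_subtype
  have hQ' : IsPGroup p (Q.subgroupOf N) := hQ.comap_subtype
  let SR : Sylow p N := hR'.toSylow hidx
  obtain ⟨SQ, hSQ⟩ := hQ'.exists_le_sylow
  obtain ⟨n, hn⟩ := MulAction.exists_smul_eq N SQ SR
  refine ⟨n, n.2, fun q hq => ?_⟩
  have h1 : (⟨q, hQN hq⟩ : N) ∈ (SQ : Subgroup N) := hSQ (by
    rw [Subgroup.mem_subgroupOf]; exact hq)
  have h2 : n * ⟨q, hQN hq⟩ * n⁻¹ ∈ (SR : Subgroup N) := by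
    rw [← hn, Sylow.coe_subgroup_smul, Subgroup.mem_pointwise_smul_iff_inv_smul_mem]
    simpa [MulAut.smul_def, MulAut.conj_apply, mul_assoc] using h1
  have h3 : n * ⟨q, hQN hq⟩ * n⁻¹ ∈ R.subgroupOf N := h2
  rw [Subgroup.mem_subgroupOf] at h3
  simpa using h3

end Cfsg.Agent.Lib.Helper4
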