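import Cfsg.Agent.Lib.Helper4.ConjSub
import Cfsg.Agent.Lib.Helper4.SylowRel
import Cfsg.Agent.S0002
import Cfsg.Agent.S0043
import Mathlib

set_option autoImplicit false
set_option linter.unusedSectionVars false

namespace Cfsg.Agent.Lib.Helper4

open scoped Pointwise

section szbasic
variable {G : Type*} [Group G]

theorem cj_self_of_normal (N : Subgroup G) [hN : N.Normal] (g : G) : cj g N = N := by
  ext x
  rw [mem_cj_iff]
  constructor
  · intro h
    have := hN.conj_mem _ h g
    have e : g * (g⁻¹ * x * g) * g⁻¹ = x := by group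
    rwa [e] at this
  · intro h
    have := hN.conj_mem _ h g⁻¹
    rwa [inv_inv] at this

theorem card_cj' (g : G) (H : Subgroup G) : Nat.card (cj g H) = Nat.card H :=
  (Nat.card_congr (H.equivMapOfInjective _ (conj_injective g)).toEquiv).symm

theorem isComplement'_cj [Finite G] (N H : Subgroup G) [N.Normal] (h : Subgroup.IsComplement' N H)
    (g : G) : Subgroup.IsComplement' N (cj g H) := by
  apply Subgroup.isComplement'_of_card_mul_and_disjoint
  · rw [card_cj']; exact h.card_mul_card
  · rw [disjoint_iff]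
    have : N ⊓ cj g H = cj g (N ⊓ H) := by rw [cj_inf, cj_self_of_normal N g]
    rw [this, h.disjoint.eq_bot]
    exact Subgroup.map_bot _

/-- Complements restrict to subgroups containing one of the two factors. -/
theorem isComplement'_subgroupOf (N H L : Subgroup G) (h : Subgroup.IsComplement' N H)
    (hL : N ≤ L ∨ H ≤ L) : Subgroup.IsComplement' (N.subgroupOf L) (H.subgroupOf L) := by
  apply Subgroup.isComplement'_of_disjoint_and_mul_eq_univ
  · rw [disjoint_iff, eq_bot_iff]
    intro x hx
    have h1 : (x : G) ∈ N ⊓ H := ⟨hx.1, hx.2⟩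
    rw [h.disjoint.eq_bot, Subgroup.mem_bot] at h1
    rw [Subgroup.mem_bot]
    exact Subtype.ext h1
  · rw [Set.eq_univ_iff_forall]
    intro l
    obtain ⟨⟨n, k⟩, hnk⟩ := h.2 (l : G)
    have hnk' : (n : G) * (k : G) = l := hnk
    have hmem : (n : G) ∈ L ∧ (k : G) ∈ L := by
      rcases hL with hL | hL
      · have hn : (n : G) ∈ L := hL n.2
        refine ⟨hn, ?_⟩
        have : (k : G) = (n : G)⁻¹ * l := by rw [← hnk']; group
        rw [this]
        exact L.mul_mem (L.inv_mem hn) l.2
      · have hk : (k : G) ∈ L := hL k.2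
        refine ⟨?_, hk⟩
        have : (n : G) = l * (k : G)⁻¹ := by rw [← hnk']; group
        rw [this]
        exact L.mul_mem l.2 (L.inv_mem hk)
    refine ⟨⟨n, hmem.1⟩, ?_, ⟨k, hmem.2⟩, ?_, ?_⟩
    · exact Subgroup.mem_subgroupOf.2 n.2
    · exact Subgroup.mem_subgroupOf.2 k.2
    · exact Subtype.ext hnk'

/-- Images of complements of coprime orders in a quotient are complements. -/
theorem isComplement'_map_mk [Finite G] (N H P : Subgroup G) [P.Normal]
    (h : Subgroup.IsComplement' N H) (hcop : (Nat.card N).Coprime (Nat.card H)) :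
    Subgroup.IsComplement' (N.map (QuotientGroup.mk' P)) (H.map (QuotientGroup.mk' P)) := by
  apply Subgroup.isComplement'_of_disjoint_and_mul_eq_univ
  · rw [disjoint_iff]
    rw [← disjoint_iff]
    apply Subgroup.disjoint_of_coprime_natCard
    exact Nat.Coprime.coprime_dvd_left (Subgroup.card_map_dvd _ _)
      (Nat.Coprime.coprime_dvd_right (Subgroup.card_map_dvd _ _) hcop)
  · rw [Set.eq_univ_iff_forall]
    intro x
    obtain ⟨g, rfl⟩ := QuotientGroup.mk'_surjective P x
    obtain ⟨⟨n, k⟩, hnk⟩ := h.2 g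
    have hnk' : (n : G) * (k : G) = g := hnk
    refine ⟨QuotientGroup.mk' P n, ⟨n, n.2, rfl⟩, QuotientGroup.mk' P k, ⟨k, k.2, rfl⟩, ?_⟩
    show QuotientGroup.mk' P n * QuotientGroup.mk' P k = QuotientGroup.mk' P g
    rw [← map_mul, hnk']

theorem map_cj {G' : Type*} [Group G'] (f : G →* G') (g : G) (H : Subgroup G) :
    (cj g H).map f = cj (f g) (H.map f) := by
  ext y
  constructor
  · rintro ⟨_, ⟨x, hx, rfl⟩, rfl⟩
    refine ⟨f x, ⟨x, hx, rfl⟩, ?_⟩
    simp [MulAut.conj_apply]
  · rintro ⟨_, ⟨x, hx, rfl⟩, rfl⟩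
    refine ⟨g * x * g⁻¹, ⟨x, hx, rfl⟩, ?_⟩
    simp [MulAut.conj_apply]

/-- The subgroup step in the induction for the Schur--Zassenhaus conjugacy theorem. -/
theorem sz_sub_step [Finite G] (N H K L : Subgroup G) [N.Normal]
    (hH : Subgroup.IsComplement' N H) (hK : Subgroup.IsComplement' N K) (hHL : H ≤ L) (hKL : K ≤ L)
    (hcop : (Nat.card N).Coprime N.index)
    (hsolv : Group.IsSolvable N ∨ Group.IsSolvable (G ⧸ N))
    (ih : ∀ (N' : Subgroup L) [N'.Normal], (Nat.card N').Coprime N'.index →
      (Group.IsSolvable N' ∨ Group.IsSolvable (L ⧸ N')) → ∀ H' K' : Subgroup L,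
      Subgroup.IsComplement' N' H' → Subgroup.IsComplement' N' K' → ∃ l : L, cj l H' = K') :
    ∃ g : G, cj g H = K := by
  have hH' := isComplement'_subgroupOf N H L hH (Or.inr hHL)
  have hK' := isComplement'_subgroupOf N K L hK (Or.inr hKL)
  have hcop' : (Nat.card (N.subgroupOf L)).Coprime (N.subgroupOf L).index := by
    have h1 : Nat.card (N.subgroupOf L) ∣ Nat.card N :=
      Subgroup.card_comap_dvd_of_injective N L.subtype L.subtype_injective
    have h2 : (N.subgroupOf L).index = Nat.card (H.subgroupOf L) := hH'.symm.index_eq_card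
    have h3 : Nat.card (H.subgroupOf L) = Nat.card H :=
      Nat.card_congr (Subgroup.subgroupOfEquivOfLe hHL).toEquiv
    have h4 : N.index = Nat.card H := hH.symm.index_eq_card
    rw [h2, h3, ← h4]
    exact Nat.Coprime.coprime_dvd_left h1 hcop
  have hsolv' : Group.IsSolvable (N.subgroupOf L) ∨ Group.IsSolvable (L ⧸ N.subgroupOf L) := by
    rcases hsolv with hs | hs
    · left
      let f : (N.subgroupOf L) →* N :=
        (L.subtype.comp (N.subgroupOf L).subtype).codRestrict N (fun x => x.2)
      have hf : Function.Injective f := by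
        intro x y hxy
        have : ((x : L) : G) = ((y : L) : G) := congrArg (fun z : N => (z : G)) hxy
        exact Subtype.ext (Subtype.ext this)
      exact Group.isSolvable_of_isSolvable_injective hf
    · right
      let f : L ⧸ N.subgroupOf L →* G ⧸ N :=
        QuotientGroup.map (N.subgroupOf L) N L.subtype (fun x hx => hx)
      have hf : Function.Injective f := by
        rw [injective_iff_map_eq_one]
        intro x hx
        induction x using QuotientGroup.induction_on with
        | H l =>
          have h1 : ((l : G) : G ⧸ N) = 1 := hx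
          rw [QuotientGroup.eq_one_iff] at h1
          exact (QuotientGroup.eq_one_iff l).2 (Subgroup.mem_subgroupOf.2 h1)
      exact Group.isSolvable_of_isSolvable_injective hf
  obtain ⟨l, hl⟩ := ih (N.subgroupOf L) hcop' hsolv' _ _ hH' hK'
  refine ⟨(l : G), ?_⟩
  have h1 := congrArg (Subgroup.map L.subtype) hl
  rw [map_cj, Subgroup.subgroupOf_map_subtype, Subgroup.subgroupOf_map_subtype,
    inf_of_le_left hHL, inf_of_le_left hKL] at h1
  exact h1

/-- The quotient step in the induction for the Schur--Zassenhaus conjugacy theorem. -/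
theorem sz_quot_step [Finite G] (N H K P : Subgroup G) [hNn : N.Normal] [P.Normal]
    (hH : Subgroup.IsComplement' N H) (hK : Subgroup.IsComplement' N K)
    (hcop : (Nat.card N).Coprime N.index)
    (hsolv : Group.IsSolvable N ∨ Group.IsSolvable (G ⧸ N))
    (ih : ∀ (N' : Subgroup (G ⧸ P)) [N'.Normal], (Nat.card N').Coprime N'.index →
      (Group.IsSolvable N' ∨ Group.IsSolvable ((G ⧸ P) ⧸ N')) → ∀ H' K' : Subgroup (G ⧸ P),
      Subgroup.IsComplement' N' H' → Subgroup.IsComplement' N' K' → ∃ x : G ⧸ P, cj x H' = K') :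
    ∃ g : G, cj g H ⊔ P = K ⊔ P := by
  set π := QuotientGroup.mk' P with hπ
  have hπs : Function.Surjective π := QuotientGroup.mk'_surjective P
  have hidxH : N.index = Nat.card H := hH.symm.index_eq_card
  have hidxK : N.index = Nat.card K := hK.symm.index_eq_card
  have hH' := isComplement'_map_mk N H P hH (by rw [← hidxH]; exact hcop)
  have hK' := isComplement'_map_mk N K P hK (by rw [← hidxK]; exact hcop)
  have hn' : (N.map π).Normal := hNn.map π hπs
  have hcop' : (Nat.card (N.map π)).Coprime (N.map π).index := by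
    have h2 : (N.map π).index = Nat.card (H.map π) := hH'.symm.index_eq_card
    rw [h2]
    exact Nat.Coprime.coprime_dvd_left (Subgroup.card_map_dvd _ _)
      (Nat.Coprime.coprime_dvd_right (Subgroup.card_map_dvd _ _) (by rw [← hidxH]; exact hcop))
  have hsolv' : Group.IsSolvable (N.map π) ∨ Group.IsSolvable ((G ⧸ P) ⧸ N.map π) := by
    rcases hsolv with hs | hs
    · left
      exact Group.isSolvable_of_surjective (π.subgroupMap_surjective N)
    · right
      let f : G ⧸ N →* (G ⧸ P) ⧸ N.map π :=
        QuotientGroup.map N (N.map π) π (Subgroup.le_comap_map π N)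
      have hf : Function.Surjective f := by
        intro y
        induction y using QuotientGroup.induction_on with
        | H z =>
          obtain ⟨g, rfl⟩ := hπs z
          exact ⟨(g : G ⧸ N), rfl⟩
      exact Group.isSolvable_of_surjective hf
  obtain ⟨x, hx⟩ := ih (N.map π) hcop' hsolv' _ _ hH' hK'
  obtain ⟨g, rfl⟩ := hπs x
  refine ⟨g, ?_⟩
  rw [← map_cj] at hx
  have h1 := congrArg (Subgroup.comap π) hx
  rw [Subgroup.comap_map_eq, Subgroup.comap_map_eq, hπ, QuotientGroup.ker_mk'] at h1
  exact h1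

/-- A nontrivial finite solvable group has a nontrivial normal `p`-subgroup for some prime `p`. -/
theorem exists_normal_pSubgroup_of_solvable [Finite G] [Group.IsSolvable G] [Nontrivial G] :
    ∃ (p : ℕ) (_ : Fact p.Prime) (R : Subgroup G), R.Normal ∧ R ≠ ⊥ ∧ IsPGroup p R := by
  classical
  have hne : ({M : Subgroup G | M.Normal ∧ M ≠ ⊥}).Nonempty :=
    ⟨⊤, inferInstance, top_ne_bot⟩
  obtain ⟨M, ⟨hMn, hMne⟩, hmin⟩ := Set.exists_min_image {M : Subgroup G | M.Normal ∧ M ≠ ⊥}
    (fun M => Nat.card M) (Set.toFinite _) hne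
  have := hMn
  have hmin' : ∀ M' : Subgroup G, M'.Normal → M' ≤ M → M' = ⊥ ∨ M' = M := by
    intro M' hM'n hM'le
    by_cases h0 : M' = ⊥
    · exact Or.inl h0
    · right
      exact Subgroup.eq_of_le_of_card_ge hM'le (hmin M' ⟨hM'n, h0⟩)
  obtain ⟨-, p, hp, hexp⟩ := Cfsg.Agent.S0043.result M hMne hmin'
  refine ⟨p, ⟨hp⟩, M, hMn, hMne, ?_⟩
  intro x
  refine ⟨1, ?_⟩
  rw [pow_one]
  exact Subtype.ext (hexp x x.2)

theorem cj_self_of_mem' {H : Subgroup G} {k : G} (hk : k ∈ H) : cj k H = H :=
  Subgroup.mem_normalizer_iff_map_conj_eq.1 (Subgroup.le_normalizer hk)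

theorem smul_eq_cj (g : G) (H : Subgroup G) : MulAut.conj g • H = cj g H := rfl

theorem cj_inv_cj' (g : G) (H : Subgroup G) : cj g⁻¹ (cj g H) = H := by
  rw [← cj_mul, inv_mul_cancel, cj_one]

end szbasic

universe u

/-- The conjugacy part of the Schur--Zassenhaus theorem, when `N` or `G/N` is solvable. -/
theorem sz_conj : ∀ (n : ℕ) (G : Type u) [Group G] [Finite G], Nat.card G = n →
    ∀ (N : Subgroup G) [N.Normal], (Nat.card N).Coprime N.index →
    (Group.IsSolvable N ∨ Group.IsSolvable (G ⧸ N)) → ∀ H K : Subgroup G,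
    Subgroup.IsComplement' N H → Subgroup.IsComplement' N K → ∃ g : G, cj g H = K := by
  intro n
  induction n using Nat.strong_induction_on with
  | _ n ih =>
  intro G _ _ hn N hNn hcop hsolv H K hH hK
  classical
  have ihL : ∀ L : Subgroup G, L ≠ ⊤ → ∀ (N' : Subgroup L) [N'.Normal],
      (Nat.card N').Coprime N'.index →
      (Group.IsSolvable N' ∨ Group.IsSolvable (L ⧸ N')) → ∀ H' K' : Subgroup L,
      Subgroup.IsComplement' N' H' → Subgroup.IsComplement' N' K' → ∃ l : L, cj l H' = K' := by
    intro L hL N' _ hc hs H' K' h1 h2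
    have hlt : Nat.card L < n := by
      rw [← hn]
      have hle : Nat.card L ≤ Nat.card G := Subgroup.card_le_card_group L
      rcases hle.lt_or_eq with h | h
      · exact h
      · exact absurd ((Subgroup.card_eq_iff_eq_top L).1 h) hL
    exact ih (Nat.card L) hlt L rfl N' hc hs H' K' h1 h2
  have ihQ : ∀ (P : Subgroup G) [P.Normal], P ≠ ⊥ → ∀ (N' : Subgroup (G ⧸ P)) [N'.Normal],
      (Nat.card N').Coprime N'.index →
      (Group.IsSolvable N' ∨ Group.IsSolvable ((G ⧸ P) ⧸ N')) → ∀ H' K' : Subgroup (G ⧸ P),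
      Subgroup.IsComplement' N' H' → Subgroup.IsComplement' N' K' →
      ∃ x : G ⧸ P, cj x H' = K' := by
    intro P _ hP N' _ hc hs H' K' h1 h2
    have hlt : Nat.card (G ⧸ P) < n := by
      rw [← hn, ← Subgroup.index_eq_card, ← Subgroup.index_mul_card P]
      have h1 : 1 < Nat.card P := by
        rw [Finite.one_lt_card_iff_nontrivial]
        exact (Subgroup.nontrivial_iff_ne_bot P).2 hP
      have h2 : 0 < P.index := Nat.pos_of_ne_zero Subgroup.index_ne_zero_of_finite
      nlinarith
    exact ih (Nat.card (G ⧸ P)) hlt (G ⧸ P) rfl N' hc hs H' K' h1 h2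
  rcases hsolv with hs | hs
  · -- N solvable
    by_cases hN1 : N = ⊥
    · subst hN1
      have h1 : H = ⊤ := Subgroup.isComplement'_bot_left.1 hH
      have h2 : K = ⊤ := Subgroup.isComplement'_bot_left.1 hK
      exact ⟨1, by rw [cj_one, h1, h2]⟩
    set N' : Subgroup G := ⁅N, N⁆ with hN'
    have hN'n : N'.Normal := Subgroup.commutator_normal N N
    have hN'le : N' ≤ N := Subgroup.commutator_le_left N N
    by_cases hN'1 : N' = ⊥
    · -- abelian case
      have hcomm : N ≤ Subgroup.centralizer (N : Set G) :=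
        Subgroup.commutator_eq_bot_iff_le_centralizer.1 hN'1
      have : IsMulCommutative N := by
        refine ⟨⟨fun a b => ?_⟩⟩
        have := (Subgroup.mem_centralizer_iff.1 (hcomm b.2)) a a.2
        exact Subtype.ext this
      obtain ⟨a, -, ha⟩ := Cfsg.Agent.S0002.result N hcop H K hH hK
      exact ⟨a, ha⟩
    · -- pass to G / N'
      have hN'lt : N' ≠ N := by
        intro heq
        have hnt : Nontrivial N := (Subgroup.nontrivial_iff_ne_bot N).2 hN1
        have hlt : commutator N < ⊤ := Group.IsSolvable.commutator_lt_top_of_nontrivial _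
        apply hlt.ne
        apply Subgroup.map_injective N.subtype_injective
        rw [Subgroup.map_subtype_commutator, ← hN', heq, ← MonoidHom.range_eq_map,
          Subgroup.range_subtype]
      obtain ⟨g, hg⟩ := sz_quot_step N H K N' hH hK hcop (Or.inl hs) (ihQ N' hN'1)
      set L : Subgroup G := K ⊔ N' with hL
      have hLtop : L ≠ ⊤ := by
        intro htop
        apply hN'lt
        apply le_antisymm hN'le
        intro x hx
        have hxL : x ∈ K ⊔ N' := by rw [← hL, htop]; exact Subgroup.mem_top x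
        rw [Subgroup.mem_sup_of_normal_right] at hxL
        obtain ⟨k, hk, n', hn', rfl⟩ := hxL
        have hkN : k ∈ N := by
          have : k = (k * n') * n'⁻¹ := by group
          rw [this]
          exact N.mul_mem hx (N.inv_mem (hN'le hn'))
        have hk1 : k ∈ N ⊓ K := ⟨hkN, hk⟩
        rw [hK.disjoint.eq_bot, Subgroup.mem_bot] at hk1
        rw [hk1, one_mul]; exact hn'
      have hH₁L : cj g H ≤ L := by
        rw [← hg]; exact le_sup_left
      have hKL : K ≤ L := le_sup_left
      have hH₁ := isComplement'_cj N H hH g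
      obtain ⟨l, hl⟩ := sz_sub_step N (cj g H) K L hH₁ hK hH₁L hKL hcop (Or.inl hs) (ihL L hLtop)
      exact ⟨l * g, by rw [cj_mul]; exact hl⟩
  · -- G / N solvable
    by_cases hNtop : N = ⊤
    · subst hNtop
      have h1 : H = ⊥ := Subgroup.isComplement'_top_left.1 hH
      have h2 : K = ⊥ := Subgroup.isComplement'_top_left.1 hK
      exact ⟨1, by rw [cj_one, h1, h2]⟩
    have hnt : Nontrivial (G ⧸ N) := by
      rw [← Finite.one_lt_card_iff_nontrivial, ← Subgroup.index_eq_card]
      have h1 : N.index ≠ 1 := fun h => hNtop (Subgroup.index_eq_one.1 h)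
      have h2 : N.index ≠ 0 := Subgroup.index_ne_zero_of_finite
      omega
    obtain ⟨p, hp, Rbar, hRn, hRne, hRp⟩ := exists_normal_pSubgroup_of_solvable (G := G ⧸ N)
    set R : Subgroup G := Rbar.comap (QuotientGroup.mk' N) with hR
    have hRnorm : R.Normal := hRn.comap _
    have hNR : N ≤ R := by
      intro x hx
      show QuotientGroup.mk' N x ∈ Rbar
      have : QuotientGroup.mk' N x = 1 := (QuotientGroup.eq_one_iff x).2 hx
      rw [this]; exact Rbar.one_mem
    have hHR := isComplement'_subgroupOf N H R hH (Or.inl hNR)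
    have hKR := isComplement'_subgroupOf N K R hK (Or.inl hNR)
    -- p does not divide |N|
    have hpN : ¬ p ∣ Nat.card N := by
      intro hdvd
      have h1 : p ∣ Nat.card Rbar := by
        rcases hRp.card_eq_or_dvd with h | h
        · exfalso
          exact hRne ((Subgroup.card_eq_one).1 h)
        · exact h
      have h2 : Nat.card Rbar ∣ Nat.card (G ⧸ N) := Subgroup.card_subgroup_dvd_card Rbar
      rw [← Subgroup.index_eq_card] at h2
      have h3 : p ∣ Nat.gcd (Nat.card N) N.index := Nat.dvd_gcd hdvd (dvd_trans h1 h2)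
      rw [hcop.gcd_eq_one] at h3
      exact hp.out.ne_one (Nat.dvd_one.1 h3)
    -- p-subgroups H ∩ R and K ∩ R
    have hpgrp : ∀ X : Subgroup G, Subgroup.IsComplement' N X → IsPGroup p (X ⊓ R : Subgroup G) := by
      intro X hX x
      obtain ⟨k, hk⟩ := hRp ⟨QuotientGroup.mk' N (x : G), x.2.2⟩
      refine ⟨k, ?_⟩
      have h1 : QuotientGroup.mk' N ((x : G) ^ (p ^ k)) = 1 := by
        rw [map_pow]
        exact congrArg Subtype.val hk
      have h2 : (x : G) ^ (p ^ k) ∈ N := (QuotientGroup.eq_one_iff _).1 h1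
      have h3 : (x : G) ^ (p ^ k) ∈ X := X.pow_mem x.2.1 _
      have h4 : (x : G) ^ (p ^ k) ∈ N ⊓ X := ⟨h2, h3⟩
      rw [hX.disjoint.eq_bot, Subgroup.mem_bot] at h4
      exact Subtype.ext h4
    have hidx : ∀ X : Subgroup G, Subgroup.IsComplement' (N.subgroupOf R) (X.subgroupOf R) →
        ¬ p ∣ (X ⊓ R).relIndex R := by
      intro X hX hdvd
      have h1 : (X ⊓ R).relIndex R = Nat.card (N.subgroupOf R) := by
        rw [Subgroup.inf_relIndex_right]
        exact hX.index_eq_card
      rw [h1] at hdvd
      exact hpN (dvd_trans hdvd (Subgroup.card_comap_dvd_of_injective N R.subtype R.subtype_injective))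
    have hcardX : ∀ X : Subgroup G, Nat.card (X ⊓ R : Subgroup G) = Nat.card (X.subgroupOf R) := by
      intro X
      rw [← Subgroup.subgroupOf_map_subtype, Subgroup.card_map_of_injective R.subtype_injective]
    obtain ⟨r, hrR, hr⟩ := exists_conj_le_of_relIndex p R (H ⊓ R) (K ⊓ R) (hpgrp H hH) (hidx H hHR)
      inf_le_right (hpgrp K hK)
    have hle : cj r (K ⊓ R) ≤ H ⊓ R := by
      rintro _ ⟨q, hq, rfl⟩
      exact hr q hq
    have hcardeq : Nat.card (H ⊓ R : Subgroup G) = Nat.card (K ⊓ R : Subgroup G) := by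
      rw [hcardX, hcardX]
      have h1 := hHR.card_mul_card
      have h2 := hKR.card_mul_card
      have hpos : 0 < Nat.card (N.subgroupOf R) := Nat.card_pos
      exact Nat.eq_of_mul_eq_mul_left hpos (h1.trans h2.symm)
    have heq : cj r (K ⊓ R) = H ⊓ R :=
      Subgroup.eq_of_le_of_card_ge hle (by rw [card_cj', hcardeq])
    set P : Subgroup G := H ⊓ R with hP
    set K₁ : Subgroup G := cj r K with hK₁def
    have hK₁ : Subgroup.IsComplement' N K₁ := isComplement'_cj N K hK r
    have hK₁R : K₁ ⊓ R = P := by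
      rw [← heq, cj_inf, cj_self_of_normal R r]
    have hHP : H ≤ Subgroup.normalizer (P : Set G) := by
      intro h hh
      rw [Subgroup.mem_normalizer_iff_map_conj_eq]
      show cj h P = P
      rw [hP, cj_inf, cj_self_of_mem' hh, cj_self_of_normal R h]
    have hK₁P : K₁ ≤ Subgroup.normalizer (P : Set G) := by
      intro h hh
      rw [Subgroup.mem_normalizer_iff_map_conj_eq]
      show cj h P = P
      rw [← hK₁R, cj_inf, cj_self_of_mem' hh, cj_self_of_normal R h]
    have hPne : P ≠ ⊥ := by
      intro h0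
      have h1 : H.subgroupOf R = ⊥ := by
        rw [← Subgroup.inf_subgroupOf_right, ← hP, h0]
        exact Subgroup.bot_subgroupOf R
      rw [h1, Subgroup.isComplement'_bot_right] at hHR
      have h2 : R ≤ N := Subgroup.subgroupOf_eq_top.1 hHR
      apply hRne
      rw [eq_bot_iff]
      intro y hy
      obtain ⟨g, rfl⟩ := QuotientGroup.mk'_surjective N y
      have : g ∈ R := hy
      rw [Subgroup.mem_bot]
      exact (QuotientGroup.eq_one_iff g).2 (h2 this)
    have hfinal : ∃ g : G, cj g H = K₁ := by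
      by_cases hL : Subgroup.normalizer (P : Set G) = ⊤
      · have hPn : P.Normal := Subgroup.normalizer_eq_top_iff.1 hL
        obtain ⟨g, hg⟩ := sz_quot_step N H K₁ P hH hK₁ hcop (Or.inr hs) (ihQ P hPne)
        refine ⟨g, ?_⟩
        have h1 : P ≤ cj g H := by
          have : cj g P ≤ cj g H := cj_mono g inf_le_left
          rwa [cj_self_of_normal P g] at this
        have h2 : P ≤ K₁ := by rw [← hK₁R]; exact inf_le_left
        rw [sup_eq_left.2 h1, sup_eq_left.2 h2] at hg
        exact hg
      · exact sz_sub_step N H K₁ _ hH hK₁ hHP hK₁P hcop (Or.inr hs) (ihL _ hL)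
    obtain ⟨g, hg⟩ := hfinal
    refine ⟨r⁻¹ * g, ?_⟩
    rw [cj_mul, hg, hK₁def, cj_inv_cj']

end Cfsg.Agent.Lib.Helper4
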