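import Mathlib
import Cfsg.Agent.S0144
import Cfsg.Agent.S0007
import Cfsg.Agent.Lib.Helper4.SZ
import Cfsg.Agent.Lib.Helper4.Hall
import Cfsg.Agent.Lib.Helper4.CoprimeAct

/-! Converse of Hall's theorem: p-complements for all p imply solvable. -/

namespace Cfsg.Agent.Lib.Helper4

universe u

/-- A `p`-subgroup is conjugate into any subgroup of index prime to `p`. -/
theorem exists_conj_mem_of_not_dvd_index {G : Type*} [Group G] [Finite G] (p : ℕ) [Fact p.Prime]
    (K Q : Subgroup G) (hQ : IsPGroup p Q) (hK : ¬ p ∣ K.index) :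
    ∃ g : G, ∀ q ∈ Q, g⁻¹ * q * g ∈ K := by
  have hK' : ¬ p ∣ Nat.card (G ⧸ K) := by rwa [← Subgroup.index_eq_card]
  obtain ⟨x, hx⟩ := IsPGroup.nonempty_fixed_point_of_prime_not_dvd_card hQ (G ⧸ K) hK'
  obtain ⟨g, rfl⟩ := QuotientGroup.mk_surjective x
  refine ⟨g, fun q hq => ?_⟩
  have h1 := hx ⟨q, hq⟩
  have h2 : ((q * g : G) : G ⧸ K) = (g : G ⧸ K) := h1
  rw [QuotientGroup.eq] at h2
  have h3 := K.inv_mem h2
  simpa [mul_assoc] using h3

theorem index_eq_pow_factorization_iff {G : Type*} [Group G] [Finite G] (p : ℕ) (hp : p.Prime)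
    (H : Subgroup G) :
    H.index = p ^ (Nat.card G).factorization p ↔ (∃ k, H.index = p ^ k) ∧ ¬ p ∣ Nat.card H := by
  have hcard := H.card_mul_index
  have hG : Nat.card G ≠ 0 := Nat.card_pos.ne'
  constructor
  · intro h
    refine ⟨⟨_, h⟩, ?_⟩
    have h1 : Nat.card G = Nat.card H * p ^ (Nat.card G).factorization p := by
      rw [← h]; exact hcard.symm
    have h2 := Nat.div_eq_of_eq_mul_left (pow_pos hp.pos _) h1
    rw [← h2]
    exact Nat.not_dvd_ordCompl hp hG
  · rintro ⟨⟨k, hk⟩, hnd⟩
    have : (Nat.card G).factorization p = k := by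
      rw [← hcard, hk, Nat.factorization_mul Nat.card_pos.ne' (pow_pos hp.pos k).ne',
        Finsupp.add_apply, Nat.factorization_eq_zero_of_not_dvd hnd, zero_add,
        hp.factorization_pow, Finsupp.single_eq_same]
    rw [this, hk]

/-- Existence of `p`-complements for all primes `p`. -/
def HC (G : Type u) [Group G] : Prop :=
  ∀ p : ℕ, p.Prime → ∃ H : Subgroup G, H.index = p ^ (Nat.card G).factorization p

theorem card_subgroupOf_eq_card_inf {G : Type*} [Group G] [Finite G] (H M : Subgroup G) :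
    Nat.card (H.subgroupOf M) = Nat.card (H ⊓ M : Subgroup G) := by
  rw [← Subgroup.inf_subgroupOf_right, card_subgroupOf_of_le inf_le_right]

theorem hc_normal_sub {G : Type u} [Group G] [Finite G] (M : Subgroup G) [M.Normal] (h : HC G) :
    HC M := by
  intro p hp
  obtain ⟨H, hH⟩ := h p hp
  rw [index_eq_pow_factorization_iff p hp] at hH
  obtain ⟨⟨k, hk⟩, hnd⟩ := hH
  refine ⟨H.subgroupOf M, (index_eq_pow_factorization_iff p hp _).2 ⟨?_, ?_⟩⟩
  · have h1 := card_sup_mul_inf_normal M H
    have h2 := (H.subgroupOf M).card_mul_index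
    rw [card_subgroupOf_eq_card_inf] at h2
    have h3 : Nat.card (H ⊔ M : Subgroup G) ∣ Nat.card G := Subgroup.card_subgroup_dvd_card _
    have h4 := H.card_mul_index
    have hc : 0 < Nat.card (H ⊓ M : Subgroup G) := Nat.card_pos
    have h5 : Nat.card (H ⊔ M : Subgroup G) = Nat.card H * (H.subgroupOf M).index := by
      apply Nat.eq_of_mul_eq_mul_right hc
      rw [h1, ← h2]; ring
    have h6 : (H.subgroupOf M).index ∣ H.index := by
      rw [h5, ← h4] at h3
      exact Nat.dvd_of_mul_dvd_mul_left Nat.card_pos h3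
    rw [hk] at h6
    obtain ⟨m, -, hm⟩ := (Nat.dvd_prime_pow hp).1 h6
    exact ⟨m, hm⟩
  · rw [card_subgroupOf_eq_card_inf]
    intro hd
    exact hnd (hd.trans (Subgroup.card_dvd_of_le inf_le_left))

theorem hc_quot {G : Type u} [Group G] [Finite G] (M : Subgroup G) [M.Normal] (h : HC G) :
    HC (G ⧸ M) := by
  intro p hp
  obtain ⟨H, hH⟩ := h p hp
  rw [index_eq_pow_factorization_iff p hp] at hH
  obtain ⟨⟨k, hk⟩, hnd⟩ := hH
  refine ⟨H.map (QuotientGroup.mk' M), (index_eq_pow_factorization_iff p hp _).2 ⟨?_, ?_⟩⟩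
  · have h6 : (H.map (QuotientGroup.mk' M)).index ∣ H.index :=
      Subgroup.index_map_dvd H (QuotientGroup.mk'_surjective M)
    rw [hk] at h6
    obtain ⟨m, -, hm⟩ := (Nat.dvd_prime_pow hp).1 h6
    exact ⟨m, hm⟩
  · intro hd
    exact hnd (hd.trans (Subgroup.card_map_dvd H _))

theorem hc_compl {G : Type u} [Group G] [Finite G] (h : HC G) (p : ℕ) (hp : p.Prime)
    (H : Subgroup G) (hH : H.index = p ^ (Nat.card G).factorization p) : HC H := by
  intro q hq
  have hH' := (index_eq_pow_factorization_iff p hp H).1 hH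
  obtain ⟨⟨k, hk⟩, hnd⟩ := hH'
  by_cases hqp : q = p
  · subst hqp
    refine ⟨⊤, (index_eq_pow_factorization_iff q hq _).2 ⟨⟨0, by simp⟩, ?_⟩⟩
    rwa [Subgroup.card_top]
  · obtain ⟨K, hK⟩ := h q hq
    obtain ⟨⟨l, hl⟩, hndK⟩ := (index_eq_pow_factorization_iff q hq K).1 hK
    have hcop : H.index.Coprime K.index := by
      rw [hk, hl]
      exact Nat.Coprime.pow _ _ ((Nat.coprime_primes hp hq).2 (Ne.symm hqp))
    have h7 := (Cfsg.Agent.S0007.result H K hcop).1
    refine ⟨K.subgroupOf H, (index_eq_pow_factorization_iff q hq _).2 ⟨⟨l, ?_⟩, ?_⟩⟩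
    · have h8 : (K ⊓ H).relIndex H * H.index = (K ⊓ H).index :=
        Subgroup.relIndex_mul_index inf_le_right
      rw [Subgroup.inf_relIndex_right, inf_comm, h7, mul_comm] at h8
      have hpos : 0 < H.index := by rw [hk]; exact pow_pos hp.pos _
      have := Nat.eq_of_mul_eq_mul_left hpos h8
      rw [← hl]; exact this
    · rw [card_subgroupOf_eq_card_inf]
      intro hd
      exact hndK (hd.trans (Subgroup.card_dvd_of_le inf_le_left))

theorem card_eq_two_prime_pows (n : ℕ) (hn : n ≠ 0) (h : n.primeFactors.card ≤ 2) :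
    ∃ p q a b : ℕ, p.Prime ∧ q.Prime ∧ n = p ^ a * q ^ b := by
  have hprod : n = ∏ p ∈ n.primeFactors, p ^ n.factorization p := by
    conv_lhs => rw [← Nat.prod_factorization_pow_eq_self hn]
    rw [Finsupp.prod, Nat.support_factorization]
  have hc : n.primeFactors.card = 0 ∨ n.primeFactors.card = 1 ∨ n.primeFactors.card = 2 := by
    omega
  rcases hc with h0 | h1 | h2
  · rw [Finset.card_eq_zero] at h0
    rw [h0, Finset.prod_empty] at hprod
    exact ⟨2, 2, 0, 0, Nat.prime_two, Nat.prime_two, by simpa using hprod⟩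
  · rw [Finset.card_eq_one] at h1
    obtain ⟨p, hp⟩ := h1
    have hpp : p.Prime := Nat.prime_of_mem_primeFactors (by rw [hp]; simp)
    rw [hp, Finset.prod_singleton] at hprod
    exact ⟨p, 2, _, 0, hpp, Nat.prime_two, by simpa using hprod⟩
  · rw [Finset.card_eq_two] at h2
    obtain ⟨p, q, hpq, hs⟩ := h2
    have hpp : p.Prime := Nat.prime_of_mem_primeFactors (by rw [hs]; simp)
    have hqp : q.Prime := Nat.prime_of_mem_primeFactors (by rw [hs]; simp)
    rw [hs, Finset.prod_pair hpq] at hprod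
    exact ⟨p, q, _, _, hpp, hqp, hprod⟩

theorem hc_solvable : ∀ (n : ℕ) (G : Type u) [Group G] [Finite G],
    Nat.card G = n → HC G → Group.IsSolvable G := by
  intro n
  induction n using Nat.strong_induction_on with
  | _ n ih =>
  intro G _ _ hn hc
  by_cases hex : ∃ M : Subgroup G, M.Normal ∧ M ≠ ⊥ ∧ M ≠ ⊤
  · obtain ⟨M, hMn, hMb, hMt⟩ := hex
    haveI := hMn
    have : Group.IsSolvable M :=
      ih _ (hn ▸ card_lt_of_ne_top M hMt) M rfl (hc_normal_sub M hc)
    have : Group.IsSolvable (G ⧸ M) :=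
      ih _ (hn ▸ card_quot_lt M hMb) (G ⧸ M) rfl (hc_quot M hc)
    exact Group.isSolvable_of_ker_le_range M.subtype (QuotientGroup.mk' M) (by simp)
  · push Not at hex
    by_cases h3 : 2 < (Nat.card G).primeFactors.card
    · exfalso
      have hne : (Nat.card G).primeFactors.Nonempty := by
        rw [← Finset.card_pos]; omega
      obtain ⟨p, hpm⟩ := hne
      have hp : p.Prime := Nat.prime_of_mem_primeFactors hpm
      have hpd : p ∣ Nat.card G := Nat.dvd_of_mem_primeFactors hpm
      obtain ⟨H, hH⟩ := hc p hp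
      obtain ⟨⟨k, hk⟩, hnd⟩ := (index_eq_pow_factorization_iff p hp H).1 hH
      have hHtop : H ≠ ⊤ := by
        rintro rfl
        rw [Subgroup.card_top] at hnd
        exact hnd hpd
      have hHbot : H ≠ ⊥ := by
        rintro rfl
        have h1 := (⊥ : Subgroup G).card_mul_index
        rw [Subgroup.card_bot, one_mul, hk] at h1
        rw [← h1] at h3
        have : (p ^ k).primeFactors ⊆ {p} := by
          intro x hx
          rw [Nat.mem_primeFactors] at hx
          rw [Finset.mem_singleton]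
          exact (Nat.prime_dvd_prime_iff_eq hx.1 hp).1 (hx.1.dvd_of_dvd_pow hx.2.1)
        have := Finset.card_le_card this
        simp at this
        omega
      have : Group.IsSolvable H :=
        ih _ (hn ▸ card_lt_of_ne_top H hHtop) H rfl (hc_compl hc p hp H hH)
      haveI : Nontrivial H := (Subgroup.nontrivial_iff_ne_bot H).2 hHbot
      obtain ⟨r, hrF, N, hNn, hNb, hNr⟩ := exists_normal_pSubgroup_of_solvable (G := H)
      have hr : r.Prime := hrF.out
      have hle : ({p, r} : Finset ℕ).card < (Nat.card G).primeFactors.card :=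
        lt_of_le_of_lt Finset.card_le_two h3
      obtain ⟨q, hqm, hqn⟩ := Finset.exists_mem_notMem_of_card_lt_card hle
      have hq : q.Prime := Nat.prime_of_mem_primeFactors hqm
      have hqd : q ∣ Nat.card G := Nat.dvd_of_mem_primeFactors hqm
      have hqp : q ≠ p := by
        rintro rfl; exact hqn (by simp)
      have hqr : q ≠ r := by
        rintro rfl; exact hqn (by simp)
      obtain ⟨K, hK⟩ := hc q hq
      obtain ⟨⟨l, hl⟩, hndK⟩ := (index_eq_pow_factorization_iff q hq K).1 hK
      have hKtop : K ≠ ⊤ := by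
        rintro rfl
        rw [Subgroup.card_top] at hndK
        exact hndK hqd
      have hcop : H.index.Coprime K.index := by
        rw [hk, hl]
        exact Nat.Coprime.pow _ _ ((Nat.coprime_primes hp hq).2 (Ne.symm hqp))
      have hHK := (Cfsg.Agent.S0007.result H K hcop).2
      have hKH := (Cfsg.Agent.S0007.result K H hcop.symm).2
      set N' : Subgroup G := N.map H.subtype with hN'
      have hN'r : IsPGroup r N' := hNr.map _
      have hN'b : N' ≠ ⊥ := by
        intro hb
        apply hNb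
        rw [hN', Subgroup.map_eq_bot_iff_of_injective _ H.subtype_injective] at hb
        exact hb
      have hN'norm : ∀ x ∈ H, ∀ n ∈ N', x * n * x⁻¹ ∈ N' := by
        intro x hx n hn
        rw [hN', Subgroup.mem_map] at hn ⊢
        obtain ⟨n0, hn0, rfl⟩ := hn
        exact ⟨⟨x, hx⟩ * n0 * ⟨x, hx⟩⁻¹, hNn.conj_mem n0 hn0 ⟨x, hx⟩, rfl⟩
      have hrK : ¬ r ∣ K.index := by
        rw [hl]
        intro hd
        exact hqr ((Nat.prime_dvd_prime_iff_eq hr hq).1 (hr.dvd_of_dvd_pow hd)).symm
      obtain ⟨g, hg⟩ := exists_conj_mem_of_not_dvd_index r K N' hN'r hrK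
      have hN'K : N' ≤ K := by
        intro n hn
        obtain ⟨x, hx, y, hy, hgxy⟩ := hHK g
        have h1 := hg (x * n * x⁻¹) (hN'norm x hx n hn)
        rw [hgxy] at h1
        have h2 : y * ((x * y)⁻¹ * (x * n * x⁻¹) * (x * y)) * y⁻¹ = n := by group
        rw [← h2]
        exact K.mul_mem (K.mul_mem hy h1) (K.inv_mem hy)
      have hcore : N' ≤ K.normalCore := by
        intro n hn b
        obtain ⟨y, hy, x, hx, hb⟩ := hKH b
        have h2 : b * n * b⁻¹ = y * (x * n * x⁻¹) * y⁻¹ := by rw [hb]; group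
        rw [h2]
        exact K.mul_mem (K.mul_mem hy (hN'K (hN'norm x hx n hn))) (K.inv_mem hy)
      have ht := hex K.normalCore K.normalCore_normal (by
        intro hb
        rw [hb, le_bot_iff] at hcore
        exact hN'b hcore)
      apply hKtop
      rw [eq_top_iff, ← ht]
      exact K.normalCore_le
    · push Not at h3
      obtain ⟨p, q, a, b, hp, hq, hcard⟩ :=
        card_eq_two_prime_pows (Nat.card G) Nat.card_pos.ne' h3
      exact Cfsg.Agent.S0144.result p q a b hp hq hcard

end Cfsg.Agent.Lib.Helper4
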