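import Mathlib
import Cfsg.Agent.Lib.Helper4.ConjSub
import Cfsg.Agent.Lib.Helper4.SZ
import Cfsg.Agent.Lib.Helper4.Hall
import Cfsg.Agent.Lib.Helper2.Coatom
import Cfsg.Agent.Lib.Helper6.ConjCover

/-! Schmidt's theorem: all maximal subgroups nilpotent implies solvable. -/

namespace Cfsg.Agent.Lib.Helper4

universe u

/-- In a nilpotent subgroup `S`, proper subgroups are properly contained in their normalizers. -/
theorem lt_inf_normalizer_of_lt_nil {G : Type*} [Group G] (S : Subgroup G)
    (hnil : Group.IsNilpotent S)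
    (C : Subgroup G) (hCS : C < S) : C < S ⊓ Subgroup.normalizer (C : Set G) := by
  have hNC : NormalizerCondition S := Group.normalizerCondition_of_isNilpotent
  have hlt : C.subgroupOf S < ⊤ := by
    rw [lt_top_iff_ne_top, Ne, Subgroup.subgroupOf_eq_top]
    exact not_le_of_gt hCS
  have h2 := hNC _ hlt
  obtain ⟨y, hyN, hyC⟩ := SetLike.exists_of_lt h2
  have hle : C ≤ S ⊓ Subgroup.normalizer (C : Set G) := le_inf hCS.le Subgroup.le_normalizer
  apply lt_of_le_of_ne hle
  intro heq
  apply hyC
  rw [Subgroup.mem_subgroupOf, heq]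
  refine ⟨y.2, ?_⟩
  show (y : G) ∈ Subgroup.normalizer (C : Set G)
  rw [Subgroup.mem_normalizer_iff]
  intro c
  rw [Subgroup.mem_normalizer_iff] at hyN
  constructor
  · intro hc
    have := (hyN ⟨c, hCS.le hc⟩).1 (by rw [Subgroup.mem_subgroupOf]; exact hc)
    rw [Subgroup.mem_subgroupOf] at this
    simpa using this
  · intro hc
    have hcS : c ∈ S := by
      have h1 : (y : G) * c * (y : G)⁻¹ ∈ S := hCS.le hc
      have h2 : (y : G)⁻¹ * ((y : G) * c * (y : G)⁻¹) * (y : G) ∈ S :=
        S.mul_mem (S.mul_mem (S.inv_mem y.2) h1) y.2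
      have h3 : (y : G)⁻¹ * ((y : G) * c * (y : G)⁻¹) * (y : G) = c := by group
      rwa [h3] at h2
    have := (hyN ⟨c, hcS⟩).2 (by rw [Subgroup.mem_subgroupOf]; simpa using hc)
    rw [Subgroup.mem_subgroupOf] at this
    exact this

theorem isCoatom_cj {G : Type*} [Group G] (g : G) {M : Subgroup G} (hM : IsCoatom M) :
    IsCoatom (cj g M) :=
  ((MulAut.conj g).mapSubgroup.isCoatom_iff M).2 hM

theorem mem_normalizer_of_cj_eq {G : Type*} [Group G] {g : G} {M : Subgroup G} (h : cj g M = M) :
    g ∈ Subgroup.normalizer (M : Set G) := by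
  rw [Subgroup.mem_normalizer_iff]
  intro x
  constructor
  · intro hx
    have := conj_mem_cj g M hx
    rwa [h] at this
  · intro hx
    rw [← h, mem_cj_iff] at hx
    have h3 : g⁻¹ * (g * x * g⁻¹) * g = x := by group
    rwa [h3] at hx

theorem card_lt_card_of_lt {G : Type*} [Group G] [Finite G] {A B : Subgroup G} (h : A < B) :
    Nat.card A < Nat.card B := by
  rcases (Subgroup.card_le_of_le h.le).lt_or_eq with h1 | h1
  · exact h1
  · exact absurd (Subgroup.eq_of_le_of_card_ge h.le h1.ge) h.ne

section Simple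

variable {G : Type u} [Group G] [Finite G]

/-- The nonidentity elements lying in some conjugate of `M`. -/
def conjUnion (M : Subgroup G) : Set G := {x | x ≠ 1 ∧ ∃ g : G, x ∈ cj g M}

theorem card_ne_one_add_one (M : Subgroup G) :
    Nat.card {m : M // m ≠ 1} + 1 = Nat.card M := by
  classical
  rw [← Finite.card_option]
  exact Nat.card_congr (Equiv.optionSubtypeNe (1 : M))

theorem conjUnion_card (M : Subgroup G)
    (hN : ∀ g : G, cj g M = M → g ∈ M)
    (hTI : ∀ g h : G, cj g M = cj h M ∨ cj g M ⊓ cj h M = ⊥) :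
    M.index * Nat.card {m : M // m ≠ 1} ≤ (conjUnion M).ncard := by
  let f : (G ⧸ M) × {m : M // m ≠ 1} → G := fun x => x.1.out * (x.2.1 : G) * x.1.out⁻¹
  have hf : Function.Injective f := by
    rintro ⟨q, m, hm⟩ ⟨q', m', hm'⟩ hqq
    simp only [f] at hqq
    have hx1 : q.out * (m : G) * q.out⁻¹ ∈ cj q.out M := conj_mem_cj _ _ m.2
    have hx2 : q.out * (m : G) * q.out⁻¹ ∈ cj q'.out M := by
      rw [hqq]; exact conj_mem_cj _ _ m'.2
    have hne : q.out * (m : G) * q.out⁻¹ ≠ 1 := by
      intro h1
      apply hm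
      have : (m : G) = 1 := by
        have h2 : (m : G) = q.out⁻¹ * (q.out * (m : G) * q.out⁻¹) * q.out := by group
        rw [h2, h1]; group
      exact Subtype.ext this
    have heq : cj q.out M = cj q'.out M := by
      rcases hTI q.out q'.out with h | h
      · exact h
      · exfalso
        have : q.out * (m : G) * q.out⁻¹ ∈ cj q.out M ⊓ cj q'.out M := ⟨hx1, hx2⟩
        rw [h, Subgroup.mem_bot] at this
        exact hne this
    have h3 : cj (q'.out⁻¹ * q.out) M = M := by
      rw [cj_mul, heq, cj_inv_cj']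
    have h4 := hN _ h3
    have hq : q = q' := by
      have : ((q'.out : G) : G ⧸ M) = ((q.out : G) : G ⧸ M) := by
        rw [QuotientGroup.eq]; exact h4
      rw [QuotientGroup.out_eq', QuotientGroup.out_eq'] at this
      exact this.symm
    subst hq
    have hmm : (m : G) = (m' : G) := by
      have h2 : (m : G) = q.out⁻¹ * (q.out * (m : G) * q.out⁻¹) * q.out := by group
      rw [h2, hqq]; group
    have : m = m' := Subtype.ext hmm
    subst this
    rfl
  have hsub : Set.range f ⊆ conjUnion M := by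
    rintro _ ⟨⟨q, m, hm⟩, rfl⟩
    refine ⟨?_, q.out, conj_mem_cj _ _ m.2⟩
    intro h1
    apply hm
    have : (m : G) = 1 := by
      have h2 : (m : G) = q.out⁻¹ * (q.out * (m : G) * q.out⁻¹) * q.out := by group
      rw [h2]
      simp only [f] at h1
      rw [h1]; group
    exact Subtype.ext this
  have h1 : (Set.range f).ncard = M.index * Nat.card {m : M // m ≠ 1} := by
    rw [← Set.image_univ, Set.ncard_image_of_injective _ hf, Set.ncard_univ, Nat.card_prod,
      Subgroup.index_eq_card]
  rw [← h1]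
  exact Set.ncard_le_ncard hsub (Set.toFinite _)

theorem conjUnion_disjoint (M M' : Subgroup G)
    (hTI : ∀ g h : G, cj g M ⊓ cj h M' = ⊥) :
    (conjUnion M).ncard + (conjUnion M').ncard + 1 ≤ Nat.card G := by
  have hdisj : Disjoint (conjUnion M) (conjUnion M') := by
    rw [Set.disjoint_left]
    rintro x ⟨hx1, g, hg⟩ ⟨-, h, hh⟩
    have : x ∈ cj g M ⊓ cj h M' := ⟨hg, hh⟩
    rw [hTI, Subgroup.mem_bot] at this
    exact hx1 this
  rw [← Set.ncard_union_eq hdisj (Set.toFinite _) (Set.toFinite _)]
  have hsub : conjUnion M ∪ conjUnion M' ⊆ ({1} : Set G)ᶜ := by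
    rintro x (hx | hx)
    · exact hx.1
    · exact hx.1
  have h1 := Set.ncard_le_ncard hsub (Set.toFinite _)
  have h2 := Set.ncard_compl_add_ncard ({1} : Set G) (Set.toFinite _) (Set.toFinite _)
  rw [Set.ncard_singleton] at h2
  omega

variable (hs : ∀ N : Subgroup G, N.Normal → N ≠ ⊥ → N = ⊤)
  (hnil : ∀ M : Subgroup G, IsCoatom M → Group.IsNilpotent M)
  (hbot : ¬ IsCoatom (⊥ : Subgroup G))

include hs hbot in
theorem coatom_normalizer (M : Subgroup G) (hM : IsCoatom M) :
    Subgroup.normalizer (M : Set G) = M := by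
  have hMb : M ≠ ⊥ := by
    rintro rfl; exact hbot hM
  rcases hM.le_iff.1 (Subgroup.le_normalizer : M ≤ Subgroup.normalizer (M : Set G)) with h | h
  · exfalso
    have hn : M.Normal := Subgroup.normalizer_eq_top_iff.1 h
    exact hM.1 (hs M hn hMb)
  · exact h

include hs hnil in
theorem coatom_inf (M₁ M₂ : Subgroup G) (h₁ : IsCoatom M₁) (h₂ : IsCoatom M₂) (hne : M₁ ≠ M₂) :
    M₁ ⊓ M₂ = ⊥ := by
  by_contra hcon
  let P : Set (Subgroup G × Subgroup G) :=
    {x | IsCoatom x.1 ∧ IsCoatom x.2 ∧ x.1 ≠ x.2 ∧ x.1 ⊓ x.2 ≠ ⊥}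
  have hPne : P.Nonempty := ⟨(M₁, M₂), h₁, h₂, hne, hcon⟩
  obtain ⟨⟨A, B⟩, ⟨hA, hB, hAB, hD⟩, hmax⟩ := Set.exists_max_image P
    (fun x => Nat.card (x.1 ⊓ x.2 : Subgroup G)) (Set.toFinite P) hPne
  simp only at hA hB hAB hD hmax
  have hDA : A ⊓ B < A := by
    apply lt_of_le_of_ne inf_le_left
    intro h
    rw [inf_eq_left] at h
    rcases hA.le_iff.1 h with h' | h'
    · exact hB.1 h'
    · exact hAB h'.symm
  have hDB : A ⊓ B < B := by
    apply lt_of_le_of_ne inf_le_right
    intro h
    rw [inf_eq_right] at h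
    rcases hB.le_iff.1 h with h' | h'
    · exact hA.1 h'
    · exact hAB h'
  have h1 := lt_inf_normalizer_of_lt_nil A (hnil A hA) (A ⊓ B) hDA
  have h2 := lt_inf_normalizer_of_lt_nil B (hnil B hB) (A ⊓ B) hDB
  have hT : Subgroup.normalizer ((A ⊓ B : Subgroup G) : Set G) ≠ ⊤ := by
    intro h
    have hn : (A ⊓ B).Normal := Subgroup.normalizer_eq_top_iff.1 h
    have := hs _ hn hD
    rw [this] at hDA
    exact absurd le_top (not_le_of_gt hDA)
  obtain ⟨C, hC, hTC⟩ := (eq_top_or_exists_le_coatom _).resolve_left hT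
  have key : ∀ X : Subgroup G, IsCoatom X →
      A ⊓ B < X ⊓ Subgroup.normalizer ((A ⊓ B : Subgroup G) : Set G) → C = X := by
    intro X hX hlt
    by_contra hCX
    have hle : X ⊓ Subgroup.normalizer ((A ⊓ B : Subgroup G) : Set G) ≤ C ⊓ X :=
      le_inf (inf_le_right.trans hTC) inf_le_left
    have hlt' : A ⊓ B < C ⊓ X := lt_of_lt_of_le hlt hle
    have hne' : C ⊓ X ≠ ⊥ := by
      intro h
      rw [h] at hlt'
      exact absurd bot_le (not_le_of_gt hlt')
    have := hmax (C, X) ⟨hC, hX, hCX, hne'⟩
    simp only at this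
    exact absurd (card_lt_card_of_lt hlt') (not_lt_of_ge this)
  have hCA := key A hA h1
  have hCB := key B hB h2
  exact hAB (hCA.symm.trans hCB)

include hs hnil hbot in
theorem schmidt_simple_false (hnt : Nontrivial G) : False := by
  obtain ⟨M, hM, -⟩ := (eq_top_or_exists_le_coatom (⊥ : Subgroup G)).resolve_left bot_ne_top
  have hMb : M ≠ ⊥ := by
    rintro rfl; exact hbot hM
  have hselfN : ∀ (X : Subgroup G), IsCoatom X → ∀ g : G, cj g X = X → g ∈ X := by
    intro X hX g hg
    have := mem_normalizer_of_cj_eq hg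
    rwa [coatom_normalizer hs hbot X hX] at this
  have hTIsame : ∀ (X : Subgroup G), IsCoatom X →
      ∀ g h : G, cj g X = cj h X ∨ cj g X ⊓ cj h X = ⊥ := by
    intro X hX g h
    by_cases he : cj g X = cj h X
    · exact Or.inl he
    · exact Or.inr (coatom_inf hs hnil _ _ (isCoatom_cj g hX) (isCoatom_cj h hX) he)
  obtain ⟨x, hx⟩ := Cfsg.Agent.Lib.Helper6.exists_forall_conj_not_mem M hM.1
  have hxM : ∀ g : G, x ∉ cj g M := by
    intro g hg
    rw [mem_cj_iff] at hg
    exact hx g hg
  have hzp : Subgroup.zpowers x ≠ ⊤ := by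
    intro htop
    have hcomm : ∀ a b : G, a * b = b * a := by
      intro a b
      have ha : a ∈ Subgroup.zpowers x := by rw [htop]; trivial
      have hb : b ∈ Subgroup.zpowers x := by rw [htop]; trivial
      obtain ⟨i, rfl⟩ := Subgroup.mem_zpowers_iff.1 ha
      obtain ⟨j, rfl⟩ := Subgroup.mem_zpowers_iff.1 hb
      exact zpow_mul_comm x i j
    have hcj : cj x M = M := by
      ext y
      rw [mem_cj_iff]
      have : x⁻¹ * y * x = y := by
        rw [mul_assoc, hcomm y x, ← mul_assoc, inv_mul_cancel, one_mul]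
      rw [this]
    have := hselfN M hM x hcj
    have h1 := hxM 1
    rw [cj_one] at h1
    exact h1 this
  obtain ⟨M', hM', hxM'⟩ := (eq_top_or_exists_le_coatom _).resolve_left hzp
  have hxM'' : x ∈ M' := hxM' (Subgroup.mem_zpowers x)
  have hM'b : M' ≠ ⊥ := by
    rintro rfl; exact hbot hM'
  have hdiff : ∀ g h : G, cj g M ≠ cj h M' := by
    intro g h heq
    have h1 : cj (h⁻¹ * g) M = M' := by
      rw [cj_mul, heq, cj_inv_cj']
    apply hxM (h⁻¹ * g)
    rw [h1]; exact hxM''
  have hTI' : ∀ g h : G, cj g M ⊓ cj h M' = ⊥ := fun g h =>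
    coatom_inf hs hnil _ _ (isCoatom_cj g hM) (isCoatom_cj h hM') (hdiff g h)
  have c1 := conjUnion_card M (hselfN M hM) (hTIsame M hM)
  have c2 := conjUnion_card M' (hselfN M' hM') (hTIsame M' hM')
  have c3 := conjUnion_disjoint M M' hTI'
  have a1 := card_ne_one_add_one M
  have a2 := card_ne_one_add_one M'
  have i1 := M.index_mul_card
  have i2 := M'.index_mul_card
  have b1 : 2 ≤ Nat.card M := by
    have : 1 < Nat.card M := by
      rw [Finite.one_lt_card_iff_nontrivial]
      exact (Subgroup.nontrivial_iff_ne_bot M).2 hMb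
    omega
  have b2 : 2 ≤ Nat.card M' := by
    have : 1 < Nat.card M' := by
      rw [Finite.one_lt_card_iff_nontrivial]
      exact (Subgroup.nontrivial_iff_ne_bot M').2 hM'b
    omega
  set k := M.index
  set l := M'.index
  set c := Nat.card {m : M // m ≠ 1}
  set c' := Nat.card {m : M' // m ≠ 1}
  set n := Nat.card G
  rw [← a1, mul_add, mul_one] at i1
  rw [← a2, mul_add, mul_one] at i2
  have e1 : k ≤ k * c := Nat.le_mul_of_pos_right k (by omega)
  have e2 : l ≤ l * c' := Nat.le_mul_of_pos_right l (by omega)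
  omega

end Simple

theorem schmidt : ∀ (n : ℕ) (G : Type u) [Group G] [Finite G], Nat.card G = n →
    (∀ M : Subgroup G, IsCoatom M → Group.IsNilpotent M) → Group.IsSolvable G := by
  intro n
  induction n using Nat.strong_induction_on with
  | _ n ih =>
  intro G _ _ hn hnil
  by_cases hex : ∃ N : Subgroup G, N.Normal ∧ N ≠ ⊥ ∧ N ≠ ⊤
  · obtain ⟨N, hNn, hNb, hNt⟩ := hex
    haveI := hNn
    obtain ⟨M, hM, hNM⟩ := (eq_top_or_exists_le_coatom N).resolve_left hNt
    haveI hMnil := hnil M hM
    have hNnil : Group.IsNilpotent N :=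
      Group.nilpotent_of_mulEquiv (Subgroup.subgroupOfEquivOfLe hNM)
    have : Group.IsSolvable N := inferInstance
    have : Group.IsSolvable (G ⧸ N) := by
      apply ih _ (hn ▸ card_quot_lt N hNb) (G ⧸ N) rfl
      intro L hL
      have hc := Cfsg.Agent.Lib.Helper2.isCoatom_comap_mk' N hL
      haveI := hnil _ hc
      exact Group.nilpotent_of_surjective ((QuotientGroup.mk' N).subgroupComap L)
        (MonoidHom.subgroupComap_surjective_of_surjective _ _ (QuotientGroup.mk'_surjective N))
    exact Group.isSolvable_of_ker_le_range N.subtype (QuotientGroup.mk' N) (by simp)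
  · push Not at hex
    by_cases hsub : Subsingleton G
    · exact inferInstance
    · rw [not_subsingleton_iff_nontrivial] at hsub
      by_cases hbot : IsCoatom (⊥ : Subgroup G)
      · -- every nonidentity element generates G, so G is commutative
        have hcomm : ∀ a b : G, a * b = b * a := by
          intro a b
          by_cases ha : a = 1
          · rw [ha]; simp
          · have hz : Subgroup.zpowers a = ⊤ := by
              rcases hbot.le_iff.1 (bot_le : ⊥ ≤ Subgroup.zpowers a) with h | h
              · exact h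
              · exfalso
                apply ha
                have : a ∈ Subgroup.zpowers a := Subgroup.mem_zpowers a
                rw [h, Subgroup.mem_bot] at this
                exact this
            have hb : b ∈ Subgroup.zpowers a := by rw [hz]; trivial
            obtain ⟨j, rfl⟩ := Subgroup.mem_zpowers_iff.1 hb
            have := zpow_mul_comm a 1 j
            rwa [zpow_one] at this
        letI : CommGroup G := { (inferInstance : Group G) with mul_comm := hcomm }
        exact inferInstance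
      · exfalso
        exact schmidt_simple_false hex hnil hbot hsub

end Cfsg.Agent.Lib.Helper4
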