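import Mathlib
import Cfsg.Agent.S0008
import Cfsg.Agent.Lib.Helper4.ConjSub
import Cfsg.Agent.Lib.Helper4.SZ
import Cfsg.Agent.Lib.Helper4.Hall
import Cfsg.Agent.Lib.Helper4.HallConv
import Cfsg.Agent.Lib.Helper4.Schmidt
import Cfsg.Agent.Lib.Helper4.Frobenius3

/-! Carter subgroups of finite solvable groups. -/

set_option linter.unusedSectionVars false

namespace Cfsg.Agent.Lib.Helper4

universe u

/-- A Carter subgroup: nilpotent and self-normalizing. -/
def IsCarter {G : Type*} [Group G] (C : Subgroup G) : Prop :=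
  Group.IsNilpotent C ∧ Subgroup.normalizer (C : Set G) = C

/-- Conjugacy of Carter subgroups. -/
def ConjP (G : Type*) [Group G] : Prop :=
  ∀ C D : Subgroup G, IsCarter C → IsCarter D → ∃ g : G, cj g C = D

section basic
variable {G : Type*} [Group G]

theorem isCarter_cj (g : G) {C : Subgroup G} (hC : IsCarter C) : IsCarter (cj g C) := by
  obtain ⟨h1, h2⟩ := hC
  refine ⟨?_, ?_⟩
  · exact Group.nilpotent_of_mulEquiv ((MulAut.conj g).subgroupMap C)
  · rw [cj_normalizer, h2]

theorem isCarter_subgroupOf {C L : Subgroup G} (hC : IsCarter C) (hCL : C ≤ L) :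
    IsCarter (C.subgroupOf L) := by
  obtain ⟨h1, h2⟩ := hC
  refine ⟨?_, ?_⟩
  · exact Group.nilpotent_of_mulEquiv (Subgroup.subgroupOfEquivOfLe hCL).symm
  · rw [← Subgroup.subgroupOf_normalizer_eq hCL, h2]

theorem map_subtype_subgroupOf {C L : Subgroup G} (hCL : C ≤ L) :
    (C.subgroupOf L).map L.subtype = C := by
  rw [Subgroup.subgroupOf, Subgroup.map_comap_eq, Subgroup.range_subtype, inf_eq_right.2 hCL]

theorem eq_top_of_isCarter_of_isNilpotent [Group.IsNilpotent G] {C : Subgroup G}
    (hC : IsCarter C) : C = ⊤ := by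
  by_contra hne
  have hlt : C < ⊤ := lt_top_iff_ne_top.2 hne
  have := Group.normalizerCondition_of_isNilpotent (G := G) C hlt
  rw [hC.2] at this
  exact lt_irrefl _ this

theorem isCarter_top [hn : Group.IsNilpotent G] : IsCarter (⊤ : Subgroup G) := by
  refine ⟨Group.nilpotent_of_mulEquiv (Subgroup.topEquiv (G := G)).symm, ?_⟩
  rw [eq_top_iff]
  exact Subgroup.le_normalizer

theorem cj_sup' (g : G) (A B : Subgroup G) : cj g (A ⊔ B) = cj g A ⊔ cj g B :=
  Subgroup.map_sup A B _

variable [Finite G]

/-- `C ⊔ N` is self-normalizing when `C` is a Carter subgroup, `N` is normal and conjugacy holds in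
proper subgroups. -/
theorem carter_sup_selfNormalizing (hsub : ∀ L : Subgroup G, L ≠ ⊤ → ConjP L)
    (N : Subgroup G) [N.Normal] {C : Subgroup G} (hC : IsCarter C) (g : G)
    (hg : cj g (C ⊔ N) = C ⊔ N) : g ∈ C ⊔ N := by
  set L := C ⊔ N with hL
  by_cases hLtop : L = ⊤
  · rw [hLtop]; trivial
  · have hCL : C ≤ L := le_sup_left
    have hgCL : cj g C ≤ L := by
      rw [← hg]; exact cj_mono g hCL
    have h1 := isCarter_subgroupOf hC hCL
    have h2 := isCarter_subgroupOf (isCarter_cj g hC) hgCL
    obtain ⟨l, hl⟩ := hsub L hLtop _ _ h1 h2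
    have h3 : cj (l : G) C = cj g C := by
      have := congrArg (Subgroup.map L.subtype) hl
      rw [map_cj, map_subtype_subgroupOf hCL, map_subtype_subgroupOf hgCL] at this
      exact this
    have h4 : cj ((l : G)⁻¹ * g) C = C := by
      rw [cj_mul, ← h3, cj_inv_cj']
    have h5 := mem_normalizer_of_cj_eq h4
    rw [hC.2] at h5
    have h6 : g = (l : G) * ((l : G)⁻¹ * g) := by group
    rw [h6]
    exact L.mul_mem l.2 (hCL h5)

/-- Images of Carter subgroups are Carter subgroups (given conjugacy in proper subgroups). -/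
theorem isCarter_map (hsub : ∀ L : Subgroup G, L ≠ ⊤ → ConjP L)
    {Y : Type*} [Group Y] (f : G →* Y) (hf : Function.Surjective f)
    {C : Subgroup G} (hC : IsCarter C) : IsCarter (C.map f) := by
  haveI := hC.1
  refine ⟨Group.nilpotent_of_surjective (f.subgroupMap C) (f.subgroupMap_surjective C), ?_⟩
  apply le_antisymm _ Subgroup.le_normalizer
  intro y hy
  obtain ⟨g, rfl⟩ := hf y
  haveI : f.ker.Normal := inferInstance
  set H := C ⊔ f.ker with hH
  have hcomap : (C.map f).comap f = H := Subgroup.comap_map_eq f C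
  have hmapH : H.map f = C.map f := by
    rw [← hcomap, Subgroup.map_comap_eq_self_of_surjective hf]
  have hle : cj g H ≤ H := by
    intro x hx
    rw [← hcomap, Subgroup.mem_comap]
    have h1 : f x ∈ (cj g H).map f := Subgroup.mem_map_of_mem f hx
    rw [map_cj, hmapH] at h1
    have h2 : cj (f g) (C.map f) = C.map f := Subgroup.mem_normalizer_iff_map_conj_eq.1 hy
    rwa [h2] at h1
  have heq : cj g H = H :=
    Subgroup.eq_of_le_of_card_ge hle (by rw [card_cj'])
  have hgH := carter_sup_selfNormalizing hsub f.ker hC g heq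
  rw [← hmapH]
  exact Subgroup.mem_map_of_mem f hgH

/-- A Carter subgroup covers every nilpotent quotient. -/
theorem carter_sup_ker_eq_top (hsub : ∀ L : Subgroup G, L ≠ ⊤ → ConjP L)
    {Y : Type*} [Group Y] [Group.IsNilpotent Y] (f : G →* Y) (hf : Function.Surjective f)
    {C : Subgroup G} (hC : IsCarter C) : C ⊔ f.ker = ⊤ := by
  have h1 := isCarter_map hsub f hf hC
  have h2 := eq_top_of_isCarter_of_isNilpotent h1
  rw [← Subgroup.comap_map_eq f C, h2, Subgroup.comap_top]

end basic


section normalSylow
variable {G : Type*} [Group G] [Finite G]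

/-- If `G` has a normal Sylow `p`-subgroup `P` with `G ⧸ P` nilpotent, then the normalizer of a
complement of `P` is a Carter subgroup. -/
theorem exists_carter_of_normal_sylow (p : ℕ) [hp : Fact p.Prime] (P : Sylow p G)
    (hPn : (P : Subgroup G).Normal) (hnil : Group.IsNilpotent (G ⧸ (P : Subgroup G))) :
    ∃ C : Subgroup G, IsCarter C := by
  haveI := hPn
  have hcop : (Nat.card (P : Subgroup G)).Coprime (P : Subgroup G).index := P.card_coprime_index
  obtain ⟨Q, hQ⟩ := Subgroup.exists_right_complement'_of_coprime hcop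
  set C := Subgroup.normalizer (Q : Set G) with hC
  have hQC : Q ≤ C := Subgroup.le_normalizer
  have hQnil : Group.IsNilpotent Q := Group.nilpotent_of_mulEquiv hQ.symm.QuotientMulEquiv
  have hQcard : (Nat.card Q).Coprime p := by
    have h1 : (P : Subgroup G).index = Nat.card Q := hQ.symm.index_eq_card
    rw [← h1]
    exact ((Nat.Prime.coprime_iff_not_dvd hp.out).2 P.not_dvd_index).symm
  -- decomposition of elements of C
  have hdec : ∀ c ∈ C, ∃ a ∈ C ⊓ (P : Subgroup G), ∃ b ∈ Q, c = a * b := by
    intro c hc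
    obtain ⟨⟨a, b⟩, hab⟩ := hQ.2 c
    simp only at hab
    refine ⟨a, ⟨?_, a.2⟩, b, b.2, hab.symm⟩
    have : (a : G) = c * (b : G)⁻¹ := by rw [← hab]; group
    rw [this]
    exact C.mul_mem hc (C.inv_mem (hQC b.2))
  haveI hQ'n : (Q.subgroupOf C).Normal :=
    (Subgroup.normal_subgroupOf_iff_le_normalizer hQC).2 le_rfl
  -- C is nilpotent
  have hCnil : Group.IsNilpotent C := by
    have hQ'nil : Group.IsNilpotent (Q.subgroupOf C) :=
      Group.nilpotent_of_mulEquiv (Subgroup.subgroupOfEquivOfLe hQC).symm
    have hP'p : IsPGroup p ((P : Subgroup G).subgroupOf C) := P.isPGroup'.comap_subtype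
    have hP'nil : Group.IsNilpotent ((P : Subgroup G).subgroupOf C) := hP'p.isNilpotent
    have h1 : Q.subgroupOf C ≤ Cfsg.fittingSubgroup C := le_sSup ⟨hQ'n, hQ'nil⟩
    have h2 : (P : Subgroup G).subgroupOf C ≤ Cfsg.fittingSubgroup C :=
      le_sSup ⟨inferInstance, hP'nil⟩
    have h3 : Cfsg.fittingSubgroup C = ⊤ := by
      rw [eq_top_iff]
      intro c _
      obtain ⟨a, ha, b, hb, hcab⟩ := hdec c c.2
      have hc' : c = (⟨a, ha.1⟩ : C) * (⟨b, hQC hb⟩ : C) := Subtype.ext hcab
      rw [hc']
      exact (Cfsg.fittingSubgroup C).mul_mem (h2 (Subgroup.mem_subgroupOf.2 ha.2))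
        (h1 (Subgroup.mem_subgroupOf.2 hb))
    have h4 := Cfsg.Agent.S0008.result (G := C)
    rw [h3] at h4
    exact Group.nilpotent_of_mulEquiv (Subgroup.topEquiv (G := C))
  refine ⟨C, hCnil, ?_⟩
  apply le_antisymm _ Subgroup.le_normalizer
  intro g hg
  have hgC : cj g C = C := Subgroup.mem_normalizer_iff_map_conj_eq.1 hg
  -- C ⧸ Q is a p-group
  have hquot : IsPGroup p (C ⧸ Q.subgroupOf C) := by
    intro x
    induction x using QuotientGroup.induction_on with
    | H c =>
      obtain ⟨a, ha, b, hb, hcab⟩ := hdec c c.2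
      obtain ⟨k, hk⟩ := P.isPGroup' ⟨a, ha.2⟩
      refine ⟨k, ?_⟩
      have h1 : ((c : C) : C ⧸ Q.subgroupOf C) = ((⟨a, ha.1⟩ : C) : C ⧸ Q.subgroupOf C) := by
        rw [QuotientGroup.eq, Subgroup.mem_subgroupOf]
        have : ((c⁻¹ * (⟨a, ha.1⟩ : C) : C) : G) = b⁻¹ := by
          show (c : G)⁻¹ * a = b⁻¹
          rw [hcab]; group
        rw [this]
        exact Q.inv_mem hb
      rw [h1, ← QuotientGroup.mk_pow]
      have h2 : (⟨a, ha.1⟩ : C) ^ p ^ k = 1 := by
        apply Subtype.ext
        have := congrArg Subtype.val hk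
        simpa using this
      rw [h2]; rfl
  -- conjugates of Q inside C lie in Q
  have hle : cj g Q ≤ Q := by
    intro y hy
    have hyC : y ∈ C := by
      rw [← hgC]; exact cj_mono g hQC hy
    have hord : (orderOf y).Coprime p := by
      have h1 : orderOf (⟨y, hy⟩ : cj g Q) ∣ Nat.card (cj g Q) := orderOf_dvd_natCard _
      rw [Subgroup.orderOf_mk, card_cj'] at h1
      exact Nat.Coprime.coprime_dvd_left h1 hQcard
    have hord' : (orderOf (⟨y, hyC⟩ : C)).Coprime p := by
      rw [Subgroup.orderOf_mk]; exact hord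
    have := mem_of_coprime_of_isPGroup_quotient p (Q.subgroupOf C) hquot ⟨y, hyC⟩ hord'
    exact Subgroup.mem_subgroupOf.1 this
  have heq : cj g Q = Q := Subgroup.eq_of_le_of_card_ge hle (by rw [card_cj'])
  exact mem_normalizer_of_cj_eq heq

end normalSylow

section main

theorem carter_pcompl {G : Type*} [Group G] [Finite G] (p : ℕ) [hp : Fact p.Prime]
    (N : Subgroup G) [N.Normal] (hNp : IsPGroup p N)
    (C : Subgroup G) (hC : IsCarter C) (hCN : C ⊔ N = ⊤) :
    ∃ Q : Subgroup G, Q ≤ C ∧ C ≤ Subgroup.normalizer (Q : Set G) ∧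
      Q.index = p ^ (Nat.card G).factorization p := by
  haveI := hC.1
  obtain ⟨Q₀, hQ₀n, hQ₀c, hQ₀p⟩ :=
    frob_hasNormalPComplement p _ C rfl (frobHyp_of_isNilpotent p)
  haveI := hQ₀n
  set Q := Q₀.map C.subtype with hQ
  have hQC : Q ≤ C := Subgroup.map_subtype_le Q₀
  refine ⟨Q, hQC, ?_, ?_⟩
  · intro c hc
    apply mem_normalizer_of_cj_eq
    have h1 : cj (⟨c, hc⟩ : C) Q₀ = Q₀ := cj_self_of_normal Q₀ _
    have h2 := congrArg (Subgroup.map C.subtype) h1
    rwa [map_cj] at h2
  · rw [index_eq_pow_factorization_iff p hp.out]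
    constructor
    · -- index of Q is a power of p
      have hQsub : Q.subgroupOf C = Q₀ := by
        rw [hQ, Subgroup.subgroupOf]
        exact Subgroup.comap_map_eq_self_of_injective C.subtype_injective Q₀
      obtain ⟨c, hc⟩ := (IsPGroup.iff_card).1 hQ₀p
      have hrel : Q.relIndex C = p ^ c := by
        rw [Subgroup.relIndex, hQsub, Subgroup.index_eq_card, hc]
      obtain ⟨a, ha⟩ := (IsPGroup.iff_card).1 hNp
      have hCidx : ∃ b, C.index = p ^ b := by
        have h1 := card_sup_mul_inf_normal N C
        rw [hCN, Subgroup.card_top, ← C.card_mul_index, ha] at h1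
        have hpos : 0 < Nat.card C := Nat.card_pos
        have h2 : Nat.card C * (C.index * Nat.card (C ⊓ N : Subgroup G)) = Nat.card C * p ^ a := by
          rw [← h1]; ring
        have h3 := Nat.eq_of_mul_eq_mul_left hpos h2
        have h4 : C.index ∣ p ^ a := ⟨_, h3.symm⟩
        obtain ⟨b, -, hb⟩ := (Nat.dvd_prime_pow hp.out).1 h4
        exact ⟨b, hb⟩
      obtain ⟨b, hb⟩ := hCidx
      refine ⟨c + b, ?_⟩
      rw [← Subgroup.relIndex_mul_index hQC, hrel, hb, pow_add]
    · have hcard : Nat.card Q = Nat.card Q₀ :=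
        Subgroup.card_map_of_injective C.subtype_injective
      rw [hcard]
      intro hd
      have := Nat.Coprime.eq_one_of_dvd hQ₀c.symm hd
      exact hp.out.one_lt.ne' this

theorem carter_main : ∀ (n : ℕ) (G : Type u) [Group G] [Finite G] [Group.IsSolvable G],
    Nat.card G = n → (∃ C : Subgroup G, IsCarter C) ∧ ConjP G := by
  intro n
  induction n using Nat.strong_induction_on with
  | _ n ih =>
  intro G _ _ _ hn
  by_cases hnil : Group.IsNilpotent G
  · refine ⟨⟨⊤, isCarter_top⟩, ?_⟩
    intro C D hC hD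
    refine ⟨1, ?_⟩
    rw [cj_one, eq_top_of_isCarter_of_isNilpotent hC, eq_top_of_isCarter_of_isNilpotent hD]
  · haveI hnt : Nontrivial G := by
      by_contra h
      rw [not_nontrivial_iff_subsingleton] at h
      exact hnil inferInstance
    have hsub : ∀ L : Subgroup G, L ≠ ⊤ → ConjP L := fun L hL =>
      (ih _ (hn ▸ card_lt_of_ne_top L hL) L rfl).2
    obtain ⟨p, hpF, N, hNn, hNb, hNp⟩ := exists_normal_pSubgroup_of_solvable (G := G)
    haveI := hNn
    haveI := hpF
    have hp := hpF.out
    have hquotlt : Nat.card (G ⧸ N) < n := hn ▸ card_quot_lt N hNb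
    obtain ⟨⟨Kb, hKb⟩, hconjQ⟩ := ih _ hquotlt (G ⧸ N) rfl
    have hsurj := QuotientGroup.mk'_surjective N
    constructor
    · -- existence
      set K := Kb.comap (QuotientGroup.mk' N) with hK
      have hNK : N ≤ K := by
        intro x hx
        rw [hK, Subgroup.mem_comap]
        have : QuotientGroup.mk' N x = 1 := (QuotientGroup.eq_one_iff x).2 hx
        rw [this]; exact Kb.one_mem
      have hKmap : K.map (QuotientGroup.mk' N) = Kb :=
        Subgroup.map_comap_eq_self_of_surjective hsurj Kb
      by_cases hKtop : K = ⊤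
      · have hKbtop : Kb = ⊤ := by
          rw [← hKmap, hKtop, ← MonoidHom.range_eq_map, MonoidHom.range_eq_top.2 hsurj]
        haveI hGNnil : Group.IsNilpotent (G ⧸ N) := by
          have h1 := hKb.1
          rw [hKbtop] at h1
          exact Group.nilpotent_of_mulEquiv (Subgroup.topEquiv (G := G ⧸ N))
        obtain ⟨P⟩ : Nonempty (Sylow p G) := inferInstance
        have hNP : N ≤ (P : Subgroup G) := hNp.le_sylow_of_normal P
        have hPn : (P : Subgroup G).Normal := by
          have h1 : ((P.mapSurjective hsurj : Sylow p (G ⧸ N)) : Subgroup (G ⧸ N)).Normal :=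
            inferInstance
          rw [Sylow.coe_mapSurjective] at h1
          have h2 : ((P : Subgroup G).map (QuotientGroup.mk' N)).comap (QuotientGroup.mk' N)
              = (P : Subgroup G) := by
            rw [Subgroup.comap_map_eq, QuotientGroup.ker_mk', sup_eq_left.2 hNP]
          rw [← h2]
          exact Subgroup.Normal.comap h1 _
        haveI := hPn
        have hGPnil : Group.IsNilpotent (G ⧸ (P : Subgroup G)) := by
          have hle : N ≤ (P : Subgroup G).comap (MonoidHom.id G) := by
            rw [Subgroup.comap_id]; exact hNP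
          apply Group.nilpotent_of_surjective
            (QuotientGroup.map N (P : Subgroup G) (MonoidHom.id G) hle)
          intro x
          induction x using QuotientGroup.induction_on with
          | H g => exact ⟨(g : G ⧸ N), rfl⟩
        exact exists_carter_of_normal_sylow p P hPn hGPnil
      · have hKlt : Nat.card K < n := hn ▸ card_lt_of_ne_top K hKtop
        obtain ⟨⟨C₀, hC₀⟩, -⟩ := ih _ hKlt K rfl
        have hsubK : ∀ L : Subgroup K, L ≠ ⊤ → ConjP L := fun L hL =>
          (ih _ (lt_trans (card_lt_of_ne_top L hL) hKlt) L rfl).2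
        let f : K →* Kb := (QuotientGroup.mk' N).subgroupComap Kb
        have hf : Function.Surjective f :=
          MonoidHom.subgroupComap_surjective_of_surjective _ _ hsurj
        haveI := hKb.1
        have hcover := carter_sup_ker_eq_top hsubK f hf hC₀
        have hker : f.ker = N.subgroupOf K := by
          ext x
          rw [MonoidHom.mem_ker, Subgroup.mem_subgroupOf]
          constructor
          · intro h
            have : QuotientGroup.mk' N (x : G) = 1 := congrArg Subtype.val h
            exact (QuotientGroup.eq_one_iff _).1 this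
          · intro h
            apply Subtype.ext
            exact (QuotientGroup.eq_one_iff _).2 h
        set C := C₀.map K.subtype with hCdef
        have hKCN : C ⊔ N = K := by
          have := congrArg (Subgroup.map K.subtype) hcover
          rw [Subgroup.map_sup, hker, map_subtype_subgroupOf hNK, ← MonoidHom.range_eq_map,
            Subgroup.range_subtype] at this
          exact this
        haveI := hC₀.1
        refine ⟨C, ?_, ?_⟩
        · exact Group.nilpotent_of_mulEquiv (C₀.equivMapOfInjective K.subtype K.subtype_injective)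
        · apply le_antisymm _ Subgroup.le_normalizer
          intro g hg
          have hgC : cj g C = C := Subgroup.mem_normalizer_iff_map_conj_eq.1 hg
          have hgK : cj g K = K := by
            rw [← hKCN, cj_sup', hgC, cj_self_of_normal N g]
          have h1 : cj (QuotientGroup.mk' N g) Kb = Kb := by
            rw [← hKmap, ← map_cj, hgK]
          have h2 := mem_normalizer_of_cj_eq h1
          rw [hKb.2] at h2
          have hgK' : g ∈ K := h2
          have h3 : cj (⟨g, hgK'⟩ : K) C₀ = C₀ := by
            apply Subgroup.map_injective K.subtype_injective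
            rw [map_cj]
            exact hgC
          have h4 := mem_normalizer_of_cj_eq h3
          rw [hC₀.2] at h4
          exact ⟨⟨g, hgK'⟩, h4, rfl⟩
    · -- conjugacy
      intro C D hC hD
      have hCb := isCarter_map hsub (QuotientGroup.mk' N) hsurj hC
      have hDb := isCarter_map hsub (QuotientGroup.mk' N) hsurj hD
      obtain ⟨xb, hxb⟩ := hconjQ _ _ hCb hDb
      obtain ⟨g₁, rfl⟩ := hsurj xb
      have hC₁c : IsCarter (cj g₁ C) := isCarter_cj g₁ hC
      have hsupeq : cj g₁ C ⊔ N = D ⊔ N := by
        have h1 : (cj g₁ C).map (QuotientGroup.mk' N) = D.map (QuotientGroup.mk' N) := by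
          rw [map_cj]; exact hxb
        have h2 := congrArg (Subgroup.comap (QuotientGroup.mk' N)) h1
        rwa [Subgroup.comap_map_eq, Subgroup.comap_map_eq, QuotientGroup.ker_mk'] at h2
      suffices h : ∃ g', cj g' (cj g₁ C) = D by
        obtain ⟨g', hg'⟩ := h
        exact ⟨g' * g₁, by rw [cj_mul]; exact hg'⟩
      generalize cj g₁ C = C₁ at hC₁c hsupeq ⊢
      by_cases hLtop : C₁ ⊔ N = ⊤
      · have hDtop : D ⊔ N = ⊤ := by rw [← hsupeq]; exact hLtop
        obtain ⟨Q, hQC, hCQ, hQi⟩ := carter_pcompl p N hNp C₁ hC₁c hLtop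
        obtain ⟨R, hRD, hDR, hRi⟩ := carter_pcompl p N hNp D hD hDtop
        have hQnd := ((index_eq_pow_factorization_iff p hp Q).1 hQi).2
        have hcardQ := Q.card_mul_index
        have hcardR := R.card_mul_index
        rw [hQi] at hcardQ
        rw [hRi] at hcardR
        have hpos : 0 < p ^ (Nat.card G).factorization p := pow_pos hp.pos _
        have hQR : Nat.card R = Nat.card Q :=
          Nat.eq_of_mul_eq_mul_right hpos (hcardR.trans hcardQ.symm)
        have hcop : (Nat.card Q).Coprime (p ^ (Nat.card G).factorization p) :=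
          Nat.Coprime.pow_right _ ((Nat.Prime.coprime_iff_not_dvd hp).2 hQnd).symm
        have hall := hall_all n G hn
        obtain ⟨g₂, hg₂⟩ := (hall (Nat.card Q) (p ^ (Nat.card G).factorization p) hcardQ.symm
          hcop).2.1 Q R rfl hQR
        have hC₂c : IsCarter (cj g₂ C₁) := isCarter_cj g₂ hC₁c
        have hRC₂ : R ≤ cj g₂ C₁ := by rw [← hg₂]; exact cj_mono g₂ hQC
        have hC₂R : cj g₂ C₁ ≤ Subgroup.normalizer (R : Set G) := by
          rw [← hg₂, cj_normalizer]; exact cj_mono g₂ hCQ
        suffices h : ∃ g', cj g' (cj g₂ C₁) = D by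
          obtain ⟨g', hg'⟩ := h
          exact ⟨g' * g₂, by rw [cj_mul]; exact hg'⟩
        generalize cj g₂ C₁ = C₂ at hC₂c hRC₂ hC₂R ⊢
        have hRne : R ≠ ⊥ := by
          rintro rfl
          apply hnil
          rw [Subgroup.card_bot, one_mul] at hcardR
          exact (IsPGroup.of_card hcardR.symm).isNilpotent
        by_cases hM : Subgroup.normalizer (R : Set G) = ⊤
        · haveI hRn : R.Normal := Subgroup.normalizer_eq_top_iff.1 hM
          have hlt : Nat.card (G ⧸ R) < n := hn ▸ card_quot_lt R hRne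
          have hconjR := (ih _ hlt (G ⧸ R) rfl).2
          have hsurjR := QuotientGroup.mk'_surjective R
          obtain ⟨yb, hyb⟩ := hconjR _ _ (isCarter_map hsub (QuotientGroup.mk' R) hsurjR hC₂c)
            (isCarter_map hsub (QuotientGroup.mk' R) hsurjR hD)
          obtain ⟨g₃, rfl⟩ := hsurjR yb
          refine ⟨g₃, ?_⟩
          have h1 : (cj g₃ C₂).map (QuotientGroup.mk' R) = D.map (QuotientGroup.mk' R) := by
            rw [map_cj]; exact hyb
          have h2 := congrArg (Subgroup.comap (QuotientGroup.mk' R)) h1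
          rw [Subgroup.comap_map_eq, Subgroup.comap_map_eq, QuotientGroup.ker_mk'] at h2
          have h3 : R ≤ cj g₃ C₂ := by
            rw [← cj_self_of_normal R g₃]; exact cj_mono g₃ hRC₂
          rwa [sup_eq_left.2 h3, sup_eq_left.2 hRD] at h2
        · obtain ⟨m, hm⟩ := hsub _ hM _ _ (isCarter_subgroupOf hC₂c hC₂R)
            (isCarter_subgroupOf hD hDR)
          refine ⟨(m : G), ?_⟩
          have := congrArg (Subgroup.map (Subgroup.normalizer (R : Set G)).subtype) hm
          rwa [map_cj, map_subtype_subgroupOf hC₂R, map_subtype_subgroupOf hDR] at this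
      · have hC₁L : C₁ ≤ C₁ ⊔ N := le_sup_left
        have hDL : D ≤ C₁ ⊔ N := by rw [hsupeq]; exact le_sup_left
        obtain ⟨l, hl⟩ := hsub _ hLtop _ _ (isCarter_subgroupOf hC₁c hC₁L)
          (isCarter_subgroupOf hD hDL)
        refine ⟨(l : G), ?_⟩
        have := congrArg (Subgroup.map (C₁ ⊔ N).subtype) hl
        rwa [map_cj, map_subtype_subgroupOf hC₁L, map_subtype_subgroupOf hDL] at this

end main

end Cfsg.Agent.Lib.Helper4
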