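import Cfsg.Agent.Lib.Helper4.CoprimeAct

set_option autoImplicit false
set_option linter.unusedSectionVars false

namespace Cfsg.Agent.Lib.Helper4

open scoped Pointwise

section
variable {G : Type*} [Group G]

/-- The conjugation action of `G` on its subgroups. -/
@[reducible] def cjAction : MulAction G (Subgroup G) where
  smul g H := cj g H
  one_smul := cj_one
  mul_smul := cj_mul

theorem sylow_map_smul {p : ℕ} (K : Subgroup G) (c : K) (P : Sylow p K) :
    ((MulAut.conj c • P : Sylow p K) : Subgroup K).map K.subtype =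
      cj (c : G) ((P : Subgroup K).map K.subtype) := by
  rw [Sylow.pointwise_smul_def, smul_eq_cj, map_cj]
  rfl

theorem sylow_map_relIndex [Finite G] {p : ℕ} [Fact p.Prime] (K : Subgroup G) (P : Sylow p K) :
    ¬ p ∣ ((P : Subgroup K).map K.subtype).relIndex K := by
  have : ((P : Subgroup K).map K.subtype).subgroupOf K = (P : Subgroup K) :=
    Subgroup.comap_map_eq_self_of_injective K.subtype_injective _
  rw [Subgroup.relIndex, this]
  exact P.not_dvd_index

/-- Sylow `p`-subgroups of `K`, as subgroups of `G`: conjugacy inside `K`. -/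
theorem sylow_sub_conj [Finite G] {p : ℕ} [Fact p.Prime] (K : Subgroup G) (P : Sylow p K)
    (Q : Subgroup G) (hQK : Q ≤ K) (hQ : IsPGroup p Q)
    (hcard : Nat.card Q = Nat.card ((P : Subgroup K).map K.subtype : Subgroup G)) :
    ∃ k ∈ K, Q = cj k ((P : Subgroup K).map K.subtype) := by
  set P' : Subgroup G := (P : Subgroup K).map K.subtype with hP'
  have hP'p : IsPGroup p P' := P.2.map K.subtype
  obtain ⟨n, hn, hnQ⟩ := exists_conj_le_of_relIndex p K P' Q hP'p (sylow_map_relIndex K P) hQK hQ
  have hle : cj n Q ≤ P' := by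
    rintro _ ⟨q, hq, rfl⟩
    exact hnQ q hq
  have heq : cj n Q = P' := Subgroup.eq_of_le_of_card_ge hle (by rw [card_cj', hcard])
  refine ⟨n⁻¹, K.inv_mem hn, ?_⟩
  rw [← heq, cj_inv_cj']

end

end Cfsg.Agent.Lib.Helper4
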