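import Mathlib

set_option autoImplicit false

namespace Cfsg.Agent.Lib.Helper4

open Matrix Polynomial

/-- A nilpotent `d × d` matrix over a field satisfies `N ^ d = 0`. -/
theorem nilpotent_pow_card_eq_zero {F : Type*} [Field F] {n : Type*} [Fintype n] [DecidableEq n]
    (N : Matrix n n F) (hN : IsNilpotent N) : N ^ Fintype.card n = 0 := by
  have h1 := Matrix.isNilpotent_charpoly_sub_pow_of_isNilpotent hN
  have h2 : N.charpoly - X ^ Fintype.card n = 0 := h1.eq_zero
  have h3 : N.charpoly = X ^ Fintype.card n := sub_eq_zero.1 h2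
  have h4 := Matrix.aeval_self_charpoly N
  rw [h3] at h4
  simpa using h4

/-- `(1 + N)^(p^k) = 1 + N^(p^k)` in characteristic `p`. -/
theorem one_add_pow_char_pow {F : Type*} [Field F] (p : ℕ) [Fact p.Prime] [CharP F p] {d : ℕ} [NeZero d]
    (N : Matrix (Fin d) (Fin d) F) (k : ℕ) : (1 + N) ^ (p ^ k) = 1 + N ^ (p ^ k) := by
  have := add_pow_char_pow_of_commute (p := p) (n := k) (Commute.one_left N)
  rw [this, one_pow]

end Cfsg.Agent.Lib.Helper4

namespace Cfsg.Agent.Lib.Helper4

open Matrix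

theorem unipotent_order {F : Type*} [Field F] (p : ℕ) [hp : Fact p.Prime] [CharP F p] (d : ℕ)
    (u : GL (Fin d) F) (hu : IsNilpotent ((u : Matrix (Fin d) (Fin d) F) - 1)) :
    orderOf u ∣ p ^ Nat.clog p d ∧
    (((u : Matrix (Fin d) (Fin d) F) - 1) ^ (d - 1) ≠ 0 → orderOf u = p ^ Nat.clog p d) := by
  rcases Nat.eq_zero_or_pos d with rfl | hd
  · have : u = 1 := Subsingleton.elim _ _
    subst this
    simp
  · have : NeZero d := ⟨hd.ne'⟩
    set N : Matrix (Fin d) (Fin d) F := (u : Matrix (Fin d) (Fin d) F) - 1 with hN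
    have huN : (u : Matrix (Fin d) (Fin d) F) = 1 + N := by rw [hN]; abel
    have hNd : N ^ d = 0 := by
      have := nilpotent_pow_card_eq_zero N hu
      simpa using this
    have hpow : ∀ k : ℕ, ((u ^ (p ^ k) : GL (Fin d) F) : Matrix (Fin d) (Fin d) F) = 1 + N ^ (p ^ k) := by
      intro k
      rw [Units.val_pow_eq_pow_val, huN, one_add_pow_char_pow]
    have hone : u ^ (p ^ Nat.clog p d) = 1 := by
      apply Units.ext
      rw [hpow, Units.val_one]
      have : N ^ (p ^ Nat.clog p d) = 0 := pow_eq_zero_of_le (Nat.le_pow_clog hp.out.one_lt d) hNd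
      rw [this, add_zero]
    have hdvd : orderOf u ∣ p ^ Nat.clog p d := orderOf_dvd_of_pow_eq_one hone
    refine ⟨hdvd, fun hne => ?_⟩
    obtain ⟨j, hj, hju⟩ := (Nat.dvd_prime_pow hp.out).1 hdvd
    rcases Nat.lt_or_ge j (Nat.clog p d) with hlt | hge
    · exfalso
      have hlt' : p ^ j < d := Nat.pow_lt_of_lt_clog hlt
      have h1 : u ^ (p ^ j) = 1 := by rw [← hju]; exact pow_orderOf_eq_one u
      have h2 := hpow j
      rw [h1, Units.val_one] at h2
      have h3 : N ^ (p ^ j) = 0 := by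
        have := congrArg (fun M => M - 1) h2
        simpa using this.symm
      apply hne
      exact pow_eq_zero_of_le (by omega) h3
    · rw [hju, le_antisymm hj hge]

end Cfsg.Agent.Lib.Helper4
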