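import Cfsg.Agent.Lib.Helper4.Frobenius

set_option autoImplicit false
set_option linter.unusedSectionVars false

namespace Cfsg.Agent.Lib.Helper4

open Cfsg

section
variable {G : Type*} [Group G] [Finite G] (p : ℕ) [hp : Fact p.Prime]

theorem hasNormalPComplement_of_normal_hall (K : Subgroup G) [K.Normal] (hcard : (Nat.card K).Coprime p)
    (hK : IsPGroup p (G ⧸ K)) : HasNormalPComplement p G := by
  obtain ⟨a, ha⟩ := (IsPGroup.iff_card).1 hK
  have hidx : K.index = p ^ a := by rw [Subgroup.index_eq_card]; exact ha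
  exact hasNormalPComplement_of_card_index p K hcard a hidx

theorem hasNormalPComplement_iff_normal_hall :
    HasNormalPComplement p G ↔
      ∃ (K : Subgroup G) (_ : K.Normal), (Nat.card K).Coprime p ∧ IsPGroup p (G ⧸ K) := by
  constructor
  · exact exists_normal_hall_of_hasNormalPComplement p
  · rintro ⟨K, hKn, hc, hq⟩
    exact hasNormalPComplement_of_normal_hall p K hc hq

/-- Normal `p`-complements pass to subgroups. -/
theorem hasNormalPComplement_subgroup (h : HasNormalPComplement p G) (H : Subgroup G) :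
    HasNormalPComplement p H := by
  obtain ⟨K, hKn, hc, hq⟩ := exists_normal_hall_of_hasNormalPComplement p h
  have hmem : ∀ g : G, g ∈ K ↔ (orderOf g).Coprime p := mem_iff_coprime_of_normal_hall p K hc hq
  have hn : (K.subgroupOf H).Normal := inferInstance
  have hcard : (Nat.card (K.subgroupOf H)).Coprime p := by
    have h1 : Nat.card (K.subgroupOf H) ∣ Nat.card K := by
      have : Nat.card (K.subgroupOf H) = Nat.card (K ⊓ H : Subgroup G) := by
        rw [← Subgroup.card_map_of_injective H.subtype_injective, Subgroup.subgroupOf_map_subtype]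
      rw [this]
      exact Subgroup.card_dvd_of_le inf_le_left
    exact Nat.Coprime.coprime_dvd_left h1 hc
  refine hasNormalPComplement_of_normal_hall p (K.subgroupOf H) hcard ?_
  apply isPGroup_quotient_of_coprime_mem
  intro g hg
  rw [Subgroup.mem_subgroupOf, hmem, Subgroup.orderOf_coe]
  exact hg

/-- If every `p`-local subgroup has a normal `p`-complement, Frobenius' hypothesis holds. -/
theorem frobHyp_of_local
    (h : ∀ Q : Subgroup G, IsPGroup p Q → Q ≠ ⊥ →
      HasNormalPComplement p (Subgroup.normalizer (Q : Set G))) : FrobHyp p G := by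
  intro Q hQ g hg hgp
  by_cases hQ1 : Q = ⊥
  · rw [hQ1, Subgroup.mem_centralizer_iff]
    intro q hq
    have : q = 1 := hq
    rw [this]; simp
  · have hloc := h Q hQ hQ1
    set M : Subgroup G := Subgroup.normalizer (Q : Set G) with hM
    obtain ⟨K, hKn, hc, hq⟩ := exists_normal_hall_of_hasNormalPComplement p hloc
    have hmem := mem_iff_coprime_of_normal_hall p K hc hq
    have hgK : (⟨g, hg⟩ : M) ∈ K := by
      rw [hmem, Subgroup.orderOf_mk]; exact hgp
    rw [Subgroup.mem_centralizer_iff]
    intro q hqQ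
    have hqM : q ∈ M := Subgroup.le_normalizer hqQ
    have h1 : g * q * g⁻¹ ∈ Q := (Subgroup.mem_normalizer_iff.1 hg q).1 hqQ
    -- the commutator lies in K and in Q
    set c : M := ⟨g, hg⟩ * ⟨q, hqM⟩ * (⟨g, hg⟩)⁻¹ * (⟨q, hqM⟩)⁻¹ with hcdef
    have hcK : c ∈ K := by
      have : c = ⟨g, hg⟩ * (⟨q, hqM⟩ * (⟨g, hg⟩)⁻¹ * (⟨q, hqM⟩)⁻¹) := by rw [hcdef]; group
      rw [this]
      exact K.mul_mem hgK (hKn.conj_mem _ (K.inv_mem hgK) _)
    have hcQ : (c : G) ∈ Q := by
      have : (c : G) = g * q * g⁻¹ * q⁻¹ := by rw [hcdef]; simp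
      rw [this]
      exact Q.mul_mem h1 (Q.inv_mem hqQ)
    have hc1 : c = 1 := by
      have h2 : (orderOf c).Coprime p := (hmem c).1 hcK
      have h3 : orderOf c = orderOf (c : G) := (Subgroup.orderOf_coe c).symm
      obtain ⟨j, hj⟩ := hQ ⟨(c : G), hcQ⟩
      have hj' : (c : G) ^ (p ^ j) = 1 := by
        have := congrArg (fun z : Q => (z : G)) hj
        simpa using this
      have h4 : orderOf (c : G) ∣ p ^ j := orderOf_dvd_of_pow_eq_one hj'
      rw [h3] at h2
      have h5 : (orderOf (c : G)).Coprime (p ^ j) := Nat.Coprime.pow_right j h2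
      have h6 : orderOf (c : G) = 1 := Nat.Coprime.eq_one_of_dvd h5 h4
      have h7 : (c : G) = 1 := orderOf_eq_one_iff.1 h6
      exact Subtype.ext h7
    have h8 : g * q * g⁻¹ * q⁻¹ = 1 := by
      have : (c : G) = g * q * g⁻¹ * q⁻¹ := by rw [hcdef]; simp
      rw [← this, hc1]; rfl
    have e : g * q = (g * q * g⁻¹ * q⁻¹) * (q * g) := by group
    rw [e, h8, one_mul]

/-- Frobenius: local form. -/
theorem hasNormalPComplement_of_local
    (h : ∀ Q : Subgroup G, IsPGroup p Q → Q ≠ ⊥ →
      HasNormalPComplement p (Subgroup.normalizer (Q : Set G))) : HasNormalPComplement p G := by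
  obtain ⟨K, hKn, hc, hq⟩ := frob_hasNormalPComplement p (Nat.card G) G rfl (frobHyp_of_local p h)
  exact hasNormalPComplement_of_normal_hall p K hc hq

end

end Cfsg.Agent.Lib.Helper4
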