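import Mathlib

set_option autoImplicit false

namespace Cfsg.Agent.Lib.Helper4

section
variable {G : Type*} [Group G]

/-- Left conjugation of a set: `A ↦ g A g⁻¹`. -/
def lc (g : G) (A : Set G) : Set G := (fun a => g * a * g⁻¹) '' A

theorem mem_lc_iff (g : G) (A : Set G) (y : G) : y ∈ lc g A ↔ g⁻¹ * y * g ∈ A := by
  constructor
  · rintro ⟨a, ha, rfl⟩
    simpa [mul_assoc] using ha
  · intro h
    exact ⟨g⁻¹ * y * g, h, by simp [mul_assoc]⟩

theorem conj_mem_lc (g : G) {A : Set G} {a : G} (ha : a ∈ A) : g * a * g⁻¹ ∈ lc g A := ⟨a, ha, rfl⟩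

theorem lc_one (A : Set G) : lc 1 A = A := by
  ext y; simp [mem_lc_iff]

theorem lc_mul (x g : G) (A : Set G) : lc (x * g) A = lc x (lc g A) := by
  ext y
  simp only [mem_lc_iff]
  have : (x * g)⁻¹ * y * (x * g) = g⁻¹ * (x⁻¹ * y * x) * g := by group
  rw [this]

theorem lc_mono (g : G) {A B : Set G} (h : A ⊆ B) : lc g A ⊆ lc g B := Set.image_mono h

theorem lc_congr {c h : G} {A : Set G} (hch : ∀ a ∈ A, c * a * c⁻¹ = h * a * h⁻¹) : lc c A = lc h A := by
  ext y
  constructor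
  · rintro ⟨a, ha, rfl⟩
    exact ⟨a, ha, (hch a ha).symm⟩
  · rintro ⟨a, ha, rfl⟩
    exact ⟨a, ha, hch a ha⟩

/-- `c` is reached from `1` by steps in `N`, all intermediate conjugates of `A` staying in `T`. -/
inductive LReach (N : Set G) (T : Set G) (A : Set G) : G → Prop
  | base : A ⊆ T → LReach N T A 1
  | step (c e : G) : LReach N T A c → e ∈ N → lc (e * c) A ⊆ T → LReach N T A (e * c)

theorem LReach.sub {N T A : Set G} {c : G} (h : LReach N T A c) : A ⊆ T := by
  induction h with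
  | base h => exact h
  | step c e _ _ _ ih => exact ih

theorem LReach.image_sub {N T A : Set G} {c : G} (h : LReach N T A c) : lc c A ⊆ T := by
  cases h with
  | base h => rwa [lc_one]
  | step c e _ _ h3 => exact h3

theorem LReach.mono {N T A A' : Set G} {c : G} (h : LReach N T A c) (hA : A' ⊆ A) : LReach N T A' c := by
  induction h with
  | base h => exact LReach.base (hA.trans h)
  | step c e _ he h3 ih => exact LReach.step c e ih he ((lc_mono _ hA).trans h3)

theorem LReach.trans {N T A : Set G} {c₁ c₂ : G} (h1 : LReach N T A c₁) (h2 : LReach N T (lc c₁ A) c₂) :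
    LReach N T A (c₂ * c₁) := by
  induction h2 with
  | base _ => rwa [one_mul]
  | step c e _ he h3 ih =>
    rw [mul_assoc]
    refine LReach.step (c * c₁) e ih he ?_
    rw [← mul_assoc, lc_mul]
    exact h3

theorem LReach.single {N T A : Set G} {e : G} (hA : A ⊆ T) (he : e ∈ N) (hAe : lc e A ⊆ T) :
    LReach N T A e := by
  have := LReach.step 1 e (LReach.base hA) he (by rwa [mul_one])
  rwa [mul_one] at this

theorem LReach.symm {N T A : Set G} (hN : ∀ e ∈ N, e⁻¹ ∈ N) {c : G} (h : LReach N T A c) :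
    LReach N T (lc c A) c⁻¹ := by
  induction h with
  | base h => simpa [lc_one] using LReach.base (N := N) h
  | step c e hc he h3 ih =>
    have h4 : LReach N T (lc (e * c) A) e⁻¹ := by
      refine LReach.single h3 (hN e he) ?_
      rw [← lc_mul, inv_mul_cancel_left]
      exact hc.image_sub
    have h5 : lc e⁻¹ (lc (e * c) A) = lc c A := by
      rw [← lc_mul, inv_mul_cancel_left]
    rw [mul_inv_rev]
    apply LReach.trans h4
    rw [h5]
    exact ih

/-- `h` agrees on `A` with some reachable element. -/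
def GoodPair (N : Set G) (T : Set G) (A : Set G) (h : G) : Prop :=
  ∃ c, LReach N T A c ∧ ∀ a ∈ A, c * a * c⁻¹ = h * a * h⁻¹

theorem GoodPair.mono {N T A A' : Set G} {h : G} (hg : GoodPair N T A h) (hA : A' ⊆ A) : GoodPair N T A' h := by
  obtain ⟨c, hc, hch⟩ := hg
  exact ⟨c, hc.mono hA, fun a ha => hch a (hA ha)⟩

theorem GoodPair.trans {N T A : Set G} {h₁ h₂ : G} (hg1 : GoodPair N T A h₁) (hg2 : GoodPair N T (lc h₁ A) h₂) :
    GoodPair N T A (h₂ * h₁) := by
  obtain ⟨c₁, hc₁, hch₁⟩ := hg1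
  obtain ⟨c₂, hc₂, hch₂⟩ := hg2
  refine ⟨c₂ * c₁, hc₁.trans (by rw [lc_congr hch₁]; exact hc₂), fun a ha => ?_⟩
  have h1 := hch₁ a ha
  have h2 := hch₂ (h₁ * a * h₁⁻¹) (conj_mem_lc h₁ ha)
  have h3 : c₂ * c₁ * a * (c₂ * c₁)⁻¹ = c₂ * (c₁ * a * c₁⁻¹) * c₂⁻¹ := by group
  rw [h3, h1, h2]
  group

theorem GoodPair.symm {N T A : Set G} (hN : ∀ e ∈ N, e⁻¹ ∈ N) {h : G} (hg : GoodPair N T A h) :
    GoodPair N T (lc h A) h⁻¹ := by
  obtain ⟨c, hc, hch⟩ := hg
  refine ⟨c⁻¹, by rw [← lc_congr hch]; exact hc.symm hN, ?_⟩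
  rintro _ ⟨a, ha, rfl⟩
  have h1 := hch a ha
  show c⁻¹ * (h * a * h⁻¹) * c⁻¹⁻¹ = h⁻¹ * (h * a * h⁻¹) * h⁻¹⁻¹
  have e1 : c⁻¹ * (h * a * h⁻¹) * c⁻¹⁻¹ = a := by rw [← h1]; group
  have e2 : h⁻¹ * (h * a * h⁻¹) * h⁻¹⁻¹ = a := by group
  rw [e1, e2]

theorem GoodPair.congr {N T A : Set G} {h h' : G} (hg : GoodPair N T A h)
    (hh : ∀ a ∈ A, h * a * h⁻¹ = h' * a * h'⁻¹) : GoodPair N T A h' := by
  obtain ⟨c, hc, hch⟩ := hg
  exact ⟨c, hc, fun a ha => (hch a ha).trans (hh a ha)⟩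

theorem GoodPair.one {N T A : Set G} (hA : A ⊆ T) : GoodPair N T A 1 :=
  ⟨1, LReach.base hA, fun _ _ => rfl⟩

/-- From a reachable element to an explicit indexed chain. -/
theorem LReach.toChain {N T A : Set G} {c : G} (h : LReach N T A c) :
    ∃ (n : ℕ) (f : ℕ → G), f 0 = 1 ∧ (∀ i < n, f (i + 1) * (f i)⁻¹ ∈ N) ∧
      (∀ i ≤ n, lc (f i) A ⊆ T) ∧ f n = c := by
  induction h with
  | base h =>
    refine ⟨0, fun _ => 1, rfl, fun i hi => absurd hi (Nat.not_lt_zero i), fun i _ => by rwa [lc_one], rfl⟩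
  | step c e _ he h3 ih =>
    obtain ⟨n, f, hf0, hfs, hfi, hfn⟩ := ih
    classical
    refine ⟨n + 1, Function.update f (n + 1) (e * c), ?_, ?_, ?_, ?_⟩
    · rw [Function.update_of_ne (by omega)]; exact hf0
    · intro i hi
      rcases Nat.lt_succ_iff_lt_or_eq.1 hi with hlt | rfl
      · rw [Function.update_of_ne (by omega), Function.update_of_ne (by omega)]
        exact hfs i hlt
      · rw [Function.update_self, Function.update_of_ne (by omega), hfn]
        simpa using he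
    · intro i hi
      rcases Nat.lt_succ_iff_lt_or_eq.1 (Nat.lt_succ_of_le hi) with hlt | rfl
      · rw [Function.update_of_ne (by omega)]
        exact hfi i (by omega)
      · rw [Function.update_self]; exact h3
    · rw [Function.update_self]

/-- From an explicit indexed chain to a reachable element. -/
theorem LReach.ofChain {N T A : Set G} (n : ℕ) (f : ℕ → G) (hf0 : f 0 = 1)
    (hfs : ∀ i < n, f (i + 1) * (f i)⁻¹ ∈ N) (hfi : ∀ i ≤ n, lc (f i) A ⊆ T) :
    ∀ i ≤ n, LReach N T A (f i) := by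
  intro i
  induction i with
  | zero =>
    intro _
    rw [hf0]
    have := hfi 0 (Nat.zero_le n)
    rw [hf0, lc_one] at this
    exact LReach.base this
  | succ i ih =>
    intro hi
    have h1 := ih (by omega)
    have h2 := LReach.step (f i) (f (i + 1) * (f i)⁻¹) h1 (hfs i (by omega)) (by
      rw [inv_mul_cancel_right]; exact hfi (i + 1) hi)
    rwa [inv_mul_cancel_right] at h2

end

end Cfsg.Agent.Lib.Helper4

namespace Cfsg.Agent.Lib.Helper4

section
variable {G : Type*} [Group G]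

theorem LReach.mono_NT {N N' T T' A : Set G} {c : G} (h : LReach N T A c) (hN : N ⊆ N') (hT : T ⊆ T') :
    LReach N' T' A c := by
  induction h with
  | base h => exact LReach.base (h.trans hT)
  | step c e _ he h3 ih => exact LReach.step c e ih (hN he) (h3.trans hT)

theorem LReach.conj {N T A : Set G} {c : G} (k : G) (h : LReach N T A c) :
    LReach (lc k N) (lc k T) (lc k A) (k * c * k⁻¹) := by
  induction h with
  | base h =>
    have : k * 1 * k⁻¹ = 1 := by group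
    rw [this]
    exact LReach.base (lc_mono k h)
  | step c e _ he h3 ih =>
    have h1 : k * (e * c) * k⁻¹ = (k * e * k⁻¹) * (k * c * k⁻¹) := by group
    rw [h1]
    refine LReach.step _ _ ih (conj_mem_lc k he) ?_
    rw [← h1, ← lc_mul]
    have h2 : k * (e * c) * k⁻¹ * k = k * (e * c) := by group
    rw [h2, lc_mul]
    exact lc_mono k h3

theorem GoodPair.mono_NT {N N' T T' A : Set G} {h : G} (hg : GoodPair N T A h) (hN : N ⊆ N') (hT : T ⊆ T') :
    GoodPair N' T' A h := by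
  obtain ⟨c, hc, hch⟩ := hg
  exact ⟨c, hc.mono_NT hN hT, hch⟩

theorem GoodPair.conj {N T A : Set G} {h : G} (k : G) (hg : GoodPair N T A h) :
    GoodPair (lc k N) (lc k T) (lc k A) (k * h * k⁻¹) := by
  obtain ⟨c, hc, hch⟩ := hg
  refine ⟨k * c * k⁻¹, hc.conj k, ?_⟩
  rintro _ ⟨a, ha, rfl⟩
  have h1 := hch a ha
  have h2 : k * c * k⁻¹ * (k * a * k⁻¹) * (k * c * k⁻¹)⁻¹ = k * (c * a * c⁻¹) * k⁻¹ := by group
  have h3 : k * h * k⁻¹ * (k * a * k⁻¹) * (k * h * k⁻¹)⁻¹ = k * (h * a * h⁻¹) * k⁻¹ := by group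
  show k * c * k⁻¹ * (k * a * k⁻¹) * (k * c * k⁻¹)⁻¹ = k * h * k⁻¹ * (k * a * k⁻¹) * (k * h * k⁻¹)⁻¹
  rw [h2, h3, h1]

theorem goodPair_of_finChain {N T A : Set G} {h : G} (n : ℕ) (c : Fin (n + 1) → G) (h0 : c 0 = 1)
    (hs : ∀ i : Fin n, c i.succ * (c i.castSucc)⁻¹ ∈ N)
    (hi : ∀ i : Fin (n + 1), (fun a => c i * a * (c i)⁻¹) '' A ⊆ T)
    (hl : ∀ a ∈ A, c (Fin.last n) * a * (c (Fin.last n))⁻¹ = h * a * h⁻¹) : GoodPair N T A h := by
  let f : ℕ → G := fun i => if hi : i < n + 1 then c ⟨i, hi⟩ else 1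
  have hf : ∀ (i : ℕ) (hi : i < n + 1), f i = c ⟨i, hi⟩ := fun i hi => dif_pos hi
  have hr := LReach.ofChain (N := N) (T := T) (A := A) n f (by rw [hf 0 (by omega)]; exact h0)
    (by
      intro i hi'
      rw [hf (i + 1) (by omega), hf i (by omega)]
      exact hs ⟨i, hi'⟩)
    (by
      intro i hi'
      rw [hf i (by omega)]
      exact hi ⟨i, by omega⟩) n le_rfl
  refine ⟨f n, hr, ?_⟩
  rw [hf n (by omega)]
  exact hl

theorem finChain_of_goodPair {N T A : Set G} {h : G} (hg : GoodPair N T A h) :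
    ∃ (n : ℕ) (c : Fin (n + 1) → G), c 0 = 1 ∧
      (∀ i : Fin n, c i.succ * (c i.castSucc)⁻¹ ∈ N) ∧
      (∀ i : Fin (n + 1), (fun a => c i * a * (c i)⁻¹) '' A ⊆ T) ∧
      ∀ a ∈ A, c (Fin.last n) * a * (c (Fin.last n))⁻¹ = h * a * h⁻¹ := by
  obtain ⟨c, hc, hch⟩ := hg
  obtain ⟨n, f, hf0, hfs, hfi, hfn⟩ := hc.toChain
  refine ⟨n, fun i => f i.val, ?_, ?_, ?_, ?_⟩
  · simpa using hf0
  · intro i
    simpa using hfs i.val i.2
  · intro i
    exact hfi i.val (by omega)
  · intro a ha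
    simp only [Fin.val_last]
    rw [hfn]
    exact hch a ha

end

end Cfsg.Agent.Lib.Helper4
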