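import Mathlib
import Cfsg.Agent.Lib.Helper4.ConjSub
import Cfsg.Agent.Lib.Helper4.SylowRel

set_option autoImplicit false

namespace Cfsg.Agent.Lib.Helper4

section
variable {G : Type*} [Group G]

/-- Right conjugation of a set: `A ↦ g⁻¹ A g`. -/
def rc (g : G) (A : Set G) : Set G := (fun a => g⁻¹ * a * g) '' A

theorem mem_rc_iff (g : G) (A : Set G) (y : G) : y ∈ rc g A ↔ g * y * g⁻¹ ∈ A := by
  constructor
  · rintro ⟨a, ha, rfl⟩
    simpa [mul_assoc] using ha
  · intro h
    exact ⟨g * y * g⁻¹, h, by simp [mul_assoc]⟩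

theorem rc_one (A : Set G) : rc 1 A = A := by
  ext y; simp [mem_rc_iff]

theorem rc_mul (x g : G) (A : Set G) : rc (x * g) A = rc g (rc x A) := by
  ext y
  simp only [mem_rc_iff]
  have : x * g * y * (x * g)⁻¹ = x * (g * y * g⁻¹) * x⁻¹ := by group
  rw [this]

theorem rc_mono (g : G) {A B : Set G} (h : A ⊆ B) : rc g A ⊆ rc g B := Set.image_mono h

theorem rc_inv_rc (g : G) (A : Set G) : rc g⁻¹ (rc g A) = A := by
  rw [← rc_mul, mul_inv_cancel, rc_one]

theorem rc_subgroup (g : G) (B : Subgroup G) : rc g (B : Set G) = ((cj g⁻¹ B : Subgroup G) : Set G) := by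
  ext y
  rw [mem_rc_iff, SetLike.mem_coe, SetLike.mem_coe, mem_cj_iff, inv_inv]

theorem rc_normalizer {T : Subgroup G} {x : G} (hx : x ∈ Subgroup.normalizer (T : Set G)) :
    rc x (T : Set G) = (T : Set G) := by
  ext y
  rw [mem_rc_iff, SetLike.mem_coe, SetLike.mem_coe]
  exact ((Subgroup.mem_normalizer_iff.1 hx) y).symm

/-- `g` is a product of elements of normalizers of members of `𝓕` conjugating `A` step by step
inside the members. -/
inductive Fuses (𝓕 : Set (Subgroup G)) : Set G → G → Prop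
  | nil (A : Set G) : Fuses 𝓕 A 1
  | cons (A : Set G) (T : Subgroup G) (x g : G) : T ∈ 𝓕 →
      x ∈ Subgroup.normalizer (T : Set G) → A ⊆ (T : Set G) → Fuses 𝓕 (rc x A) g → Fuses 𝓕 A (x * g)

theorem Fuses.mono {𝓕 : Set (Subgroup G)} {A A' : Set G} {g : G} (h : Fuses 𝓕 A g) (hA : A' ⊆ A) :
    Fuses 𝓕 A' g := by
  induction h generalizing A' with
  | nil A => exact Fuses.nil A'
  | cons A T x g hT hx hAT _ ih =>
    exact Fuses.cons A' T x g hT hx (hA.trans hAT) (ih (rc_mono x hA))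

theorem Fuses.trans {𝓕 : Set (Subgroup G)} {A : Set G} {g1 g2 : G} (h1 : Fuses 𝓕 A g1)
    (h2 : Fuses 𝓕 (rc g1 A) g2) : Fuses 𝓕 A (g1 * g2) := by
  induction h1 with
  | nil A => simpa [rc_one] using h2
  | cons A T x g hT hx hAT _ ih =>
    rw [mul_assoc]
    refine Fuses.cons A T x (g * g2) hT hx hAT (ih ?_)
    rwa [rc_mul] at h2

theorem Fuses.single {𝓕 : Set (Subgroup G)} {A : Set G} {T : Subgroup G} {x : G} (hT : T ∈ 𝓕)
    (hx : x ∈ Subgroup.normalizer (T : Set G)) (hAT : A ⊆ (T : Set G)) : Fuses 𝓕 A x := by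
  have := Fuses.cons A T x 1 hT hx hAT (Fuses.nil _)
  rwa [mul_one] at this

theorem Fuses.symm {𝓕 : Set (Subgroup G)} {A : Set G} {g : G} (h : Fuses 𝓕 A g) :
    Fuses 𝓕 (rc g A) g⁻¹ := by
  induction h with
  | nil A => simpa using Fuses.nil (𝓕 := 𝓕) (rc 1 A)
  | cons A T x g hT hx hAT _ ih =>
    rw [rc_mul, mul_inv_rev]
    apply Fuses.trans ih
    rw [rc_inv_rc]
    refine Fuses.single hT (inv_mem hx) ?_
    rw [← rc_normalizer hx]
    exact rc_mono x hAT

theorem Fuses.toFamily {𝓕 : Set (Subgroup G)} {A : Set G} {g : G} (h : Fuses 𝓕 A g) :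
    ∃ (n : ℕ) (T : Fin n → Subgroup G) (x : Fin n → G), (List.ofFn x).prod = g ∧
      (∀ i, T i ∈ 𝓕) ∧ (∀ i, x i ∈ Subgroup.normalizer ((T i : Subgroup G) : Set G)) ∧
      (∀ h : 0 < n, A ⊆ T ⟨0, h⟩) ∧
      ∀ (i : Fin n) (h : i.val + 1 < n),
        (fun a => (((List.ofFn x).take (i.val + 1)).prod)⁻¹ * a * ((List.ofFn x).take (i.val + 1)).prod) '' A ⊆
          T ⟨i.val + 1, h⟩ := by
  induction h with
  | nil A =>
    refine ⟨0, Fin.elim0, Fin.elim0, by simp, fun i => i.elim0, fun i => i.elim0, fun h => absurd h (lt_irrefl 0),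
      fun i => i.elim0⟩
  | cons A T x g hT hx hAT _ ih =>
    obtain ⟨n, T', x', hprod, hT', hx', h0, hstep⟩ := ih
    refine ⟨n + 1, Fin.cons T T', Fin.cons x x', ?_, ?_, ?_, ?_, ?_⟩
    · rw [List.ofFn_succ]
      simp [hprod]
    · intro i
      refine Fin.cases ?_ (fun j => ?_) i
      · simpa using hT
      · simpa using hT' j
    · intro i
      refine Fin.cases ?_ (fun j => ?_) i
      · simpa using hx
      · simpa using hx' j
    · intro _
      exact hAT
    · intro i hi
      have hofn : List.ofFn (Fin.cons x x' : Fin (n + 1) → G) = x :: List.ofFn x' := by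
        rw [List.ofFn_succ]; simp
      rw [hofn, List.take_succ_cons, List.prod_cons]
      have hTi : (Fin.cons T T' : Fin (n + 1) → Subgroup G) ⟨i.val + 1, hi⟩ = T' ⟨i.val, by omega⟩ := by
        have : (⟨i.val + 1, hi⟩ : Fin (n + 1)) = Fin.succ ⟨i.val, by omega⟩ := rfl
        rw [this, Fin.cons_succ]
      rw [hTi]
      have himg : (fun a => (x * (List.take i.val (List.ofFn x')).prod)⁻¹ * a * (x * (List.take i.val (List.ofFn x')).prod)) '' A
          = rc ((List.take i.val (List.ofFn x')).prod) (rc x A) := by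
        rw [← rc_mul]; rfl
      rw [himg]
      rcases Nat.eq_zero_or_pos i.val with h00 | hpos
      · have hn : 0 < n := by omega
        have := h0 hn
        simp only [h00, List.take_zero, List.prod_nil, rc_one]
        exact this
      · obtain ⟨j, hj⟩ : ∃ j, i.val = j + 1 := ⟨i.val - 1, by omega⟩
        have := hstep ⟨j, by omega⟩ (by simp only; omega)
        simp only [hj]
        exact this

end

end Cfsg.Agent.Lib.Helper4

namespace Cfsg.Agent.Lib.Helper4

section
variable {G : Type*} [Group G]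

/-- In a finite `p`-group `S`, proper subgroups are properly contained in their normalizers. -/
theorem lt_inf_normalizer_of_lt [Finite G] {p : ℕ} [Fact p.Prime] (S : Subgroup G) (hS : IsPGroup p S)
    (C : Subgroup G) (hCS : C < S) : C < S ⊓ Subgroup.normalizer (C : Set G) := by
  have hnil : Group.IsNilpotent S := hS.isNilpotent
  have hNC : NormalizerCondition S := Group.normalizerCondition_of_isNilpotent
  have hlt : C.subgroupOf S < ⊤ := by
    rw [lt_top_iff_ne_top, Ne, Subgroup.subgroupOf_eq_top]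
    exact not_le_of_gt hCS
  have h2 := hNC _ hlt
  obtain ⟨y, hyN, hyC⟩ := SetLike.exists_of_lt h2
  have hle : C ≤ S ⊓ Subgroup.normalizer (C : Set G) := le_inf hCS.le Subgroup.le_normalizer
  apply lt_of_le_of_ne hle
  intro heq
  apply hyC
  rw [Subgroup.mem_subgroupOf, heq]
  refine ⟨y.2, ?_⟩
  show (y : G) ∈ Subgroup.normalizer (C : Set G)
  rw [Subgroup.mem_normalizer_iff]
  intro c
  rw [Subgroup.mem_normalizer_iff] at hyN
  constructor
  · intro hc
    have := (hyN ⟨c, hCS.le hc⟩).1 (by rw [Subgroup.mem_subgroupOf]; exact hc)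
    rw [Subgroup.mem_subgroupOf] at this
    simpa using this
  · intro hc
    have hcS : c ∈ S := by
      have h1 : (y : G) * c * (y : G)⁻¹ ∈ S := hCS.le hc
      have h2 : (y : G)⁻¹ * ((y : G) * c * (y : G)⁻¹) * (y : G) ∈ S :=
        S.mul_mem (S.mul_mem (S.inv_mem y.2) h1) y.2
      have h3 : (y : G)⁻¹ * ((y : G) * c * (y : G)⁻¹) * (y : G) = c := by group
      rwa [h3] at h2
    have := (hyN ⟨c, hcS⟩).2 (by rw [Subgroup.mem_subgroupOf]; simpa using hc)
    rw [Subgroup.mem_subgroupOf] at this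
    exact this

theorem card_cj (g : G) (H : Subgroup G) : Nat.card (cj g H) = Nat.card H :=
  (Nat.card_congr (H.equivMapOfInjective _ (conj_injective g)).toEquiv).symm

/-- Alperin--Goldschmidt: the conjugation family theorem, in terms of `Fuses`. -/
theorem fuses_of_family [Finite G] {p : ℕ} [Fact p.Prime] (S : Sylow p G) (𝓕 : Set (Subgroup G))
    (h : ∀ T : Subgroup G, T ≤ (S : Subgroup G) → ∃ U ∈ 𝓕, U ≤ (S : Subgroup G) ∧ (∃ g : G, cj g T = U) ∧
      ¬ p ∣ ((S : Subgroup G) ⊓ Subgroup.normalizer ((U : Subgroup G) : Set G)).relIndex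
        (Subgroup.normalizer ((U : Subgroup G) : Set G))) :
    ∀ (B : Subgroup G), B ≤ (S : Subgroup G) → ∀ g : G, cj g⁻¹ B ≤ (S : Subgroup G) →
      Fuses 𝓕 (B : Set G) g := by
  -- S itself belongs to the family
  have hS𝓕 : (S : Subgroup G) ∈ 𝓕 := by
    obtain ⟨U, hU, hUS, ⟨g', hg'⟩, -⟩ := h S le_rfl
    have hcard : Nat.card U = Nat.card (S : Subgroup G) := by rw [← hg', card_cj]
    have : U = (S : Subgroup G) := Subgroup.eq_of_le_of_card_ge hUS (le_of_eq hcard.symm)
    rwa [this] at hU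
  intro B
  induction' hd : Nat.card (S : Subgroup G) - Nat.card B using Nat.strong_induction_on with d ih generalizing B
  intro hBS g hg
  by_cases hBeq : B = (S : Subgroup G)
  · -- g normalizes S
    have h1 : cj g⁻¹ (S : Subgroup G) = (S : Subgroup G) := by
      rw [hBeq] at hg
      exact Subgroup.eq_of_le_of_card_ge hg (le_of_eq (card_cj _ _).symm)
    have h2 : g⁻¹ ∈ Subgroup.normalizer ((S : Subgroup G) : Set G) :=
      Subgroup.mem_normalizer_iff_map_conj_eq.2 h1
    have h3 : g ∈ Subgroup.normalizer ((S : Subgroup G) : Set G) := by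
      have := inv_mem h2
      rwa [inv_inv] at this
    rw [hBeq]
    exact Fuses.single hS𝓕 h3 le_rfl
  · have hcardle : ∀ M : Subgroup G, M ≤ (S : Subgroup G) → Nat.card M ≤ Nat.card (S : Subgroup G) :=
      fun M hM => Subgroup.card_le_of_le hM
    have claim1 : ∀ (C : Subgroup G), C ≤ (S : Subgroup G) → C ≠ (S : Subgroup G) → Nat.card C = Nat.card B →
        ∀ (h₀ : G) (U : Subgroup G), U ∈ 𝓕 → cj h₀⁻¹ C = U →
        ¬ p ∣ ((S : Subgroup G) ⊓ Subgroup.normalizer ((U : Subgroup G) : Set G)).relIndex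
          (Subgroup.normalizer ((U : Subgroup G) : Set G)) →
        ∃ n ∈ Subgroup.normalizer ((U : Subgroup G) : Set G), Fuses 𝓕 (C : Set G) (h₀ * n) := by
      intro C hCS hCne hCcard h₀ U hU hCU hidx
      set M : Subgroup G := (S : Subgroup G) ⊓ Subgroup.normalizer (C : Set G) with hM
      have hCM : C < M := lt_inf_normalizer_of_lt (S : Subgroup G) S.2 C (lt_of_le_of_ne hCS hCne)
      have hMS : M ≤ (S : Subgroup G) := inf_le_left
      have hMp : IsPGroup p M := S.2.to_le hMS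
      have hMN : cj h₀⁻¹ M ≤ Subgroup.normalizer ((U : Subgroup G) : Set G) := by
        rw [← hCU, cj_normalizer]
        exact cj_mono _ inf_le_right
      obtain ⟨n', hn'N, hn'⟩ := exists_conj_le_of_relIndex p (Subgroup.normalizer ((U : Subgroup G) : Set G))
        ((S : Subgroup G) ⊓ Subgroup.normalizer ((U : Subgroup G) : Set G)) (cj h₀⁻¹ M)
        (S.2.to_le inf_le_left) hidx hMN (cj_isPGroup p _ hMp)
      refine ⟨n'⁻¹, inv_mem hn'N, ?_⟩
      have hMle : cj (h₀ * n'⁻¹)⁻¹ M ≤ (S : Subgroup G) := by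
        rw [mul_inv_rev, inv_inv, cj_mul]
        rintro _ ⟨q, hq, rfl⟩
        exact (hn' q hq).1
      have hcardM : Nat.card B < Nat.card M := by
        rw [← hCcard]
        by_contra hnot
        push Not at hnot
        exact hCM.ne (Subgroup.eq_of_le_of_card_ge hCM.le hnot)
      have hlt : Nat.card (S : Subgroup G) - Nat.card M < d := by
        have := hcardle M hMS
        omega
      have := ih _ hlt M rfl hMS (h₀ * n'⁻¹) hMle
      exact this.mono hCM.le
    -- apply the hypothesis to the conjugate of B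
    set B₂ : Subgroup G := cj g⁻¹ B with hB₂
    have hB₂card : Nat.card B₂ = Nat.card B := card_cj _ _
    have hB₂ne : B₂ ≠ (S : Subgroup G) := by
      intro heq
      apply hBeq
      apply Subgroup.eq_of_le_of_card_ge hBS
      rw [← hB₂card, heq]
    obtain ⟨U, hU, hUS, ⟨g', hg'⟩, hidx⟩ := h B₂ hg
    obtain ⟨n₂, hn₂, hF₂⟩ := claim1 B₂ hg hB₂ne hB₂card g'⁻¹ U hU (by rw [inv_inv]; exact hg') hidx
    set k₂ := g'⁻¹ * n₂ with hk₂
    have hB₂k₂ : cj k₂⁻¹ B₂ = U := by
      rw [hk₂, mul_inv_rev, inv_inv, cj_mul, hg']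
      exact Subgroup.mem_normalizer_iff_map_conj_eq.1 (inv_mem hn₂)
    have hBU : cj (g * k₂)⁻¹ B = U := by
      rw [mul_inv_rev, cj_mul]; exact hB₂k₂
    obtain ⟨n₁, hn₁, hF₁⟩ := claim1 B hBS hBeq rfl (g * k₂) U hU hBU hidx
    -- assemble: g = (g k₂ n₁) n₁⁻¹ k₂⁻¹
    have hrcB : rc (g * k₂ * n₁) (B : Set G) = (U : Set G) := by
      rw [rc_mul, rc_subgroup, hBU, rc_normalizer hn₁]
    have hstep2 : Fuses 𝓕 (rc (g * k₂ * n₁) (B : Set G)) n₁⁻¹ := by
      rw [hrcB]
      exact Fuses.single hU (inv_mem hn₁) le_rfl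
    have hstep12 := hF₁.trans hstep2
    have hrc2 : rc (g * k₂ * n₁ * n₁⁻¹) (B : Set G) = (U : Set G) := by
      rw [rc_mul, hrcB, rc_normalizer (inv_mem hn₁)]
    have hstep3 : Fuses 𝓕 (rc (g * k₂ * n₁ * n₁⁻¹) (B : Set G)) k₂⁻¹ := by
      rw [hrc2]
      have := hF₂.symm
      rwa [rc_subgroup, hB₂k₂] at this
    have hall := hstep12.trans hstep3
    have hgeq : g * k₂ * n₁ * n₁⁻¹ * k₂⁻¹ = g := by group
    rwa [hgeq] at hall

end

end Cfsg.Agent.Lib.Helper4
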