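import Cfsg.Agent.Lib.Helper4.CoprimeAct

set_option autoImplicit false
set_option linter.unusedSectionVars false

namespace Cfsg.Agent.Lib.Helper4

open scoped Pointwise
open scoped commutatorElement

section
variable {G : Type*} [Group G]

theorem cj_commutator' (g : G) (A B : Subgroup G) : cj g ⁅A, B⁆ = ⁅cj g A, cj g B⁆ :=
  Subgroup.map_commutator A B _

theorem commutator_le_of_le_normalizer (A K : Subgroup G) (hAK : A ≤ Subgroup.normalizer (K : Set G)) :
    ⁅K, A⁆ ≤ K := by
  rw [Subgroup.commutator_le]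
  intro k hk a ha
  rw [commutatorElement_def]
  have : k * a * k⁻¹ * a⁻¹ = k * (a * k⁻¹ * a⁻¹) := by group
  rw [this]
  exact K.mul_mem hk ((Subgroup.mem_normalizer_iff.1 (hAK ha) k⁻¹).1 (K.inv_mem hk))

theorem le_normalizer_commutator_right (A K : Subgroup G) (hAK : A ≤ Subgroup.normalizer (K : Set G)) :
    A ≤ Subgroup.normalizer ((⁅K, A⁆ : Subgroup G) : Set G) := by
  intro a ha
  rw [Subgroup.mem_normalizer_iff_map_conj_eq]
  show cj a ⁅K, A⁆ = ⁅K, A⁆
  rw [cj_commutator', cj_eq_of_mem_normalizer_aux (hAK ha), cj_self_of_mem' ha]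
where
  cj_eq_of_mem_normalizer_aux {X : Subgroup G} {g : G} (hg : g ∈ Subgroup.normalizer (X : Set G)) :
    cj g X = X := Subgroup.mem_normalizer_iff_map_conj_eq.1 hg

theorem le_normalizer_commutator_left [Finite G] (A K : Subgroup G) :
    K ≤ Subgroup.normalizer ((⁅K, A⁆ : Subgroup G) : Set G) := by
  intro x hx
  rw [Subgroup.mem_normalizer_iff_map_conj_eq]
  show cj x ⁅K, A⁆ = ⁅K, A⁆
  have hle : cj x ⁅K, A⁆ ≤ ⁅K, A⁆ := by
    rw [cj_def, Subgroup.commutator_def, MonoidHom.map_closure, Subgroup.closure_le]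
    rintro _ ⟨_, ⟨k, hk, a, ha, rfl⟩, rfl⟩
    have e : (MulAut.conj x).toMonoidHom ⁅k, a⁆ = ⁅x * k, a⁆ * ⁅x, a⁆⁻¹ := by
      simp only [MulEquiv.coe_toMonoidHom, MulAut.conj_apply, commutatorElement_def]
      group
    rw [e]
    rw [← Subgroup.commutator_def]
    exact Subgroup.mul_mem _ (Subgroup.commutator_mem_commutator (K.mul_mem hx hk) ha)
      (Subgroup.inv_mem _ (Subgroup.commutator_mem_commutator hx ha))
  exact Subgroup.eq_of_le_of_card_ge hle (by rw [card_cj'])

end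

end Cfsg.Agent.Lib.Helper4
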