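import Mathlib

set_option autoImplicit false
set_option linter.unusedSectionVars false

namespace Cfsg.Agent.Lib.Helper4

open scoped Pointwise commutatorElement

section bridge
variable (A : Type*) (G : Type*) [Group A] [Group G] [MulDistribMulAction A G]

/-- The semidirect product attached to an action by automorphisms. -/
abbrev abΓ := G ⋊[MulDistribMulAction.toMulAut A G] A

/-- the embedding of the acted-on group -/
abbrev abInl : G →* abΓ A G := SemidirectProduct.inl

/-- the embedding of the acting group -/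
abbrev abInr : A →* abΓ A G := SemidirectProduct.inr

/-- copy of the acted-on group inside the semidirect product -/
def abK : Subgroup (abΓ A G) := (⊤ : Subgroup G).map (abInl A G)

/-- copy of the acting group inside the semidirect product -/
def abA : Subgroup (abΓ A G) := (abInr A G).range

/-- the subgroup of fixed points -/
def abFix : Subgroup G where
  carrier := MulAction.fixedPoints A G
  one_mem' := fun a => smul_one a
  mul_mem' := fun {x y} hx hy a => by rw [smul_mul', hx a, hy a]
  inv_mem' := fun {x} hx a => by rw [smul_inv', hx a]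

instance ab_finite [Finite A] [Finite G] : Finite (abΓ A G) :=
  Finite.of_equiv _ SemidirectProduct.equivProd.symm

variable {A G}

theorem mem_abFix {g : G} : g ∈ abFix A G ↔ ∀ a : A, a • g = g := Iff.rfl

theorem coe_abFix : (abFix A G : Set G) = MulAction.fixedPoints A G := rfl

theorem ab_inl_injective : Function.Injective (abInl A G) := SemidirectProduct.inl_injective

theorem ab_inr_injective : Function.Injective (abInr A G) := SemidirectProduct.inr_injective

theorem ab_conj (a : A) (g : G) :
    (abInr A G a) * (abInl A G g) * (abInr A G a)⁻¹ = abInl A G (a • g) := by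
  have h := SemidirectProduct.inl_aut (φ := MulDistribMulAction.toMulAut A G) a g
  rw [← map_inv]
  exact h.symm

theorem ab_mem_abA {x : abΓ A G} : x ∈ abA A G ↔ ∃ a : A, abInr A G a = x := MonoidHom.mem_range

theorem ab_mem_abK {x : abΓ A G} : x ∈ abK A G ↔ ∃ g : G, abInl A G g = x := by
  unfold abK
  rw [Subgroup.mem_map]
  constructor
  · rintro ⟨g, -, h⟩; exact ⟨g, h⟩
  · rintro ⟨g, h⟩; exact ⟨g, Subgroup.mem_top g, h⟩

theorem abK_eq_range : abK A G = (abInl A G).range := by
  unfold abK; rw [MonoidHom.range_eq_map]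

instance abK_normal : (abK A G).Normal := by
  rw [abK_eq_range, SemidirectProduct.range_inl_eq_ker_rightHom]
  exact MonoidHom.normal_ker _

theorem abA_le_normalizer : abA A G ≤ Subgroup.normalizer (abK A G : Set (abΓ A G)) := by
  rw [Subgroup.normalizer_eq_top]; exact le_top

theorem card_abK : Nat.card (abK A G) = Nat.card G := by
  unfold abK
  rw [Subgroup.card_map_of_injective ab_inl_injective, Subgroup.card_top]

theorem card_abA : Nat.card (abA A G) = Nat.card A := by
  unfold abA
  exact (Nat.card_congr (MonoidHom.ofInjective ab_inr_injective).toEquiv).symm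

theorem card_map_abInl (U : Subgroup G) : Nat.card (U.map (abInl A G)) = Nat.card U :=
  Subgroup.card_map_of_injective ab_inl_injective

theorem ab_solvable (h : Group.IsSolvable A ∨ Group.IsSolvable G) :
    Group.IsSolvable (abA A G) ∨ Group.IsSolvable (abK A G) := by
  rcases h with h | h
  · left
    exact Group.isSolvable_of_isSolvable_injective
      (f := (MonoidHom.ofInjective (f := abInr A G) ab_inr_injective).symm.toMonoidHom)
      (MulEquiv.injective _)
  · right
    have e : G ≃* (abK A G) :=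
      (MonoidHom.ofInjective (f := abInl A G) ab_inl_injective).trans
        (MulEquiv.subgroupCongr abK_eq_range.symm)
    exact Group.isSolvable_of_isSolvable_injective (f := e.symm.toMonoidHom) (MulEquiv.injective _)

theorem ab_map_le_abK (U : Subgroup G) : U.map (abInl A G) ≤ abK A G :=
  Subgroup.map_mono le_top

/-- `[U, A]` computed in the semidirect product. -/
theorem ab_comm_map (U : Subgroup G) :
    ⁅U.map (abInl A G), abA A G⁆ =
      (Subgroup.closure {y : G | ∃ a : A, ∃ u ∈ U, y = u⁻¹ * a • u}).map (abInl A G) := by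
  rw [Subgroup.commutator_def, MonoidHom.map_closure]
  congr 1
  ext x
  constructor
  · rintro ⟨g₁, hg₁, g₂, hg₂, rfl⟩
    obtain ⟨u, hu, rfl⟩ := hg₁
    obtain ⟨a, rfl⟩ := ab_mem_abA.1 hg₂
    refine ⟨u * a • u⁻¹, ⟨a, u⁻¹, U.inv_mem hu, by rw [inv_inv]⟩, ?_⟩
    rw [commutatorElement_def, map_mul, ← ab_conj, map_inv]
    simp only [mul_assoc]
  · rintro ⟨y, ⟨a, u, hu, rfl⟩, rfl⟩
    refine ⟨abInl A G u⁻¹, ⟨u⁻¹, U.inv_mem hu, rfl⟩, abInr A G a, ab_mem_abA.2 ⟨a, rfl⟩, ?_⟩
    rw [commutatorElement_def, map_mul, ← ab_conj]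
    simp only [map_inv, inv_inv, mul_assoc]

theorem ab_comm_top :
    ⁅abK A G, abA A G⁆ =
      (Subgroup.closure {y : G | ∃ (a : A) (g : G), y = g⁻¹ * a • g}).map (abInl A G) := by
  unfold abK
  rw [ab_comm_map]
  congr 2
  ext y
  constructor
  · rintro ⟨a, u, -, h⟩; exact ⟨a, u, h⟩
  · rintro ⟨a, u, h⟩; exact ⟨a, u, Subgroup.mem_top u, h⟩

theorem ab_inl_mem_centralizer {g : G} :
    abInl A G g ∈ Subgroup.centralizer (abA A G : Set (abΓ A G)) ↔ g ∈ abFix A G := by
  rw [Subgroup.mem_centralizer_iff, mem_abFix]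
  constructor
  · intro h a
    have h1 := h (abInr A G a) (ab_mem_abA.2 ⟨a, rfl⟩)
    apply ab_inl_injective (A := A)
    rw [← ab_conj a g, h1, mul_inv_cancel_right]
  · rintro h x hx
    obtain ⟨a, rfl⟩ := ab_mem_abA.1 hx
    have h1 := ab_conj a g
    rw [h a] at h1
    calc abInr A G a * abInl A G g
        = (abInr A G a * abInl A G g * (abInr A G a)⁻¹) * abInr A G a := by group
      _ = abInl A G g * abInr A G a := by rw [h1]

/-- `C_U(A)` computed in the semidirect product. -/
theorem ab_fix_map (U : Subgroup G) :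
    U.map (abInl A G) ⊓ Subgroup.centralizer (abA A G : Set (abΓ A G)) =
      (U ⊓ abFix A G).map (abInl A G) := by
  ext x
  constructor
  · rintro ⟨⟨u, hu, rfl⟩, hx⟩
    exact ⟨u, ⟨hu, ab_inl_mem_centralizer.1 hx⟩, rfl⟩
  · rintro ⟨u, ⟨hu, hf⟩, rfl⟩
    exact ⟨⟨u, hu, rfl⟩, ab_inl_mem_centralizer.2 hf⟩

theorem ab_fix_top :
    abK A G ⊓ Subgroup.centralizer (abA A G : Set (abΓ A G)) = (abFix A G).map (abInl A G) := by
  unfold abK
  rw [ab_fix_map, top_inf_eq]

/-- invariant subgroups are normalized by the copy of `A`. -/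
theorem ab_inv_normalizer (U : Subgroup G) (hU : ∀ a : A, ∀ x ∈ U, a • x ∈ U) :
    abA A G ≤ Subgroup.normalizer (U.map (abInl A G) : Set (abΓ A G)) := by
  intro x hx
  obtain ⟨a, rfl⟩ := ab_mem_abA.1 hx
  rw [Subgroup.mem_normalizer_iff]
  intro y
  constructor
  · rintro ⟨u, hu, rfl⟩
    exact ⟨a • u, hU a u hu, (ab_conj a u).symm⟩
  · rintro ⟨u, hu, h⟩
    refine ⟨a⁻¹ • u, hU a⁻¹ u hu, ?_⟩
    rw [← ab_conj a⁻¹ u, h, map_inv]
    group

theorem ab_normalizer_inv (U : Subgroup G)
    (h : abA A G ≤ Subgroup.normalizer (U.map (abInl A G) : Set (abΓ A G))) :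
    ∀ a : A, ∀ x ∈ U, a • x ∈ U := by
  intro a x hx
  have h1 := h (ab_mem_abA.2 ⟨a, rfl⟩)
  rw [Subgroup.mem_normalizer_iff] at h1
  have h2 := (h1 (abInl A G x)).1 ⟨x, hx, rfl⟩
  rw [ab_conj] at h2
  obtain ⟨u, hu, h3⟩ := h2
  rw [← ab_inl_injective h3]; exact hu

theorem ab_coprime [Finite A] [Finite G] (h : (Nat.card A).Coprime (Nat.card G)) :
    (Nat.card (abA A G)).Coprime (Nat.card (abK A G)) := by
  rw [card_abA, card_abK]; exact h

end bridge

end Cfsg.Agent.Lib.Helper4
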