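import Mathlib
import Cfsg.Agent.Lib.Helper4.ActBridge
import Cfsg.Agent.Lib.Helper4.Hall
import Cfsg.Agent.Lib.Helper4.CoprimeComm
import Cfsg.Agent.S0058
import Cfsg.Agent.S0026
import Cfsg.Agent.S0027

/-! Generation by fixed points of subgroups with cyclic quotient, for coprime abelian actions. -/

set_option autoImplicit false
set_option linter.unusedSectionVars false

namespace Cfsg.Agent.Lib.Helper4

universe u

section fix
variable (A : Type*) (K : Type*) [Group A] [Group K] [MulDistribMulAction A K]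

/-- fixed points of a subgroup of the acting group -/
def fixSub (B : Subgroup A) : Subgroup K where
  carrier := {k | ∀ b ∈ B, b • k = k}
  one_mem' := fun b _ => smul_one b
  mul_mem' := fun {x y} hx hy b hb => by rw [smul_mul', hx b hb, hy b hb]
  inv_mem' := fun {x} hx b hb => by rw [smul_inv', hx b hb]

/-- kernel of the action -/
def actKer : Subgroup A where
  carrier := {a | ∀ k : K, a • k = k}
  one_mem' := fun k => one_smul A k
  mul_mem' := fun {x y} hx hy k => by rw [mul_smul, hy k, hx k]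
  inv_mem' := fun {x} hx k => by
    rw [inv_smul_eq_iff]; exact (hx k).symm

end fix

/-- action on an invariant subgroup -/
@[reducible] def invAct {A K : Type*} [Group A] [Group K] [MulDistribMulAction A K] (L : Subgroup K)
    (hL : ∀ a : A, ∀ x ∈ L, a • x ∈ L) : MulDistribMulAction A ↥L where
  smul a x := ⟨a • (x : K), hL a x x.2⟩
  one_smul x := Subtype.ext (one_smul A (x : K))
  mul_smul a b x := Subtype.ext (mul_smul a b (x : K))
  smul_mul a x y := Subtype.ext (smul_mul' a (x : K) (y : K))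
  smul_one a := Subtype.ext (smul_one a)

/-- action of a quotient by a subgroup acting trivially -/
@[reducible] def quotAct (A K : Type*) [Group A] [Group K] [MulDistribMulAction A K] (N : Subgroup A)
    [N.Normal] (hN : ∀ a ∈ N, ∀ k : K, a • k = k) : MulDistribMulAction (A ⧸ N) K :=
  MulDistribMulAction.compHom K (QuotientGroup.lift N (MulDistribMulAction.toMulAut A K) (by
    intro a ha
    rw [MonoidHom.mem_ker]
    ext k
    exact hN a ha k))

theorem coprime_gen_abs : ∀ (n : ℕ) (A K : Type u) [Group A] [Finite A] [Group K] [Finite K]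
    [MulDistribMulAction A K], (∀ a b : A, a * b = b * a) → (Nat.card A).Coprime (Nat.card K) →
    Nat.card A + Nat.card K = n →
    ∀ k : K, k ∈ ⨆ (B : Subgroup A) (_ : ∃ a : A, B ⊔ Subgroup.zpowers a = ⊤), fixSub A K B := by
  intro n
  induction n using Nat.strong_induction_on with
  | _ n ih =>
  intro A K _ _ _ _ _ hab hcop hn k
  classical
  by_cases hker : actKer A K = ⊥
  swap
  · -- non-faithful: pass to the quotient of the acting group
    haveI hNn : (actKer A K).Normal := ⟨fun x hx g => by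
      have : g * x * g⁻¹ = x := by rw [hab g x, mul_inv_cancel_right]
      rw [this]; exact hx⟩
    letI act : MulDistribMulAction (A ⧸ actKer A K) K :=
      quotAct A K (actKer A K) (fun a ha k => ha k)
    have hsm : ∀ (a : A) (x : K), ((QuotientGroup.mk a : A ⧸ actKer A K) • x : K) = a • x :=
      fun a x => rfl
    have habq : ∀ a b : A ⧸ actKer A K, a * b = b * a := by
      intro a b
      obtain ⟨a, rfl⟩ := QuotientGroup.mk_surjective a
      obtain ⟨b, rfl⟩ := QuotientGroup.mk_surjective b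
      rw [← QuotientGroup.mk_mul, ← QuotientGroup.mk_mul, hab]
    have hlt : Nat.card (A ⧸ actKer A K) < Nat.card A := card_quot_lt (actKer A K) hker
    have hcopq : (Nat.card (A ⧸ actKer A K)).Coprime (Nat.card K) := by
      apply Nat.Coprime.coprime_dvd_left _ hcop
      rw [← Subgroup.index_eq_card]; exact Subgroup.index_dvd_card _
    have h1 := ih (Nat.card (A ⧸ actKer A K) + Nat.card K) (by omega) (A ⧸ actKer A K) K habq
      hcopq rfl k
    refine SetLike.le_def.1 (iSup₂_le ?_) h1
    intro Bq hBq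
    obtain ⟨aq, haq⟩ := hBq
    obtain ⟨a₀, rfl⟩ := QuotientGroup.mk_surjective aq
    have hprop : ∃ a : A, Bq.comap (QuotientGroup.mk' (actKer A K)) ⊔ Subgroup.zpowers a = ⊤ := by
      refine ⟨a₀, ?_⟩
      have hkerle : (QuotientGroup.mk' (actKer A K)).ker ≤
          Bq.comap (QuotientGroup.mk' (actKer A K)) ⊔ Subgroup.zpowers a₀ := by
        intro x hx
        apply Subgroup.mem_sup_left
        rw [Subgroup.mem_comap, MonoidHom.mem_ker.1 hx]
        exact Bq.one_mem
      rw [← Subgroup.comap_map_eq_self hkerle, Subgroup.map_sup,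
        Subgroup.map_comap_eq_self_of_surjective (QuotientGroup.mk'_surjective _),
        MonoidHom.map_zpowers, QuotientGroup.mk'_apply, haq, Subgroup.comap_top]
    refine le_trans ?_ (le_iSup₂ (f := fun (B : Subgroup A)
      (_ : ∃ a : A, B ⊔ Subgroup.zpowers a = ⊤) => fixSub A K B) _ hprop)
    intro x hx b hb
    exact (hsm b x).symm.trans (hx _ hb)
  · by_cases hcyc : IsCyclic A
    · obtain ⟨a₀, ha₀⟩ := hcyc.exists_generator
      have hprop : ∃ a : A, (⊥ : Subgroup A) ⊔ Subgroup.zpowers a = ⊤ :=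
        ⟨a₀, by rw [bot_sup_eq, Subgroup.eq_top_iff']; exact ha₀⟩
      refine Subgroup.mem_iSup_of_mem ⊥ (Subgroup.mem_iSup_of_mem hprop ?_)
      intro b hb
      rw [Subgroup.mem_bot.1 hb, one_smul]
    · obtain ⟨Γ, hΓdef⟩ : ∃ Γ : Subgroup K, Γ = ⨆ (B : Subgroup A)
        (_ : ∃ a : A, B ⊔ Subgroup.zpowers a = ⊤), fixSub A K B := ⟨_, rfl⟩
      rw [← hΓdef]
      have hstep : ∀ a : A, a ≠ 1 → fixSub A K (Subgroup.zpowers a) ≤ Γ := by
        intro a ha1
        obtain ⟨L, hLdef⟩ : ∃ L : Subgroup K, L = fixSub A K (Subgroup.zpowers a) := ⟨_, rfl⟩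
        rw [← hLdef]
        have hLinv : ∀ c : A, ∀ x ∈ L, c • x ∈ L := by
          intro c x hx
          rw [hLdef] at hx ⊢
          intro b hb
          rw [← mul_smul, hab b c, mul_smul, hx b hb]
        have hLne : L ≠ ⊤ := by
          intro hL
          have : a ∈ actKer A K := by
            intro x
            have hx : x ∈ L := by rw [hL]; exact Subgroup.mem_top x
            rw [hLdef] at hx
            exact hx a (Subgroup.mem_zpowers a)
          rw [hker, Subgroup.mem_bot] at this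
          exact ha1 this
        letI actL : MulDistribMulAction A ↥L := invAct L hLinv
        have hltL : Nat.card L < Nat.card K := card_lt_of_ne_top L hLne
        have hcopL : (Nat.card A).Coprime (Nat.card L) :=
          Nat.Coprime.coprime_dvd_right (Subgroup.card_subgroup_dvd_card L) hcop
        have h1 := ih (Nat.card A + Nat.card L) (by omega) A ↥L hab hcopL rfl
        intro x hx
        have h2 := h1 ⟨x, hx⟩
        have h3 : x ∈ (⨆ (B : Subgroup A) (_ : ∃ a : A, B ⊔ Subgroup.zpowers a = ⊤),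
            fixSub A ↥L B).map L.subtype := ⟨⟨x, hx⟩, h2, rfl⟩
        rw [Subgroup.map_iSup] at h3
        refine SetLike.le_def.1 (iSup_le ?_) h3
        intro B
        rw [Subgroup.map_iSup]
        apply iSup_le
        intro hB
        rw [hΓdef]
        refine le_trans ?_ (le_iSup₂ (f := fun (B : Subgroup A)
          (_ : ∃ a : A, B ⊔ Subgroup.zpowers a = ⊤) => fixSub A K B) B hB)
        rintro _ ⟨y, hy, rfl⟩
        intro b hb
        exact congrArg Subtype.val (hy b hb)
      haveI : IsMulCommutative ↥(abA A K) := IsMulCommutative.of_comm (by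
        rintro ⟨x, hx⟩ ⟨y, hy⟩
        obtain ⟨a, rfl⟩ := ab_mem_abA.1 hx
        obtain ⟨b, rfl⟩ := ab_mem_abA.1 hy
        apply Subtype.ext
        show abInr A K a * abInr A K b = abInr A K b * abInr A K a
        rw [← map_mul, ← map_mul, hab])
      have hncyc : ¬ IsCyclic ↥(abA A K) := by
        intro h
        apply hcyc
        let e : A ≃* (abInr A K).range := MonoidHom.ofInjective ab_inr_injective
        haveI : IsCyclic ↥(abInr A K).range := h
        exact isCyclic_of_surjective e.symm e.symm.surjective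
      have h58 := Cfsg.Agent.S0058.result (abA A K) (abK A K) hncyc abA_le_normalizer
        (ab_coprime hcop)
      have hk : abInl A K k ∈ abK A K := ab_mem_abK.2 ⟨k, rfl⟩
      rw [← h58] at hk
      have hle : (⨆ a' ∈ {a' : abΓ A K | a' ∈ abA A K ∧ a' ≠ 1},
          abK A K ⊓ Subgroup.centralizer {a'}) ≤ Γ.map (abInl A K) := by
        apply iSup₂_le
        rintro a' ⟨ha', ha'1⟩
        obtain ⟨a, rfl⟩ := ab_mem_abA.1 ha'
        have ha1 : a ≠ 1 := by
          intro h; apply ha'1; rw [h, map_one]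
        rintro x ⟨hxK, hxc⟩
        obtain ⟨g, rfl⟩ := ab_mem_abK.1 hxK
        refine ⟨g, hstep a ha1 ?_, rfl⟩
        have hag : a • g = g := by
          have h1 : abInl A K g * abInr A K a = abInr A K a * abInl A K g :=
            Subgroup.mem_centralizer_singleton_iff.1 hxc
          apply ab_inl_injective (A := A)
          rw [← ab_conj a g, ← h1, mul_inv_cancel_right]
        intro b hb
        obtain ⟨i, rfl⟩ := Subgroup.mem_zpowers_iff.1 hb
        exact MulAction.mem_stabilizer_iff.1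
          ((MulAction.stabilizer A g).zpow_mem (MulAction.mem_stabilizer_iff.2 hag) i)
      obtain ⟨g, hg, hgk⟩ := hle hk
      rw [← ab_inl_injective hgk]; exact hg


section subform
variable {X : Type*} [Group X] [Finite X]

open scoped commutatorElement

/-- conjugation action of a subgroup on a subgroup it normalizes -/
@[reducible] def conjActSub (A G : Subgroup X) (hAG : A ≤ Subgroup.normalizer (G : Set X)) :
    MulDistribMulAction ↥A ↥G where
  smul a g := ⟨(a : X) * g * (a : X)⁻¹, (Subgroup.mem_normalizer_iff.1 (hAG a.2) g).1 g.2⟩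
  one_smul g := Subtype.ext (by
    show ((1 : ↥A) : X) * g * ((1 : ↥A) : X)⁻¹ = g
    simp)
  mul_smul a b g := Subtype.ext (by
    show ((a * b : ↥A) : X) * g * ((a * b : ↥A) : X)⁻¹ =
      (a : X) * ((b : X) * g * (b : X)⁻¹) * (a : X)⁻¹
    simp [mul_assoc])
  smul_mul a g h := Subtype.ext (by
    show (a : X) * ((g * h : ↥G) : X) * (a : X)⁻¹ =
      ((a : X) * g * (a : X)⁻¹) * ((a : X) * h * (a : X)⁻¹)
    simp [mul_assoc])
  smul_one a := Subtype.ext (by
    show (a : X) * ((1 : ↥G) : X) * (a : X)⁻¹ = 1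
    simp)

theorem coprime_gen_sub (A G : Subgroup X) (hAab : ∀ a ∈ A, ∀ b ∈ A, a * b = b * a)
    (hAG : A ≤ Subgroup.normalizer (G : Set X)) (hcop : (Nat.card A).Coprime (Nat.card G)) :
    G ≤ ⨆ B ∈ {B : Subgroup X | B ≤ A ∧ ∃ a ∈ A, B ⊔ Subgroup.zpowers a = A},
      G ⊓ Subgroup.centralizer (B : Set X) := by
  letI act : MulDistribMulAction ↥A ↥G := conjActSub A G hAG
  have hsm : ∀ (a : ↥A) (g : ↥G), ((a • g : ↥G) : X) = (a : X) * g * (a : X)⁻¹ :=
    fun a g => rfl
  have hab : ∀ a b : ↥A, a * b = b * a := fun a b => Subtype.ext (hAab a a.2 b b.2)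
  intro g hg
  have h1 := coprime_gen_abs _ ↥A ↥G hab hcop rfl ⟨g, hg⟩
  have h3 : g ∈ (⨆ (B : Subgroup ↥A) (_ : ∃ a : ↥A, B ⊔ Subgroup.zpowers a = ⊤),
      fixSub ↥A ↥G B).map G.subtype := ⟨⟨g, hg⟩, h1, rfl⟩
  rw [Subgroup.map_iSup] at h3
  refine SetLike.le_def.1 (iSup_le ?_) h3
  intro B
  rw [Subgroup.map_iSup]
  apply iSup_le
  intro hB
  obtain ⟨a₀, ha₀⟩ := hB
  have hmem : B.map A.subtype ∈
      {B : Subgroup X | B ≤ A ∧ ∃ a ∈ A, B ⊔ Subgroup.zpowers a = A} := by
    refine ⟨Subgroup.map_subtype_le B, (a₀ : X), a₀.2, ?_⟩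
    have h4 := congrArg (Subgroup.map A.subtype) ha₀
    rw [Subgroup.map_sup, MonoidHom.map_zpowers, ← MonoidHom.range_eq_map,
      Subgroup.range_subtype] at h4
    exact h4
  refine le_trans ?_ (le_iSup₂ (f := fun (B : Subgroup X)
    (_ : B ∈ {B : Subgroup X | B ≤ A ∧ ∃ a ∈ A, B ⊔ Subgroup.zpowers a = A}) =>
      G ⊓ Subgroup.centralizer (B : Set X)) _ hmem)
  rintro _ ⟨y, hy, rfl⟩
  refine ⟨y.2, ?_⟩
  show (y : X) ∈ Subgroup.centralizer ((B.map A.subtype : Subgroup X) : Set X)
  rw [Subgroup.mem_centralizer_iff]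
  rintro _ ⟨b, hb, rfl⟩
  have h5 := congrArg Subtype.val (hy b hb)
  rw [hsm] at h5
  show (b : X) * (y : X) = (y : X) * (b : X)
  calc (b : X) * (y : X) = ((b : X) * y * (b : X)⁻¹) * b := by group
    _ = (y : X) * b := by rw [h5]

theorem coprime_comm_gen_sub (A G : Subgroup X) (hAab : ∀ a ∈ A, ∀ b ∈ A, a * b = b * a)
    (hAG : A ≤ Subgroup.normalizer (G : Set X)) (hcop : (Nat.card A).Coprime (Nat.card G)) :
    ⁅G, A⁆ ≤ ⨆ B ∈ {B : Subgroup X | B ≤ A ∧ ∃ a ∈ A, B ⊔ Subgroup.zpowers a = A},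
      ⁅G ⊓ Subgroup.centralizer (B : Set X), A⁆ := by
  classical
  obtain ⟨G₁, hG₁def⟩ : ∃ G₁ : Subgroup X,
    G₁ = ⨆ B ∈ {B : Subgroup X | B ≤ A ∧ ∃ a ∈ A, B ⊔ Subgroup.zpowers a = A},
      ⁅G ⊓ Subgroup.centralizer (B : Set X), A⁆ := ⟨_, rfl⟩
  rw [← hG₁def]
  have hsolA : Group.IsSolvable ↥A :=
    Group.isSolvable_of_comm (fun a b => Subtype.ext (hAab a a.2 b b.2))
  obtain ⟨K, hKdef⟩ : ∃ K : Subgroup X, K = ⁅G, A⁆ := ⟨_, rfl⟩
  rw [← hKdef]
  have hKG : K ≤ G := by rw [hKdef]; exact commutator_le_of_le_normalizer A G hAG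
  have hAK : A ≤ Subgroup.normalizer (K : Set X) := by
    rw [hKdef]; exact le_normalizer_commutator_right A G hAG
  have hcopK : (Nat.card A).Coprime (Nat.card K) :=
    Nat.Coprime.coprime_dvd_right (Subgroup.card_dvd_of_le hKG) hcop
  have hKK : ⁅K, A⁆ = K := by
    rw [hKdef]; exact Cfsg.Agent.S0027.result A G hAG hcop (Or.inl hsolA)
  have hnormG₁ : ∀ x : X, x ∈ Subgroup.normalizer (G : Set X) →
      x ∈ Subgroup.centralizer (A : Set X) → x ∈ Subgroup.normalizer (G₁ : Set X) := by
    intro x hxG hxA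
    have hcjA : cj x A = A :=
      cj_eq_of_mem_normalizer (Subgroup.centralizer_le_normalizer _ hxA)
    have hterm : ∀ B ∈ {B : Subgroup X | B ≤ A ∧ ∃ a ∈ A, B ⊔ Subgroup.zpowers a = A},
        cj x ⁅G ⊓ Subgroup.centralizer (B : Set X), A⁆ =
          ⁅G ⊓ Subgroup.centralizer (B : Set X), A⁆ := by
      intro B hB
      have hxB : x ∈ Subgroup.centralizer (B : Set X) :=
        Subgroup.centralizer_le (fun y hy => hB.1 hy) hxA
      rw [cj_commutator', hcjA, cj_inf, cj_eq_of_mem_normalizer hxG, cj_self_of_mem' hxB]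
    apply Subgroup.mem_normalizer_iff_map_conj_eq.2
    show cj x G₁ = G₁
    have hle : cj x G₁ ≤ G₁ := by
      rw [hG₁def, cj_def, Subgroup.map_iSup]
      apply iSup_le
      intro B
      rw [Subgroup.map_iSup]
      apply iSup_le
      intro hB
      have := hterm B hB
      rw [cj_def] at this
      rw [this]
      exact le_iSup₂ (f := fun (B : Subgroup X)
        (_ : B ∈ {B : Subgroup X | B ≤ A ∧ ∃ a ∈ A, B ⊔ Subgroup.zpowers a = A}) =>
          ⁅G ⊓ Subgroup.centralizer (B : Set X), A⁆) B hB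
    exact Subgroup.eq_of_le_of_card_ge hle (by rw [card_cj'])
  obtain ⟨CK, hCKdef⟩ : ∃ CK : Subgroup X, CK = K ⊓ Subgroup.centralizer (A : Set X) :=
    ⟨_, rfl⟩
  have hCKnorm : CK ≤ Subgroup.normalizer (G₁ : Set X) := by
    intro c hc
    rw [hCKdef] at hc
    exact hnormG₁ c (Subgroup.le_normalizer (hKG hc.1)) hc.2
  have hAnormG₁ : A ≤ Subgroup.normalizer (G₁ : Set X) := by
    intro a ha
    apply hnormG₁ a (hAG ha)
    rw [Subgroup.mem_centralizer_iff]
    intro b hb
    exact hAab b hb a ha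
  have hKle : K ≤ G₁ ⊔ CK := by
    refine (coprime_gen_sub A K hAab hAK hcopK).trans ?_
    apply iSup₂_le
    intro B hB
    obtain ⟨KB, hKBdef⟩ : ∃ KB : Subgroup X, KB = K ⊓ Subgroup.centralizer (B : Set X) :=
      ⟨_, rfl⟩
    rw [← hKBdef]
    have hAKB : A ≤ Subgroup.normalizer (KB : Set X) := by
      intro a ha
      apply Subgroup.mem_normalizer_iff_map_conj_eq.2
      show cj a KB = KB
      have haB : a ∈ Subgroup.centralizer (B : Set X) := by
        rw [Subgroup.mem_centralizer_iff]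
        intro b hb
        exact hAab b (hB.1 hb) a ha
      rw [hKBdef, cj_inf, cj_eq_of_mem_normalizer (hAK ha), cj_self_of_mem' haB]
    have hKBK : KB ≤ K := by rw [hKBdef]; exact inf_le_left
    have hcopKB : (Nat.card A).Coprime (Nat.card KB) :=
      Nat.Coprime.coprime_dvd_right (Subgroup.card_dvd_of_le hKBK) hcopK
    have h26 := Cfsg.Agent.S0026.result A KB hAKB hcopKB (Or.inl hsolA)
    rw [← h26]
    apply sup_le
    · refine le_trans ?_ le_sup_left
      rw [hG₁def]
      refine le_trans ?_ (le_iSup₂ (f := fun (B : Subgroup X)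
        (_ : B ∈ {B : Subgroup X | B ≤ A ∧ ∃ a ∈ A, B ⊔ Subgroup.zpowers a = A}) =>
          ⁅G ⊓ Subgroup.centralizer (B : Set X), A⁆) B hB)
      apply Subgroup.commutator_mono _ le_rfl
      rw [hKBdef]; exact inf_le_inf_right _ hKG
    · refine le_trans ?_ le_sup_right
      rw [hCKdef]
      exact inf_le_inf_right _ hKBK
  have hfinal : ⁅K, A⁆ ≤ G₁ := by
    rw [Subgroup.commutator_le]
    intro k hk a ha
    obtain ⟨g, hg, c, hc, rfl⟩ := act_mem_sup CK G₁ hCKnorm (hKle hk)
    rw [commutatorElement_def]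
    have hca : c * a = a * c := by
      rw [hCKdef] at hc
      exact ((Subgroup.mem_centralizer_iff.1 hc.2) a ha).symm
    have e : g * c * a * (g * c)⁻¹ * a⁻¹ = g * (a * g⁻¹ * a⁻¹) := by
      have : g * c * a * (g * c)⁻¹ * a⁻¹ = g * (c * a) * c⁻¹ * g⁻¹ * a⁻¹ := by group
      rw [this, hca]; group
    rw [e]
    exact G₁.mul_mem hg ((Subgroup.mem_normalizer_iff.1 (hAnormG₁ ha) g⁻¹).1 (G₁.inv_mem hg))
  rw [hKK] at hfinal
  exact hfinal

end subform

end Cfsg.Agent.Lib.Helper4
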