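import Cfsg.Agent.Lib.Helper4.ActBridge
import Cfsg.Agent.S0023

set_option autoImplicit false
set_option linter.unusedSectionVars false

namespace Cfsg.Agent.Lib.Helper4

open scoped Pointwise

section bridge2
variable {A : Type*} {G : Type*} [Group A] [Group G] [MulDistribMulAction A G]

/-- Under coprime action (one of the groups solvable) there is an invariant Sylow subgroup. -/
theorem ab_exists_inv_sylow [Finite A] [Finite G] (hcop : (Nat.card A).Coprime (Nat.card G))
    (hsol : Group.IsSolvable A ∨ Group.IsSolvable G) (p : ℕ) [Fact p.Prime] :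
    ∃ P : Sylow p G, ∀ a : A, ∀ x ∈ (P : Subgroup G), a • x ∈ (P : Subgroup G) := by
  obtain ⟨P, hP⟩ := Cfsg.Agent.S0023.result (abA A G) (abK A G) abA_le_normalizer
    (ab_coprime hcop) (ab_solvable hsol) p
  set Q : Subgroup (abΓ A G) := (P : Subgroup (abK A G)).map (abK A G).subtype with hQ
  have hQK : Q ≤ abK A G := Subgroup.map_subtype_le _
  set P₀ : Subgroup G := Q.comap (abInl A G) with hP₀
  have hmap : P₀.map (abInl A G) = Q := by
    rw [hP₀, Subgroup.map_comap_eq_self]
    rw [← abK_eq_range]; exact hQK
  have hcard : Nat.card P₀ = p ^ (Nat.card G).factorization p := by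
    rw [← card_map_abInl (A := A) P₀, hmap, hQ,
      Subgroup.card_map_of_injective (abK A G).subtype_injective, Sylow.card_eq_multiplicity,
      card_abK]
  refine ⟨Sylow.ofCard P₀ hcard, ?_⟩
  have : ((Sylow.ofCard P₀ hcard : Sylow p G) : Subgroup G) = P₀ := rfl
  rw [this]
  apply ab_normalizer_inv
  rw [hmap]
  exact hP

end bridge2

end Cfsg.Agent.Lib.Helper4
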