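import Mathlib

set_option autoImplicit false

namespace Cfsg.Agent.Lib.Helper4

/-- Element orders of the alternating group in terms of cycle types. -/
theorem mem_range_orderOf_alternating_iff (n k : ℕ) :
    k ∈ Set.range (orderOf : alternatingGroup (Fin n) → ℕ) ↔
      ∃ m : Multiset ℕ, (∀ a ∈ m, 2 ≤ a) ∧ m.sum ≤ n ∧ Even (m.sum + m.card) ∧ m.lcm = k := by
  have hneg : (-1 : ℤˣ) ≠ 1 := by decide
  constructor
  · rintro ⟨⟨σ, hσ⟩, rfl⟩
    refine ⟨σ.cycleType, fun a ha => Equiv.Perm.two_le_of_mem_cycleType ha, ?_, ?_, ?_⟩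
    · rw [Equiv.Perm.sum_cycleType]
      calc σ.support.card ≤ (Finset.univ : Finset (Fin n)).card := Finset.card_le_univ _
        _ = n := by simp
    · rw [Equiv.Perm.mem_alternatingGroup, Equiv.Perm.sign_of_cycleType] at hσ
      exact (neg_one_pow_eq_one_iff_even hneg).1 hσ
    · rw [Equiv.Perm.lcm_cycleType]
      exact (Subgroup.orderOf_mk σ hσ).symm
  · rintro ⟨m, h2, hsum, hev, rfl⟩
    obtain ⟨σ, hσ⟩ := (Equiv.Perm.exists_with_cycleType_iff (Fin n)).2
      ⟨by simpa using hsum, h2⟩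
    have hmem : σ ∈ alternatingGroup (Fin n) := by
      rw [Equiv.Perm.mem_alternatingGroup, Equiv.Perm.sign_of_cycleType, hσ]
      exact (neg_one_pow_eq_one_iff_even hneg).2 hev
    refine ⟨⟨σ, hmem⟩, ?_⟩
    rw [Subgroup.orderOf_mk, ← Equiv.Perm.lcm_cycleType, hσ]

/-- A prime dividing the lcm of a multiset divides one of its elements. -/
theorem prime_dvd_multiset_lcm {p : ℕ} (hp : p.Prime) (m : Multiset ℕ) (h : p ∣ m.lcm) :
    ∃ a ∈ m, p ∣ a := by
  induction m using Multiset.induction_on with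
  | empty =>
    rw [Multiset.lcm_zero] at h
    exact absurd (Nat.dvd_one.1 h) hp.ne_one
  | cons a s ih =>
    rw [Multiset.lcm_cons] at h
    have h' : p ∣ a * s.lcm := dvd_trans h (Nat.lcm_dvd_mul a s.lcm)
    rcases (Nat.Prime.dvd_mul hp).1 h' with h1 | h1
    · exact ⟨a, Multiset.mem_cons_self a s, h1⟩
    · obtain ⟨b, hb, hpb⟩ := ih h1
      exact ⟨b, Multiset.mem_cons_of_mem hb, hpb⟩

end Cfsg.Agent.Lib.Helper4
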