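import Mathlib
import Cfsg.Agent.Lib.Helper4.CoprimeSylow
import Cfsg.Agent.S0023
import Cfsg.Agent.Lib.Helper7.PSubFrattini

set_option autoImplicit false
set_option linter.unusedSectionVars false
set_option linter.unusedVariables false

namespace Cfsg.Agent.Lib.Helper4

universe u

/-- Module lemma: for commuting automorphisms `c`, `z` of a finite abelian `p'`-group with
`z ^ p = 1` and all `z ^ m` (`p ∤ m`) fixed point free, the fixed point subgroups of
`c * z ^ j`, `j < p`, are independent. -/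
theorem bsn_indep {V : Type*} [CommGroup V] [Finite V] (p : ℕ) (hp : p.Prime)
    (hcop : (Nat.card V).Coprime p) (c z : MulAut V) (hcz : Commute c z)
    (hzp : z ^ p = 1)
    (hfix : ∀ m : ℤ, ¬ (p : ℤ) ∣ m → ∀ v : V, (z ^ m) v = v → v = 1)
    (u : ℕ → V) (hu : ∀ j, (c * z ^ j) (u j) = u j)
    (hprod : ∏ j ∈ Finset.range p, u j = 1) (i : ℕ) (hi : i < p) : u i = 1 := by
  classical
  have happ : ∀ (f g : MulAut V), Commute f g → ∀ v : V, f (g v) = g (f v) := by
    intro f g hfg v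
    have := congrArg (fun t : MulAut V => t v) hfg.eq
    simpa [MulAut.mul_apply] using this
  have h1 : ∀ j, c (u j) = (z ^ (-(j:ℤ))) (u j) := by
    intro j
    have hc : Commute c (z ^ (-(j:ℤ))) := hcz.zpow_right _
    have e1 : (z ^ (-(j:ℤ))) ((c * z ^ j) (u j)) = (z ^ (-(j:ℤ))) (u j) := by
      rw [hu j]
    rw [MulAut.mul_apply, ← happ c (z ^ (-(j:ℤ))) hc] at e1
    have e2 : (z ^ (-(j:ℤ))) ((z ^ j) (u j)) = u j := by
      rw [← MulAut.mul_apply, ← zpow_natCast z j, ← zpow_add]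
      simp
    rw [e2] at e1
    exact e1
  set T : MulAut V := c * z ^ i with hT
  have hTz : ∀ m : ℤ, Commute T (z ^ m) := by
    intro m
    have h2 : Commute c (z ^ m) := hcz.zpow_right m
    have h3 : Commute (z ^ i) (z ^ m) := ((Commute.refl z).pow_left i).zpow_right m
    exact h2.mul_left h3
  have hT1 : ∀ j, T (u j) = (z ^ ((i:ℤ) - j)) (u j) := by
    intro j
    rw [hT, MulAut.mul_apply, happ c (z ^ i) (hcz.pow_right i), h1 j, ← MulAut.mul_apply,
      ← zpow_natCast z i, ← zpow_add]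
    have : (i:ℤ) + -(j:ℤ) = (i:ℤ) - j := by ring
    rw [this]
  have hTk : ∀ j, ∀ k : ℕ, (T ^ k) (u j) = ((z ^ ((i:ℤ) - j)) ^ k) (u j) := by
    intro j k
    induction k with
    | zero => simp
    | succ k ih =>
      rw [pow_succ', MulAut.mul_apply, ih,
        happ T ((z ^ ((i:ℤ) - j)) ^ k) ((hTz _).pow_right k), hT1 j, pow_succ, MulAut.mul_apply]
  have key : ∏ k ∈ Finset.range p, (T ^ k) (∏ j ∈ Finset.range p, u j) = 1 := by
    rw [hprod]; simp
  have key2 : ∏ k ∈ Finset.range p, (T ^ k) (∏ j ∈ Finset.range p, u j)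
      = ∏ j ∈ Finset.range p, ∏ k ∈ Finset.range p, ((z ^ ((i:ℤ) - j)) ^ k) (u j) := by
    simp only [map_prod]
    rw [Finset.prod_comm]
    exact Finset.prod_congr rfl (fun j _ => Finset.prod_congr rfl (fun k _ => hTk j k))
  have hW : ∀ j ∈ Finset.range p, j ≠ i →
      ∏ k ∈ Finset.range p, ((z ^ ((i:ℤ) - j)) ^ k) (u j) = 1 := by
    intro j hj hji
    set y : MulAut V := z ^ ((i:ℤ) - j) with hy
    have hyp : y ^ p = 1 := by
      rw [hy, ← zpow_natCast, ← zpow_mul, mul_comm, zpow_mul, zpow_natCast, hzp, one_zpow]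
    have e4 : ∏ k ∈ Finset.range p, (y ^ (k+1)) (u j) = ∏ k ∈ Finset.range p, (y ^ k) (u j) := by
      have e1 := Finset.prod_range_succ' (fun k => (y ^ k) (u j)) p
      have e2 := Finset.prod_range_succ (fun k => (y ^ k) (u j)) p
      have e3 : (y ^ p) (u j) = (y ^ 0) (u j) := by rw [hyp, pow_zero]
      have := e1.symm.trans e2
      rw [e3] at this
      exact mul_right_cancel this
    have hyW : y (∏ k ∈ Finset.range p, (y ^ k) (u j)) = ∏ k ∈ Finset.range p, (y ^ k) (u j) := by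
      rw [map_prod, ← e4]
      refine Finset.prod_congr rfl (fun k _ => ?_)
      rw [pow_succ', MulAut.mul_apply]
    refine hfix ((i:ℤ) - j) ?_ _ hyW
    intro hdvd
    have hjp : j < p := Finset.mem_range.1 hj
    have h0 : (i:ℤ) - j = 0 := by
      apply Int.eq_zero_of_abs_lt_dvd hdvd
      rw [abs_lt]; constructor <;> omega
    omega
  rw [key2, Finset.prod_eq_single i (fun j hj hji => hW j hj hji)
    (fun h => absurd (Finset.mem_range.2 hi) h)] at key
  have hpow : (u i) ^ p = 1 := by simpa using key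
  have hd1 : orderOf (u i) ∣ p := orderOf_dvd_of_pow_eq_one hpow
  have hd2 : orderOf (u i) ∣ Nat.card V := orderOf_dvd_natCard (u i)
  have hone : orderOf (u i) = 1 := Nat.Coprime.eq_one_of_dvd (hcop.coprime_dvd_left hd2) hd1
  exact orderOf_eq_one_iff.1 hone

theorem bsn_conjNormal_fix {G : Type*} [Group G] (N : Subgroup G) [N.Normal] (g : G) (w : ↥N)
    (h : g * (w : G) = (w : G) * g) : (MulAut.conjNormal g) w = w := by
  apply Subtype.ext
  rw [MulAut.conjNormal_apply, h, mul_inv_cancel_right]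

theorem bsn_indep3 {G : Type*} [Group G] [Finite G] (N : Subgroup G) [N.Normal]
    (hab : ∀ x ∈ N, ∀ y ∈ N, x * y = y * x) (p : ℕ) (hp : p.Prime) (hp3 : 3 ≤ p)
    (hcop : (Nat.card N).Coprime p) (c z : G) (hzc : z * c = c * z) (hzp : z ^ p = 1)
    (hfix : ∀ m : ℤ, ¬ (p : ℤ) ∣ m → ∀ v ∈ N, z ^ m * v = v * z ^ m → v = 1)
    (w0 w1 w2 : G) (h0 : w0 ∈ N) (h1 : w1 ∈ N) (h2 : w2 ∈ N)
    (hc0 : c * w0 = w0 * c) (hc1 : (c * z) * w1 = w1 * (c * z))
    (hc2 : (c * z ^ 2) * w2 = w2 * (c * z ^ 2))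
    (hprod : w0 * w1 * w2 = 1) : w0 = 1 ∧ w1 = 1 ∧ w2 = 1 := by
  classical
  letI : CommGroup ↥N := { (inferInstance : Group ↥N) with
    mul_comm := fun x y => Subtype.ext (hab x x.2 y y.2) }
  set c' : MulAut ↥N := MulAut.conjNormal c with hc'
  set z' : MulAut ↥N := MulAut.conjNormal z with hz'
  have hcz' : Commute c' z' := by
    show c' * z' = z' * c'
    rw [hc', hz', ← map_mul, ← map_mul, hzc]
  have hzp' : z' ^ p = 1 := by rw [hz', ← map_pow, hzp, map_one]
  have hfix' : ∀ m : ℤ, ¬ (p : ℤ) ∣ m → ∀ v : ↥N, (z' ^ m) v = v → v = 1 := by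
    intro m hm v hv
    rw [hz', ← map_zpow] at hv
    have hv' := congrArg Subtype.val hv
    rw [MulAut.conjNormal_apply] at hv'
    have : z ^ m * (v : G) = (v : G) * z ^ m := by
      calc z ^ m * (v : G) = (z ^ m * (v : G) * (z ^ m)⁻¹) * z ^ m := by group
        _ = (v : G) * z ^ m := by rw [hv']
    exact Subtype.ext (hfix m hm v v.2 this)
  let u : ℕ → ↥N := fun j =>
    if j = 0 then ⟨w0, h0⟩ else if j = 1 then ⟨w1, h1⟩ else if j = 2 then ⟨w2, h2⟩ else 1
  have hu0 : u 0 = ⟨w0, h0⟩ := rfl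
  have hu1 : u 1 = ⟨w1, h1⟩ := rfl
  have hu2 : u 2 = ⟨w2, h2⟩ := rfl
  have hu3 : ∀ j, ¬ j < 3 → u j = 1 := by
    intro j hj
    simp only [u]
    rw [if_neg (by omega), if_neg (by omega), if_neg (by omega)]
  have hu : ∀ j, (c' * z' ^ j) (u j) = u j := by
    intro j
    have e : c' * z' ^ j = MulAut.conjNormal (c * z ^ j) := by rw [hc', hz', map_mul, map_pow]
    rw [e]
    apply bsn_conjNormal_fix
    by_cases hj0 : j = 0
    · subst hj0; rw [hu0]; simpa using hc0
    · by_cases hj1 : j = 1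
      · subst hj1; rw [hu1]; simpa using hc1
      · by_cases hj2 : j = 2
        · subst hj2; rw [hu2]; exact hc2
        · rw [hu3 j (by omega)]; simp
  have hprod' : ∏ j ∈ Finset.range p, u j = 1 := by
    rw [← Finset.prod_subset (Finset.range_subset_range.2 hp3) (fun j _ hj =>
      hu3 j (fun h => hj (Finset.mem_range.2 h)))]
    rw [Finset.prod_range_succ, Finset.prod_range_succ, Finset.prod_range_succ,
      Finset.prod_range_zero, hu0, hu1, hu2]
    apply Subtype.ext
    simpa using hprod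
  have r0 := bsn_indep p hp hcop c' z' hcz' hzp' hfix' u hu hprod' 0 (by omega)
  have r1 := bsn_indep p hp hcop c' z' hcz' hzp' hfix' u hu hprod' 1 (by omega)
  have r2 := bsn_indep p hp hcop c' z' hcz' hzp' hfix' u hu hprod' 2 (by omega)
  rw [hu0] at r0
  rw [hu1] at r1
  rw [hu2] at r2
  exact ⟨congrArg Subtype.val r0, congrArg Subtype.val r1, congrArg Subtype.val r2⟩

theorem bsn_count {G : Type*} [Group G] [Finite G] (N : Subgroup G) [N.Normal]
    (hab : ∀ x ∈ N, ∀ y ∈ N, x * y = y * x) (p : ℕ) (hp : p.Prime) (hp3 : 3 ≤ p)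
    (hcop : (Nat.card N).Coprime p) (a c z : G)
    (hac : a * c * a⁻¹ = z * c) (hza : z * a = a * z) (hzc : z * c = c * z) (hzp : z ^ p = 1)
    (hfix : ∀ m : ℤ, ¬ (p : ℤ) ∣ m → ∀ v ∈ N, z ^ m * v = v * z ^ m → v = 1) :
    Nat.card ↥(N ⊓ Subgroup.centralizer {c}) ^ 3 ≤ Nat.card N := by
  classical
  set U : Subgroup G := N ⊓ Subgroup.centralizer {c} with hU
  have hnorm : ∀ g : G, ∀ x ∈ N, g * x * g⁻¹ ∈ N := fun g x hx =>
    (inferInstance : N.Normal).conj_mem x hx g
  letI : CommGroup ↥N := { (inferInstance : Group ↥N) with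
    mul_comm := fun x y => Subtype.ext (hab x x.2 y y.2) }
  let e : G → ↥U → ↥N := fun g t => ⟨g * (t : G) * g⁻¹, hnorm g _ t.2.1⟩
  let f : ↥U × ↥U × ↥U → ↥N := fun t => e 1 t.1 * e a t.2.1 * e (a ^ 2) t.2.2
  have hac2 : a ^ 2 * c * (a ^ 2)⁻¹ = c * z ^ 2 := by
    have haz : a * z * a⁻¹ = z := by rw [← hza]; group
    calc a ^ 2 * c * (a ^ 2)⁻¹ = a * (a * c * a⁻¹) * a⁻¹ := by rw [pow_two]; group
      _ = a * (z * c) * a⁻¹ := by rw [hac]
      _ = (a * z * a⁻¹) * (a * c * a⁻¹) := by group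
      _ = z * (z * c) := by rw [haz, hac]
      _ = z * (c * z) := by rw [hzc]
      _ = (z * c) * z := by group
      _ = c * z * z := by rw [hzc]
      _ = c * z ^ 2 := by rw [pow_two, mul_assoc]
  have hf : Function.Injective f := by
    rintro ⟨u0, u1, u2⟩ ⟨v0, v1, v2⟩ heq
    have heq' : e 1 u0 * e a u1 * e (a ^ 2) u2 = e 1 v0 * e a v1 * e (a ^ 2) v2 := heq
    have hq : (e 1 u0 / e 1 v0) * (e a u1 / e a v1) * (e (a^2) u2 / e (a^2) v2) = 1 := by
      rw [div_mul_div_comm, div_mul_div_comm, heq', div_self']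
    have he : ∀ (g : G) (s t : ↥U), e g s / e g t = e g (s / t) := by
      intro g s t
      apply Subtype.ext
      show (g * (s : G) * g⁻¹) / (g * (t : G) * g⁻¹) = g * ((s / t : ↥U) : G) * g⁻¹
      rw [Subgroup.coe_div, div_eq_mul_inv, div_eq_mul_inv]
      group
    rw [he, he, he] at hq
    have hq' : (1 * ((u0 / v0 : ↥U) : G) * 1⁻¹) * (a * ((u1 / v1 : ↥U) : G) * a⁻¹) *
        (a ^ 2 * ((u2 / v2 : ↥U) : G) * (a ^ 2)⁻¹) = 1 := congrArg Subtype.val hq
    have hcen : ∀ t : ↥U, (t : G) * c = c * (t : G) := fun t =>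
      Subgroup.mem_centralizer_singleton_iff.1 t.2.2
    have hc0 : c * (1 * ((u0 / v0 : ↥U) : G) * 1⁻¹) = (1 * ((u0 / v0 : ↥U) : G) * 1⁻¹) * c := by
      simpa using (hcen (u0 / v0)).symm
    have hc1 : (c * z) * (a * ((u1 / v1 : ↥U) : G) * a⁻¹)
        = (a * ((u1 / v1 : ↥U) : G) * a⁻¹) * (c * z) := by
      have ht := hcen (u1 / v1)
      rw [← hzc, ← hac]
      calc a * c * a⁻¹ * (a * ((u1 / v1 : ↥U) : G) * a⁻¹)
          = a * (c * ((u1 / v1 : ↥U) : G)) * a⁻¹ := by group
        _ = a * (((u1 / v1 : ↥U) : G) * c) * a⁻¹ := by rw [ht]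
        _ = a * ((u1 / v1 : ↥U) : G) * a⁻¹ * (a * c * a⁻¹) := by group
    have hc2 : (c * z ^ 2) * (a ^ 2 * ((u2 / v2 : ↥U) : G) * (a ^ 2)⁻¹)
        = (a ^ 2 * ((u2 / v2 : ↥U) : G) * (a ^ 2)⁻¹) * (c * z ^ 2) := by
      have ht := hcen (u2 / v2)
      rw [← hac2]
      generalize a ^ 2 = b
      calc b * c * b⁻¹ * (b * ((u2 / v2 : ↥U) : G) * b⁻¹)
          = b * (c * ((u2 / v2 : ↥U) : G)) * b⁻¹ := by group
        _ = b * (((u2 / v2 : ↥U) : G) * c) * b⁻¹ := by rw [ht]
        _ = b * ((u2 / v2 : ↥U) : G) * b⁻¹ * (b * c * b⁻¹) := by group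
    obtain ⟨r0, r1, r2⟩ := bsn_indep3 N hab p hp hp3 hcop c z hzc hzp hfix
      (1 * ((u0 / v0 : ↥U) : G) * 1⁻¹) (a * ((u1 / v1 : ↥U) : G) * a⁻¹)
      (a ^ 2 * ((u2 / v2 : ↥U) : G) * (a ^ 2)⁻¹)
      (e 1 (u0/v0)).2 (e a (u1/v1)).2 (e (a^2) (u2/v2)).2 hc0 hc1 hc2 hq'
    have e0 : u0 = v0 := by
      have : ((u0 / v0 : ↥U) : G) = 1 := by simpa using r0
      exact div_eq_one.1 (Subtype.ext this)
    have e1 : u1 = v1 := by
      have : ((u1 / v1 : ↥U) : G) = 1 := conj_eq_one_iff.1 r1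
      exact div_eq_one.1 (Subtype.ext this)
    have e2 : u2 = v2 := by
      have : ((u2 / v2 : ↥U) : G) = 1 := conj_eq_one_iff.1 r2
      exact div_eq_one.1 (Subtype.ext this)
    rw [e0, e1, e2]
  have hle := Nat.card_le_card_of_injective f hf
  rw [Nat.card_prod, Nat.card_prod] at hle
  calc Nat.card ↥U ^ 3 = Nat.card ↥U * (Nat.card ↥U * Nat.card ↥U) := by ring
    _ ≤ Nat.card ↥N := hle

theorem bsn_main : ∀ n : ℕ, ∀ (G : Type u) [Group G] [Finite G], Nat.card G = n →
    ∀ (p : ℕ) [Fact p.Prime], 3 ≤ p → ∀ (P N : Subgroup G) [N.Normal], IsPGroup p P →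
    (Nat.card N).Coprime p → N ⊔ P = ⊤ → ∀ C D : Set G, Subgroup.closure C = P →
    Subgroup.closure D = P →
    (∀ x ∈ N, ∀ c ∈ C, ∀ d ∈ D, IsPGroup p ↥(Subgroup.closure ({x * c * x⁻¹, d} : Set G))) →
    ∀ a ∈ P, ∀ x ∈ N, a * x = x * a := by
  intro n
  induction n using Nat.strong_induction_on with
  | _ n ih =>
  intro G _ _ hn p _ hp3 P N hNn hP hcop hNP C D hC hD h
  by_contra hcon
  have hpp : p.Prime := Fact.out
  have hNconj : ∀ g : G, ∀ x ∈ N, g * x * g⁻¹ ∈ N := fun g x hx => hNn.conj_mem x hx g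
  obtain ⟨kP, hkP⟩ := IsPGroup.iff_card.1 hP
  have hPN : (Nat.card P).Coprime (Nat.card N) := by
    rw [hkP]; exact (Nat.Coprime.pow_left kP hcop.symm)
  have hPnorm : P ≤ Subgroup.normalizer (N : Set G) := by
    rw [Subgroup.normalizer_eq_top_iff.2 hNn]; exact le_top
  have hinf : N ⊓ P = ⊥ := act_inf_eq_bot P N hPN
  have hdecomp : ∀ g : G, ∃ n ∈ N, ∃ u ∈ P, g = n * u := fun g =>
    act_mem_sup P N hPnorm (by rw [hNP]; exact Subgroup.mem_top g)
  have hCP : ∀ c ∈ C, c ∈ P := fun c hc => by rw [← hC]; exact Subgroup.subset_closure hc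
  have hDP : ∀ d ∈ D, d ∈ P := fun d hd => by rw [← hD]; exact Subgroup.subset_closure hd
  -- induction hypothesis for invariant subgroups
  have ihsub : ∀ N₁ : Subgroup G, N₁ ≤ N → P ≤ Subgroup.normalizer (N₁ : Set G) → N₁ ≠ N →
      ∀ a ∈ P, ∀ x ∈ N₁, a * x = x * a := by
    intro N₁ hN₁ hPN₁ hne a ha x hx
    obtain ⟨H, hH⟩ : ∃ H : Subgroup G, H = N₁ ⊔ P := ⟨_, rfl⟩
    have hN₁H : N₁ ≤ H := hH ▸ le_sup_left
    have hPH : P ≤ H := hH ▸ le_sup_right
    have hHne : H ≠ ⊤ := by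
      intro htop
      apply hne
      refine le_antisymm hN₁ ?_
      intro y hy
      have hyH : y ∈ N₁ ⊔ P := by rw [← hH, htop]; exact Subgroup.mem_top y
      obtain ⟨k, hk, u, hu, rfl⟩ := act_mem_sup P N₁ hPN₁ hyH
      have huN : u ∈ N := by
        have e : u = k⁻¹ * (k * u) := by group
        rw [e]; exact N.mul_mem (N.inv_mem (hN₁ hk)) hy
      have : u ∈ N ⊓ P := ⟨huN, hu⟩
      rw [hinf, Subgroup.mem_bot] at this
      rw [this, mul_one]; exact hk
    have hcardH : Nat.card H < n := by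
      rw [← hn]
      by_contra hc
      exact hHne (Subgroup.eq_top_of_card_eq H
        (le_antisymm (Subgroup.card_le_card_group H) (not_lt.1 hc)))
    haveI : (N₁.subgroupOf H).Normal :=
      Subgroup.normal_subgroupOf_of_le_normalizer (by
        rw [hH]; exact sup_le Subgroup.le_normalizer hPN₁)
    have hcop' : (Nat.card (N₁.subgroupOf H)).Coprime p := by
      rw [card_subgroupOf_of_le hN₁H]
      exact Nat.Coprime.coprime_dvd_left (Subgroup.card_dvd_of_le hN₁) hcop
    have hsup' : N₁.subgroupOf H ⊔ P.subgroupOf H = ⊤ := by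
      rw [← Subgroup.subgroupOf_sup hN₁H hPH, ← hH, Subgroup.subgroupOf_self]
    have hclos : ∀ S : Set G, Subgroup.closure S = P →
        Subgroup.closure (H.subtype ⁻¹' S) = P.subgroupOf H := by
      intro S hS
      apply Subgroup.map_injective H.subtype_injective
      rw [MonoidHom.map_closure, Subgroup.subgroupOf_map_subtype, inf_of_le_left hPH,
        Set.image_preimage_eq_of_subset, hS]
      intro y hy
      have : y ∈ P := by rw [← hS]; exact Subgroup.subset_closure hy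
      exact ⟨⟨y, hPH this⟩, rfl⟩
    have hyp' : ∀ x' ∈ N₁.subgroupOf H, ∀ c' ∈ (H.subtype ⁻¹' C), ∀ d' ∈ (H.subtype ⁻¹' D),
        IsPGroup p ↥(Subgroup.closure ({x' * c' * x'⁻¹, d'} : Set ↥H)) := by
      intro x' hx' c' hc' d' hd'
      have hR := h (x' : G) (hN₁ (Subgroup.mem_subgroupOf.1 hx')) (c' : G) hc' (d' : G) hd'
      refine (hR.comap_of_injective H.subtype H.subtype_injective).to_le ?_
      rw [Subgroup.closure_le]
      rintro y (rfl | rfl)
      · show H.subtype _ ∈ Subgroup.closure _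
        apply Subgroup.subset_closure
        simp
      · show H.subtype _ ∈ Subgroup.closure _
        apply Subgroup.subset_closure
        simp
    have key := ih (Nat.card H) hcardH ↥H rfl p hp3 (P.subgroupOf H) (N₁.subgroupOf H)
      (hP.comap_subtype) hcop' hsup' (H.subtype ⁻¹' C) (H.subtype ⁻¹' D) (hclos C hC)
      (hclos D hD) hyp'
      ⟨a, hPH ha⟩ (Subgroup.mem_subgroupOf.2 ha) ⟨x, hN₁H hx⟩ (Subgroup.mem_subgroupOf.2 hx)
    exact congrArg Subtype.val key
  -- induction hypothesis for quotients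
  have ihquot : ∀ M : Subgroup G, M.Normal → M ≠ ⊥ →
      ∀ a ∈ P, ∀ x ∈ N, a * x * a⁻¹ * x⁻¹ ∈ M := by
    intro M hM hMne a ha x hx
    haveI := hM
    have hcardQ : Nat.card (G ⧸ M) < n := by
      rw [← hn, ← Subgroup.index_eq_card, ← Subgroup.card_mul_index M]
      have h1 : 1 < Nat.card M := (Subgroup.one_lt_card_iff_ne_bot M).2 hMne
      have h2 : 0 < M.index := Nat.pos_of_ne_zero Subgroup.index_ne_zero_of_finite
      nlinarith
    have hπs : Function.Surjective (QuotientGroup.mk' M) := QuotientGroup.mk'_surjective M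
    haveI : (N.map (QuotientGroup.mk' M)).Normal := Subgroup.Normal.map hNn _ hπs
    have hcop' : (Nat.card (N.map (QuotientGroup.mk' M))).Coprime p :=
      Nat.Coprime.coprime_dvd_left (Subgroup.card_map_dvd N _) hcop
    have hsup' : N.map (QuotientGroup.mk' M) ⊔ P.map (QuotientGroup.mk' M) = ⊤ := by
      rw [← Subgroup.map_sup, hNP, ← MonoidHom.range_eq_map, MonoidHom.range_eq_top.2 hπs]
    have hclos : ∀ S : Set G, Subgroup.closure S = P →
        Subgroup.closure ((QuotientGroup.mk' M) '' S) = P.map (QuotientGroup.mk' M) := by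
      intro S hS
      rw [← MonoidHom.map_closure, hS]
    have hyp' : ∀ x' ∈ N.map (QuotientGroup.mk' M), ∀ c' ∈ ((QuotientGroup.mk' M) '' C),
        ∀ d' ∈ ((QuotientGroup.mk' M) '' D),
        IsPGroup p ↥(Subgroup.closure ({x' * c' * x'⁻¹, d'} : Set (G ⧸ M))) := by
      rintro _ ⟨x₀, hx₀, rfl⟩ _ ⟨c₀, hc₀, rfl⟩ _ ⟨d₀, hd₀, rfl⟩
      have hR := (h x₀ hx₀ c₀ hc₀ d₀ hd₀).map (QuotientGroup.mk' M)
      rw [MonoidHom.map_closure] at hR
      have e : (QuotientGroup.mk' M) '' ({x₀ * c₀ * x₀⁻¹, d₀} : Set G)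
          = {(QuotientGroup.mk' M) x₀ * (QuotientGroup.mk' M) c₀ * ((QuotientGroup.mk' M) x₀)⁻¹,
              (QuotientGroup.mk' M) d₀} := by
        rw [Set.image_pair, map_mul, map_mul, map_inv]
      rw [e] at hR
      exact hR
    have key := ih (Nat.card (G ⧸ M)) hcardQ (G ⧸ M) rfl p hp3 (P.map (QuotientGroup.mk' M))
      (N.map (QuotientGroup.mk' M)) (hP.map _) hcop' hsup' _ _ (hclos C hC) (hclos D hD) hyp'
      ((QuotientGroup.mk' M) a) (Subgroup.mem_map_of_mem _ ha) ((QuotientGroup.mk' M) x)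
      (Subgroup.mem_map_of_mem _ hx)
    have h1 : (QuotientGroup.mk' M) (a * x * a⁻¹ * x⁻¹) = 1 := by
      rw [map_mul, map_mul, map_mul, map_inv, map_inv, key]
      group
    exact (QuotientGroup.eq_one_iff _).1 h1
  -- coprime action: trivial on a series implies trivial
  have ca1 : ∀ N₀ : Subgroup G, N₀ ≤ N → (∀ a ∈ P, ∀ x ∈ N, a * x * a⁻¹ * x⁻¹ ∈ N₀) →
      (∀ a ∈ P, ∀ y ∈ N₀, a * y = y * a) → False := by
    intro N₀ hN₀ h1 h2
    apply hcon
    intro a ha x hx
    obtain ⟨y, hy⟩ : ∃ y, y = a * x * a⁻¹ * x⁻¹ := ⟨_, rfl⟩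
    have hyN₀ : y ∈ N₀ := hy ▸ h1 a ha x hx
    have hay : a * y = y * a := h2 a ha y hyN₀
    have haxa : a * x * a⁻¹ = y * x := by rw [hy]; group
    have hpow : ∀ k : ℕ, a ^ k * x * (a ^ k)⁻¹ = y ^ k * x := by
      intro k
      induction k with
      | zero => simp
      | succ k ihk =>
        have hayk : a * y ^ k = y ^ k * a :=
          (Commute.pow_right (show Commute a y from hay) k).eq
        have e1 : a ^ (k+1) * x * (a ^ (k+1))⁻¹ = a * (a ^ k * x * (a ^ k)⁻¹) * a⁻¹ := by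
          rw [pow_succ']
          generalize a ^ k = b
          group
        rw [e1, ihk]
        calc a * (y ^ k * x) * a⁻¹ = (a * y ^ k) * x * a⁻¹ := by simp only [mul_assoc]
          _ = y ^ k * (a * x * a⁻¹) := by rw [hayk]; simp only [mul_assoc]
          _ = y ^ (k+1) * x := by rw [haxa, pow_succ, mul_assoc]
    have h3 := hpow (orderOf a)
    rw [pow_orderOf_eq_one, one_mul, inv_one, mul_one] at h3
    have h4 : y ^ orderOf a = 1 := by
      have := congrArg (· * x⁻¹) h3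
      simpa using this.symm
    obtain ⟨ka, hka⟩ := (IsPGroup.iff_orderOf.1 hP) ⟨a, ha⟩
    have hoa : orderOf a = p ^ ka := by rw [← hka, Subgroup.orderOf_mk]
    have hd1 : orderOf y ∣ p ^ ka := hoa ▸ orderOf_dvd_of_pow_eq_one h4
    have hd2 : orderOf y ∣ Nat.card N := Subgroup.orderOf_dvd_natCard N (hN₀ hyN₀)
    have hy1 : orderOf y = 1 :=
      Nat.Coprime.eq_one_of_dvd ((hcop.pow_right ka).coprime_dvd_left hd2) hd1
    have hy1' : y = 1 := orderOf_eq_one_iff.1 hy1
    rw [hy] at hy1'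
    calc a * x = (a * x * a⁻¹ * x⁻¹) * (x * a) := by group
      _ = x * a := by rw [hy1', one_mul]
  haveI : Finite ↥P := inferInstance
  have hPsolv : Group.IsSolvable ↥P := by
    haveI := hP.isNilpotent
    exact IsNilpotent.to_isSolvable
  have hNne : N ≠ ⊥ := by
    intro hN
    apply hcon
    intro a ha x hx
    rw [hN, Subgroup.mem_bot] at hx
    rw [hx, mul_one, one_mul]
  -- N is a q-group
  have hq : ∃ q : ℕ, q.Prime ∧ IsPGroup q ↥N := by
    by_contra hno
    have hF : ∀ q : ℕ, q.Prime →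
        ¬ q ∣ (N ⊓ Subgroup.centralizer (P : Set G)).relIndex N := by
      intro q hqp
      haveI := Fact.mk hqp
      obtain ⟨Q', hQ'⟩ := Cfsg.Agent.S0023.result P N hPnorm hPN (Or.inl hPsolv) q
      have hQN : (Q' : Subgroup ↥N).map N.subtype ≤ N := Subgroup.map_subtype_le _
      have hQne : (Q' : Subgroup ↥N).map N.subtype ≠ N := by
        intro heq
        apply hno
        refine ⟨q, hqp, ?_⟩
        have htop : (Q' : Subgroup ↥N) = ⊤ := by
          apply Subgroup.map_injective N.subtype_injective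
          rw [heq, ← MonoidHom.range_eq_map, Subgroup.range_subtype]
        intro g
        obtain ⟨k, hk⟩ := Q'.2 ⟨g, htop ▸ Subgroup.mem_top g⟩
        refine ⟨k, ?_⟩
        have := congrArg Subtype.val hk
        simpa using this
      have hcent := ihsub _ hQN hQ' hQne
      have hQF : (Q' : Subgroup ↥N).map N.subtype ≤ N ⊓ Subgroup.centralizer (P : Set G) := by
        intro y hy
        refine Subgroup.mem_inf.2 ⟨hQN hy, ?_⟩
        rw [Subgroup.mem_centralizer_iff]
        intro a ha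
        exact hcent a ha y hy
      exact fun hd => sylow_map_relIndex N Q'
        (dvd_trans hd (Subgroup.relIndex_dvd_of_le_left N hQF))
    have h1 : (N ⊓ Subgroup.centralizer (P : Set G)).relIndex N = 1 :=
      Nat.eq_one_iff_not_exists_prime_dvd.2 hF
    have h2 : N ≤ N ⊓ Subgroup.centralizer (P : Set G) := Subgroup.relIndex_eq_one.1 h1
    apply hcon
    intro a ha x hx
    exact (Subgroup.mem_centralizer_iff.1 (h2 hx).2 a ha)
  obtain ⟨q, hqp, hNq⟩ := hq
  haveI := Fact.mk hqp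
  haveI : Nontrivial ↥N := (Subgroup.nontrivial_iff_ne_bot N).2 hNne
  have hNsolv : Group.IsSolvable ↥N := by
    haveI := hNq.isNilpotent
    exact IsNilpotent.to_isSolvable
  have hder : ⁅N, N⁆ ≠ N := by
    intro heq
    have h1 := Group.IsSolvable.commutator_lt_top_of_nontrivial ↥N
    apply h1.ne
    apply Subgroup.map_injective N.subtype_injective
    rw [Subgroup.map_subtype_commutator, heq, ← MonoidHom.range_eq_map, Subgroup.range_subtype]
  have hderle : ⁅N, N⁆ ≤ N := Subgroup.commutator_le_right N N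
  have hdern : (⁅N, N⁆ : Subgroup G).Normal := inferInstance
  have hnormtop : ∀ M : Subgroup G, M.Normal → P ≤ Subgroup.normalizer (M : Set G) := by
    intro M hM
    rw [Subgroup.normalizer_eq_top_iff.2 hM]; exact le_top
  have hder0 : ⁅N, N⁆ = ⊥ := by
    by_contra hne
    exact ca1 ⁅N, N⁆ hderle (ihquot _ hdern hne) (ihsub _ hderle (hnormtop _ hdern) hder)
  have hab : ∀ x ∈ N, ∀ y ∈ N, x * y = y * x := by
    intro x hx y hy
    have := Subgroup.commutator_eq_bot_iff_le_centralizer.1 hder0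
    exact (Subgroup.mem_centralizer_iff.1 (this hy) x hx)
  -- fixed points of P on N are trivial
  have hF0 : N ⊓ Subgroup.centralizer (P : Set G) = ⊥ := by
    by_contra hne
    have hFfix : ∀ f ∈ N ⊓ Subgroup.centralizer (P : Set G), ∀ g : G, g * f * g⁻¹ = f := by
      intro f hf g
      obtain ⟨n', hn', u, hu, rfl⟩ := hdecomp g
      have h1 : u * f = f * u := Subgroup.mem_centralizer_iff.1 hf.2 u hu
      have h2 : n' * f = f * n' := hab n' hn' f hf.1
      calc n' * u * f * (n' * u)⁻¹ = n' * (u * f) * u⁻¹ * n'⁻¹ := by group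
        _ = n' * (f * u) * u⁻¹ * n'⁻¹ := by rw [h1]
        _ = (n' * f) * n'⁻¹ := by group
        _ = f := by rw [h2]; group
    have hFn : (N ⊓ Subgroup.centralizer (P : Set G)).Normal :=
      ⟨fun f hf g => by rw [hFfix f hf g]; exact hf⟩
    refine ca1 _ inf_le_left (ihquot _ hFn hne) ?_
    intro a ha y hy
    exact Subgroup.mem_centralizer_iff.1 hy.2 a ha
  have hirr : ∀ N₁ : Subgroup G, N₁ ≤ N → P ≤ Subgroup.normalizer (N₁ : Set G) →
      N₁ = ⊥ ∨ N₁ = N := by
    intro N₁ hN₁ hPN₁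
    by_cases hne : N₁ = N
    · exact Or.inr hne
    · left
      rw [eq_bot_iff, ← hF0]
      intro y hy
      refine Subgroup.mem_inf.2 ⟨hN₁ hy, ?_⟩
      rw [Subgroup.mem_centralizer_iff]
      intro a ha
      exact ihsub N₁ hN₁ hPN₁ hne a ha y hy
  -- faithful
  have hK0 : P ⊓ Subgroup.centralizer (N : Set G) = ⊥ := by
    by_contra hne
    haveI hcn : (Subgroup.centralizer (N : Set G)).Normal := Subgroup.normal_centralizer
    have hKn : (P ⊓ Subgroup.centralizer (N : Set G)).Normal := by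
      refine ⟨fun k hk g => ?_⟩
      obtain ⟨n', hn', u, hu, rfl⟩ := hdecomp g
      have h1 : u * k * u⁻¹ ∈ P ⊓ Subgroup.centralizer (N : Set G) :=
        ⟨P.mul_mem (P.mul_mem hu hk.1) (P.inv_mem hu), hcn.conj_mem k hk.2 u⟩
      have h2 : n' * (u * k * u⁻¹) = (u * k * u⁻¹) * n' :=
        Subgroup.mem_centralizer_iff.1 h1.2 n' hn'
      have e : n' * u * k * (n' * u)⁻¹ = (n' * (u * k * u⁻¹)) * n'⁻¹ := by group
      rw [e, h2, mul_inv_cancel_right]
      exact h1
    apply hcon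
    intro a ha x hx
    have h1 := ihquot _ hKn hne a ha x hx
    have h2 : a * x * a⁻¹ * x⁻¹ ∈ N := by
      have e : a * x * a⁻¹ * x⁻¹ = (a * x * a⁻¹) * x⁻¹ := by group
      rw [e]; exact N.mul_mem (hNconj a x hx) (N.inv_mem hx)
    have h3 : a * x * a⁻¹ * x⁻¹ ∈ N ⊓ P := ⟨h2, h1.1⟩
    rw [hinf, Subgroup.mem_bot] at h3
    calc a * x = (a * x * a⁻¹ * x⁻¹) * (x * a) := by group
      _ = x * a := by rw [h3, one_mul]
  -- P is a Sylow subgroup; factorization
  have hcardG : Nat.card G = Nat.card N * Nat.card P := by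
    have h1 := act_card_sup P N hPnorm hPN
    rw [hNP] at h1
    rw [← h1]; exact (Subgroup.card_top).symm
  have hindex : P.index = Nat.card N := by
    have h1 := Subgroup.card_mul_index P
    rw [hcardG, mul_comm] at h1
    exact Nat.eq_of_mul_eq_mul_right Nat.card_pos h1
  have hPidx : ¬ p ∣ P.index := by
    rw [hindex]
    exact fun hd => (Nat.Prime.coprime_iff_not_dvd hpp).1 hcop.symm hd
  have hfact : ∀ x ∈ N, ∀ c ∈ C, ∀ d ∈ D,
      ∃ w ∈ N, w * d = d * w ∧ (w⁻¹ * x) * c = c * (w⁻¹ * x) := by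
    intro x hx c hc d hd
    have hcP := hCP c hc
    have hdP := hDP d hd
    obtain ⟨Q, hQ⟩ := (h x hx c hc d hd).exists_le_sylow
    obtain ⟨g, hg⟩ := MulAction.exists_smul_eq G (hP.toSylow hPidx) Q
    obtain ⟨w, hw, u, hu, rfl⟩ := hdecomp g
    have hmem : ∀ y ∈ Subgroup.closure ({x * c * x⁻¹, d} : Set G), w⁻¹ * y * w ∈ P := by
      intro y hy
      have h1 : y ∈ (Q : Subgroup G) := hQ hy
      rw [← hg, Sylow.coe_subgroup_smul, Subgroup.mem_pointwise_smul_iff_inv_smul_mem,
        IsPGroup.toSylow_coe] at h1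
      have h2 : u⁻¹ * (w⁻¹ * y * w) * u ∈ P := by
        simpa [MulAut.smul_def, MulAut.conj_inv_apply] using h1
      have e : w⁻¹ * y * w = u * (u⁻¹ * (w⁻¹ * y * w) * u) * u⁻¹ := by group
      rw [e]; exact P.mul_mem (P.mul_mem hu h2) (P.inv_mem hu)
    refine ⟨w, hw, ?_, ?_⟩
    · have h1 := hmem d (Subgroup.subset_closure (by simp))
      have h2 : d⁻¹ * (w⁻¹ * d * w) ∈ N := by
        have e : d⁻¹ * (w⁻¹ * d * w) = (d⁻¹ * w⁻¹ * (d⁻¹)⁻¹) * w := by group
        rw [e]; exact N.mul_mem (hNconj d⁻¹ w⁻¹ (N.inv_mem hw)) hw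
      have h3 : d⁻¹ * (w⁻¹ * d * w) ∈ N ⊓ P := ⟨h2, P.mul_mem (P.inv_mem hdP) h1⟩
      rw [hinf, Subgroup.mem_bot] at h3
      calc w * d = d * w * (d⁻¹ * (w⁻¹ * d * w))⁻¹ := by group
        _ = d * w := by rw [h3, inv_one, mul_one]
    · have h1 := hmem (x * c * x⁻¹) (Subgroup.subset_closure (by simp))
      have h1' : (w⁻¹ * x) * c * (w⁻¹ * x)⁻¹ ∈ P := by
        have e : (w⁻¹ * x) * c * (w⁻¹ * x)⁻¹ = w⁻¹ * (x * c * x⁻¹) * w := by group
        rw [e]; exact h1
      have hyN : w⁻¹ * x ∈ N := N.mul_mem (N.inv_mem hw) hx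
      have h2 : c⁻¹ * ((w⁻¹ * x) * c * (w⁻¹ * x)⁻¹) ∈ N := by
        have e : c⁻¹ * ((w⁻¹ * x) * c * (w⁻¹ * x)⁻¹)
            = (c⁻¹ * (w⁻¹ * x) * (c⁻¹)⁻¹) * (w⁻¹ * x)⁻¹ := by group
        rw [e]; exact N.mul_mem (hNconj c⁻¹ _ hyN) (N.inv_mem hyN)
      have h3 : c⁻¹ * ((w⁻¹ * x) * c * (w⁻¹ * x)⁻¹) ∈ N ⊓ P :=
        ⟨h2, P.mul_mem (P.inv_mem hcP) h1'⟩
      rw [hinf, Subgroup.mem_bot] at h3
      calc (w⁻¹ * x) * c = c * (c⁻¹ * ((w⁻¹ * x) * c * (w⁻¹ * x)⁻¹)) * (w⁻¹ * x) := by group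
        _ = c * (w⁻¹ * x) := by rw [h3, mul_one]
  -- central elements of P act fixed point freely
  have hcentral : ∀ z ∈ P, (∀ g ∈ P, z * g = g * z) → z ≠ 1 →
      ∀ v ∈ N, z * v = v * z → v = 1 := by
    intro z hz hzc hz1 v hv hzv
    have hPN₁ : P ≤ Subgroup.normalizer
        ((N ⊓ Subgroup.centralizer {z} : Subgroup G) : Set G) := by
      intro g hg
      apply Cfsg.Agent.Lib.Helper7.mem_normalizer_of_conj_mem
      intro y hy
      refine Subgroup.mem_inf.2 ⟨hNconj g y hy.1, ?_⟩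
      rw [Subgroup.mem_centralizer_singleton_iff]
      have h1 : y * z = z * y := Subgroup.mem_centralizer_singleton_iff.1 hy.2
      have h2 : z * g = g * z := hzc g hg
      have h3 : z * g⁻¹ = g⁻¹ * z := hzc g⁻¹ (P.inv_mem hg)
      calc g * y * g⁻¹ * z = g * y * (g⁻¹ * z) := by group
        _ = g * y * (z * g⁻¹) := by rw [h3]
        _ = g * (y * z) * g⁻¹ := by group
        _ = g * (z * y) * g⁻¹ := by rw [h1]
        _ = (g * z) * y * g⁻¹ := by group
        _ = (z * g) * y * g⁻¹ := by rw [h2]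
        _ = z * (g * y * g⁻¹) := by group
    rcases hirr _ inf_le_left hPN₁ with h1 | h1
    · have : v ∈ N ⊓ Subgroup.centralizer {z} :=
        ⟨hv, Subgroup.mem_centralizer_singleton_iff.2 hzv.symm⟩
      rw [h1, Subgroup.mem_bot] at this; exact this
    · exfalso; apply hz1
      have : z ∈ P ⊓ Subgroup.centralizer (N : Set G) := by
        refine Subgroup.mem_inf.2 ⟨hz, ?_⟩
        rw [Subgroup.mem_centralizer_iff]
        intro y hy
        have hy' : y ∈ N ⊓ Subgroup.centralizer {z} := by rw [h1]; exact hy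
        exact Subgroup.mem_centralizer_singleton_iff.1 hy'.2
      rw [hK0, Subgroup.mem_bot] at this; exact this
  have hPne : ∃ a ∈ P, a ≠ 1 := by
    by_contra hno
    apply hcon
    intro a ha x hx
    have : a = 1 := by by_contra h1; exact hno ⟨a, ha, h1⟩
    rw [this, one_mul, mul_one]
  have hgen_ne : ∀ S : Set G, Subgroup.closure S = P → ∀ M : Subgroup G, ¬ P ≤ M →
      ∃ s ∈ S, s ∉ M := by
    intro S hS M hPM
    by_contra hno
    apply hPM
    rw [← hS, Subgroup.closure_le]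
    intro s hs
    by_contra h1
    exact hno ⟨s, hs, h1⟩
  by_cases hPab : ∀ a ∈ P, ∀ b ∈ P, a * b = b * a
  · have hP1 : ¬ P ≤ ⊥ := by
      intro hle
      obtain ⟨a, ha, ha1⟩ := hPne
      exact ha1 (Subgroup.mem_bot.1 (hle ha))
    obtain ⟨c, hc, hc1⟩ := hgen_ne C hC ⊥ hP1
    obtain ⟨d, hd, hd1⟩ := hgen_ne D hD ⊥ hP1
    have hcP := hCP c hc
    have hdP := hDP d hd
    apply hNne
    rw [eq_bot_iff]
    intro x hx
    obtain ⟨w, hw, hwd, hyc⟩ := hfact x hx c hc d hd
    have hw1 : w = 1 := hcentral d hdP (fun g hg => hPab d hdP g hg)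
      (fun h => hd1 (Subgroup.mem_bot.2 h)) w hw hwd.symm
    rw [hw1, inv_one, one_mul] at hyc
    have hx1 : x = 1 := hcentral c hcP (fun g hg => hPab c hcP g hg)
      (fun h => hc1 (Subgroup.mem_bot.2 h)) x hx hyc.symm
    exact Subgroup.mem_bot.2 hx1
  · obtain ⟨a, haP, hanc, haZ2, hap⟩ : ∃ a ∈ P, (¬ ∀ g ∈ P, a * g = g * a) ∧
        (∀ g ∈ P, ∀ k ∈ P, (a * g * a⁻¹ * g⁻¹) * k = k * (a * g * a⁻¹ * g⁻¹)) ∧
        (∀ k ∈ P, a ^ p * k = k * a ^ p) := by
      have hcne : Subgroup.center ↥P ≠ ⊤ := by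
        intro htop
        apply hPab
        intro a ha b hb
        have : (⟨a, ha⟩ : ↥P) ∈ Subgroup.center ↥P := by rw [htop]; exact Subgroup.mem_top _
        have h1 := Subgroup.mem_center_iff.1 this ⟨b, hb⟩
        exact (congrArg Subtype.val h1).symm
      haveI : Nontrivial (↥P ⧸ Subgroup.center ↥P) := by
        apply (Finite.one_lt_card_iff_nontrivial).1
        rw [← Subgroup.index_eq_card]
        have h0 : (Subgroup.center ↥P).index ≠ 0 := Subgroup.index_ne_zero_of_finite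
        have h1 : (Subgroup.center ↥P).index ≠ 1 := fun h => hcne (Subgroup.index_eq_one.1 h)
        omega
      have hQp : IsPGroup p (↥P ⧸ Subgroup.center ↥P) := hP.to_quotient _
      haveI hcn : Nontrivial ↥(Subgroup.center (↥P ⧸ Subgroup.center ↥P)) :=
        hQp.center_nontrivial
      have hpdvd : p ∣ Nat.card ↥(Subgroup.center (↥P ⧸ Subgroup.center ↥P)) := by
        obtain ⟨k, hk⟩ := IsPGroup.iff_card.1 (hQp.to_subgroup (Subgroup.center _))
        have hk0 : k ≠ 0 := by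
          intro h0
          rw [h0, pow_zero] at hk
          have := Finite.one_lt_card_iff_nontrivial.2 hcn
          omega
        rw [hk]; exact dvd_pow_self p hk0
      obtain ⟨y, hy⟩ := exists_prime_orderOf_dvd_card' p hpdvd
      obtain ⟨a', ha'⟩ := QuotientGroup.mk_surjective (y : ↥P ⧸ Subgroup.center ↥P)
      have hy1 : (y : ↥P ⧸ Subgroup.center ↥P) ≠ 1 := by
        intro h1
        have : y = 1 := Subtype.ext h1
        rw [this, orderOf_one] at hy
        exact hpp.one_lt.ne hy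
      have hyp : (y : ↥P ⧸ Subgroup.center ↥P) ^ p = 1 := by
        have := pow_orderOf_eq_one y
        rw [hy] at this
        have h2 := congrArg Subtype.val this
        simpa using h2
      have hycent : ∀ t : ↥P ⧸ Subgroup.center ↥P, t * (y : _) = (y : _) * t :=
        fun t => Subgroup.mem_center_iff.1 y.2 t
      refine ⟨(a' : G), a'.2, ?_, ?_, ?_⟩
      · intro hall
        apply hy1
        rw [← ha']
        apply (QuotientGroup.eq_one_iff a').2
        rw [Subgroup.mem_center_iff]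
        intro g
        apply Subtype.ext
        exact (hall g g.2).symm
      · intro g hg k hk
        have hcomm : a' * ⟨g, hg⟩ * a'⁻¹ * (⟨g, hg⟩ : ↥P)⁻¹ ∈ Subgroup.center ↥P := by
          apply (QuotientGroup.eq_one_iff _).1
          rw [QuotientGroup.mk_mul, QuotientGroup.mk_mul, QuotientGroup.mk_mul,
            QuotientGroup.mk_inv, QuotientGroup.mk_inv, ha']
          have := hycent (QuotientGroup.mk ⟨g, hg⟩)
          rw [← this]; group
        have := Subgroup.mem_center_iff.1 hcomm ⟨k, hk⟩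
        exact (congrArg Subtype.val this).symm
      · intro k hk
        have hapc : a' ^ p ∈ Subgroup.center ↥P := by
          apply (QuotientGroup.eq_one_iff _).1
          rw [QuotientGroup.mk_pow, ha']; exact hyp
        have := Subgroup.mem_center_iff.1 hapc ⟨k, hk⟩
        exact (congrArg Subtype.val this).symm
    have hbound : ∀ c ∈ P, a * c ≠ c * a →
        Nat.card ↥(N ⊓ Subgroup.centralizer {c}) ^ 3 ≤ Nat.card N := by
      intro c hcP hac
      obtain ⟨z, hz⟩ : ∃ z, z = a * c * a⁻¹ * c⁻¹ := ⟨_, rfl⟩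
      have hzP : z ∈ P := by
        rw [hz]
        exact P.mul_mem (P.mul_mem (P.mul_mem haP hcP) (P.inv_mem haP)) (P.inv_mem hcP)
      have hzcent : ∀ k ∈ P, z * k = k * z := by
        intro k hk; rw [hz]; exact haZ2 c hcP k hk
      have hz1 : z ≠ 1 := by
        intro h1
        apply hac
        rw [hz] at h1
        calc a * c = (a * c * a⁻¹ * c⁻¹) * (c * a) := by group
          _ = c * a := by rw [h1, one_mul]
      have haca : a * c * a⁻¹ = z * c := by rw [hz]; group
      have hza : z * a = a * z := hzcent a haP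
      have hzc : z * c = c * z := hzcent c hcP
      have hzp : z ^ p = 1 := by
        have hpow : ∀ k : ℕ, a ^ k * c * (a ^ k)⁻¹ = z ^ k * c := by
          intro k
          induction k with
          | zero => simp
          | succ k ihk =>
            have hazk : a * z ^ k = z ^ k * a :=
              (Commute.pow_right (show Commute a z from hza.symm) k).eq
            have e1 : a ^ (k+1) * c * (a ^ (k+1))⁻¹ = a * (a ^ k * c * (a ^ k)⁻¹) * a⁻¹ := by
              rw [pow_succ']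
              generalize a ^ k = b
              group
            rw [e1, ihk]
            calc a * (z ^ k * c) * a⁻¹ = (a * z ^ k) * c * a⁻¹ := by simp only [mul_assoc]
              _ = z ^ k * (a * c * a⁻¹) := by rw [hazk]; simp only [mul_assoc]
              _ = z ^ (k+1) * c := by rw [haca, pow_succ, mul_assoc]
        have h1 := hpow p
        have h2 : a ^ p * c * (a ^ p)⁻¹ = c := by rw [hap c hcP, mul_inv_cancel_right]
        rw [h2] at h1
        have := congrArg (· * c⁻¹) h1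
        simpa using this.symm
      have hoz : orderOf z = p := orderOf_eq_prime hzp hz1
      have hfix : ∀ m : ℤ, ¬ (p : ℤ) ∣ m → ∀ v ∈ N, z ^ m * v = v * z ^ m → v = 1 := by
        intro m hm v hv hzv
        refine hcentral (z ^ m) (P.zpow_mem hzP m) ?_ ?_ v hv hzv
        · intro g hg
          exact ((show Commute z g from hzcent g hg).zpow_left m).eq
        · intro h1
          apply hm
          rw [← hoz]
          exact orderOf_dvd_iff_zpow_eq_one.2 h1
      exact bsn_count N hab p hpp hp3 hcop a c z haca hza hzc hzp hfix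
    have hPa : ¬ P ≤ Subgroup.centralizer {a} := by
      intro hle
      apply hanc
      intro g hg
      exact (Subgroup.mem_centralizer_singleton_iff.1 (hle hg)).symm
    obtain ⟨c, hc, hcM⟩ := hgen_ne C hC (Subgroup.centralizer {a}) hPa
    obtain ⟨d, hd, hdM⟩ := hgen_ne D hD (Subgroup.centralizer {a}) hPa
    have hbc := hbound c (hCP c hc)
      (fun h => hcM (Subgroup.mem_centralizer_singleton_iff.2 h.symm))
    have hbd := hbound d (hDP d hd)
      (fun h => hdM (Subgroup.mem_centralizer_singleton_iff.2 h.symm))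
    have hle : Nat.card N ≤ Nat.card ↥(N ⊓ Subgroup.centralizer {d}) *
        Nat.card ↥(N ⊓ Subgroup.centralizer {c}) := by
      classical
      choose w hw hwd hyc using fun x : ↥N => hfact x x.2 c hc d hd
      let f : ↥N → ↥(N ⊓ Subgroup.centralizer {d}) × ↥(N ⊓ Subgroup.centralizer {c}) :=
        fun x => (⟨w x, hw x, Subgroup.mem_centralizer_singleton_iff.2 (hwd x)⟩,
          ⟨(w x)⁻¹ * x, N.mul_mem (N.inv_mem (hw x)) x.2,
            Subgroup.mem_centralizer_singleton_iff.2 (hyc x)⟩)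
      have hf : Function.Injective f := by
        intro x y hxy
        have h1 : w x = w y :=
          congrArg (fun t => ((t.1 : ↥(N ⊓ Subgroup.centralizer {d})) : G)) hxy
        have h2 : (w x)⁻¹ * (x : G) = (w y)⁻¹ * (y : G) :=
          congrArg (fun t => ((t.2 : ↥(N ⊓ Subgroup.centralizer {c})) : G)) hxy
        rw [h1] at h2
        exact Subtype.ext (mul_left_cancel h2)
      have := Nat.card_le_card_of_injective f hf
      rwa [Nat.card_prod] at this
    have hNpos : 0 < Nat.card N := Nat.card_pos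
    have hN1 : Nat.card N ≤ 1 := by
      have h1 : (Nat.card N) ^ 3 ≤ (Nat.card ↥(N ⊓ Subgroup.centralizer {d}) *
          Nat.card ↥(N ⊓ Subgroup.centralizer {c})) ^ 3 := Nat.pow_le_pow_left hle 3
      have h3 : Nat.card ↥(N ⊓ Subgroup.centralizer {d}) ^ 3 *
          Nat.card ↥(N ⊓ Subgroup.centralizer {c}) ^ 3 ≤ Nat.card N * Nat.card N :=
        Nat.mul_le_mul hbd hbc
      rw [mul_pow] at h1
      have h4 : (Nat.card N) ^ 3 ≤ Nat.card N * Nat.card N := h1.trans h3
      have h5 : (Nat.card N * Nat.card N) * Nat.card N ≤ (Nat.card N * Nat.card N) * 1 := by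
        rw [mul_one]
        calc (Nat.card N * Nat.card N) * Nat.card N = (Nat.card N) ^ 3 := by ring
          _ ≤ Nat.card N * Nat.card N := h4
      exact Nat.le_of_mul_le_mul_left h5 (Nat.mul_pos hNpos hNpos)
    apply hNne
    exact (Subgroup.card_le_one_iff_eq_bot N).1 hN1

end Cfsg.Agent.Lib.Helper4
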