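import Mathlib

set_option autoImplicit false

namespace Cfsg.Agent.Lib.Helper4

open MulAction

section
variable {G : Type*} [Group G] {Ω : Type*} [MulAction G Ω]

/-- hand-made multiple transitivity of a subgroup -/
def NT (N : Subgroup G) (Ω : Type*) [MulAction G Ω] (m : ℕ) : Prop :=
  ∀ x y : Fin m ↪ Ω, ∃ g ∈ N, ∀ i, g • x i = y i

theorem nt_iff (N : Subgroup G) (m : ℕ) : NT N Ω m ↔ IsMultiplyPretransitive N Ω m := by
  rw [isMultiplyPretransitive_iff]
  constructor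
  · intro h x y
    obtain ⟨g, hg, hgx⟩ := h x y
    refine ⟨⟨g, hg⟩, ?_⟩
    ext i
    rw [Function.Embedding.smul_apply]
    exact hgx i
  · intro h x y
    obtain ⟨g, hg⟩ := h x y
    refine ⟨g.1, g.2, fun i => ?_⟩
    rw [← hg, Function.Embedding.smul_apply]
    rfl

theorem jn_mt3 (h : IsMultiplyPretransitive G Ω 3) {a b c a' b' c' : Ω} (hab : a ≠ b)
    (hac : a ≠ c) (hbc : b ≠ c) (hab' : a' ≠ b') (hac' : a' ≠ c') (hbc' : b' ≠ c') :
    ∃ g : G, g • a = a' ∧ g • b = b' ∧ g • c = c' := by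
  have hinj : Function.Injective ![a, b, c] := by
    intro i j hij
    fin_cases i <;> fin_cases j <;> simp_all
  have hinj' : Function.Injective ![a', b', c'] := by
    intro i j hij
    fin_cases i <;> fin_cases j <;> simp_all
  obtain ⟨g, hg⟩ := h.exists_smul_eq (⟨_, hinj⟩ : Fin 3 ↪ Ω) ⟨_, hinj'⟩
  refine ⟨g, ?_, ?_, ?_⟩
  · have := DFunLike.congr_fun hg 0
    simpa [Function.Embedding.smul_apply] using this
  · have := DFunLike.congr_fun hg 1
    simpa [Function.Embedding.smul_apply] using this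
  · have := DFunLike.congr_fun hg 2
    simpa [Function.Embedding.smul_apply] using this

theorem jn_mt4 (h : IsMultiplyPretransitive G Ω 4) {a b c d a' b' c' d' : Ω} (hab : a ≠ b)
    (hac : a ≠ c) (had : a ≠ d) (hbc : b ≠ c) (hbd : b ≠ d) (hcd : c ≠ d) (hab' : a' ≠ b')
    (hac' : a' ≠ c') (had' : a' ≠ d') (hbc' : b' ≠ c') (hbd' : b' ≠ d') (hcd' : c' ≠ d') :
    ∃ g : G, g • a = a' ∧ g • b = b' ∧ g • c = c' ∧ g • d = d' := by
  have hinj : Function.Injective ![a, b, c, d] := by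
    intro i j hij
    fin_cases i <;> fin_cases j <;> simp_all
  have hinj' : Function.Injective ![a', b', c', d'] := by
    intro i j hij
    fin_cases i <;> fin_cases j <;> simp_all
  obtain ⟨g, hg⟩ := h.exists_smul_eq (⟨_, hinj⟩ : Fin 4 ↪ Ω) ⟨_, hinj'⟩
  refine ⟨g, ?_, ?_, ?_, ?_⟩
  · have := DFunLike.congr_fun hg 0
    simpa [Function.Embedding.smul_apply] using this
  · have := DFunLike.congr_fun hg 1
    simpa [Function.Embedding.smul_apply] using this
  · have := DFunLike.congr_fun hg 2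
    simpa [Function.Embedding.smul_apply] using this
  · have := DFunLike.congr_fun hg 3
    simpa [Function.Embedding.smul_apply] using this

/-- A nontrivial normal subgroup of a faithful 2-transitive group is transitive. -/
theorem jn_normal_transitive [FaithfulSMul G Ω] (h2 : IsMultiplyPretransitive G Ω 2)
    (N : Subgroup G) [N.Normal] (hN : N ≠ ⊥) : ∀ a b : Ω, ∃ g ∈ N, g • a = b := by
  haveI : IsPreprimitive G Ω := isPreprimitive_of_is_two_pretransitive h2
  have hfix : fixedPoints N Ω ≠ Set.univ := by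
    intro hfix
    obtain ⟨n, hn, hn1⟩ := (Subgroup.ne_bot_iff_exists_ne_one).1 hN |>.imp
      (fun x hx => hx) |> fun ⟨x, hx⟩ => (⟨x.1, x.2, fun h => hx (Subtype.ext h)⟩ :
        ∃ n : G, n ∈ N ∧ n ≠ 1)
    apply hn1
    apply FaithfulSMul.eq_of_smul_eq_smul (α := Ω)
    intro a
    have ha : a ∈ fixedPoints N Ω := by rw [hfix]; exact Set.mem_univ a
    rw [one_smul]
    exact ha ⟨n, hn⟩
  haveI : IsPretransitive N Ω := IsQuasiPreprimitive.isPretransitive_of_normal hfix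
  intro a b
  obtain ⟨g, hg⟩ := exists_smul_eq N a b
  exact ⟨g.1, g.2, hg⟩

/-- Extension: transitive plus stabilizer `m`-transitive on the rest gives `(m+1)`-transitive. -/
theorem jn_nt_succ (N : Subgroup G) (m : ℕ) (a : Ω) (htr : ∀ b c : Ω, ∃ g ∈ N, g • b = c)
    (hst : ∀ x y : Fin m ↪ Ω, (∀ i, x i ≠ a) → (∀ i, y i ≠ a) →
      ∃ g ∈ N, g • a = a ∧ ∀ i, g • x i = y i) : NT N Ω (m + 1) := by
  intro x y
  obtain ⟨g₁, hg₁N, hg₁⟩ := htr (x (Fin.last m)) a
  obtain ⟨g₂, hg₂N, hg₂⟩ := htr (y (Fin.last m)) a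
  let x' : Fin m ↪ Ω := ⟨fun i => g₁ • x i.castSucc, by
    intro i j hij
    have := x.injective (smul_left_cancel g₁ hij)
    exact Fin.castSucc_injective m this⟩
  let y' : Fin m ↪ Ω := ⟨fun i => g₂ • y i.castSucc, by
    intro i j hij
    have := y.injective (smul_left_cancel g₂ hij)
    exact Fin.castSucc_injective m this⟩
  have hx' : ∀ i, x' i ≠ a := by
    intro i hi
    have h1 : g₁ • x i.castSucc = g₁ • x (Fin.last m) := by rw [hg₁]; exact hi
    have := x.injective (smul_left_cancel g₁ h1)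
    exact (Fin.castSucc_lt_last i).ne this
  have hy' : ∀ i, y' i ≠ a := by
    intro i hi
    have h1 : g₂ • y i.castSucc = g₂ • y (Fin.last m) := by rw [hg₂]; exact hi
    have := y.injective (smul_left_cancel g₂ h1)
    exact (Fin.castSucc_lt_last i).ne this
  obtain ⟨g, hgN, hga, hgx⟩ := hst x' y' hx' hy'
  refine ⟨g₂⁻¹ * g * g₁, N.mul_mem (N.mul_mem (N.inv_mem hg₂N) hgN) hg₁N, ?_⟩
  intro i
  rw [mul_smul, mul_smul, inv_smul_eq_iff]
  rcases Fin.eq_castSucc_or_eq_last i with ⟨j, rfl⟩ | rfl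
  · exact hgx j
  · rw [hg₁, hg₂, hga]

theorem jn_exists_not_mem [Finite Ω] [DecidableEq Ω] (s : Finset Ω) (h : s.card < Nat.card Ω) :
    ∃ c, c ∉ s := by
  haveI := Fintype.ofFinite Ω
  by_contra hcon
  have hs : s = Finset.univ :=
    Finset.eq_univ_iff_forall.2 (fun c => by_contra (fun hc => hcon ⟨c, hc⟩))
  rw [hs, Finset.card_univ, Nat.card_eq_fintype_card] at h
  exact lt_irrefl _ h

/-- The regular case of Jordan's theorem. -/
theorem jn_regular_case [FaithfulSMul G Ω] [Finite Ω] (k : ℕ) (hk3 : 3 ≤ k)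
    (hk : IsMultiplyPretransitive G Ω k) (hcard : k < Nat.card Ω) (N : Subgroup G) [hNn : N.Normal]
    (hN : N ≠ ⊥) (htr : ∀ a b : Ω, ∃ g ∈ N, g • a = b) (a : Ω)
    (hfree_a : ∀ n ∈ N, n • a = a → n = 1) :
    k = 3 ∧ (∀ n ∈ N, n ^ 2 = 1) ∧ ∀ n ∈ N, ∀ b : Ω, n • b = b → n = 1 := by
  classical
  haveI : Finite G := Finite.of_injective (MulAction.toPermHom G Ω) MulAction.toPerm_injective
  have hfree : ∀ n ∈ N, ∀ b : Ω, n • b = b → n = 1 := by
    intro n hn b hb
    obtain ⟨g, hgN, hg⟩ := htr a b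
    have h1 : g⁻¹ * n * g = 1 := by
      apply hfree_a _ (N.mul_mem (N.mul_mem (N.inv_mem hgN) hn) hgN)
      rw [mul_smul, mul_smul, hg, hb, ← hg, inv_smul_smul]
    have h2 : n = g * (g⁻¹ * n * g) * g⁻¹ := by group
    rw [h2, h1]; group
  have hinj : ∀ u ∈ N, ∀ w ∈ N, u • a = w • a → u = w := by
    intro u hu w hw huw
    have h1 : w⁻¹ * u = 1 := by
      apply hfree_a _ (N.mul_mem (N.inv_mem hw) hu)
      rw [mul_smul, huw, inv_smul_smul]
    exact (inv_mul_eq_one.1 h1).symm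
  have hconj : ∀ g : G, g • a = a → ∀ x ∈ N, ∀ y ∈ N, g • (x • a) = y • a → g * x * g⁻¹ = y := by
    intro g hg x hx y hy hxy
    have hga : g⁻¹ • a = a := by rw [inv_smul_eq_iff, hg]
    apply hinj _ (hNn.conj_mem x hx g) y hy
    rw [mul_smul, mul_smul, hga, hxy]
  have h3 : IsMultiplyPretransitive G Ω 3 := isMultiplyPretransitive_of_le hk3 hcard.le
  have h2 : IsMultiplyPretransitive G Ω 2 :=
    isMultiplyPretransitive_of_le (n := k) (by omega) hcard.le
  -- an element of prime order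
  obtain ⟨n₀, hn₀N, hn₀⟩ : ∃ n : G, n ∈ N ∧ n ≠ 1 := by
    obtain ⟨x, hx⟩ := (Subgroup.ne_bot_iff_exists_ne_one).1 hN
    exact ⟨x.1, x.2, fun h => hx (Subtype.ext h)⟩
  have hord : orderOf n₀ ≠ 1 := fun h => hn₀ (orderOf_eq_one_iff.1 h)
  obtain ⟨p, hp, hpd⟩ := Nat.exists_prime_and_dvd hord
  obtain ⟨x, hx_def⟩ : ∃ x, x = n₀ ^ (orderOf n₀ / p) := ⟨_, rfl⟩
  have hxo : orderOf x = p := by
    rw [hx_def]; exact orderOf_pow_orderOf_div (orderOf_pos n₀).ne' hpd
  have hxN : x ∈ N := by rw [hx_def]; exact N.pow_mem hn₀N _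
  have hx1 : x ≠ 1 := by
    intro h
    rw [h, orderOf_one] at hxo
    exact hp.one_lt.ne hxo
  have hxp : x ^ p = 1 := by rw [← hxo]; exact pow_orderOf_eq_one x
  have hne_a : ∀ u ∈ N, u ≠ 1 → a ≠ u • a := fun u hu hu1 h => hu1 (hfree_a u hu h.symm)
  have hall : ∀ y ∈ N, y ≠ 1 → y ^ p = 1 := by
    intro y hy hy1
    obtain ⟨g, hga, hgx⟩ := (is_two_pretransitive_iff.1 h2) (hne_a x hxN hx1) (hne_a y hy hy1)
    have := hconj g hga x hxN y hy hgx
    rw [← this, conj_pow, hxp]; group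
  have hp2 : p = 2 := by
    by_contra hp2
    have hx2 : x ^ 2 ≠ 1 := by
      intro h
      have := orderOf_dvd_of_pow_eq_one h
      rw [hxo] at this
      exact hp2 ((Nat.prime_dvd_prime_iff_eq hp Nat.prime_two).1 this)
    have hxi1 : x⁻¹ ≠ 1 := fun h => hx1 (inv_eq_one.1 h)
    have hxiN : x⁻¹ ∈ N := N.inv_mem hxN
    have hxxi : x • a ≠ x⁻¹ • a := by
      intro h
      have := hinj x hxN x⁻¹ hxiN h
      apply hx2
      rw [sq]
      nth_rewrite 1 [this]
      exact inv_mul_cancel x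
    obtain ⟨c, hc⟩ := jn_exists_not_mem ({a, x • a, x⁻¹ • a} : Finset Ω) (by
      have : ({a, x • a, x⁻¹ • a} : Finset Ω).card ≤ 3 := Finset.card_le_three
      omega)
    simp only [Finset.mem_insert, Finset.mem_singleton, not_or] at hc
    obtain ⟨hca, hcx, hcxi⟩ := hc
    obtain ⟨y, hyN, hy⟩ := htr a c
    obtain ⟨g, hga, hgx, hgxi⟩ := jn_mt3 h3 (hne_a x hxN hx1) (hne_a x⁻¹ hxiN hxi1) hxxi
      (hne_a x hxN hx1) (Ne.symm hca) (Ne.symm hcx)
    have e1 := hconj g hga x hxN x hxN hgx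
    have e2 := hconj g hga x⁻¹ hxiN y hyN (by rw [hgxi, hy])
    have e3 : y = x⁻¹ := by
      rw [← e2]
      calc g * x⁻¹ * g⁻¹ = (g * x * g⁻¹)⁻¹ := by group
        _ = x⁻¹ := by rw [e1]
    apply hcxi
    rw [← hy, e3]
  subst hp2
  have hexp : ∀ n ∈ N, n ^ 2 = 1 := by
    intro n hn
    by_cases hn1 : n = 1
    · rw [hn1, one_pow]
    · exact hall n hn hn1
  refine ⟨?_, hexp, hfree⟩
  by_contra hk3'
  have hk4 : 4 ≤ k := by omega
  have h4 : IsMultiplyPretransitive G Ω 4 := isMultiplyPretransitive_of_le hk4 hcard.le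
  obtain ⟨c₁, hc₁⟩ := jn_exists_not_mem ({a, x • a} : Finset Ω) (by
    have : ({a, x • a} : Finset Ω).card ≤ 2 := Finset.card_le_two
    omega)
  simp only [Finset.mem_insert, Finset.mem_singleton, not_or] at hc₁
  obtain ⟨hc₁a, hc₁x⟩ := hc₁
  obtain ⟨y, hyN, hy⟩ := htr a c₁
  have hy1 : y ≠ 1 := by
    intro h; rw [h, one_smul] at hy; exact hc₁a hy.symm
  have hyx : y ≠ x := by
    intro h; rw [h] at hy; exact hc₁x hy.symm
  have hxyN : x * y ∈ N := N.mul_mem hxN hyN
  have hxx : x * x = 1 := by rw [← sq]; exact hexp x hxN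
  have hxy1 : x * y ≠ 1 := by
    intro h
    apply hyx
    have : y = x⁻¹ := (eq_inv_of_mul_eq_one_right h)
    rw [this]
    exact (eq_inv_of_mul_eq_one_left hxx).symm
  have hxyx : x * y ≠ x := by
    intro h; exact hy1 (mul_eq_left.1 h)
  have hxyy : x * y ≠ y := by
    intro h; exact hx1 (mul_eq_right.1 h)
  obtain ⟨c₂, hc₂⟩ := jn_exists_not_mem ({a, x • a, y • a, (x * y) • a} : Finset Ω) (by
    have : ({a, x • a, y • a, (x * y) • a} : Finset Ω).card ≤ 4 := Finset.card_le_four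
    omega)
  simp only [Finset.mem_insert, Finset.mem_singleton, not_or] at hc₂
  obtain ⟨hc₂a, hc₂x, hc₂y, hc₂xy⟩ := hc₂
  obtain ⟨z, hzN, hz⟩ := htr a c₂
  have d1 : x • a ≠ y • a := fun h => hyx (hinj x hxN y hyN h).symm
  have d2 : x • a ≠ (x * y) • a := fun h => hxyx (hinj x hxN _ hxyN h).symm
  have d3 : y • a ≠ (x * y) • a := fun h => hxyy (hinj y hyN _ hxyN h).symm
  obtain ⟨g, hga, hgx, hgy, hgxy⟩ := jn_mt4 h4 (hne_a x hxN hx1) (hne_a y hyN hy1)
    (hne_a _ hxyN hxy1) d1 d2 d3 (hne_a x hxN hx1) (hne_a y hyN hy1) (Ne.symm hc₂a) d1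
    (Ne.symm hc₂x) (Ne.symm hc₂y)
  have e1 := hconj g hga x hxN x hxN hgx
  have e2 := hconj g hga y hyN y hyN hgy
  have e3 := hconj g hga (x * y) hxyN z hzN (by rw [hgxy, hz])
  have e4 : z = x * y := by
    rw [← e3]
    nth_rewrite 2 [← e1]
    nth_rewrite 2 [← e2]
    group
  apply hc₂xy
  rw [← hz, e4]

/-- The exceptional configuration in degree `> 4` is contradictory. -/
theorem jn_exceptional_contra [Finite Ω] (hcard : 4 ≤ Nat.card Ω) (N : Subgroup G) (a : Ω)
    (htr : ∀ b c : Ω, ∃ g ∈ N, g • b = c)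
    (hT : ∀ b c : Ω, b ≠ a → c ≠ a → ∃ u ∈ N, u • a = a ∧ u • b = c)
    (hE : ∀ u ∈ N, u • a = a → u ^ 2 = 1)
    (hF : ∀ u ∈ N, u • a = a → ∀ b : Ω, b ≠ a → u • b = b → u = 1) : False := by
  classical
  obtain ⟨β, hβ⟩ := jn_exists_not_mem ({a} : Finset Ω) (by rw [Finset.card_singleton]; omega)
  rw [Finset.mem_singleton] at hβ
  obtain ⟨γ, hγ⟩ := jn_exists_not_mem ({a, β} : Finset Ω) (by
    have : ({a, β} : Finset Ω).card ≤ 2 := Finset.card_le_two
    omega)
  simp only [Finset.mem_insert, Finset.mem_singleton, not_or] at hγ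
  obtain ⟨hγa, hγβ⟩ := hγ
  obtain ⟨a', ha'⟩ := jn_exists_not_mem ({a, β, γ} : Finset Ω) (by
    have : ({a, β, γ} : Finset Ω).card ≤ 3 := Finset.card_le_three
    omega)
  simp only [Finset.mem_insert, Finset.mem_singleton, not_or] at ha'
  obtain ⟨ha'a, ha'β, ha'γ⟩ := ha'
  obtain ⟨t, htN, hta, htβ⟩ := hT β γ hβ hγa
  have ht2 : t * t = 1 := by rw [← sq]; exact hE t htN hta
  have htγ : t • γ = β := by rw [← htβ, ← mul_smul, ht2, one_smul]
  obtain ⟨n, hnN, hna⟩ := htr a a'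
  have hnβ : n⁻¹ • β ≠ a := by
    intro h; apply ha'β; rw [← hna, ← h, smul_inv_smul]
  have hnγ : n⁻¹ • γ ≠ a := by
    intro h; apply ha'γ; rw [← hna, ← h, smul_inv_smul]
  obtain ⟨s, hsN, hsa, hsβ⟩ := hT _ _ hnβ hnγ
  have hs2 : s * s = 1 := by rw [← sq]; exact hE s hsN hsa
  have hsγ : s • (n⁻¹ • γ) = n⁻¹ • β := by rw [← hsβ, ← mul_smul, hs2, one_smul]
  obtain ⟨t', ht'_def⟩ : ∃ t', t' = n * s * n⁻¹ := ⟨_, rfl⟩
  have ht'N : t' ∈ N := by rw [ht'_def]; exact N.mul_mem (N.mul_mem hnN hsN) (N.inv_mem hnN)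
  have ht'β : t' • β = γ := by rw [ht'_def, mul_smul, mul_smul, hsβ, smul_inv_smul]
  have ht'γ : t' • γ = β := by rw [ht'_def, mul_smul, mul_smul, hsγ, smul_inv_smul]
  have ht'a : t' • a' = a' := by
    rw [ht'_def, mul_smul, mul_smul, ← hna, inv_smul_smul, hsa]
  -- w = t⁻¹ t' fixes β and γ
  have hwβ : (t⁻¹ * t') • β = β := by rw [mul_smul, ht'β, inv_smul_eq_iff, htβ]
  have hwγ : (t⁻¹ * t') • γ = γ := by rw [mul_smul, ht'γ, inv_smul_eq_iff, htγ]
  have hwN : t⁻¹ * t' ∈ N := N.mul_mem (N.inv_mem htN) ht'N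
  obtain ⟨m, hmN, hma⟩ := htr a β
  have hw1 : m⁻¹ * (t⁻¹ * t') * m = 1 := by
    apply hF _ (N.mul_mem (N.mul_mem (N.inv_mem hmN) hwN) hmN) _ (m⁻¹ • γ)
    · intro h
      apply hγβ
      rw [← hma, ← h, smul_inv_smul]
    · rw [mul_smul, mul_smul, smul_inv_smul, hwγ]
    · rw [mul_smul, mul_smul, hma, hwβ, ← hma, inv_smul_smul]
  have hw : t⁻¹ * t' = 1 := by
    have h2 : t⁻¹ * t' = m * (m⁻¹ * (t⁻¹ * t') * m) * m⁻¹ := by group
    rw [h2, hw1]; group
  have htt' : t' = t := (inv_mul_eq_one.1 hw).symm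
  have ht1 : t = 1 := by
    apply hF t htN hta a' ha'a
    rw [← htt']; exact ht'a
  rw [ht1, one_smul] at htβ
  exact hγβ htβ.symm

end

universe u v

theorem jn_faithful_stabilizer {G : Type u} [Group G] {Ω : Type v} [MulAction G Ω]
    [FaithfulSMul G Ω] (a : Ω) :
    FaithfulSMul (stabilizer G a) (SubMulAction.ofStabilizer G a) := by
  constructor
  intro g h hgh
  apply Subtype.ext
  apply FaithfulSMul.eq_of_smul_eq_smul (α := Ω)
  intro b
  by_cases hb : b = a
  · have h1 : (g : G) • a = a := g.2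
    have h2 : (h : G) • a = a := h.2
    rw [hb, h1, h2]
  · have h1 := hgh ⟨b, (SubMulAction.mem_ofStabilizer_iff G a).2 hb⟩
    exact congrArg Subtype.val h1

theorem jordan_aux : ∀ (k : ℕ), 2 ≤ k → ∀ {G : Type u} {Ω : Type v} [Group G] [MulAction G Ω]
    [FaithfulSMul G Ω] [Finite Ω], IsMultiplyPretransitive G Ω k → k < Nat.card Ω →
    ∀ (N : Subgroup G) [N.Normal], N ≠ ⊥ →
    (∀ a b : Ω, ∃ g ∈ N, g • a = b) ∧ (NT N Ω (k - 1) ∨
      (k = 3 ∧ (∀ n ∈ N, n ^ 2 = 1) ∧ ∀ n ∈ N, ∀ a : Ω, n • a = a → n = 1)) := by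
  intro k hk
  induction k, hk using Nat.le_induction with
  | base =>
    intro G Ω _ _ _ _ h2 hcard N _ hN
    have htr := jn_normal_transitive h2 N hN
    refine ⟨htr, Or.inl ?_⟩
    show NT N Ω 1
    intro x y
    obtain ⟨g, hg, hgx⟩ := htr (x 0) (y 0)
    refine ⟨g, hg, fun i => ?_⟩
    have : i = 0 := Subsingleton.elim _ _
    rw [this]; exact hgx
  | succ k hk ih =>
    intro G Ω _ _ _ _ hk1 hcard N hNn hN
    have h2 : IsMultiplyPretransitive G Ω 2 :=
      isMultiplyPretransitive_of_le (n := k + 1) (by omega) hcard.le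
    have htr := jn_normal_transitive h2 N hN
    refine ⟨htr, ?_⟩
    haveI : IsPretransitive G Ω := isPretransitive_of_is_two_pretransitive
    have hne : Nonempty Ω := by
      have : 0 < Nat.card Ω := by omega
      exact (Nat.card_pos_iff.1 this).1
    obtain ⟨a⟩ := hne
    haveI hfa := jn_faithful_stabilizer (G := G) a
    have hka : IsMultiplyPretransitive (stabilizer G a) (SubMulAction.ofStabilizer G a) k :=
      SubMulAction.ofStabilizer.isMultiplyPretransitive.1 hk1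
    have hcarda : k < Nat.card (SubMulAction.ofStabilizer G a) := by
      have := SubMulAction.nat_card_ofStabilizer_add_one_eq G a
      omega
    haveI hNan : (N.subgroupOf (stabilizer G a)).Normal := hNn.subgroupOf _
    by_cases hNa : N.subgroupOf (stabilizer G a) = ⊥
    · -- regular case
      have hfree_a : ∀ n ∈ N, n • a = a → n = 1 := by
        intro n hn hna
        have h1 : (⟨n, hna⟩ : stabilizer G a) ∈ N.subgroupOf (stabilizer G a) :=
          Subgroup.mem_subgroupOf.2 hn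
        rw [hNa, Subgroup.mem_bot] at h1
        exact congrArg Subtype.val h1
      obtain ⟨h3, hexp, hfree⟩ :=
        jn_regular_case (k + 1) (by omega) hk1 hcard N hN htr a hfree_a
      exact Or.inr ⟨h3, hexp, hfree⟩
    · obtain ⟨htra, hcase⟩ := ih hka hcarda (N.subgroupOf (stabilizer G a)) hNa
      have hT : ∀ b c : Ω, b ≠ a → c ≠ a → ∃ u ∈ N, u • a = a ∧ u • b = c := by
        intro b c hb hc
        obtain ⟨g, hg, hgb⟩ := htra ⟨b, (SubMulAction.mem_ofStabilizer_iff G a).2 hb⟩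
          ⟨c, (SubMulAction.mem_ofStabilizer_iff G a).2 hc⟩
        exact ⟨g.1, Subgroup.mem_subgroupOf.1 hg, g.2, congrArg Subtype.val hgb⟩
      rcases hcase with hnt | ⟨hk3, hexp, hfree⟩
      · left
        have hk' : k + 1 - 1 = (k - 1) + 1 := by omega
        rw [hk']
        apply jn_nt_succ N (k - 1) a htr
        intro x y hx hy
        let x' : Fin (k - 1) ↪ SubMulAction.ofStabilizer G a :=
          ⟨fun i => ⟨x i, (SubMulAction.mem_ofStabilizer_iff G a).2 (hx i)⟩, by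
            intro i j hij
            exact x.injective (congrArg Subtype.val hij)⟩
        let y' : Fin (k - 1) ↪ SubMulAction.ofStabilizer G a :=
          ⟨fun i => ⟨y i, (SubMulAction.mem_ofStabilizer_iff G a).2 (hy i)⟩, by
            intro i j hij
            exact y.injective (congrArg Subtype.val hij)⟩
        obtain ⟨g, hg, hgx⟩ := hnt x' y'
        exact ⟨g.1, Subgroup.mem_subgroupOf.1 hg, g.2, fun i => congrArg Subtype.val (hgx i)⟩
      · exfalso
        apply jn_exceptional_contra (Ω := Ω) (by omega) N a htr hT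
        · intro u hu hua
          have h1 := hexp ⟨u, hua⟩ (Subgroup.mem_subgroupOf.2 hu)
          exact congrArg Subtype.val h1
        · intro u hu hua b hb hub
          have h1 := hfree ⟨u, hua⟩ (Subgroup.mem_subgroupOf.2 hu)
            ⟨b, (SubMulAction.mem_ofStabilizer_iff G a).2 hb⟩ (Subtype.ext hub)
          exact congrArg Subtype.val h1

/-- Jordan's theorem on normal subgroups of multiply transitive groups. -/
theorem jordan_normal {α : Type*} [Fintype α] [DecidableEq α] (G : Subgroup (Equiv.Perm α))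
    {k : ℕ} (hk : 1 < k) (hdeg : k < Fintype.card α) (hG : IsMultiplyPretransitive G α k)
    (N : Subgroup G) [N.Normal] (hN : N ≠ ⊥) :
    IsMultiplyPretransitive N α (k - 1) ∨
      (k = 3 ∧ IsMulCommutative N ∧ ∀ n ∈ N, n ^ 2 = 1) := by
  have hcard : k < Nat.card α := by rw [Nat.card_eq_fintype_card]; exact hdeg
  obtain ⟨-, h⟩ := jordan_aux k hk hG hcard N hN
  rcases h with h | ⟨h3, hexp, -⟩
  · left
    exact (nt_iff N (k - 1)).1 h
  · right
    refine ⟨h3, ?_, hexp⟩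
    constructor
    constructor
    intro x y
    apply Subtype.ext
    have hx := hexp x.1 x.2
    have hy := hexp y.1 y.2
    have hxy := hexp (x.1 * y.1) (N.mul_mem x.2 y.2)
    show x.1 * y.1 = y.1 * x.1
    have e1 : x.1⁻¹ = x.1 := by
      rw [inv_eq_iff_mul_eq_one, ← sq]; exact hx
    have e2 : y.1⁻¹ = y.1 := by
      rw [inv_eq_iff_mul_eq_one, ← sq]; exact hy
    have e3 : (x.1 * y.1)⁻¹ = x.1 * y.1 := by
      rw [inv_eq_iff_mul_eq_one, ← sq]; exact hxy
    rw [← e3, mul_inv_rev, e1, e2]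

end Cfsg.Agent.Lib.Helper4
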