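import Mathlib
import Cfsg.Agent.Lib.Helper2.Index
import Cfsg.Agent.Lib.Helper4.JordanNormal
import Cfsg.Agent.Lib.Helper4.Hall
import Cfsg.Agent.S0035

set_option autoImplicit false

namespace Cfsg.Agent.Lib.Helper4

open MulAction
open scoped Pointwise

/-- If all points of an invariant subset have stabilizers of the same relative index `e`
in `E`, then `e` divides the size of the subset. -/
theorem bt_dvd_ncard {G : Type*} [Group G] {Ω : Type*} [MulAction G Ω] [Finite Ω]
    (E : Subgroup G) (X : Set Ω) (hX : ∀ g ∈ E, ∀ x ∈ X, g • x ∈ X) (e : ℕ)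
    (he : ∀ x ∈ X, (E ⊓ stabilizer G x).relIndex E = e) : e ∣ X.ncard := by
  classical
  let P : SubMulAction ↥E Ω := { carrier := X, smul_mem' := fun g x hx => hX g.1 g.2 x hx }
  have hstab : ∀ m : P, (stabilizer ↥E m).index = e := by
    intro m
    rw [SubMulAction.stabilizer_of_subMul]
    have h1 : stabilizer ↥E (m : Ω) = (stabilizer G (m : Ω)).subgroupOf E := by
      ext g
      rw [mem_stabilizer_iff, Subgroup.mem_subgroupOf, mem_stabilizer_iff]
      rfl
    rw [h1]
    have := he m.1 m.2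
    rw [Subgroup.inf_relIndex_left] at this
    exact this
  have hcard : Nat.card P = X.ncard := Nat.card_coe_set_eq X
  haveI : Finite P := Finite.of_injective (fun m : P => (m : Ω)) Subtype.val_injective
  haveI : Fintype (orbitRel.Quotient ↥E P) := Fintype.ofFinite _
  have h2 : Nat.card P = Nat.card (Σ ω : orbitRel.Quotient ↥E P, ω.orbit) :=
    Nat.card_congr (selfEquivSigmaOrbits' ↥E P)
  rw [Nat.card_sigma] at h2
  have h3 : ∀ ω : orbitRel.Quotient ↥E P, Nat.card ω.orbit = e := by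
    intro ω
    induction ω using Quotient.inductionOn' with
    | h m =>
      rw [orbitRel.Quotient.orbit_mk, Nat.card_coe_set_eq, ← index_stabilizer]
      exact hstab m
  rw [Finset.sum_congr rfl (fun ω _ => h3 ω), Finset.sum_const, smul_eq_mul] at h2
  rw [← hcard, h2]
  exact Dvd.intro_left _ rfl

section wielandt
variable {N : Type*} [Group N] [Finite N] {Ω : Type*} [MulAction N Ω] [Finite Ω]

theorem bt_relIndex_ne_zero (A B : Subgroup N) : A.relIndex B ≠ 0 := by
  unfold Subgroup.relIndex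
  exact Subgroup.index_ne_zero_of_finite

theorem bt_claimA (c : ℕ)
    (hc : ∀ x y : Ω, x ≠ y → (stabilizer N x ⊓ stabilizer N y).relIndex (stabilizer N x) = c)
    (a : Ω) (B : Set Ω) (hB : IsBlock N B) (ha : a ∈ B) : c ∣ B.ncard - 1 := by
  have h := bt_dvd_ncard (stabilizer N a) (B \ {a}) ?_ c ?_
  · rwa [Set.ncard_diff_singleton_of_mem ha] at h
  · intro g hg x hx
    have hgB : g • B = B := mem_stabilizer_iff.1 (hB.stabilizer_le ha hg)
    refine ⟨?_, ?_⟩
    · rw [← hgB]; exact Set.smul_mem_smul_set hx.1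
    · intro h
      apply hx.2
      have hga : g • a = a := mem_stabilizer_iff.1 hg
      rw [Set.mem_singleton_iff] at h ⊢
      rw [← hga] at h
      exact smul_left_cancel g h
  · intro x hx
    apply hc a x
    intro h
    exact hx.2 (by rw [Set.mem_singleton_iff]; exact h.symm)

theorem bt_claimB (c : ℕ)
    (hc : ∀ x y : Ω, x ≠ y → (stabilizer N x ⊓ stabilizer N y).relIndex (stabilizer N x) = c)
    (a : Ω) (B : Set Ω) (hB : IsBlock N B) (ha : a ∈ B) (g₀ : N) (hb : g₀ • a ∉ B) :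
    ∀ x ∈ g₀ • B, stabilizer N a ⊓ stabilizer N (g₀ • a) ≤ stabilizer N x := by
  have hB' : IsBlock N (g₀ • B) := hB.translate g₀
  have hbB' : g₀ • a ∈ g₀ • B := Set.smul_mem_smul_set ha
  have hne : g₀ • B ≠ (1 : N) • B := by
    rw [one_smul]
    intro h
    exact hb (h ▸ hbB')
  have hdisj : Disjoint (g₀ • B) ((1 : N) • B) := hB hne
  rw [one_smul] at hdisj
  have haB' : a ∉ g₀ • B := fun h => (Set.disjoint_left.1 hdisj) h ha
  obtain ⟨E, hE⟩ : ∃ E : Subgroup N, E = stabilizer N a ⊓ stabilizer N (g₀ • B) := ⟨_, rfl⟩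
  have hEH : E ≤ stabilizer N a := by rw [hE]; exact inf_le_left
  have hstabx : ∀ x ∈ g₀ • B, stabilizer N x ≤ stabilizer N (g₀ • B) :=
    fun x hx => hB'.stabilizer_le hx
  have hEx : ∀ x ∈ g₀ • B, E ⊓ stabilizer N x = stabilizer N a ⊓ stabilizer N x := by
    intro x hx
    rw [hE, inf_assoc, inf_eq_right.2 (hstabx x hx)]
  have hxa : ∀ x ∈ g₀ • B, a ≠ x := fun x hx h => haB' (h ▸ hx)
  have hmul : ∀ x ∈ g₀ • B, (E ⊓ stabilizer N x).relIndex E * E.relIndex (stabilizer N a) = c := by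
    intro x hx
    rw [Subgroup.relIndex_mul_relIndex _ _ _ inf_le_left hEH, hEx x hx]
    exact hc a x (hxa x hx)
  have hr0 : E.relIndex (stabilizer N a) ≠ 0 := bt_relIndex_ne_zero _ _
  have he : ∀ x ∈ g₀ • B, (E ⊓ stabilizer N x).relIndex E = c / E.relIndex (stabilizer N a) := by
    intro x hx
    exact Nat.eq_div_of_mul_eq_left hr0 (hmul x hx)
  have hdvd1 : c / E.relIndex (stabilizer N a) ∣ (g₀ • B).ncard := by
    apply bt_dvd_ncard E (g₀ • B) _ _ he
    intro g hg x hx
    have hgB : g • (g₀ • B) = g₀ • B := by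
      rw [hE] at hg
      exact mem_stabilizer_iff.1 (Subgroup.mem_inf.1 hg).2
    rw [← hgB]; exact Set.smul_mem_smul_set hx
  rw [Set.ncard_smul_set] at hdvd1
  have hdvd2 : c / E.relIndex (stabilizer N a) ∣ c := by
    have := hmul _ hbB'
    rw [he _ hbB'] at this
    exact Dvd.intro _ this
  have hdvd3 : c / E.relIndex (stabilizer N a) ∣ B.ncard - 1 :=
    dvd_trans hdvd2 (bt_claimA c hc a B hB ha)
  have hBpos : 0 < B.ncard := (Set.ncard_pos (Set.toFinite B)).2 ⟨a, ha⟩
  have hone : c / E.relIndex (stabilizer N a) = 1 := by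
    have h := Nat.dvd_sub hdvd1 hdvd3
    have : B.ncard - (B.ncard - 1) = 1 := by omega
    rw [this] at h
    exact Nat.dvd_one.1 h
  intro x hx
  have h1 := he x hx
  rw [hone, Subgroup.relIndex_eq_one] at h1
  have h2 : stabilizer N a ⊓ stabilizer N (g₀ • a) ≤ E := by
    rw [hE]
    exact inf_le_inf_left _ (hstabx _ hbB')
  exact le_trans h2 (le_trans h1 inf_le_right)

/-- Wielandt: a `3/2`-transitive group that is not primitive is a Frobenius group. -/
theorem bt_wielandt [FaithfulSMul N Ω] [IsPretransitive N Ω] (c : ℕ)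
    (hc : ∀ x y : Ω, x ≠ y → (stabilizer N x ⊓ stabilizer N y).relIndex (stabilizer N x) = c)
    (B : Set Ω) (hB : IsBlock N B) (hBnt : ¬ IsTrivialBlock B) :
    ∀ x y : Ω, x ≠ y → stabilizer N x ⊓ stabilizer N y = ⊥ := by
  unfold IsTrivialBlock at hBnt
  rw [not_or] at hBnt
  obtain ⟨hsub, huniv⟩ := hBnt
  rw [Set.not_subsingleton_iff] at hsub
  obtain ⟨a, ha, e', he', hae'⟩ := hsub
  have hex : ∃ b, b ∉ B := by
    by_contra h
    apply huniv
    rw [Set.eq_univ_iff_forall]
    intro x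
    by_contra hx
    exact h ⟨x, hx⟩
  have hc0 : c ≠ 0 := by
    rw [← hc a e' hae']
    exact bt_relIndex_ne_zero _ _
  -- key: for b ∉ B, the two-point stabilizer fixes B pointwise
  have key : ∀ b, b ∉ B → ∀ x ∈ B, stabilizer N a ⊓ stabilizer N b ≤ stabilizer N x := by
    intro b hb x hx
    obtain ⟨g₀, hg₀⟩ := exists_smul_eq N a b
    have hB' : IsBlock N (g₀ • B) := hB.translate g₀
    have hbB' : b ∈ g₀ • B := by rw [← hg₀]; exact Set.smul_mem_smul_set ha
    have hne : g₀ • B ≠ (1 : N) • B := by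
      rw [one_smul]
      intro h
      exact hb (h ▸ hbB')
    have hdisj : Disjoint (g₀ • B) ((1 : N) • B) := hB hne
    rw [one_smul] at hdisj
    have haB' : a ∉ g₀ • B := fun h => (Set.disjoint_left.1 hdisj) h ha
    have hga : g₀⁻¹ • b = a := by rw [← hg₀, inv_smul_smul]
    have h := bt_claimB c hc b (g₀ • B) hB' hbB' g₀⁻¹ (by rw [hga]; exact haB') x
      (by rw [inv_smul_smul]; exact hx)
    rw [hga, inf_comm] at h
    exact h
  obtain ⟨b₀, hb₀⟩ := hex
  obtain ⟨L, hL⟩ : ∃ L : Subgroup N, L = stabilizer N a ⊓ stabilizer N e' := ⟨_, rfl⟩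
  have hLb : ∀ b, b ∉ B → L ≤ stabilizer N a ⊓ stabilizer N b := by
    intro b hb
    have hab : a ≠ b := fun h => hb (h ▸ ha)
    have hK₀L : stabilizer N a ⊓ stabilizer N b ≤ L := by
      rw [hL]
      exact le_inf inf_le_left (key b hb e' he')
    have hLH : L ≤ stabilizer N a := by rw [hL]; exact inf_le_left
    have h1 := Subgroup.relIndex_mul_relIndex _ _ _ hK₀L hLH
    rw [hc a b hab, hL, hc a e' hae', ← hL] at h1
    have h2 : (stabilizer N a ⊓ stabilizer N b).relIndex L = 1 := by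
      have : (stabilizer N a ⊓ stabilizer N b).relIndex L * c = 1 * c := by rw [h1, one_mul]
      exact Nat.eq_of_mul_eq_mul_right (Nat.pos_of_ne_zero hc0) this
    exact Subgroup.relIndex_eq_one.1 h2
  have hLbot : L = ⊥ := by
    rw [Subgroup.eq_bot_iff_forall]
    intro g hg
    apply FaithfulSMul.eq_of_smul_eq_smul (α := Ω)
    intro y
    rw [one_smul]
    by_cases hy : y ∈ B
    · exact mem_stabilizer_iff.1 (key b₀ hb₀ y hy (hLb b₀ hb₀ hg))
    · exact mem_stabilizer_iff.1 (Subgroup.mem_inf.1 (hLb y hy hg)).2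
  have hccard : c = Nat.card (stabilizer N a) := by
    rw [← hc a e' hae', ← hL, hLbot, Subgroup.relIndex_bot_left]
  intro x y hxy
  have hcardx : Nat.card (stabilizer N x) = Nat.card (stabilizer N a) := by
    have h1 := Subgroup.card_mul_index (stabilizer N x)
    have h2 := Subgroup.card_mul_index (stabilizer N a)
    rw [index_stabilizer_of_transitive] at h1 h2
    have hpos : 0 < Nat.card Ω := Nat.card_pos_iff.2 ⟨⟨a⟩, inferInstance⟩
    exact Nat.eq_of_mul_eq_mul_right hpos (h1.trans h2.symm)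
  have h1 := Subgroup.relIndex_mul_relIndex ⊥ (stabilizer N x ⊓ stabilizer N y) (stabilizer N x)
    bot_le inf_le_left
  rw [Subgroup.relIndex_bot_left, Subgroup.relIndex_bot_left, hc x y hxy, hcardx, ← hccard] at h1
  have h2 : Nat.card ↥(stabilizer N x ⊓ stabilizer N y) = 1 := by
    have : Nat.card ↥(stabilizer N x ⊓ stabilizer N y) * c = 1 * c := by rw [h1, one_mul]
    exact Nat.eq_of_mul_eq_mul_right (Nat.pos_of_ne_zero hc0) this
  exact Subgroup.card_eq_one.1 h2

end wielandt


section main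
universe u v
variable {G : Type u} [Group G] {Ω : Type v} [MulAction G Ω]

theorem bt_map_stab (N : Subgroup G) [N.Normal] (g : G) (a : Ω) :
    (stabilizer ↥N a).map (MulAut.conjNormal g : ↥N ≃* ↥N).toMonoidHom
      = stabilizer ↥N (g • a) := by
  ext n
  constructor
  · rintro ⟨m, hm, rfl⟩
    rw [mem_stabilizer_iff]
    have hm' : (m : G) • a = a := mem_stabilizer_iff.1 hm
    show ((MulAut.conjNormal g m : ↥N) : G) • (g • a) = g • a
    rw [MulAut.conjNormal_apply, mul_smul, mul_smul, inv_smul_smul, hm']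
  · intro hn
    have hn' : (n : G) • (g • a) = g • a := mem_stabilizer_iff.1 hn
    refine ⟨(MulAut.conjNormal g : ↥N ≃* ↥N).symm n, ?_, ?_⟩
    · rw [SetLike.mem_coe, mem_stabilizer_iff]
      show (((MulAut.conjNormal g : ↥N ≃* ↥N).symm n : ↥N) : G) • a = a
      rw [MulAut.conjNormal_symm_apply, mul_smul, mul_smul, hn', inv_smul_smul]
    · simp

/-- Half-transitivity of a normal subgroup of a 2-transitive group. -/
theorem bt_half_trans (h2 : IsMultiplyPretransitive G Ω 2) (N : Subgroup G) [N.Normal] :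
    ∃ c : ℕ, ∀ x y : Ω, x ≠ y →
      (stabilizer ↥N x ⊓ stabilizer ↥N y).relIndex (stabilizer ↥N x) = c := by
  by_cases hex : ∃ a b : Ω, a ≠ b
  · obtain ⟨a₀, b₀, hab⟩ := hex
    refine ⟨(stabilizer ↥N a₀ ⊓ stabilizer ↥N b₀).relIndex (stabilizer ↥N a₀), ?_⟩
    intro x y hxy
    obtain ⟨g, hga, hgb⟩ := (is_two_pretransitive_iff.1 h2) hab hxy
    have hinj : Function.Injective (MulAut.conjNormal g : ↥N ≃* ↥N).toMonoidHom :=
      (MulAut.conjNormal g : ↥N ≃* ↥N).injective
    rw [← hga, ← hgb, ← bt_map_stab N g a₀, ← bt_map_stab N g b₀,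
      ← Subgroup.map_inf _ _ _ hinj, Subgroup.relIndex_map_map_of_injective _ _ hinj]
  · exact ⟨0, fun x y hxy => absurd ⟨x, y, hxy⟩ hex⟩

/-- The regular case: a regular normal subgroup of a 2-transitive group is elementary abelian. -/
theorem bt_regular [Finite G] [FaithfulSMul G Ω] (h2 : IsMultiplyPretransitive G Ω 2)
    (N : Subgroup G) [hNn : N.Normal] (hN : N ≠ ⊥)
    (hreg : ∀ a : Ω, ∀ n ∈ N, n • a = a → n = 1) :
    (∀ x ∈ N, ∀ y ∈ N, x * y = y * x) ∧ ∃ p : ℕ, p.Prime ∧ ∀ n ∈ N, n ^ p = 1 := by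
  classical
  obtain ⟨⟨n₀, hn₀N⟩, hn₀⟩ := Subgroup.ne_bot_iff_exists_ne_one.1 hN
  have hn₀1 : n₀ ≠ 1 := fun h => hn₀ (Subtype.ext h)
  obtain ⟨a, ha⟩ : ∃ a : Ω, n₀ • a ≠ a := by
    by_contra h
    apply hn₀1
    apply FaithfulSMul.eq_of_smul_eq_smul (α := Ω)
    intro b
    rw [one_smul]
    by_contra hb
    exact h ⟨b, hb⟩
  have hconj : ∀ x ∈ N, ∀ y ∈ N, x ≠ 1 → y ≠ 1 → ∃ g : G, g * x * g⁻¹ = y := by
    intro x hx y hy hx1 hy1
    have hxa : a ≠ x • a := fun h => hx1 (hreg a x hx h.symm)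
    have hya : a ≠ y • a := fun h => hy1 (hreg a y hy h.symm)
    obtain ⟨g, hga, hgx⟩ := (is_two_pretransitive_iff.1 h2) hxa hya
    refine ⟨g, ?_⟩
    have hmem : y⁻¹ * (g * x * g⁻¹) ∈ N := N.mul_mem (N.inv_mem hy) (hNn.conj_mem x hx g)
    have hfix : (y⁻¹ * (g * x * g⁻¹)) • a = a := by
      have hga' : g⁻¹ • a = a := by rw [inv_smul_eq_iff, hga]
      rw [mul_smul, mul_smul, mul_smul, hga', hgx, inv_smul_smul]
    have := hreg a _ hmem hfix
    rw [inv_mul_eq_one] at this
    exact this.symm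
  haveI : Nontrivial ↥N := ⟨⟨⟨n₀, hn₀N⟩, 1, hn₀⟩⟩
  have hcard1 : Nat.card ↥N ≠ 1 := by
    intro h
    exact hN (Subgroup.card_eq_one.1 h)
  obtain ⟨p, hp⟩ : ∃ p, p = (Nat.card ↥N).minFac := ⟨_, rfl⟩
  have hpp : p.Prime := by rw [hp]; exact Nat.minFac_prime hcard1
  haveI : Fact p.Prime := ⟨hpp⟩
  have hpd : p ∣ Nat.card ↥N := by rw [hp]; exact Nat.minFac_dvd _
  obtain ⟨x₀, hx₀⟩ := exists_prime_orderOf_dvd_card' p hpd
  have hx₀1 : (x₀ : G) ≠ 1 := by
    intro h
    have : x₀ = 1 := Subtype.ext h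
    rw [this, orderOf_one] at hx₀
    exact hpp.one_lt.ne hx₀
  have hx₀p : (x₀ : G) ^ p = 1 := by
    have := pow_orderOf_eq_one x₀
    rw [hx₀] at this
    exact congrArg Subtype.val this
  have hexp : ∀ n ∈ N, n ^ p = 1 := by
    intro n hn
    by_cases hn1 : n = 1
    · rw [hn1, one_pow]
    · obtain ⟨g, hg⟩ := hconj x₀ x₀.2 n hn hx₀1 hn1
      rw [← hg, conj_pow, hx₀p, mul_one, mul_inv_cancel]
  refine ⟨?_, p, hpp, hexp⟩
  have hPG : IsPGroup p ↥N := by
    intro g
    refine ⟨1, ?_⟩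
    apply Subtype.ext
    rw [pow_one]
    exact hexp g g.2
  haveI : Nontrivial (Subgroup.center ↥N) := hPG.center_nontrivial
  obtain ⟨⟨z, hzc⟩, hz1⟩ := exists_ne (1 : Subgroup.center ↥N)
  have hz1' : (z : G) ≠ 1 := by
    intro h
    apply hz1
    apply Subtype.ext
    exact Subtype.ext h
  have hzcomm : ∀ y ∈ N, (z : G) * y = y * z := by
    intro y hy
    have := (Subgroup.mem_center_iff.1 hzc) ⟨y, hy⟩
    exact (congrArg Subtype.val this).symm
  intro x hx y hy
  by_cases hx1 : x = 1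
  · rw [hx1, one_mul, mul_one]
  · obtain ⟨g, hg⟩ := hconj z z.2 x hx hz1' hx1
    have hy' : g⁻¹ * y * g ∈ N := by
      have := hNn.conj_mem y hy g⁻¹
      rwa [inv_inv] at this
    have h1 := hzcomm _ hy'
    rw [← hg]
    calc g * z * g⁻¹ * y = g * (z * (g⁻¹ * y * g)) * g⁻¹ := by group
      _ = g * ((g⁻¹ * y * g) * z) * g⁻¹ := by rw [h1]
      _ = y * (g * z * g⁻¹) := by group


theorem bt_pretransitive [FaithfulSMul G Ω] (h2 : IsMultiplyPretransitive G Ω 2)
    (N : Subgroup G) [hNn : N.Normal] (hN : N ≠ ⊥) : IsPretransitive ↥N Ω := by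
  have htr := jn_normal_transitive h2 N hN
  exact ⟨fun x y => by obtain ⟨g, hg, h⟩ := htr x y; exact ⟨⟨g, hg⟩, h⟩⟩

/-- The nonregular case: the minimal normal subgroup is primitive. -/
theorem bt_primitive [Finite G] [Finite Ω] [FaithfulSMul G Ω]
    (h2 : IsMultiplyPretransitive G Ω 2)
    (N : Subgroup G) [hNn : N.Normal] (hN : N ≠ ⊥)
    (hmin : ∀ M : Subgroup G, M.Normal → M ≤ N → M = ⊥ ∨ M = N)
    (a : Ω) (hnr : stabilizer ↥N a ≠ ⊥) : IsPreprimitive ↥N Ω := by
  classical
  haveI : IsPretransitive ↥N Ω := bt_pretransitive h2 N hN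
  obtain ⟨c, hc⟩ := bt_half_trans h2 N
  refine ⟨?_⟩
  intro B hB
  by_contra hBnt
  have hfrob := bt_wielandt c hc B hB hBnt
  obtain ⟨H, hH⟩ : ∃ H : Subgroup ↥N, H = stabilizer ↥N a := ⟨_, rfl⟩
  have hconjH : ∀ g : ↥N, MulAut.conj g • H = stabilizer ↥N (g • a) := by
    intro g
    rw [hH, MulAction.stabilizer_smul_eq_stabilizer_map_conj]
    rfl
  have hFC : Cfsg.IsFrobeniusComplement H := by
    refine ⟨by rw [hH]; exact hnr, ?_, ?_⟩
    · intro htop
      obtain ⟨⟨n, hnN⟩, hn⟩ := Subgroup.ne_bot_iff_exists_ne_one.1 hN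
      apply hn
      apply FaithfulSMul.eq_of_smul_eq_smul (α := Ω)
      intro b
      rw [one_smul]
      obtain ⟨m, hm⟩ := exists_smul_eq ↥N a b
      have h1 : (⟨n, hnN⟩ * m : ↥N) • a = a := by
        have : (⟨n, hnN⟩ * m : ↥N) ∈ H := by rw [htop]; exact Subgroup.mem_top _
        rw [hH] at this
        exact mem_stabilizer_iff.1 this
      have h2' : m • a = a := by
        have : m ∈ H := by rw [htop]; exact Subgroup.mem_top _
        rw [hH] at this
        exact mem_stabilizer_iff.1 this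
      rw [← hm, ← mul_smul, h1, h2']
    · intro g hg
      rw [hconjH, hH]
      apply hfrob
      intro h
      apply hg
      rw [hH, mem_stabilizer_iff]
      exact h.symm
  obtain ⟨K, hKset, hKn, hKc⟩ := Cfsg.Agent.S0035.result H hFC
  have hKmem : ∀ k : ↥N, k ∈ K ↔ k = 1 ∨ ∀ y : Ω, k • y ≠ y := by
    intro k
    rw [← SetLike.mem_coe, hKset]
    unfold Cfsg.frobeniusKernel
    simp only [Set.mem_setOf_eq]
    constructor
    · rintro (h | h)
      · left; exact h
      · right
        intro y hy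
        obtain ⟨g, hg⟩ := exists_smul_eq ↥N a y
        apply h g
        rw [hconjH, hg, mem_stabilizer_iff]
        exact hy
    · rintro (h | h)
      · left; exact h
      · right
        intro g hg
        rw [hconjH, mem_stabilizer_iff] at hg
        exact h _ hg
  have hK₁n : (K.map N.subtype).Normal := by
    constructor
    intro x hx g
    obtain ⟨k, hk, rfl⟩ := Subgroup.mem_map.1 hx
    refine Subgroup.mem_map.2 ⟨⟨g * k * g⁻¹, hNn.conj_mem k k.2 g⟩, ?_, rfl⟩
    rw [hKmem] at hk ⊢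
    rcases hk with h | h
    · left
      apply Subtype.ext
      simp [h]
    · right
      intro y hy
      apply h (g⁻¹ • y)
      have hy' : (g * (k : G) * g⁻¹) • y = y := hy
      show (k : G) • g⁻¹ • y = g⁻¹ • y
      rw [eq_inv_smul_iff, ← mul_smul, ← mul_smul]
      exact hy'
  have hcardKH := hKc.card_mul_card
  rcases hmin _ hK₁n (Subgroup.map_subtype_le K) with h | h
  · have hKbot : K = ⊥ := (Subgroup.map_eq_bot_iff_of_injective _ N.subtype_injective).1 h
    rw [hKbot, Subgroup.card_bot, one_mul] at hcardKH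
    exact hFC.2.1 ((Subgroup.card_eq_iff_eq_top H).1 hcardKH)
  · have hKtop : K = ⊤ := by
      apply Subgroup.map_injective N.subtype_injective
      rw [h, ← MonoidHom.range_eq_map, Subgroup.range_subtype]
    rw [hKtop] at hcardKH
    have h1 : Nat.card (⊤ : Subgroup ↥N) = Nat.card ↥N := Subgroup.card_top
    rw [h1] at hcardKH
    have hpos : 0 < Nat.card ↥N := Nat.card_pos
    have h2' : Nat.card H = 1 := by
      have : Nat.card ↥N * Nat.card H = Nat.card ↥N * 1 := by rw [hcardKH, mul_one]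
      exact Nat.eq_of_mul_eq_mul_left hpos this
    exact hFC.1 (Subgroup.card_eq_one.1 h2')


theorem bt_fix_commute_trans [FaithfulSMul G Ω] (N : Subgroup G) (T : Subgroup ↥N)
    (hT : ∀ x y : Ω, ∃ t ∈ T, t • x = y) (x : ↥N) (hx : ∀ t ∈ T, x * t = t * x) (y : Ω)
    (hy : x • y = y) : x = 1 := by
  apply FaithfulSMul.eq_of_smul_eq_smul (α := Ω)
  intro z
  rw [one_smul]
  obtain ⟨t, ht, htz⟩ := hT y z
  rw [← htz, ← mul_smul, hx t ht, mul_smul, hy]

/-- The nonregular case: the minimal normal subgroup is simple. -/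
theorem bt_simple [Finite G] [Finite Ω] [FaithfulSMul G Ω]
    (h2 : IsMultiplyPretransitive G Ω 2)
    (N : Subgroup G) [hNn : N.Normal] (hN : N ≠ ⊥)
    (hmin : ∀ M : Subgroup G, M.Normal → M ≤ N → M = ⊥ ∨ M = N)
    (a : Ω) (hnr : stabilizer ↥N a ≠ ⊥) (hprim : IsPreprimitive ↥N Ω) : IsSimpleGroup ↥N := by
  classical
  haveI : Nontrivial ↥N := (Subgroup.nontrivial_iff_ne_bot N).2 hN
  refine ⟨?_⟩
  intro M hMn
  by_contra hcon
  rw [not_or] at hcon
  obtain ⟨hMbot, hMtop⟩ := hcon
  obtain ⟨T, ⟨hTn, hTbot, hTM⟩, hTmin⟩ := Set.exists_min_image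
    {T : Subgroup ↥N | T.Normal ∧ T ≠ ⊥ ∧ T ≤ M} (fun T => Nat.card T) (Set.toFinite _)
    ⟨M, hMn, hMbot, le_rfl⟩
  haveI := hTn
  obtain ⟨cT, hcT⟩ : ∃ cT : G → Subgroup ↥N,
      cT = fun g => T.map (MulAut.conjNormal g : ↥N ≃* ↥N).toMonoidHom := ⟨_, rfl⟩
  have hcTmem : ∀ g (x : ↥N), x ∈ cT g ↔
      ∃ t ∈ T, (MulAut.conjNormal g : ↥N ≃* ↥N) t = x := by
    intro g x; rw [hcT]; exact Subgroup.mem_map
  have hcTn : ∀ g, (cT g).Normal := by
    intro g; rw [hcT]; exact hTn.map _ (MulAut.conjNormal g : ↥N ≃* ↥N).surjective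
  have hcTcard : ∀ g, Nat.card (cT g) = Nat.card T := by
    intro g; rw [hcT]
    exact Subgroup.card_map_of_injective (MulAut.conjNormal g : ↥N ≃* ↥N).injective
  have hcTmul : ∀ h g, cT (h * g)
      = (cT g).map (MulAut.conjNormal h : ↥N ≃* ↥N).toMonoidHom := by
    intro h g
    rw [hcT]
    simp only
    rw [Subgroup.map_map]
    congr 1
    ext x
    simp [map_mul]
  have hK0 : ∀ g, cT g = T ∨ T ⊓ cT g = ⊥ := by
    intro g
    by_cases hbot : T ⊓ cT g = ⊥
    · right; exact hbot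
    · left
      haveI := hcTn g
      have hn : (T ⊓ cT g).Normal := inferInstance
      have h1 := hTmin (T ⊓ cT g) ⟨hn, hbot, le_trans inf_le_left hTM⟩
      have h2' : T ⊓ cT g = T := Subgroup.eq_of_le_of_card_ge inf_le_left h1
      have h3 : T ≤ cT g := by rw [← h2']; exact inf_le_right
      exact (Subgroup.eq_of_le_of_card_ge h3 (le_of_eq (hcTcard g))).symm
  by_cases hall : ∀ g, cT g = T
  · have hT₁n : (T.map N.subtype).Normal := by
      constructor
      intro x hx g
      obtain ⟨t, ht, rfl⟩ := Subgroup.mem_map.1 hx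
      refine Subgroup.mem_map.2 ⟨(MulAut.conjNormal g : ↥N ≃* ↥N) t, ?_, ?_⟩
      · rw [← hall g, hcTmem]; exact ⟨t, ht, rfl⟩
      · simp
    rcases hmin _ hT₁n (Subgroup.map_subtype_le T) with h | h
    · exact hTbot ((Subgroup.map_eq_bot_iff_of_injective _ N.subtype_injective).1 h)
    · have hTtop : T = ⊤ := by
        apply Subgroup.map_injective N.subtype_injective
        rw [h, ← MonoidHom.range_eq_map, Subgroup.range_subtype]
      apply hMtop
      rw [eq_top_iff, ← hTtop]; exact hTM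
  · exfalso
    obtain ⟨g, hg⟩ : ∃ g, cT g ≠ T := by
      by_contra h; apply hall; intro g; by_contra hg; exact h ⟨g, hg⟩
    have hTtr : ∀ x y : Ω, ∃ t ∈ T, t • x = y := by
      have hfix : fixedPoints ↥T Ω ≠ Set.univ := by
        intro hfix
        obtain ⟨⟨t, htT⟩, ht1⟩ := Subgroup.ne_bot_iff_exists_ne_one.1 hTbot
        apply ht1
        apply Subtype.ext
        show t = 1
        apply FaithfulSMul.eq_of_smul_eq_smul (α := Ω)
        intro y
        rw [one_smul]
        have hy : y ∈ fixedPoints ↥T Ω := by rw [hfix]; exact Set.mem_univ y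
        exact hy ⟨t, htT⟩
      haveI : IsPretransitive ↥T Ω := IsQuasiPreprimitive.isPretransitive_of_normal hfix
      intro x y
      obtain ⟨t, ht⟩ := exists_smul_eq ↥T x y
      exact ⟨t.1, t.2, ht⟩
    have hcTtr : ∀ h, ∀ x y : Ω, ∃ u ∈ cT h, u • x = y := by
      intro h x y
      obtain ⟨t, ht, hty⟩ := hTtr (h⁻¹ • x) (h⁻¹ • y)
      refine ⟨(MulAut.conjNormal h : ↥N ≃* ↥N) t, (hcTmem h _).2 ⟨t, ht, rfl⟩, ?_⟩
      show ((MulAut.conjNormal h t : ↥N) : G) • x = y
      rw [MulAut.conjNormal_apply, mul_smul, mul_smul]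
      have : (t : G) • h⁻¹ • x = h⁻¹ • y := hty
      rw [this, smul_inv_smul]
    have hcomm : ∀ h, T ⊓ cT h = ⊥ → ∀ t ∈ T, ∀ u ∈ cT h, u * t = t * u := by
      intro h hinf t ht u hu
      exact ((Subgroup.commute_of_normal_of_disjoint T (cT h) hTn (hcTn h)
        (disjoint_iff.2 hinf) t u ht hu).eq).symm
    obtain ⟨T', hT'⟩ : ∃ T', T' = cT g := ⟨_, rfl⟩
    have hTT'g : T ⊓ cT g = ⊥ := by
      rcases hK0 g with h | h
      · exact absurd h hg
      · exact h
    have hTT' : T ⊓ T' = ⊥ := by rw [hT']; exact hTT'g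
    have hT'tr : ∀ x y : Ω, ∃ u ∈ T', u • x = y := by rw [hT']; exact hcTtr g
    have hTsr : ∀ t ∈ T, ∀ y : Ω, t • y = y → t = 1 := by
      intro t ht y hy
      refine bt_fix_commute_trans N T' hT'tr t ?_ y hy
      intro u hu
      rw [hT'] at hu
      exact (hcomm g hTT'g t ht u hu).symm
    have hT'sr : ∀ u ∈ T', ∀ y : Ω, u • y = y → u = 1 := by
      intro u hu y hy
      refine bt_fix_commute_trans N T hTtr u ?_ y hy
      intro t ht
      rw [hT'] at hu
      exact hcomm g hTT'g t ht u hu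
    have hreg_card : ∀ (R : Subgroup ↥N), (∀ x y : Ω, ∃ r ∈ R, r • x = y) →
        (∀ r ∈ R, ∀ y : Ω, r • y = y → r = 1) → Nat.card R = Nat.card Ω := by
      intro R htr hsr
      haveI : IsPretransitive ↥R Ω :=
        ⟨fun x y => by obtain ⟨r, hr, h⟩ := htr x y; exact ⟨⟨r, hr⟩, h⟩⟩
      have h1 := index_stabilizer_of_transitive ↥R a
      have h2' : stabilizer ↥R a = ⊥ := by
        rw [Subgroup.eq_bot_iff_forall]
        intro r hr
        apply Subtype.ext
        exact hsr r.1 r.2 a (mem_stabilizer_iff.1 hr)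
      rw [h2', Subgroup.index_bot] at h1
      exact h1
    have hcardT : Nat.card T = Nat.card Ω := hreg_card T hTtr hTsr
    have hcardT' : Nat.card T' = Nat.card Ω := hreg_card T' hT'tr hT'sr
    have hK1 : ∀ h, cT h ≠ T → cT h = T' := by
      intro h hh
      have hinf : T ⊓ cT h = ⊥ := by
        rcases hK0 h with h' | h'
        · exact absurd h' hh
        · exact h'
      have hle : cT h ≤ T' := by
        intro u hu
        obtain ⟨t', ht', htu⟩ := hT'tr a (u • a)
        have hx : t'⁻¹ * u = 1 := by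
          refine bt_fix_commute_trans N T hTtr (t'⁻¹ * u) ?_ a ?_
          · intro t ht
            have h1c : Commute u t := hcomm h hinf t ht u hu
            have h2c : Commute t' t := by
              rw [hT'] at ht'
              exact hcomm g hTT'g t ht t' ht'
            exact ((h2c.inv_left).mul_left h1c).eq
          · rw [mul_smul, ← htu, inv_smul_smul]
        have : u = t' := by
          have := congrArg (fun z => t' * z) hx
          simpa using this
        rw [this]; exact ht'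
      have hcard : Nat.card T' ≤ Nat.card (cT h) := by rw [hcTcard, hcardT, hcardT']
      exact Subgroup.eq_of_le_of_card_ge hle hcard
    have hcT2 : ∀ h, cT h = T ∨ cT h = T' := fun h => (em (cT h = T)).imp id (hK1 h)
    have hN₀n : ((T ⊔ T').map N.subtype).Normal := by
      constructor
      intro x hx h
      obtain ⟨m, hm, rfl⟩ := Subgroup.mem_map.1 hx
      refine Subgroup.mem_map.2 ⟨(MulAut.conjNormal h : ↥N ≃* ↥N) m, ?_, by simp⟩
      have hle : (T ⊔ T').map (MulAut.conjNormal h : ↥N ≃* ↥N).toMonoidHom ≤ T ⊔ T' := by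
        rw [Subgroup.map_sup]
        apply sup_le
        · have : T.map (MulAut.conjNormal h : ↥N ≃* ↥N).toMonoidHom = cT h := by rw [hcT]
          rw [this]
          rcases hcT2 h with h' | h'
          · rw [h']; exact le_sup_left
          · rw [h']; exact le_sup_right
        · rw [hT', ← hcTmul]
          rcases hcT2 (h * g) with h' | h'
          · rw [h']; exact le_sup_left
          · rw [h', ← hT']; exact le_sup_right
      exact hle (Subgroup.mem_map_of_mem _ hm)
    have hN₀top : T ⊔ T' = ⊤ := by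
      rcases hmin _ hN₀n (Subgroup.map_subtype_le _) with h | h
      · exfalso
        have := (Subgroup.map_eq_bot_iff_of_injective _ N.subtype_injective).1 h
        apply hTbot
        rw [eq_bot_iff, ← this]; exact le_sup_left
      · apply Subgroup.map_injective N.subtype_injective
        rw [h, ← MonoidHom.range_eq_map, Subgroup.range_subtype]
    have hcardN : Nat.card ↥N = Nat.card Ω * Nat.card Ω := by
      haveI : T'.Normal := by rw [hT']; exact hcTn g
      have h1 := card_sup_mul_inf_normal T' T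
      rw [hN₀top, hTT', Subgroup.card_bot, mul_one, hcardT, hcardT'] at h1
      rw [← h1]; exact Subgroup.card_top.symm
    haveI : IsPretransitive ↥N Ω := hprim.toIsPretransitive
    have hpos : 0 < Nat.card Ω := Nat.card_pos_iff.2 ⟨⟨a⟩, inferInstance⟩
    have hstabcard : Nat.card (stabilizer ↥N a) = Nat.card Ω := by
      have h1 := Subgroup.card_mul_index (stabilizer ↥N a)
      rw [index_stabilizer_of_transitive, hcardN] at h1
      exact Nat.eq_of_mul_eq_mul_right hpos h1
    obtain ⟨c, hc⟩ := bt_half_trans h2 N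
    have hdvd1 : c ∣ Nat.card Ω - 1 := by
      have h := bt_dvd_ncard (G := ↥N) (stabilizer ↥N a) (Set.univ \ {a}) ?_ c ?_
      · rwa [Set.ncard_diff_singleton_of_mem (Set.mem_univ a), Set.ncard_univ] at h
      · intro x hx y hy
        refine ⟨Set.mem_univ _, ?_⟩
        intro h
        apply hy.2
        rw [Set.mem_singleton_iff] at h ⊢
        have hxa : x • a = a := mem_stabilizer_iff.1 hx
        rw [← hxa] at h
        exact smul_left_cancel x h
      · intro y hy
        apply hc a y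
        intro h
        exact hy.2 (by rw [Set.mem_singleton_iff]; exact h.symm)
    obtain ⟨⟨x₀, hx₀s⟩, hx₀1⟩ := Subgroup.ne_bot_iff_exists_ne_one.1 hnr
    obtain ⟨b, hb⟩ : ∃ b : Ω, x₀ • b ≠ b := by
      by_contra h
      apply hx₀1
      apply Subtype.ext
      show x₀ = 1
      apply FaithfulSMul.eq_of_smul_eq_smul (α := Ω)
      intro y
      rw [one_smul]
      by_contra hy
      exact h ⟨y, hy⟩
    have hab : a ≠ b := by
      intro h
      apply hb
      rw [← h]; exact mem_stabilizer_iff.1 hx₀s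
    have hdvd2 : c ∣ Nat.card Ω := by
      rw [← hstabcard, ← hc a b hab]
      exact Subgroup.relIndex_dvd_card _ _
    have hc1 : c = 1 := by
      have h := Nat.dvd_sub hdvd2 hdvd1
      have : Nat.card Ω - (Nat.card Ω - 1) = 1 := by omega
      rw [this] at h
      exact Nat.dvd_one.1 h
    have h3 := hc a b hab
    rw [hc1, Subgroup.relIndex_eq_one] at h3
    have h4 : x₀ ∈ stabilizer ↥N b := (Subgroup.mem_inf.1 (h3 hx₀s)).2
    exact hb (mem_stabilizer_iff.1 h4)

/-- Burnside's theorem on the minimal normal subgroups of 2-transitive groups. -/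
theorem burnside_tt [Finite G] [Finite Ω] [FaithfulSMul G Ω]
    (h2 : IsMultiplyPretransitive G Ω 2)
    (N : Subgroup G) [hNn : N.Normal] (hN : N ≠ ⊥)
    (hmin : ∀ M : Subgroup G, M.Normal → M ≤ N → M = ⊥ ∨ M = N) :
    ((∀ x ∈ N, ∀ y ∈ N, x * y = y * x) ∧ (∃ p : ℕ, p.Prime ∧ ∀ n ∈ N, n ^ p = 1) ∧
        ∀ a : Ω, stabilizer ↥N a = ⊥) ∨
      (IsSimpleGroup ↥N ∧ IsPreprimitive ↥N Ω) := by
  by_cases hreg : ∀ a : Ω, stabilizer ↥N a = ⊥
  · left
    have hreg' : ∀ a : Ω, ∀ n ∈ N, n • a = a → n = 1 := by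
      intro a n hn hna
      have : (⟨n, hn⟩ : ↥N) ∈ stabilizer ↥N a := mem_stabilizer_iff.2 hna
      rw [hreg a, Subgroup.mem_bot] at this
      exact congrArg Subtype.val this
    obtain ⟨h1, h2'⟩ := bt_regular h2 N hN hreg'
    exact ⟨h1, h2', hreg⟩
  · right
    obtain ⟨a, ha⟩ : ∃ a, stabilizer ↥N a ≠ ⊥ := by
      by_contra h; apply hreg; intro a; by_contra ha; exact h ⟨a, ha⟩
    have hprim := bt_primitive h2 N hN hmin a ha
    exact ⟨bt_simple h2 N hN hmin a ha hprim, hprim⟩

end main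

end Cfsg.Agent.Lib.Helper4
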