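import Mathlib
import Cfsg.Agent.Lib.Helper1.Class2

set_option autoImplicit false

namespace Cfsg.Agent.Lib.Helper4

open scoped commutatorElement

section
variable {R : Type*} [Group R]

/-- elements of `γ₃` are central when `γ₄ = 1` -/
theorem c3_central (hcl : ⁅⁅commutator R, (⊤ : Subgroup R)⁆, (⊤ : Subgroup R)⁆ = ⊥) {z : R}
    (hz : z ∈ ⁅commutator R, (⊤ : Subgroup R)⁆) (g : R) : z * g = g * z := by
  have h1 : ⁅z, g⁆ ∈ ⁅⁅commutator R, (⊤ : Subgroup R)⁆, (⊤ : Subgroup R)⁆ :=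
    Subgroup.commutator_mem_commutator hz (Subgroup.mem_top g)
  rw [hcl, Subgroup.mem_bot, commutatorElement_eq_one_iff_mul_comm] at h1
  exact h1

theorem c3_comm_mem {d : R} (hd : d ∈ commutator R) (g : R) :
    ⁅d, g⁆ ∈ ⁅commutator R, (⊤ : Subgroup R)⁆ :=
  Subgroup.commutator_mem_commutator hd (Subgroup.mem_top g)

theorem c3_comm_mem_derived (a b : R) : ⁅a, b⁆ ∈ commutator R := by
  rw [commutator_def]
  exact Subgroup.commutator_mem_commutator (Subgroup.mem_top a) (Subgroup.mem_top b)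

theorem c3_pow_conj {g e w : R} (h : e * g = g * e * w) (hw : ∀ t, w * t = t * w) (n : ℕ) :
    e ^ n * g = g * e ^ n * w ^ n := by
  have hwn : ∀ (k : ℕ) (t : R), w ^ k * t = t * w ^ k := fun k t =>
    ((show Commute w t from hw t).pow_left k).eq
  induction n with
  | zero => simp
  | succ n ih =>
    calc e ^ (n + 1) * g = e ^ n * (e * g) := by rw [pow_succ, mul_assoc]
      _ = e ^ n * (g * e * w) := by rw [h]
      _ = (e ^ n * g) * e * w := by simp only [mul_assoc]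
      _ = (g * e ^ n * w ^ n) * e * w := by rw [ih]
      _ = g * e ^ n * (w ^ n * e) * w := by simp only [mul_assoc]
      _ = g * e ^ n * (e * w ^ n) * w := by rw [hwn n e]
      _ = g * (e ^ n * e) * (w ^ n * w) := by simp only [mul_assoc]
      _ = g * e ^ (n + 1) * w ^ (n + 1) := by rw [← pow_succ, ← pow_succ]

/-- The collection formula in class three. -/
theorem c3_collect (hcl : ⁅⁅commutator R, (⊤ : Subgroup R)⁆, (⊤ : Subgroup R)⁆ = ⊥) (x y : R)
    (n : ℕ) :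
    (x * y) ^ n = x ^ n * y ^ n *
      (⁅y⁻¹, x⁻¹⁆ * ⁅(⁅y⁻¹, x⁻¹⁆)⁻¹, y⁻¹⁆) ^ (n.choose 2) *
      (⁅⁅y⁻¹, x⁻¹⁆, y⁆ * ⁅(⁅y⁻¹, x⁻¹⁆)⁻¹, (x * y)⁻¹⁆) ^ (n.choose 3) := by
  obtain ⟨e, he_def⟩ : ∃ e, e = ⁅y⁻¹, x⁻¹⁆ := ⟨_, rfl⟩
  have heD : e ∈ commutator R := by rw [he_def]; exact c3_comm_mem_derived _ _
  have heD' : e⁻¹ ∈ commutator R := Subgroup.inv_mem _ heD
  obtain ⟨u, hu_def⟩ : ∃ u, u = ⁅e⁻¹, y⁻¹⁆ := ⟨_, rfl⟩
  obtain ⟨f, hf_def⟩ : ∃ f, f = ⁅e, y⁆ := ⟨_, rfl⟩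
  obtain ⟨v, hv_def⟩ : ∃ v, v = ⁅e⁻¹, (x * y)⁻¹⁆ := ⟨_, rfl⟩
  rw [← he_def, ← hu_def, ← hf_def, ← hv_def]
  have hu : ∀ t, u * t = t * u := by
    rw [hu_def]; exact c3_central hcl (c3_comm_mem heD' _)
  have hf : ∀ t, f * t = t * f := by
    rw [hf_def]; exact c3_central hcl (c3_comm_mem heD _)
  have hv : ∀ t, v * t = t * v := by
    rw [hv_def]; exact c3_central hcl (c3_comm_mem heD' _)
  have R1 : y * x = x * (y * e) := by
    rw [he_def, commutatorElement_def]; group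
  have R2 : e * y = y * e * u := by
    rw [hu_def, commutatorElement_def]; group
  have R3 : e * (x * y) = (x * y) * e * v := by
    rw [hv_def, commutatorElement_def]; group
  obtain ⟨E, hE_def⟩ : ∃ E, E = e * u := ⟨_, rfl⟩
  obtain ⟨F, hF_def⟩ : ∃ F, F = f * v := ⟨_, rfl⟩
  rw [← hE_def, ← hF_def]
  have hF : ∀ t, F * t = t * F := by
    intro t
    rw [hF_def, mul_assoc, hv t, ← mul_assoc, hf t, mul_assoc]
  have hFk : ∀ (k : ℕ) (t : R), F ^ k * t = t * F ^ k := fun k t =>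
    ((show Commute F t from hF t).pow_left k).eq
  have hfk : ∀ (k : ℕ) (t : R), f ^ k * t = t * f ^ k := fun k t =>
    ((show Commute f t from hf t).pow_left k).eq
  have RE : E * (x * y) = (x * y) * E * v := by
    calc E * (x * y) = e * (u * (x * y)) := by rw [hE_def, mul_assoc]
      _ = e * ((x * y) * u) := by rw [hu]
      _ = (e * (x * y)) * u := by simp only [mul_assoc]
      _ = ((x * y) * e * v) * u := by rw [R3]
      _ = (x * y) * e * (v * u) := by simp only [mul_assoc]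
      _ = (x * y) * e * (u * v) := by rw [hv u]
      _ = (x * y) * E * v := by rw [hE_def]; simp only [mul_assoc]
  have LA : ∀ k : ℕ, y ^ k * x = x * (y * e) ^ k := by
    intro k
    induction k with
    | zero => simp
    | succ k ih =>
      calc y ^ (k + 1) * x = y ^ k * (y * x) := by rw [pow_succ, mul_assoc]
        _ = y ^ k * (x * (y * e)) := by rw [R1]
        _ = (y ^ k * x) * (y * e) := by rw [mul_assoc]
        _ = x * (y * e) ^ k * (y * e) := by rw [ih]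
        _ = x * (y * e) ^ (k + 1) := by rw [pow_succ, mul_assoc]
  have LB : ∀ k : ℕ, e ^ k * y = y * e ^ k * u ^ k := c3_pow_conj R2 hu
  have LC : ∀ k : ℕ, E ^ k * (x * y) = (x * y) * E ^ k * v ^ k := c3_pow_conj RE hv
  have R4 : ∀ k : ℕ, (y * e) ^ k = y ^ k * e ^ k * f ^ (k.choose 2) := by
    intro k
    have := Cfsg.Agent.Lib.Helper1.mul_pow_of_commute_commutator y e
      (by rw [← hf_def]; exact hf y) (by rw [← hf_def]; exact hf e) k
    rw [← hf_def] at this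
    exact this
  have hEk : ∀ k : ℕ, e ^ k * u ^ k = E ^ k := by
    intro k
    rw [hE_def]
    exact ((show Commute e u from (hu e).symm).mul_pow k).symm
  have hFa : ∀ k : ℕ, f ^ k * v ^ k = F ^ k := by
    intro k
    rw [hF_def]
    exact ((show Commute f v from hf v).mul_pow k).symm
  have Hn : ∀ k : ℕ, x ^ k * y ^ k * (x * y) =
      x ^ (k + 1) * y ^ (k + 1) * E ^ k * f ^ (k.choose 2) := by
    intro k
    calc x ^ k * y ^ k * (x * y) = x ^ k * (y ^ k * x) * y := by simp only [mul_assoc]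
      _ = x ^ k * (x * (y * e) ^ k) * y := by rw [LA]
      _ = x ^ k * (x * (y ^ k * e ^ k * f ^ (k.choose 2))) * y := by rw [R4]
      _ = x ^ k * x * y ^ k * e ^ k * (f ^ (k.choose 2) * y) := by simp only [mul_assoc]
      _ = x ^ k * x * y ^ k * e ^ k * (y * f ^ (k.choose 2)) := by rw [hfk]
      _ = x ^ k * x * y ^ k * (e ^ k * y) * f ^ (k.choose 2) := by simp only [mul_assoc]
      _ = x ^ k * x * y ^ k * (y * e ^ k * u ^ k) * f ^ (k.choose 2) := by rw [LB]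
      _ = (x ^ k * x) * (y ^ k * y) * (e ^ k * u ^ k) * f ^ (k.choose 2) := by
          simp only [mul_assoc]
      _ = x ^ (k + 1) * y ^ (k + 1) * E ^ k * f ^ (k.choose 2) := by
          rw [← pow_succ, ← pow_succ, hEk]
  induction n with
  | zero => simp
  | succ n ih =>
    have c2 : (n + 1).choose 2 = n + n.choose 2 := by
      rw [Nat.choose_succ_succ, Nat.choose_one_right]
    have c3 : (n + 1).choose 3 = n.choose 2 + n.choose 3 := by
      rw [Nat.choose_succ_succ]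
    calc (x * y) ^ (n + 1) = (x * y) ^ n * (x * y) := pow_succ _ _
      _ = x ^ n * y ^ n * E ^ (n.choose 2) * F ^ (n.choose 3) * (x * y) := by rw [ih]
      _ = x ^ n * y ^ n * E ^ (n.choose 2) * (F ^ (n.choose 3) * (x * y)) := by
          simp only [mul_assoc]
      _ = x ^ n * y ^ n * E ^ (n.choose 2) * ((x * y) * F ^ (n.choose 3)) := by rw [hFk]
      _ = x ^ n * y ^ n * (E ^ (n.choose 2) * (x * y)) * F ^ (n.choose 3) := by
          simp only [mul_assoc]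
      _ = x ^ n * y ^ n * ((x * y) * E ^ (n.choose 2) * v ^ (n.choose 2)) * F ^ (n.choose 3) := by
          rw [LC]
      _ = (x ^ n * y ^ n * (x * y)) * E ^ (n.choose 2) * v ^ (n.choose 2) * F ^ (n.choose 3) := by
          simp only [mul_assoc]
      _ = (x ^ (n + 1) * y ^ (n + 1) * E ^ n * f ^ (n.choose 2)) * E ^ (n.choose 2) *
            v ^ (n.choose 2) * F ^ (n.choose 3) := by rw [Hn]
      _ = x ^ (n + 1) * y ^ (n + 1) * E ^ n * (f ^ (n.choose 2) * E ^ (n.choose 2)) *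
            v ^ (n.choose 2) * F ^ (n.choose 3) := by simp only [mul_assoc]
      _ = x ^ (n + 1) * y ^ (n + 1) * E ^ n * (E ^ (n.choose 2) * f ^ (n.choose 2)) *
            v ^ (n.choose 2) * F ^ (n.choose 3) := by rw [hfk]
      _ = x ^ (n + 1) * y ^ (n + 1) * (E ^ n * E ^ (n.choose 2)) *
            (f ^ (n.choose 2) * v ^ (n.choose 2)) * F ^ (n.choose 3) := by
          simp only [mul_assoc]
      _ = x ^ (n + 1) * y ^ (n + 1) * E ^ (n + n.choose 2) *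
            (F ^ (n.choose 2) * F ^ (n.choose 3)) := by
          rw [← pow_add, hFa]; simp only [mul_assoc]
      _ = x ^ (n + 1) * y ^ (n + 1) * E ^ ((n + 1).choose 2) * F ^ ((n + 1).choose 3) := by
          rw [← pow_add, c2, c3]

/-- If `y ^ p = 1` then `⁅y⁻¹, x⁻¹⁆ ^ p = 1` (class three, `p` odd). -/
theorem c3_comm_pow (hcl : ⁅⁅commutator R, (⊤ : Subgroup R)⁆, (⊤ : Subgroup R)⁆ = ⊥) {p : ℕ}
    (hp : p.Prime) (hp2 : p ≠ 2) (x y : R) (hy : y ^ p = 1) : ⁅y⁻¹, x⁻¹⁆ ^ p = 1 := by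
  obtain ⟨e, he_def⟩ : ∃ e, e = ⁅y⁻¹, x⁻¹⁆ := ⟨_, rfl⟩
  rw [← he_def]
  have heD : e ∈ commutator R := by rw [he_def]; exact c3_comm_mem_derived _ _
  have hf : ∀ t, ⁅e, y⁆ * t = t * ⁅e, y⁆ := c3_central hcl (c3_comm_mem heD _)
  have R1 : y * x = x * (y * e) := by
    rw [he_def, commutatorElement_def]; group
  have LA : ∀ k : ℕ, y ^ k * x = x * (y * e) ^ k := by
    intro k
    induction k with
    | zero => simp
    | succ k ih =>
      calc y ^ (k + 1) * x = y ^ k * (y * x) := by rw [pow_succ, mul_assoc]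
        _ = y ^ k * (x * (y * e)) := by rw [R1]
        _ = (y ^ k * x) * (y * e) := by rw [mul_assoc]
        _ = x * (y * e) ^ k * (y * e) := by rw [ih]
        _ = x * (y * e) ^ (k + 1) := by rw [pow_succ, mul_assoc]
  have h1 : (y * e) ^ p = 1 := by
    have := LA p
    rw [hy, one_mul] at this
    exact (mul_eq_left.1 this.symm)
  have h2 := Cfsg.Agent.Lib.Helper1.mul_pow_of_commute_commutator y e (hf y) (hf e) p
  rw [h1, hy, one_mul] at h2
  have h3 : ⁅e, y⁆ ^ p = 1 := by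
    rw [← Cfsg.Agent.Lib.Helper1.commutator_pow_right_of_commute y e (hf y) p, hy]
    simp
  have h4 : p ∣ p.choose 2 := hp.dvd_choose_self (by norm_num) (by
    have := hp.two_le; omega)
  obtain ⟨k, hk⟩ := h4
  rw [hk, pow_mul, h3, one_pow, mul_one] at h2
  exact h2.symm

theorem c3_mul_pow_p (hcl : ⁅⁅commutator R, (⊤ : Subgroup R)⁆, (⊤ : Subgroup R)⁆ = ⊥) {p : ℕ}
    (hp : p.Prime) (hp2 : p ≠ 2) (h3 : 3 < p ∨ ⁅commutator R, (⊤ : Subgroup R)⁆ = ⊥)
    (x y : R) (he : ⁅y⁻¹, x⁻¹⁆ ^ p = 1) : (x * y) ^ p = x ^ p * y ^ p := by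
  have hform := c3_collect hcl x y p
  obtain ⟨e, he_def⟩ : ∃ e, e = ⁅y⁻¹, x⁻¹⁆ := ⟨_, rfl⟩
  rw [← he_def] at hform he
  have heD : e ∈ commutator R := by rw [he_def]; exact c3_comm_mem_derived _ _
  have heD' : e⁻¹ ∈ commutator R := Subgroup.inv_mem _ heD
  have hu : ∀ t, ⁅e⁻¹, y⁻¹⁆ * t = t * ⁅e⁻¹, y⁻¹⁆ := c3_central hcl (c3_comm_mem heD' _)
  have hf : ∀ t, ⁅e, y⁆ * t = t * ⁅e, y⁆ := c3_central hcl (c3_comm_mem heD _)
  have hv : ∀ t, ⁅e⁻¹, (x * y)⁻¹⁆ * t = t * ⁅e⁻¹, (x * y)⁻¹⁆ :=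
    c3_central hcl (c3_comm_mem heD' _)
  have he' : e⁻¹ ^ p = 1 := by rw [inv_pow, he, inv_one]
  have hup : ⁅e⁻¹, y⁻¹⁆ ^ p = 1 := by
    rw [← Cfsg.Agent.Lib.Helper1.commutator_pow_left_of_commute y⁻¹ e⁻¹ (hu _) p, he']
    simp
  have hfp : ⁅e, y⁆ ^ p = 1 := by
    rw [← Cfsg.Agent.Lib.Helper1.commutator_pow_left_of_commute y e (hf _) p, he]
    simp
  have hvp : ⁅e⁻¹, (x * y)⁻¹⁆ ^ p = 1 := by
    rw [← Cfsg.Agent.Lib.Helper1.commutator_pow_left_of_commute (x * y)⁻¹ e⁻¹ (hv _) p, he']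
    simp
  have hE : (e * ⁅e⁻¹, y⁻¹⁆) ^ p = 1 := by
    rw [(show Commute e ⁅e⁻¹, y⁻¹⁆ from (hu e).symm).mul_pow, he, hup, one_mul]
  have hF : (⁅e, y⁆ * ⁅e⁻¹, (x * y)⁻¹⁆) ^ (p.choose 3) = 1 := by
    rcases h3 with h3 | h3
    · have h4 : p ∣ p.choose 3 := hp.dvd_choose_self (by norm_num) h3
      obtain ⟨k, hk⟩ := h4
      rw [hk, pow_mul, (show Commute ⁅e, y⁆ ⁅e⁻¹, (x * y)⁻¹⁆ from hf _).mul_pow, hfp, hvp,
        one_mul, one_pow]
    · have hf1 : ⁅e, y⁆ = 1 := by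
        have := c3_comm_mem heD y
        rwa [h3, Subgroup.mem_bot] at this
      have hv1 : ⁅e⁻¹, (x * y)⁻¹⁆ = 1 := by
        have := c3_comm_mem heD' (x * y)⁻¹
        rwa [h3, Subgroup.mem_bot] at this
      rw [hf1, hv1, one_mul, one_pow]
  have h4 : p ∣ p.choose 2 := hp.dvd_choose_self (by norm_num) (by
    have := hp.two_le; omega)
  obtain ⟨k, hk⟩ := h4
  rw [hF, mul_one, hk, pow_mul, hE, one_pow, mul_one] at hform
  exact hform

/-- `Ω₁` has exponent `p`. -/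
theorem c3_omega_exp (hcl : ⁅⁅commutator R, (⊤ : Subgroup R)⁆, (⊤ : Subgroup R)⁆ = ⊥) {p : ℕ}
    (hp : p.Prime) (hp2 : p ≠ 2) (h3 : 3 < p ∨ ⁅commutator R, (⊤ : Subgroup R)⁆ = ⊥)
    (g : R) (hg : g ∈ Subgroup.closure {x : R | x ^ p = 1}) : g ^ p = 1 := by
  induction hg using Subgroup.closure_induction with
  | mem x hx => exact hx
  | one => exact one_pow p
  | mul x y _ _ hx hy =>
    rw [c3_mul_pow_p hcl hp hp2 h3 x y (c3_comm_pow hcl hp hp2 x y hy), hx, hy, one_mul]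
  | inv x _ hx => rw [inv_pow, hx, inv_one]

theorem c3_power_hom (hcl : ⁅⁅commutator R, (⊤ : Subgroup R)⁆, (⊤ : Subgroup R)⁆ = ⊥) {p : ℕ}
    (hp : p.Prime) (hp2 : p ≠ 2) (h3 : 3 < p ∨ ⁅commutator R, (⊤ : Subgroup R)⁆ = ⊥)
    (hder : commutator R ≤ Subgroup.closure {x : R | x ^ p = 1}) (x y : R) :
    (x * y) ^ p = x ^ p * y ^ p := by
  apply c3_mul_pow_p hcl hp hp2 h3
  exact c3_omega_exp hcl hp hp2 h3 _ (hder (c3_comm_mem_derived _ _))

end

end Cfsg.Agent.Lib.Helper4
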