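import Mathlib
import Cfsg.Agent.Lib.Helper6.CoprimeAut

set_option autoImplicit false

namespace Cfsg.Agent.Lib.Helper4

open Cfsg.Agent.Lib.Helper6

universe u


open scoped commutatorElement in
/-- A coprime automorphism of a finite `p`-group fixing pointwise every invariant subgroup of
exponent dividing `p` (dividing `4` when `p = 2`) is trivial. -/
theorem coprime_aut_fix_exp : ∀ (n : ℕ) (G : Type u) [Group G] [Finite G], Nat.card G = n →
    ∀ (p : ℕ) [Fact p.Prime] (e : ℕ), ((e = p ∧ p ≠ 2) ∨ (e = 4 ∧ p = 2)) → IsPGroup p G →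
    ∀ (a : MulAut G) (k : ℕ), a ^ k = 1 → k.Coprime p →
    (∀ R : Subgroup G, (∀ x ∈ R, a x ∈ R) → (∀ x ∈ R, x ^ e = 1) → ∀ x ∈ R, a x = x) →
    ∀ x : G, a x = x := by
  intro n
  induction n using Nat.strong_induction_on with
  | _ n ih =>
  intro G _ _ hn p _ e he hG a k hk hkp hfix
  have hpp : p.Prime := Fact.out
  have hpe : p ∣ e := by
    rcases he with ⟨rfl, _⟩ | ⟨rfl, rfl⟩
    · exact dvd_rfl
    · norm_num
  rcases subsingleton_or_nontrivial G with hss | hnt
  · intro x; exact Subsingleton.elim _ _
  -- IH for invariant proper subgroups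
  have hsub : ∀ H : Subgroup G, H ≠ ⊤ → (∀ x ∈ H, a x ∈ H) → ∀ x ∈ H, a x = x := by
    intro H hHtop hH x hx
    have hlt : Nat.card H < n := by
      by_contra hcon
      push Not at hcon
      rw [← hn] at hcon
      exact hHtop (Subgroup.eq_top_of_le_card H hcon)
    have key := ih _ hlt H rfl p e he (hG.to_subgroup H) (restrictAut a H hH) k
      (by
        ext y
        rw [restrictAut_pow_apply, hk]
        simp)
      hkp
      (by
        intro R' hR'inv hR'exp y hy
        apply Subtype.ext
        rw [restrictAut_apply]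
        apply hfix (R'.map H.subtype)
        · rintro _ ⟨z, hz, rfl⟩
          exact ⟨restrictAut a H hH z, hR'inv z hz, rfl⟩
        · rintro _ ⟨z, hz, rfl⟩
          have := congrArg Subtype.val (hR'exp z hz)
          simpa using this
        · exact ⟨y, hy, rfl⟩)
      ⟨x, hx⟩
    exact congrArg Subtype.val key
  intro x
  obtain ⟨H1, hH1⟩ : ∃ H1 : Subgroup G, H1 = Subgroup.closure {w | ∃ g : G, w = g⁻¹ * a g} :=
    ⟨_, rfl⟩
  have hH1inv : ∀ y ∈ H1, a y ∈ H1 := by
    intro y hy
    rw [hH1] at hy ⊢
    induction hy using Subgroup.closure_induction with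
    | mem w hw =>
      obtain ⟨g, rfl⟩ := hw
      apply Subgroup.subset_closure
      exact ⟨a g, by rw [map_mul, map_inv]⟩
    | one => rw [map_one]; exact Subgroup.one_mem _
    | mul u v _ _ hu hv => rw [map_mul]; exact Subgroup.mul_mem _ hu hv
    | inv u _ hu => rw [map_inv]; exact Subgroup.inv_mem _ hu
  by_cases hH1top : H1 = ⊤
  swap
  · have h1 := hsub H1 hH1top hH1inv
    apply aut_fix_of_fix_comm hG a k hk hkp
    apply h1
    rw [hH1]; exact Subgroup.subset_closure ⟨x, rfl⟩
  have hcentral : ∀ K : Subgroup G, K.Normal → (∀ c ∈ K, a c = c) → K ≤ Subgroup.center G := by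
    intro K hKn hK c hc
    rw [Subgroup.mem_center_iff]
    intro g
    have hle : H1 ≤ Subgroup.centralizer ({c} : Set G) := by
      rw [hH1, Subgroup.closure_le]
      rintro w ⟨g', rfl⟩
      rw [SetLike.mem_coe, Subgroup.mem_centralizer_iff]
      intro c' hc'
      rw [Set.mem_singleton_iff] at hc'
      subst hc'
      exact (fixed_normal_commute a K hK c' hc g').eq
    rw [hH1top] at hle
    have hg := hle (Subgroup.mem_top g)
    exact (Subgroup.mem_centralizer_iff.1 hg c rfl).symm
  have hfinal : (∀ y : G, a (y ^ e) = y ^ e) → (∀ y z : G, (y * z) ^ e = y ^ e * z ^ e) →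
      a x = x := by
    intro h1 h2
    apply aut_fix_of_fix_comm hG a k hk hkp
    let Ω : Subgroup G :=
      { carrier := {y | y ^ e = 1}
        one_mem' := by show (1 : G) ^ e = 1; exact one_pow e
        mul_mem' := by
          intro y z hy hz
          show (y * z) ^ e = 1
          have hy' : y ^ e = 1 := hy
          have hz' : z ^ e = 1 := hz
          rw [h2, hy', hz', one_mul]
        inv_mem' := by
          intro y hy
          show (y⁻¹) ^ e = 1
          have hy' : y ^ e = 1 := hy
          rw [inv_pow, hy', inv_one] }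
    apply hfix Ω
    · intro y hy
      show (a y) ^ e = 1
      have hy' : y ^ e = 1 := hy
      rw [← map_pow, hy', map_one]
    · intro y hy; exact hy
    · show (x⁻¹ * a x) ^ e = 1
      rw [h2, ← map_pow, h1, inv_pow, inv_mul_cancel]
  -- an element of order p
  obtain ⟨z0, hz0⟩ : ∃ z0 : G, orderOf z0 = p := by
    obtain ⟨t, ht⟩ := IsPGroup.iff_card.1 hG
    have ht0 : t ≠ 0 := by
      rintro rfl
      rw [pow_zero] at ht
      have := Finite.one_lt_card_iff_nontrivial.2 hnt
      omega
    exact exists_prime_orderOf_dvd_card' p (by rw [ht]; exact dvd_pow_self p ht0)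
  by_cases hab : Subgroup.center G = ⊤
  · have hcomm : ∀ y z : G, Commute y z := fun y z => by
      have : z ∈ Subgroup.center G := by rw [hab]; trivial
      exact (Subgroup.mem_center_iff.1 this y)
    apply hfinal
    · let φ : G →* G :=
        { toFun := fun y => y ^ e
          map_one' := one_pow e
          map_mul' := fun y z => (hcomm y z).mul_pow e }
      have hproper : φ.range ≠ ⊤ := by
        intro htop
        have hsurj : Function.Surjective φ := MonoidHom.range_eq_top.1 htop
        have hinj : Function.Injective φ := Finite.injective_iff_surjective.2 hsurj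
        have h1 : φ z0 = φ 1 := by
          show z0 ^ e = 1 ^ e
          obtain ⟨m, rfl⟩ := hpe
          rw [pow_mul, ← hz0, pow_orderOf_eq_one, one_pow, one_pow]
        have := hinj h1
        rw [this, orderOf_one] at hz0
        exact hpp.one_lt.ne hz0
      have hinv : ∀ y ∈ φ.range, a y ∈ φ.range := by
        rintro _ ⟨z, rfl⟩
        exact ⟨a z, by show (a z) ^ e = a (z ^ e); rw [map_pow]⟩
      intro y
      exact hsub φ.range hproper hinv _ ⟨y, rfl⟩
    · intro y z; exact (hcomm y z).mul_pow e
  · have hZfix := hsub (Subgroup.center G) hab (fun y hy => char_invariant _ a hy)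
    haveI : Group.IsNilpotent G := hG.isNilpotent
    have hG'top : commutator G ≠ ⊤ := (Group.IsSolvable.commutator_lt_top_of_nontrivial G).ne
    have hG'fix := hsub (commutator G) hG'top (fun y hy => char_invariant _ a hy)
    have hG'central : commutator G ≤ Subgroup.center G := hcentral _ inferInstance hG'fix
    have hcc : ∀ y z : G, ⁅y, z⁆ ∈ Subgroup.center G := by
      intro y z
      apply hG'central
      rw [commutator_def]
      exact Subgroup.commutator_mem_commutator (Subgroup.mem_top y) (Subgroup.mem_top z)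
    have hccomm : ∀ y z w : G, ⁅y, z⁆ * w = w * ⁅y, z⁆ := by
      intro y z w
      exact (Subgroup.mem_center_iff.1 (hcc y z) w).symm
    have hpowform : ∀ (y z : G) (m : ℕ), (y * z) ^ m = y ^ m * z ^ m * ⁅z, y⁆ ^ (m.choose 2) :=
      fun y z m => Cfsg.Agent.Lib.Helper1.mul_pow_of_commute_commutator y z (hccomm z y y)
        (hccomm z y z) m
    -- the subgroup of elements whose p-th power is central
    let ΩZ : Subgroup G :=
      { carrier := {y | y ^ p ∈ Subgroup.center G}
        one_mem' := by
          show (1 : G) ^ p ∈ Subgroup.center G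
          rw [one_pow]; exact Subgroup.one_mem _
        mul_mem' := by
          intro y z hy hz
          show (y * z) ^ p ∈ Subgroup.center G
          rw [hpowform]
          exact Subgroup.mul_mem _ (Subgroup.mul_mem _ hy hz) (Subgroup.pow_mem _ (hcc z y) _)
        inv_mem' := by
          intro y hy
          show (y⁻¹) ^ p ∈ Subgroup.center G
          rw [inv_pow]; exact Subgroup.inv_mem _ hy }
    have hΩn : ΩZ.Normal := by
      refine ⟨fun y hy g => ?_⟩
      show (g * y * g⁻¹) ^ p ∈ Subgroup.center G
      rw [conj_pow]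
      exact (inferInstance : (Subgroup.center G).Normal).conj_mem _ hy g
    have hΩinv : ∀ y ∈ ΩZ, a y ∈ ΩZ := by
      intro y hy
      show (a y) ^ p ∈ Subgroup.center G
      rw [← map_pow]
      exact char_invariant _ a hy
    have hΩ : ΩZ = ⊤ := by
      by_contra hne
      have hfixΩ := hsub ΩZ hne hΩinv
      have hΩcentral := hcentral ΩZ hΩn hfixΩ
      apply hab
      rw [eq_top_iff]
      intro y _
      have hstep : ∀ t : ℕ, ∀ y : G, y ^ p ^ t ∈ Subgroup.center G → y ∈ Subgroup.center G := by
        intro t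
        induction t with
        | zero => intro y hy; simpa using hy
        | succ t iht =>
          intro y hy
          apply iht
          apply hΩcentral
          show (y ^ p ^ t) ^ p ∈ Subgroup.center G
          rw [← pow_mul, ← pow_succ]
          exact hy
      obtain ⟨t, ht⟩ := hG y
      exact hstep t y (by rw [ht]; exact Subgroup.one_mem _)
    have hpZ : ∀ y : G, y ^ p ∈ Subgroup.center G := by
      intro y
      have : y ∈ ΩZ := by rw [hΩ]; trivial
      exact this
    have hcp : ∀ y z : G, ⁅z, y⁆ ^ p = 1 := by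
      intro y z
      rw [← Cfsg.Agent.Lib.Helper1.commutator_pow_left_of_commute y z (hccomm z y z) p]
      rw [commutatorElement_eq_one_iff_commute]
      exact (Subgroup.mem_center_iff.1 (hpZ z) y).symm
    apply hfinal
    · intro y
      apply hZfix
      obtain ⟨m, rfl⟩ := hpe
      rw [pow_mul]
      exact Subgroup.pow_mem _ (hpZ y) m
    · intro y z
      rw [hpowform]
      have : ⁅z, y⁆ ^ (e.choose 2) = 1 := by
        rcases he with ⟨rfl, hp2⟩ | ⟨rfl, rfl⟩
        · have h2 : e ∣ e.choose 2 := by
            apply Nat.Prime.dvd_choose_self hpp (by norm_num)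
            have := hpp.two_le
            omega
          obtain ⟨m, hm⟩ := h2
          rw [hm, pow_mul, hcp, one_pow]
        · have : Nat.choose 4 2 = 2 * 3 := by decide
          rw [this, pow_mul, hcp, one_pow]
      rw [this, mul_one]

/-- A `p'`-element normalizing a `p`-subgroup `Q` and centralizing every invariant subgroup of `Q`
of exponent dividing `p` (dividing `4` when `p = 2`) centralizes `Q`. -/
theorem mem_centralizer_of_centralizes_exp {G : Type*} [Group G] [Finite G] {p : ℕ} [Fact p.Prime]
    (e : ℕ) (he : (e = p ∧ p ≠ 2) ∨ (e = 4 ∧ p = 2)) (Q : Subgroup G) (hQ : IsPGroup p Q) (g : G)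
    (hg : g ∈ Subgroup.normalizer (Q : Set G)) (hgp : (orderOf g).Coprime p)
    (hcomm : ∀ R : Subgroup G, R ≤ Q → (∀ x ∈ R, g * x * g⁻¹ ∈ R) → (∀ x ∈ R, x ^ e = 1) →
      ∀ x ∈ R, g * x = x * g) : g ∈ Subgroup.centralizer (Q : Set G) := by
  obtain ⟨β, hβ⟩ : ∃ β : MulAut Q, β = Q.normalizerMonoidHom ⟨g, hg⟩ := ⟨_, rfl⟩
  have hβapp : ∀ x : Q, ((β x : Q) : G) = g * x * g⁻¹ := by
    intro x; rw [hβ]; rfl
  have hβk : β ^ orderOf g = 1 := by
    rw [hβ, ← map_pow]
    have : (⟨g, hg⟩ : Subgroup.normalizer (Q : Set G)) ^ orderOf g = 1 := by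
      apply Subtype.ext
      simp [pow_orderOf_eq_one]
    rw [this, map_one]
  have hfix : ∀ R' : Subgroup Q, (∀ x ∈ R', β x ∈ R') → (∀ x ∈ R', x ^ e = 1) →
      ∀ x ∈ R', β x = x := by
    intro R' hinv hexp x hx
    apply Subtype.ext
    rw [hβapp]
    have h1 := hcomm (R'.map Q.subtype) ?_ ?_ ?_ (x : G) ⟨x, hx, rfl⟩
    · rw [h1]; group
    · rintro _ ⟨z, _, rfl⟩; exact z.2
    · rintro _ ⟨z, hz, rfl⟩
      refine ⟨β z, hinv z hz, ?_⟩
      rw [Subgroup.coe_subtype, hβapp]
    · rintro _ ⟨z, hz, rfl⟩
      have := congrArg Subtype.val (hexp z hz)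
      simpa using this
  have hall := coprime_aut_fix_exp _ Q rfl p e he hQ β (orderOf g) hβk hgp hfix
  have hβ1 : β = 1 := by ext x; rw [hall x]; rfl
  have hker : (⟨g, hg⟩ : Subgroup.normalizer (Q : Set G)) ∈ Q.normalizerMonoidHom.ker := by
    rw [MonoidHom.mem_ker, ← hβ, hβ1]
  rw [Subgroup.normalizerMonoidHom_ker, Subgroup.mem_subgroupOf] at hker
  exact hker

end Cfsg.Agent.Lib.Helper4
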