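import Cfsg.Prelude.Def_Solvable
import Mathlib.GroupTheory.Sylow

set_option autoImplicit false

namespace Cfsg.Agent.Lib.Helper4

open Cfsg

variable {G : Type*} [Group G]

theorem pCore_normal (p : ℕ) : (pCore p G).Normal :=
  Subgroup.sSup_normal _ (fun _ h => h.1)

theorem pPrimeCore_normal (p : ℕ) : (pPrimeCore p G).Normal :=
  Subgroup.sSup_normal _ (fun _ h => h.1)

theorem fittingSubgroup_normal : (fittingSubgroup G).Normal :=
  Subgroup.sSup_normal _ (fun _ h => h.1)

theorem pCore_le_sylow {p : ℕ} (S : Sylow p G) : pCore p G ≤ S := by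
  apply sSup_le
  rintro N ⟨hn, hp⟩
  have := hn
  exact hp.le_sylow_of_normal S

theorem pCore_isPGroup {p : ℕ} : IsPGroup p (pCore p G) :=
  Sylow.sSup_of_normal _ (fun _ h => h.2) (fun _ h => h.1)

end Cfsg.Agent.Lib.Helper4
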