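import Mathlib
import Cfsg.Prelude.Def_Solvable
import Cfsg.Agent.Lib.Helper8.CharFrobThm
import Cfsg.Agent.Lib.Helper4.ConjSub

set_option autoImplicit false

namespace Cfsg.Agent.Lib.Helper4

open scoped Pointwise

section FrobBasic

variable {G : Type*} [Group G]

theorem frb_mem_smul_iff (g x : G) (H : Subgroup G) :
    x ∈ MulAut.conj g • H ↔ g⁻¹ * x * g ∈ H := by
  rw [Subgroup.mem_pointwise_smul_iff_inv_smul_mem]
  simp [MulAut.smul_def]

theorem frb_smul_eq_cj (g : G) (H : Subgroup G) : MulAut.conj g • H = cj g H := by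
  ext x
  rw [frb_mem_smul_iff, mem_cj_iff]

theorem frb_not_mem_kernel {H : Subgroup G} {x : G} (hx : x ∉ Cfsg.frobeniusKernel H) :
    x ≠ 1 ∧ ∃ g : G, g⁻¹ * x * g ∈ H := by
  unfold Cfsg.frobeniusKernel at hx
  simp only [Set.mem_ofPred_eq, not_or, not_forall, not_not] at hx
  obtain ⟨h1, g, hg⟩ := hx
  exact ⟨h1, g, (frb_mem_smul_iff g x H).mp hg⟩

theorem frb_mem_kernel_of {H : Subgroup G} {x : G}
    (hx : ∀ g : G, g⁻¹ * x * g ∈ H → x = 1) : x ∈ Cfsg.frobeniusKernel H := by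
  by_cases h1 : x = 1
  · exact Or.inl h1
  · right
    intro g hg
    exact h1 (hx g ((frb_mem_smul_iff g x H).mp hg))

theorem frb_kernel_conj {H : Subgroup G} {x : G} (hx : x ∈ Cfsg.frobeniusKernel H) (g : G)
    (hg : g⁻¹ * x * g ∈ H) : x = 1 := by
  rcases hx with h | h
  · exact h
  · exact absurd ((frb_mem_smul_iff g x H).mpr hg) (h g)

/-- distinct elements of a subgroup meeting `H` trivially conjugate a nonidentity element of
the malnormal subgroup `H` to distinct elements. -/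
theorem frb_conj_inj {H : Subgroup G} (hH : Cfsg.IsFrobeniusComplement H) {K : Subgroup G}
    (hKH : K ⊓ H = ⊥) {r a b : G} (hr : r ∈ H) (hr1 : r ≠ 1) (ha : a ∈ K) (hb : b ∈ K)
    (h : a * r * a⁻¹ = b * r * b⁻¹) : a = b := by
  have h1 : (a⁻¹ * b)⁻¹ * r * (a⁻¹ * b) ∈ H := by
    have e : (a⁻¹ * b)⁻¹ * r * (a⁻¹ * b) = r := by
      have e1 : b⁻¹ * (a * r * a⁻¹) * b = r := by rw [h]; group
      have e2 : (a⁻¹ * b)⁻¹ * r * (a⁻¹ * b) = b⁻¹ * (a * r * a⁻¹) * b := by group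
      rw [e2, e1]
    rw [e]; exact hr
  have h2 : a⁻¹ * b ∈ H := Cfsg.Agent.Lib.Helper8.frobenius_conj_mem hH hr hr1 h1
  have h3 : a⁻¹ * b ∈ K := K.mul_mem (K.inv_mem ha) hb
  have h4 : a⁻¹ * b ∈ K ⊓ H := ⟨h3, h2⟩
  rw [hKH, Subgroup.mem_bot] at h4
  have h5 := congrArg (fun t => a * t) h4
  simp only [mul_inv_cancel_left, mul_one] at h5
  exact h5.symm

/-- the centralizer of a nonidentity element of a malnormal subgroup lies in it. -/
theorem frb_centralizer_le {H : Subgroup G} (hH : Cfsg.IsFrobeniusComplement H) {r : G}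
    (hr : r ∈ H) (hr1 : r ≠ 1) {x : G} (hx : x * r = r * x) : x ∈ H := by
  apply Cfsg.Agent.Lib.Helper8.frobenius_conj_mem hH hr hr1
  have e : x⁻¹ * r * x = r := by
    rw [mul_assoc, ← hx, ← mul_assoc]; group
  rw [e]; exact hr

/-- a conjugate of a Frobenius complement is one. -/
theorem frb_cj (H : Subgroup G) (hH : Cfsg.IsFrobeniusComplement H) (a : G) :
    Cfsg.IsFrobeniusComplement (cj a H) := by
  obtain ⟨h1, h2, h3⟩ := hH
  refine ⟨?_, ?_, ?_⟩
  · intro h
    apply h1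
    rw [eq_bot_iff]
    intro x hx
    have : a * x * a⁻¹ ∈ cj a H := conj_mem_cj a H hx
    rw [h, Subgroup.mem_bot] at this
    rw [Subgroup.mem_bot]
    have e : x = a⁻¹ * (a * x * a⁻¹) * a := by group
    rw [e, this]; group
  · intro h
    apply h2
    rw [eq_top_iff]
    intro x _
    have : a * x * a⁻¹ ∈ cj a H := by rw [h]; trivial
    rw [mem_cj_iff] at this
    have e : a⁻¹ * (a * x * a⁻¹) * a = x := by group
    rwa [e] at this
  · intro g hg
    have hg' : a⁻¹ * g * a ∉ H := by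
      intro h
      apply hg
      rw [mem_cj_iff]; exact h
    have := h3 _ hg'
    rw [eq_bot_iff]
    intro x hx
    obtain ⟨hx1, hx2⟩ := Subgroup.mem_inf.mp hx
    rw [frb_mem_smul_iff, mem_cj_iff] at hx2
    rw [mem_cj_iff] at hx1
    have hmem : a⁻¹ * x * a ∈ H ⊓ MulAut.conj (a⁻¹ * g * a) • H := by
      refine Subgroup.mem_inf.mpr ⟨hx1, ?_⟩
      rw [frb_mem_smul_iff]
      have e : (a⁻¹ * g * a)⁻¹ * (a⁻¹ * x * a) * (a⁻¹ * g * a) = a⁻¹ * (g⁻¹ * x * g) * a := by group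
      rw [e]; exact hx2
    rw [this, Subgroup.mem_bot] at hmem
    rw [Subgroup.mem_bot]
    have e : x = a * (a⁻¹ * x * a) * a⁻¹ := by group
    rw [e, hmem]; group

end FrobBasic

end Cfsg.Agent.Lib.Helper4
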