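import Mathlib
import Cfsg.Prelude.Def_Solvable
import Cfsg.Agent.Lib.Helper8.CharFrobThm
import Cfsg.Agent.Lib.Helper6.QuatRec

set_option autoImplicit false

namespace Cfsg.Agent.Lib.Helper4

open scoped Pointwise

section FrobConstruct

universe u v

/-- a group acting without fixed points on a nontrivial group is a Frobenius complement in the
semidirect product. -/
theorem frob_of_fpf {V : Type u} {X : Type v} [Group V] [Finite V] [Group X] [Finite X]
    [Nontrivial V] [Nontrivial X]
    (φ : X →* MulAut V) (hfpf : ∀ x : X, x ≠ 1 → ∀ v : V, φ x v = v → v = 1) :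
    ∃ (H : Subgroup (V ⋊[φ] X)), Cfsg.IsFrobeniusComplement H ∧ Nonempty (X ≃* H) ∧
      Nat.card (Cfsg.frobeniusKernel H) = Nat.card V := by
  classical
  haveI hfin : Finite (V ⋊[φ] X) := Finite.of_equiv _ SemidirectProduct.equivProd.symm
  have hleft : ∀ g : V ⋊[φ] X,
      g ∈ (SemidirectProduct.inr : X →* V ⋊[φ] X).range ↔ g.left = 1 := by
    intro g
    constructor
    · rintro ⟨h, rfl⟩
      rfl
    · intro h
      refine ⟨g.right, ?_⟩
      apply SemidirectProduct.ext
      · rw [SemidirectProduct.left_inr, h]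
      · rw [SemidirectProduct.right_inr]
  have hF : Cfsg.IsFrobeniusComplement (SemidirectProduct.inr : X →* V ⋊[φ] X).range := by
    refine ⟨?_, ?_, ?_⟩
    · intro hbot
      obtain ⟨x, hx⟩ := exists_ne (1 : X)
      have hmem : (SemidirectProduct.inr x : V ⋊[φ] X) ∈
          (SemidirectProduct.inr : X →* V ⋊[φ] X).range := ⟨_, rfl⟩
      rw [hbot, Subgroup.mem_bot] at hmem
      apply hx
      apply SemidirectProduct.inr_injective (φ := φ)
      rw [hmem, map_one]
    · intro htop
      obtain ⟨v, hv⟩ := exists_ne (1 : V)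
      have hmem : (SemidirectProduct.inl v : V ⋊[φ] X) ∈
          (SemidirectProduct.inr : X →* V ⋊[φ] X).range := by rw [htop]; trivial
      rw [hleft, SemidirectProduct.left_inl] at hmem
      exact hv hmem
    · intro g hg
      rw [hleft] at hg
      rw [Subgroup.eq_bot_iff_forall]
      intro y hy
      rw [Subgroup.mem_inf] at hy
      obtain ⟨hy1, hy2⟩ := hy
      rw [Subgroup.mem_pointwise_smul_iff_inv_smul_mem] at hy2
      obtain ⟨c1, rfl⟩ := hy1
      obtain ⟨c2, hc2⟩ := hy2
      have heq : (SemidirectProduct.inr c1 : V ⋊[φ] X) * g = g * SemidirectProduct.inr c2 := by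
        rw [hc2]
        simp [MulAut.smul_def, mul_assoc]
      have hl := congrArg SemidirectProduct.left heq
      rw [SemidirectProduct.mul_left, SemidirectProduct.mul_left, SemidirectProduct.left_inr,
        SemidirectProduct.left_inr, SemidirectProduct.right_inr, one_mul, map_one, mul_one] at hl
      by_cases hc1 : c1 = 1
      · rw [hc1, map_one]
      · exact absurd (hfpf c1 hc1 g.left hl) hg
  refine ⟨_, hF, ⟨MonoidHom.ofInjective (SemidirectProduct.inr_injective (φ := φ))⟩, ?_⟩
  obtain ⟨N, hNset, -, hNc⟩ := Cfsg.Agent.Lib.Helper8.frobenius_kernel_thm _ hF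
  have h1 : Nat.card (Cfsg.frobeniusKernel (SemidirectProduct.inr : X →* V ⋊[φ] X).range) =
      Nat.card N := by rw [← hNset]; rfl
  rw [h1]
  have h2 := hNc.card_mul_card
  have h3 : Nat.card (V ⋊[φ] X) = Nat.card V * Nat.card X := by
    rw [Nat.card_congr SemidirectProduct.equivProd, Nat.card_prod]
  have h4 : Nat.card (SemidirectProduct.inr : X →* V ⋊[φ] X).range = Nat.card X :=
    (Nat.card_congr (MonoidHom.ofInjective (SemidirectProduct.inr_injective (φ := φ))).toEquiv).symm
  rw [h3, h4] at h2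
  exact Nat.eq_of_mul_eq_mul_right Nat.card_pos h2

open Cfsg.Agent.Lib.Helper6 in
/-- homomorphisms out of a dicyclic group from generators and relations. -/
theorem quat_lift {Y : Type*} [Group Y] (m : ℕ) [NeZero m] (α β : Y)
    (hα : orderOf α = 2 * m) (hβ2 : β ^ 2 = α ^ m) (hconj : β * α * β⁻¹ = α⁻¹) :
    ∃ f : QuaternionGroup m →* Y, (∀ i, f (QuaternionGroup.a i) = zpN (2 * m) α i) ∧
      (∀ i, f (QuaternionGroup.xa i) = β * zpN (2 * m) α i) ∧
      (β ∉ Subgroup.zpowers α → Function.Injective f) := by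
  have hc : ∀ i : ZMod (2 * m), zpN (2 * m) α i * β = β * (zpN (2 * m) α i)⁻¹ := by
    intro i
    unfold zpN
    have h1 : β * α ^ (ZMod.cast i : ℤ) * β⁻¹ = (α ^ (ZMod.cast i : ℤ))⁻¹ := by
      rw [← conj_zpow, hconj, inv_zpow]
    calc α ^ (ZMod.cast i : ℤ) * β = ((α ^ (ZMod.cast i : ℤ))⁻¹)⁻¹ * β := by rw [inv_inv]
      _ = (β * α ^ (ZMod.cast i : ℤ) * β⁻¹)⁻¹ * β := by rw [h1]
      _ = β * (α ^ (ZMod.cast i : ℤ))⁻¹ := by group
  have hm : zpN (2 * m) α (m : ZMod (2 * m)) = β * β := by
    rw [zpN_natCast hα, ← hβ2, pow_two]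
  let f : QuaternionGroup m →* Y := MonoidHom.mk'
    (fun g => match g with
      | QuaternionGroup.a i => zpN (2 * m) α i
      | QuaternionGroup.xa i => β * zpN (2 * m) α i)
    (by
      intro x y
      rcases x with i | i <;> rcases y with j | j
      · show zpN (2 * m) α (i + j) = _
        rw [zpN_add hα]
      · show β * zpN (2 * m) α (j - i) = zpN (2 * m) α i * (β * zpN (2 * m) α j)
        rw [zpN_sub hα, ← mul_assoc, ← mul_assoc, hc i]
      · show β * zpN (2 * m) α (i + j) = β * zpN (2 * m) α i * zpN (2 * m) α j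
        rw [zpN_add hα, mul_assoc]
      · show zpN (2 * m) α (m + j - i) = β * zpN (2 * m) α i * (β * zpN (2 * m) α j)
        rw [add_sub_assoc, zpN_add hα, zpN_sub hα, hm]
        have := hc i
        calc β * β * ((zpN (2 * m) α i)⁻¹ * zpN (2 * m) α j)
            = β * (β * (zpN (2 * m) α i)⁻¹) * zpN (2 * m) α j := by group
          _ = β * (zpN (2 * m) α i * β) * zpN (2 * m) α j := by rw [this]
          _ = β * zpN (2 * m) α i * (β * zpN (2 * m) α j) := by group)
  have hfa : ∀ i, f (QuaternionGroup.a i) = zpN (2 * m) α i := fun i => rfl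
  have hfxa : ∀ i, f (QuaternionGroup.xa i) = β * zpN (2 * m) α i := fun i => rfl
  refine ⟨f, hfa, hfxa, ?_⟩
  intro hβ
  rw [injective_iff_map_eq_one]
  intro g hg
  rcases g with i | i
  · rw [hfa] at hg
    rw [zpN_eq_one hα i hg]
    rfl
  · exfalso
    rw [hfxa] at hg
    apply hβ
    have h1 : β = (zpN (2 * m) α i)⁻¹ := eq_inv_of_mul_eq_one_left hg
    rw [h1]
    exact Subgroup.inv_mem _ (zpN_mem_zpowers _ _ _)

end FrobConstruct

end Cfsg.Agent.Lib.Helper4
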