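import Mathlib
import Cfsg.Prelude.Def_Solvable
import Cfsg.Agent.Lib.Helper4.FrobBasic
import Cfsg.Agent.Lib.Helper4.FrobConstruct

set_option autoImplicit false

namespace Cfsg.Agent.Lib.Helper4

open scoped Pointwise

section FrobTransport

universe u v

/-- Frobenius complements are transported by isomorphisms. -/
theorem frb_map_equiv {L : Type u} {L' : Type v} [Group L] [Group L'] (g : L ≃* L')
    (C : Subgroup L) (hC : Cfsg.IsFrobeniusComplement C) :
    Cfsg.IsFrobeniusComplement (C.map g.toMonoidHom) := by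
  obtain ⟨h1, h2, h3⟩ := hC
  have hmem : ∀ x : L, g x ∈ C.map g.toMonoidHom ↔ x ∈ C := by
    intro x
    constructor
    · rintro ⟨c, hc, hcx⟩
      have : c = x := g.injective hcx
      rw [← this]; exact hc
    · intro hx; exact ⟨x, hx, rfl⟩
  refine ⟨?_, ?_, ?_⟩
  · intro h
    apply h1
    rw [eq_bot_iff]
    intro x hx
    have : g x ∈ C.map g.toMonoidHom := (hmem x).mpr hx
    rw [h, Subgroup.mem_bot] at this
    rw [Subgroup.mem_bot]
    exact g.injective (this.trans (map_one g).symm)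
  · intro h
    apply h2
    rw [eq_top_iff]
    intro x _
    have : g x ∈ C.map g.toMonoidHom := by rw [h]; trivial
    exact (hmem x).mp this
  · intro y hy
    obtain ⟨x, rfl⟩ := g.surjective y
    have hx : x ∉ C := fun h => hy ((hmem x).mpr h)
    have h0 := h3 x hx
    rw [eq_bot_iff]
    intro z hz
    obtain ⟨hz1, hz2⟩ := Subgroup.mem_inf.mp hz
    obtain ⟨c, rfl⟩ := g.surjective z
    rw [frb_mem_smul_iff] at hz2
    have e : (g x)⁻¹ * g c * g x = g (x⁻¹ * c * x) := by rw [map_mul, map_mul, map_inv]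
    rw [e, hmem] at hz2
    rw [hmem] at hz1
    have hc : c ∈ C ⊓ MulAut.conj x • C :=
      Subgroup.mem_inf.mpr ⟨hz1, (frb_mem_smul_iff x c C).mpr hz2⟩
    rw [h0, Subgroup.mem_bot] at hc
    rw [Subgroup.mem_bot, hc, map_one]

/-- a Frobenius complement in a finite group of any universe has a copy in `Type`. -/
theorem frb_shrink {L : Type u} [Group L] [Finite L] (C : Subgroup L)
    (hC : Cfsg.IsFrobeniusComplement C) :
    ∃ (L' : Type) (_ : Group L') (_ : Finite L') (C' : Subgroup L'),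
      Cfsg.IsFrobeniusComplement C' ∧ Nonempty (C ≃* C') := by
  haveI : Small.{0} L := inferInstance
  let f : L ≃* Shrink.{0} L := (Shrink.mulEquiv (α := L)).symm
  haveI : Finite (Shrink.{0} L) := Finite.of_equiv L f.toEquiv
  exact ⟨Shrink.{0} L, inferInstance, inferInstance, C.map f.toMonoidHom,
    frb_map_equiv f C hC, ⟨C.equivMapOfInjective f.toMonoidHom f.injective⟩⟩

end FrobTransport

section DivRingFrob

universe u

variable {D : Type u} [DivisionRing D] (H : Subgroup Dˣ)

/-- the additive subgroup generated by `H`. -/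
def drfSpan : AddSubgroup D := AddSubgroup.closure {x | ∃ h ∈ H, ((h : Dˣ) : D) = x}

theorem drfSpan_one_mem : (1 : D) ∈ drfSpan H :=
  AddSubgroup.subset_closure ⟨1, H.one_mem, by simp⟩

theorem drfSpan_mul_mem {h : Dˣ} (hh : h ∈ H) {r : D} (hr : r ∈ drfSpan H) :
    (h : D) * r ∈ drfSpan H := by
  unfold drfSpan at hr ⊢
  refine AddSubgroup.closure_induction
    (p := fun x _ => (h : D) * x ∈ AddSubgroup.closure {x | ∃ h ∈ H, ((h : Dˣ) : D) = x})
    ?_ ?_ ?_ ?_ hr
  · rintro x ⟨h', hh', rfl⟩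
    exact AddSubgroup.subset_closure ⟨h * h', H.mul_mem hh hh', by simp⟩
  · rw [mul_zero]; exact zero_mem _
  · intro x y _ _ hx hy
    rw [mul_add]; exact add_mem hx hy
  · intro x _ hx
    rw [mul_neg]; exact neg_mem hx

/-- left multiplication by an element of `H`. -/
def drfMul (h : H) : drfSpan H →+ drfSpan H where
  toFun r := ⟨((h : Dˣ) : D) * r, drfSpan_mul_mem H h.2 r.2⟩
  map_zero' := by ext; simp
  map_add' a b := by ext; simp [mul_add]

theorem drfMul_coe (h : H) (r : drfSpan H) : ((drfMul H h r : drfSpan H) : D) = ((h : Dˣ) : D) * r :=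
  rfl

/-- the multiples of `p`. -/
def drfP (p : ℕ) : AddSubgroup (drfSpan H) := (nsmulAddMonoidHom p : drfSpan H →+ drfSpan H).range

theorem drfP_le (p : ℕ) (h : H) : drfP H p ≤ (drfP H p).comap (drfMul H h) := by
  rintro x ⟨y, rfl⟩
  exact ⟨drfMul H h y, by simp⟩

/-- the action on the quotient. -/
def drfAct (p : ℕ) (h : H) : drfSpan H ⧸ drfP H p →+ drfSpan H ⧸ drfP H p :=
  QuotientAddGroup.map (drfP H p) (drfP H p) (drfMul H h) (drfP_le H p h)

theorem drfAct_mk (p : ℕ) (h : H) (r : drfSpan H) :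
    drfAct H p h (QuotientAddGroup.mk r) = QuotientAddGroup.mk (drfMul H h r) := rfl

theorem drfAct_one (p : ℕ) (q : drfSpan H ⧸ drfP H p) : drfAct H p 1 q = q := by
  obtain ⟨r, rfl⟩ := QuotientAddGroup.mk_surjective q
  rw [drfAct_mk]
  congr 1
  ext
  rw [drfMul_coe]; simp

theorem drfAct_mul (p : ℕ) (h h' : H) (q : drfSpan H ⧸ drfP H p) :
    drfAct H p (h * h') q = drfAct H p h (drfAct H p h' q) := by
  obtain ⟨r, rfl⟩ := QuotientAddGroup.mk_surjective q
  rw [drfAct_mk, drfAct_mk, drfAct_mk]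
  congr 1
  ext
  rw [drfMul_coe, drfMul_coe, drfMul_coe]
  simp [mul_assoc]

/-- the action as automorphisms. -/
def drfAut (p : ℕ) : H →* MulAut (Multiplicative (drfSpan H ⧸ drfP H p)) where
  toFun h := AddEquiv.toMultiplicative
    { toFun := drfAct H p h
      invFun := drfAct H p h⁻¹
      left_inv := fun q => by rw [← drfAct_mul, inv_mul_cancel, drfAct_one]
      right_inv := fun q => by rw [← drfAct_mul, mul_inv_cancel, drfAct_one]
      map_add' := (drfAct H p h).map_add }
  map_one' := by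
    apply MulEquiv.ext
    intro q
    show Multiplicative.ofAdd (drfAct H p 1 (Multiplicative.toAdd q)) = q
    rw [drfAct_one]; rfl
  map_mul' h h' := by
    apply MulEquiv.ext
    intro q
    show Multiplicative.ofAdd (drfAct H p (h * h') (Multiplicative.toAdd q)) =
      Multiplicative.ofAdd (drfAct H p h (drfAct H p h' (Multiplicative.toAdd q)))
    rw [drfAct_mul]

theorem drfAut_apply (p : ℕ) (h : H) (q : Multiplicative (drfSpan H ⧸ drfP H p)) :
    drfAut H p h q = Multiplicative.ofAdd (drfAct H p h (Multiplicative.toAdd q)) := rfl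

theorem drf_nsmul_eq_zero (p : ℕ) (q : drfSpan H ⧸ drfP H p) : p • q = 0 := by
  obtain ⟨r, rfl⟩ := QuotientAddGroup.mk_surjective q
  rw [← QuotientAddGroup.mk_nsmul, QuotientAddGroup.eq_zero_iff]
  exact ⟨r, rfl⟩

theorem drf_finite [Finite H] (p : ℕ) (hp : p ≠ 0) : Finite (drfSpan H ⧸ drfP H p) := by
  haveI : AddGroup.FG (drfSpan H) := by
    rw [AddGroup.fg_iff_addSubgroup_fg, AddSubgroup.fg_iff]
    refine ⟨{x | ∃ h ∈ H, ((h : Dˣ) : D) = x}, rfl, ?_⟩
    have : {x | ∃ h ∈ H, ((h : Dˣ) : D) = x} = Set.range (fun h : H => ((h : Dˣ) : D)) := by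
      ext x
      constructor
      · rintro ⟨h, hh, rfl⟩; exact ⟨⟨h, hh⟩, rfl⟩
      · rintro ⟨h, rfl⟩; exact ⟨h, h.2, rfl⟩
    rw [this]
    exact Set.finite_range _
  apply AddCommGroup.finite_of_fg_isAddTorsion
  intro q
  rw [isOfFinAddOrder_iff_nsmul_eq_zero]
  exact ⟨p, Nat.pos_of_ne_zero hp, drf_nsmul_eq_zero H p q⟩

/-- no nonidentity element of `H` fixes a nonzero element of the quotient. -/
theorem drf_fpf [Finite H] (p : ℕ) (hp : p.Prime) (hpH : ¬ p ∣ Nat.card H) (h : H) (hh : h ≠ 1)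
    (q : drfSpan H ⧸ drfP H p) (hq : drfAct H p h q = q) : q = 0 := by
  classical
  have hpow : ∀ i : ℕ, drfAct H p (h ^ i) q = q := by
    intro i
    induction i with
    | zero => rw [pow_zero, drfAct_one]
    | succ i ih => rw [pow_succ, drfAct_mul, hq, ih]
  obtain ⟨m, hm⟩ : ∃ m, m = orderOf h := ⟨_, rfl⟩
  have hsum1 : ∑ i ∈ Finset.range m, drfAct H p (h ^ i) q = m • q := by
    rw [Finset.sum_congr rfl (fun i _ => hpow i), Finset.sum_const, Finset.card_range]
  obtain ⟨r, rfl⟩ := QuotientAddGroup.mk_surjective q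
  have hx1 : (((h : H) : Dˣ) : D) ≠ 1 := by
    intro h1
    apply hh
    apply Subtype.ext
    apply Units.ext
    rw [h1]; rfl
  have hxm : (((h : H) : Dˣ) : D) ^ m = 1 := by
    have : h ^ m = 1 := by rw [hm]; exact pow_orderOf_eq_one h
    have h2 := congrArg (fun t : H => ((t : Dˣ) : D)) this
    simpa using h2
  have hgeom : ∑ i ∈ Finset.range m, (((h : H) : Dˣ) : D) ^ i = 0 := by
    rw [geom_sum_eq hx1, hxm, sub_self, zero_div]
  have hsum2 : ∑ i ∈ Finset.range m, drfAct H p (h ^ i) (QuotientAddGroup.mk r) = 0 := by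
    have e1 : ∀ i ∈ Finset.range m, drfAct H p (h ^ i) (QuotientAddGroup.mk r) =
        QuotientAddGroup.mk' (drfP H p) (drfMul H (h ^ i) r) := fun i _ => rfl
    rw [Finset.sum_congr rfl e1, ← map_sum]
    have e2 : ∑ i ∈ Finset.range m, drfMul H (h ^ i) r = 0 := by
      apply Subtype.ext
      rw [AddSubgroup.val_finsetSum]
      have e3 : ∀ i ∈ Finset.range m, ((drfMul H (h ^ i) r : drfSpan H) : D) =
          (((h : H) : Dˣ) : D) ^ i * (r : D) := by
        intro i _
        rw [drfMul_coe]; simp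
      rw [Finset.sum_congr rfl e3, ← Finset.sum_mul, hgeom, zero_mul]
      rfl
    rw [e2, map_zero]
  rw [hsum2] at hsum1
  have hmq : m • (QuotientAddGroup.mk r : drfSpan H ⧸ drfP H p) = 0 := hsum1.symm
  have hpq := drf_nsmul_eq_zero H p (QuotientAddGroup.mk r)
  have h1 : addOrderOf (QuotientAddGroup.mk r : drfSpan H ⧸ drfP H p) ∣ m :=
    addOrderOf_dvd_of_nsmul_eq_zero hmq
  have h2 : addOrderOf (QuotientAddGroup.mk r : drfSpan H ⧸ drfP H p) ∣ p :=
    addOrderOf_dvd_of_nsmul_eq_zero hpq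
  have hmH : m ∣ Nat.card H := hm ▸ orderOf_dvd_natCard h
  have hcop : Nat.Coprime m p := by
    rw [Nat.coprime_comm, Nat.Prime.coprime_iff_not_dvd hp]
    intro hpm
    exact hpH (hpm.trans hmH)
  have h3 : addOrderOf (QuotientAddGroup.mk r : drfSpan H ⧸ drfP H p) ∣ 1 := by
    rw [← Nat.Coprime.gcd_eq_one hcop]
    exact Nat.dvd_gcd h1 h2
  exact AddMonoid.addOrderOf_eq_one_iff.mp (Nat.dvd_one.mp h3)

end DivRingFrob

end Cfsg.Agent.Lib.Helper4
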