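import Mathlib
import Cfsg.Agent.Lib.Helper5.Frattini

set_option autoImplicit false

namespace Cfsg.Agent.Lib.Helper4

/-- Every subgroup of a finite elementary abelian group has a complement. -/
theorem elemab_exists_complement {V : Type*} [CommGroup V] [Finite V] {p : ℕ} (hp : p.Prime)
    (hexp : ∀ x : V, x ^ p = 1) (U : Subgroup V) :
    ∃ W : Subgroup V, U ⊓ W = ⊥ ∧ U ⊔ W = ⊤ := by
  classical
  haveI : Nonempty {W : Subgroup V // U ⊓ W = ⊥} := ⟨⟨⊥, inf_bot_eq _⟩⟩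
  obtain ⟨⟨W, hW⟩, hmax⟩ :=
    Finite.exists_max (fun W : {W : Subgroup V // U ⊓ W = ⊥} => Nat.card (W.1))
  refine ⟨W, hW, ?_⟩
  by_contra hne
  obtain ⟨v, hv⟩ : ∃ v, v ∉ U ⊔ W := by
    by_contra h
    apply hne
    rw [Subgroup.eq_top_iff']
    intro x
    by_contra hx
    exact h ⟨x, hx⟩
  have hW' : U ⊓ (W ⊔ Subgroup.zpowers v) = ⊥ := by
    rw [eq_bot_iff]
    rintro u ⟨huU, huW'⟩
    obtain ⟨w, hw, z, hz, rfl⟩ := Subgroup.mem_sup.1 huW'
    obtain ⟨i, rfl⟩ := Subgroup.mem_zpowers_iff.1 hz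
    have hvi : v ^ i = 1 := by
      by_cases hdvd : (p : ℤ) ∣ i
      · obtain ⟨j, rfl⟩ := hdvd
        rw [zpow_mul, zpow_natCast, hexp, one_zpow]
      · exfalso
        apply hv
        apply Cfsg.Agent.Lib.Helper5.mem_of_zpow_mem_of_not_dvd hp (U ⊔ W) v (hexp v) i hdvd
        have e : v ^ i = w⁻¹ * (w * v ^ i) := by group
        rw [e]
        exact Subgroup.mul_mem _ (Subgroup.inv_mem _ ((le_sup_right : W ≤ U ⊔ W) hw))
          ((le_sup_left : U ≤ U ⊔ W) huU)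
    rw [Subgroup.mem_bot]
    rw [hvi, mul_one] at huU ⊢
    have : w ∈ U ⊓ W := ⟨huU, hw⟩
    rw [hW, Subgroup.mem_bot] at this
    exact this
  have hle : W ≤ W ⊔ Subgroup.zpowers v := le_sup_left
  have hne' : W ≠ W ⊔ Subgroup.zpowers v := by
    intro h
    apply hv
    have h1 : v ∈ W ⊔ Subgroup.zpowers v :=
      (le_sup_right : Subgroup.zpowers v ≤ W ⊔ Subgroup.zpowers v) (Subgroup.mem_zpowers v)
    rw [← h] at h1
    exact (le_sup_right : W ≤ U ⊔ W) h1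
  have h2 := hmax ⟨W ⊔ Subgroup.zpowers v, hW'⟩
  exact hne' (Subgroup.eq_of_le_of_card_ge hle h2)

end Cfsg.Agent.Lib.Helper4
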