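import Mathlib
import Cfsg.Agent.Lib.Helper2.Index

set_option autoImplicit false

namespace Cfsg.Agent.Lib.Helper4

open scoped commutatorElement

variable {S : Type*} [Group S]

/-- Common eigenvector for a finite family of commuting involutions acting on an abelian subgroup. -/
theorem ea_eigen {Q : Type*} [Group Q] (M : Subgroup Q) (hM : ∀ a ∈ M, ∀ b ∈ M, a * b = b * a)
    (T : Set Q) (hTM : ∀ t ∈ T, ∀ m ∈ M, t * m * t⁻¹ ∈ M)
    (hTc : ∀ s ∈ T, ∀ t ∈ T, s * t = t * s) (hT2 : ∀ t ∈ T, t * t = 1)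
    (s : Finset Q) (hs : ∀ t ∈ s, t ∈ T) (v₀ : Q) (hv₀ : v₀ ∈ M) (hv₀1 : v₀ ≠ 1) :
    ∃ v ∈ M, v ≠ 1 ∧ ∀ t ∈ s, t * v * t⁻¹ = v ∨ t * v * t⁻¹ = v⁻¹ := by
  classical
  induction s using Finset.induction_on with
  | empty => exact ⟨v₀, hv₀, hv₀1, by simp⟩
  | insert t s hts ih =>
    obtain ⟨v, hvM, hv1, hv⟩ := ih (fun r hr => hs r (Finset.mem_insert_of_mem hr))
    have htT : t ∈ T := hs t (Finset.mem_insert_self t s)
    have htv : t * v * t⁻¹ ∈ M := hTM t htT v hvM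
    by_cases hw : v * (t * v * t⁻¹) = 1
    · refine ⟨v, hvM, hv1, ?_⟩
      intro r hr
      rcases Finset.mem_insert.1 hr with h | hr
      · right
        rw [h]
        exact eq_inv_of_mul_eq_one_right hw
      · exact hv r hr
    · refine ⟨v * (t * v * t⁻¹), M.mul_mem hvM htv, hw, ?_⟩
      intro r hr
      rcases Finset.mem_insert.1 hr with h | hr
      · left
        rw [h]
        have h1 : t * (v * (t * v * t⁻¹)) * t⁻¹ = (t * v * t⁻¹) * ((t * t) * v * (t * t)⁻¹) := by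
          group
        rw [h1, hT2 t htT, one_mul, inv_one, mul_one]
        exact hM _ htv _ hvM
      · have hrT := hs r (Finset.mem_insert_of_mem hr)
        have hrt : r * t = t * r := hTc r hrT t htT
        have h1 : r * (v * (t * v * t⁻¹)) * r⁻¹ = (r * v * r⁻¹) * (t * (r * v * r⁻¹) * t⁻¹) := by
          calc r * (v * (t * v * t⁻¹)) * r⁻¹
              = (r * v * r⁻¹) * ((r * t) * v * (r * t)⁻¹) := by group
            _ = (r * v * r⁻¹) * ((t * r) * v * (t * r)⁻¹) := by rw [hrt]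
            _ = (r * v * r⁻¹) * (t * (r * v * r⁻¹) * t⁻¹) := by group
        rcases hv r hr with h | h
        · left
          rw [h1, h]
        · right
          rw [h1, h]
          have e : t * v⁻¹ * t⁻¹ = (t * v * t⁻¹)⁻¹ := by group
          rw [mul_inv_rev, e]
          exact hM _ (M.inv_mem hvM) _ (M.inv_mem htv)

/-- An invariant subgroup of prime order on which every element of `I` acts as `±1`. -/
theorem ea_eigen_prime [Finite S] (I W : Subgroup S) (hIc : ∀ a ∈ I, ∀ b ∈ I, a * b = b * a)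
    (hI2 : ∀ a ∈ I, a * a = 1)
    (hW : ∀ a ∈ W, ∀ b ∈ W, a * b = b * a) (hIW : ∀ i ∈ I, ∀ w ∈ W, i * w * i⁻¹ ∈ W)
    (hW1 : W ≠ ⊥) :
    ∃ P : Subgroup S, P ≤ W ∧ (Nat.card P).Prime ∧
      ∀ i ∈ I, (∀ x ∈ P, i * x * i⁻¹ = x) ∨ (∀ x ∈ P, i * x * i⁻¹ = x⁻¹) := by
  classical
  obtain ⟨⟨v₀, hv₀⟩, hne⟩ := Subgroup.ne_bot_iff_exists_ne_one.1 hW1
  have hv₀1 : v₀ ≠ 1 := fun h => hne (Subtype.ext h)
  obtain ⟨v, hvW, hv1, hv⟩ := ea_eigen W hW (I : Set S) hIW hIc hI2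
    (Set.toFinite (I : Set S)).toFinset
    (fun t ht => (Set.Finite.mem_toFinset _).1 ht) v₀ hv₀ hv₀1
  have hv' : ∀ i ∈ I, i * v * i⁻¹ = v ∨ i * v * i⁻¹ = v⁻¹ :=
    fun i hi => hv i ((Set.Finite.mem_toFinset _).2 hi)
  have hov : orderOf v ≠ 1 := fun h => hv1 (orderOf_eq_one_iff.1 h)
  have hq : (orderOf v).minFac.Prime := Nat.minFac_prime hov
  have hov0 : orderOf v ≠ 0 := (orderOf_pos v).ne'
  obtain ⟨y, hy⟩ : ∃ y, y = v ^ (orderOf v / (orderOf v).minFac) := ⟨_, rfl⟩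
  have hoy : orderOf y = (orderOf v).minFac := by
    rw [hy]; exact orderOf_pow_orderOf_div hov0 (Nat.minFac_dvd _)
  refine ⟨Subgroup.zpowers y, ?_, ?_, ?_⟩
  · rw [Subgroup.zpowers_le, hy]; exact W.pow_mem hvW _
  · rw [Nat.card_zpowers, hoy]; exact hq
  · intro i hi
    rcases hv' i hi with h | h
    · left
      intro x hx
      obtain ⟨m, rfl⟩ := Subgroup.mem_zpowers_iff.1 hx
      rw [← conj_zpow, hy, ← conj_pow, h]
    · right
      intro x hx
      obtain ⟨m, rfl⟩ := Subgroup.mem_zpowers_iff.1 hx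
      rw [← conj_zpow, hy, ← conj_pow, h, inv_pow, inv_zpow]

/-- In a nilpotent group, an invariant subgroup not inside `A` has an element outside `A`
which is central modulo `A`. -/
theorem ea_nil_step (F : Subgroup S) (hFn : Group.IsNilpotent ↥F) (A C : Subgroup S)
    (hCF : C ≤ F) (hCinv : ∀ f ∈ F, ∀ x ∈ C, f * x * f⁻¹ ∈ C) (hCA : ¬ C ≤ A) :
    ∃ x ∈ C, x ∉ A ∧ ∀ f ∈ F, x * f * x⁻¹ * f⁻¹ ∈ A := by
  classical
  obtain ⟨c, hc⟩ : ∃ c : ℕ → Subgroup S,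
      c = fun j => Nat.rec C (fun _ X => ⁅X, F⁆) j := ⟨_, rfl⟩
  have hc0 : c 0 = C := by rw [hc]; rfl
  have hcs : ∀ j, c (j + 1) = ⁅c j, F⁆ := by intro j; rw [hc]
  have hcC : ∀ j, c j ≤ C := by
    intro j
    induction j with
    | zero => rw [hc0]
    | succ j ih =>
      rw [hcs]
      refine le_trans (Subgroup.commutator_mono ih le_rfl) ?_
      rw [Subgroup.commutator_le]
      intro x hx f hf
      have : ⁅x, f⁆ = x * (f * x⁻¹ * f⁻¹) := by rw [commutatorElement_def]; group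
      rw [this]
      exact C.mul_mem hx (hCinv f hf _ (C.inv_mem hx))
  have hcl : ∀ j, c j ≤ F.lowerCentralSeries j := by
    intro j
    induction j with
    | zero => rw [hc0]; exact hCF
    | succ j ih =>
      rw [hcs, Subgroup.lowerCentralSeries_succ]
      exact Subgroup.commutator_mono ih le_rfl
  obtain ⟨n, hn⟩ := (Subgroup.isNilpotent_iff_lowerCentralSeries F).1 hFn
  have hex : ∃ m, c m ≤ A := ⟨n, by
    have := hcl n; rw [hn] at this; exact le_trans this bot_le⟩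
  have hmin := @Nat.find_min _ _ hex
  have hspec := Nat.find_spec hex
  obtain ⟨m, hm⟩ : ∃ m, m = Nat.find hex := ⟨_, rfl⟩
  rw [← hm] at hspec
  cases m with
  | zero => rw [hc0] at hspec; exact absurd hspec hCA
  | succ k =>
    have hk : ¬ c k ≤ A := by
      apply hmin; rw [← hm]; exact Nat.lt_succ_self k
    obtain ⟨x, hx, hxA⟩ := SetLike.not_le_iff_exists.1 hk
    refine ⟨x, hcC k hx, hxA, ?_⟩
    intro f hf
    have h1 : ⁅x, f⁆ ∈ c (k + 1) := by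
      rw [hcs]; exact Subgroup.commutator_mem_commutator hx hf
    have h2 := hspec h1
    rwa [commutatorElement_def] at h2

theorem ea_conj_centralizes {Q : Type*} [Group Q] (A : Subgroup Q) (g x : Q)
    (hg : ∀ a ∈ A, g⁻¹ * a * g ∈ A)
    (hx : ∀ a ∈ A, x * a = a * x) : ∀ a ∈ A, (g * x * g⁻¹) * a = a * (g * x * g⁻¹) := by
  intro a ha
  have h := hx _ (hg a ha)
  calc g * x * g⁻¹ * a = g * (x * (g⁻¹ * a * g)) * g⁻¹ := by group
    _ = g * ((g⁻¹ * a * g) * x) * g⁻¹ := by rw [h]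
    _ = a * (g * x * g⁻¹) := by group

theorem ea_conj_mem_closure (k : Set S) (g : S)
    (h : ∀ y ∈ k, g * y * g⁻¹ ∈ Subgroup.closure k) :
    ∀ d ∈ Subgroup.closure k, g * d * g⁻¹ ∈ Subgroup.closure k := by
  intro d hd
  have hle : Subgroup.closure k ≤ (Subgroup.closure k).comap (MulAut.conj g).toMonoidHom := by
    rw [Subgroup.closure_le]
    intro y hy
    have := h y hy
    simpa using this
  have := hle hd
  simpa using this


/-- A maximal invariant abelian normal subgroup of a nilpotent group `F`, with a group `I` of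
commuting involutions acting, is self-centralizing in `F`. -/
theorem ea_self_centralizing [Finite S] (F I : Subgroup S) (hFn : Group.IsNilpotent ↥F)
    (hIF : ∀ i ∈ I, ∀ x ∈ F, i * x * i⁻¹ ∈ F)
    (hIc : ∀ a ∈ I, ∀ b ∈ I, a * b = b * a) (hI2 : ∀ a ∈ I, a * a = 1) :
    ∃ A : Subgroup S, A ≤ F ∧ (∀ a ∈ A, ∀ b ∈ A, a * b = b * a) ∧
      (∀ f ∈ F, ∀ a ∈ A, f * a * f⁻¹ ∈ A) ∧ (∀ i ∈ I, ∀ a ∈ A, i * a * i⁻¹ ∈ A) ∧
      ∀ x ∈ F, (∀ a ∈ A, x * a = a * x) → x ∈ A := by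
  classical
  obtain ⟨A, ⟨hAF, hAc, hAFi, hAIi⟩, hmax⟩ := Set.exists_max_image
    {X : Subgroup S | X ≤ F ∧ (∀ a ∈ X, ∀ b ∈ X, a * b = b * a) ∧
      (∀ f ∈ F, ∀ a ∈ X, f * a * f⁻¹ ∈ X) ∧ (∀ i ∈ I, ∀ a ∈ X, i * a * i⁻¹ ∈ X)}
    (fun X => Nat.card X) (Set.toFinite _)
    ⟨⊥, bot_le, by intro a ha b hb; rw [Subgroup.mem_bot.1 ha, Subgroup.mem_bot.1 hb],
      by intro f _ a ha; rw [Subgroup.mem_bot.1 ha]; simp,
      by intro f _ a ha; rw [Subgroup.mem_bot.1 ha]; simp⟩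
  refine ⟨A, hAF, hAc, hAFi, hAIi, ?_⟩
  by_contra hcon
  obtain ⟨x₀, hx₀F, hx₀c, hx₀A⟩ : ∃ x₀ ∈ F, (∀ a ∈ A, x₀ * a = a * x₀) ∧ x₀ ∉ A := by
    by_contra h
    apply hcon
    intro x hxF hxc
    by_contra hxA
    exact h ⟨x, hxF, hxc, hxA⟩
  obtain ⟨C, hC⟩ : ∃ C : Subgroup S, C = F ⊓ Subgroup.centralizer (A : Set S) := ⟨_, rfl⟩
  have hmemC : ∀ x, x ∈ C ↔ x ∈ F ∧ ∀ a ∈ A, x * a = a * x := by
    intro x
    rw [hC, Subgroup.mem_inf, Subgroup.mem_centralizer_iff]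
    constructor
    · rintro ⟨h1, h2⟩; exact ⟨h1, fun a ha => (h2 a ha).symm⟩
    · rintro ⟨h1, h2⟩; exact ⟨h1, fun a ha => (h2 a ha).symm⟩
  have hCF : C ≤ F := by rw [hC]; exact inf_le_left
  have hFnorm : ∀ f ∈ F, ∀ a ∈ A, f⁻¹ * a * f ∈ A := by
    intro f hf a ha
    have := hAFi f⁻¹ (F.inv_mem hf) a ha
    rwa [inv_inv] at this
  have hInorm : ∀ i ∈ I, ∀ a ∈ A, i⁻¹ * a * i ∈ A := by
    intro i hi a ha
    have := hAIi i⁻¹ (I.inv_mem hi) a ha
    rwa [inv_inv] at this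
  have hCinvF : ∀ f ∈ F, ∀ x ∈ C, f * x * f⁻¹ ∈ C := by
    intro f hf x hx
    rw [hmemC] at hx ⊢
    exact ⟨F.mul_mem (F.mul_mem hf hx.1) (F.inv_mem hf),
      ea_conj_centralizes A f x (hFnorm f hf) hx.2⟩
  have hCinvI : ∀ i ∈ I, ∀ x ∈ C, i * x * i⁻¹ ∈ C := by
    intro i hi x hx
    rw [hmemC] at hx ⊢
    exact ⟨hIF i hi x hx.1, ea_conj_centralizes A i x (hInorm i hi) hx.2⟩
  have hCA : ¬ C ≤ A := fun h => hx₀A (h ((hmemC x₀).2 ⟨hx₀F, hx₀c⟩))
  obtain ⟨x₁, hx₁C, hx₁A, hx₁⟩ := ea_nil_step F hFn A C hCF hCinvF hCA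
  -- the quotient
  have hFN : F ≤ Subgroup.normalizer (A : Set S) := by
    intro f hf
    rw [Subgroup.mem_normalizer_iff]
    intro a
    constructor
    · exact hAFi f hf a
    · intro h
      have := hFnorm f hf _ h
      simpa [mul_assoc] using this
  have hIN : I ≤ Subgroup.normalizer (A : Set S) := by
    intro i hi
    rw [Subgroup.mem_normalizer_iff]
    intro a
    constructor
    · exact hAIi i hi a
    · intro h
      have := hInorm i hi _ h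
      simpa [mul_assoc] using this
  obtain ⟨N, hN⟩ : ∃ N : Subgroup S, N = Subgroup.normalizer (A : Set S) := ⟨_, rfl⟩
  haveI hA'n : (A.subgroupOf N).Normal := by rw [hN]; exact Subgroup.normal_in_normalizer
  rw [← hN] at hFN hIN
  have hCN : C ≤ N := le_trans hCF hFN
  obtain ⟨π, hπ⟩ : ∃ π : ↥N →* ↥N ⧸ A.subgroupOf N, π = QuotientGroup.mk' (A.subgroupOf N) :=
    ⟨_, rfl⟩
  have hπ1 : ∀ y : ↥N, π y = 1 ↔ (y : S) ∈ A := by
    intro y
    rw [hπ, QuotientGroup.mk'_apply, QuotientGroup.eq_one_iff, Subgroup.mem_subgroupOf]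
  have hπeq : ∀ y z : ↥N, π y = π z ↔ (y : S)⁻¹ * z ∈ A := by
    intro y z
    rw [hπ, QuotientGroup.mk'_apply, QuotientGroup.mk'_apply, QuotientGroup.eq,
      Subgroup.mem_subgroupOf]
    simp
  obtain ⟨Fb, hFb⟩ : ∃ Fb : Subgroup (↥N ⧸ A.subgroupOf N), Fb = (F.subgroupOf N).map π :=
    ⟨_, rfl⟩
  obtain ⟨Cb, hCb⟩ : ∃ Cb : Subgroup (↥N ⧸ A.subgroupOf N), Cb = (C.subgroupOf N).map π :=
    ⟨_, rfl⟩
  have hFbmem : ∀ q, q ∈ Fb ↔ ∃ y : ↥N, (y : S) ∈ F ∧ π y = q := by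
    intro q; rw [hFb, Subgroup.mem_map]; simp [Subgroup.mem_subgroupOf]
  have hCbmem : ∀ q, q ∈ Cb ↔ ∃ y : ↥N, (y : S) ∈ C ∧ π y = q := by
    intro q; rw [hCb, Subgroup.mem_map]; simp [Subgroup.mem_subgroupOf]
  have hCbFb : Cb ≤ Fb := by
    intro q hq
    obtain ⟨y, hy, rfl⟩ := (hCbmem q).1 hq
    exact (hFbmem _).2 ⟨y, hCF hy, rfl⟩
  obtain ⟨M, hM⟩ : ∃ M : Subgroup (↥N ⧸ A.subgroupOf N),
      M = Cb ⊓ Subgroup.centralizer (Fb : Set (↥N ⧸ A.subgroupOf N)) := ⟨_, rfl⟩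
  have hMmem : ∀ q, q ∈ M ↔ q ∈ Cb ∧ ∀ r ∈ Fb, q * r = r * q := by
    intro q
    rw [hM, Subgroup.mem_inf, Subgroup.mem_centralizer_iff]
    constructor
    · rintro ⟨h1, h2⟩; exact ⟨h1, fun a ha => (h2 a ha).symm⟩
    · rintro ⟨h1, h2⟩; exact ⟨h1, fun a ha => (h2 a ha).symm⟩
  obtain ⟨T, hT⟩ : ∃ T : Set (↥N ⧸ A.subgroupOf N), T = π '' {y : ↥N | (y : S) ∈ I} := ⟨_, rfl⟩
  have hTmem : ∀ t, t ∈ T ↔ ∃ y : ↥N, (y : S) ∈ I ∧ π y = t := by
    intro t; rw [hT]; simp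
  have hMc : ∀ a ∈ M, ∀ b ∈ M, a * b = b * a := by
    intro a ha b hb
    exact (((hMmem b).1 hb).2 a (hCbFb ((hMmem a).1 ha).1)).symm
  have hTM : ∀ t ∈ T, ∀ m ∈ M, t * m * t⁻¹ ∈ M := by
    intro t ht m hm
    obtain ⟨y, hyI, rfl⟩ := (hTmem t).1 ht
    rw [hMmem] at hm ⊢
    constructor
    · obtain ⟨z, hzC, rfl⟩ := (hCbmem m).1 hm.1
      rw [← map_inv, ← map_mul, ← map_mul]
      exact (hCbmem _).2 ⟨y * z * y⁻¹, hCinvI _ hyI _ hzC, rfl⟩
    · apply ea_conj_centralizes Fb (π y) m _ hm.2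
      intro a ha
      obtain ⟨z, hzF, rfl⟩ := (hFbmem a).1 ha
      rw [← map_inv, ← map_mul, ← map_mul]
      refine (hFbmem _).2 ⟨y⁻¹ * z * y, ?_, rfl⟩
      have := hIF _ (I.inv_mem hyI) _ hzF
      simpa using this
  have hTc : ∀ s ∈ T, ∀ t ∈ T, s * t = t * s := by
    intro s hs t ht
    obtain ⟨y, hyI, rfl⟩ := (hTmem s).1 hs
    obtain ⟨z, hzI, rfl⟩ := (hTmem t).1 ht
    rw [← map_mul, ← map_mul]
    congr 1
    exact Subtype.ext (hIc _ hyI _ hzI)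
  have hT2 : ∀ t ∈ T, t * t = 1 := by
    intro t ht
    obtain ⟨y, hyI, rfl⟩ := (hTmem t).1 ht
    rw [← map_mul]
    have : y * y = 1 := Subtype.ext (hI2 _ hyI)
    rw [this, map_one]
  have hv₀M : π ⟨x₁, hCN hx₁C⟩ ∈ M := by
    rw [hMmem]
    refine ⟨(hCbmem _).2 ⟨⟨x₁, hCN hx₁C⟩, hx₁C, rfl⟩, ?_⟩
    intro r hr
    obtain ⟨z, hzF, rfl⟩ := (hFbmem r).1 hr
    rw [← map_mul, ← map_mul, hπeq]
    -- (x₁ z)⁻¹ (z x₁) ∈ A
    have h1 := hx₁ _ (F.inv_mem hzF)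
    have h2 : ((x₁ * (z : S)⁻¹ * x₁⁻¹ * (z : S)⁻¹⁻¹)⁻¹) ∈ A := A.inv_mem h1
    have hx₁c := ((hmemC x₁).1 hx₁C).2 _ h2
    have h3 : x₁⁻¹ * ((x₁ * (z : S)⁻¹ * x₁⁻¹ * (z : S)⁻¹⁻¹)⁻¹) * x₁ ∈ A := by
      rw [mul_assoc, ← hx₁c, ← mul_assoc, inv_mul_cancel, one_mul]
      exact h2
    have e : ((⟨x₁, hCN hx₁C⟩ * z : ↥N) : S)⁻¹ * ((z * ⟨x₁, hCN hx₁C⟩ : ↥N) : S)
        = (x₁⁻¹ * ((x₁ * (z : S)⁻¹ * x₁⁻¹ * (z : S)⁻¹⁻¹)⁻¹) * x₁)⁻¹ := by
      simp only [Subgroup.coe_mul]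
      group
    rw [e]; exact A.inv_mem h3
  have hv₀1 : π ⟨x₁, hCN hx₁C⟩ ≠ 1 := by
    intro h
    exact hx₁A ((hπ1 _).1 h)
  obtain ⟨v, hvM, hv1, hv⟩ := ea_eigen M hMc T hTM hTc hT2 (Set.toFinite T).toFinset
    (fun t ht => (Set.Finite.mem_toFinset _).1 ht) _ hv₀M hv₀1
  -- pull back
  obtain ⟨hvC, hvF⟩ := (hMmem v).1 hvM
  obtain ⟨⟨x, hxN⟩, hxC, rfl⟩ := (hCbmem v).1 hvC
  have hxC' : x ∈ C := hxC
  have hxA : x ∉ A := fun h => hv1 ((hπ1 _).2 h)
  obtain ⟨hxF, hxc⟩ := (hmemC x).1 hxC'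
  have hxf : ∀ f ∈ F, (x * f)⁻¹ * (f * x) ∈ A := by
    intro f hf
    have := hvF (π ⟨f, hFN hf⟩) ((hFbmem _).2 ⟨⟨f, hFN hf⟩, hf, rfl⟩)
    rw [← map_mul, ← map_mul, hπeq] at this
    exact this
  have hxi : ∀ i ∈ I, (i * x * i⁻¹)⁻¹ * x ∈ A ∨ (i * x * i⁻¹)⁻¹ * x⁻¹ ∈ A := by
    intro i hi
    have hti : π ⟨i, hIN hi⟩ ∈ T := (hTmem _).2 ⟨⟨i, hIN hi⟩, hi, rfl⟩
    rcases hv _ ((Set.Finite.mem_toFinset _).2 hti) with h | h
    · left
      rw [← map_inv, ← map_mul, ← map_mul, hπeq] at h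
      exact h
    · right
      rw [← map_inv, ← map_mul, ← map_mul, ← map_inv, hπeq] at h
      exact h
  -- the larger subgroup
  obtain ⟨D, hD⟩ : ∃ D : Subgroup S, D = Subgroup.closure ((A : Set S) ∪ {x}) := ⟨_, rfl⟩
  have hAD : A ≤ D := by
    rw [hD]; intro a ha; exact Subgroup.subset_closure (Or.inl ha)
  have hxD : x ∈ D := by
    rw [hD]; exact Subgroup.subset_closure (Or.inr rfl)
  have hDF : D ≤ F := by
    rw [hD, Subgroup.closure_le]
    rintro y (hy | hy)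
    · exact hAF hy
    · rw [Set.mem_singleton_iff.1 hy]; exact hxF
  have hDc : ∀ a ∈ D, ∀ b ∈ D, a * b = b * a := by
    have hk : ∀ u ∈ (A : Set S) ∪ {x}, ∀ w ∈ (A : Set S) ∪ {x}, u * w = w * u := by
      rintro u (hu | hu) w (hw | hw)
      · exact hAc u hu w hw
      · rw [Set.mem_singleton_iff.1 hw]; exact (hxc u hu).symm
      · rw [Set.mem_singleton_iff.1 hu]; exact hxc w hw
      · rw [Set.mem_singleton_iff.1 hu, Set.mem_singleton_iff.1 hw]
    have := Subgroup.isMulCommutative_closure hk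
    rw [← hD] at this
    exact isMulCommutative_iff_of_setLike.1 this
  have hDFi : ∀ f ∈ F, ∀ a ∈ D, f * a * f⁻¹ ∈ D := by
    intro f hf
    rw [hD]
    apply ea_conj_mem_closure
    rintro y (hy | hy)
    · exact Subgroup.subset_closure (Or.inl (hAFi f hf y hy))
    · rw [Set.mem_singleton_iff.1 hy, ← hD]
      have h1 := hxf _ (F.inv_mem hf)
      have e : f * x * f⁻¹ = x * ((x * f⁻¹)⁻¹ * (f⁻¹ * x))⁻¹ := by group
      rw [e]
      exact D.mul_mem hxD (D.inv_mem (hAD h1))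
  have hDIi : ∀ i ∈ I, ∀ a ∈ D, i * a * i⁻¹ ∈ D := by
    intro i hi
    rw [hD]
    apply ea_conj_mem_closure
    rintro y (hy | hy)
    · exact Subgroup.subset_closure (Or.inl (hAIi i hi y hy))
    · rw [Set.mem_singleton_iff.1 hy, ← hD]
      rcases hxi i hi with h | h
      · have e : i * x * i⁻¹ = x * ((i * x * i⁻¹)⁻¹ * x)⁻¹ := by group
        rw [e]
        exact D.mul_mem hxD (D.inv_mem (hAD h))
      · have e : i * x * i⁻¹ = x⁻¹ * ((i * x * i⁻¹)⁻¹ * x⁻¹)⁻¹ := by group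
        rw [e]
        exact D.mul_mem (D.inv_mem hxD) (D.inv_mem (hAD h))
  have hcard := hmax D ⟨hDF, hDc, hDFi, hDIi⟩
  have hEq : A = D := Subgroup.eq_of_le_of_card_ge hAD hcard
  exact hxA (hEq ▸ hxD)


/-- A group of involutions acting faithfully on an odd nilpotent `F` acts faithfully on a
self-centralizing normal subgroup `A` of `F`. -/
theorem ea_faithful (F I A : Subgroup S) (hodd : ∀ x ∈ F, x * x = 1 → x = 1)
    (hIF : ∀ i ∈ I, ∀ x ∈ F, i * x * i⁻¹ ∈ F) (hI2 : ∀ a ∈ I, a * a = 1)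
    (hfaith : ∀ i ∈ I, (∀ x ∈ F, i * x = x * i) → i = 1)
    (hAFi : ∀ f ∈ F, ∀ a ∈ A, f * a * f⁻¹ ∈ A)
    (hAsc : ∀ x ∈ F, (∀ a ∈ A, x * a = a * x) → x ∈ A) :
    ∀ i ∈ I, (∀ a ∈ A, i * a = a * i) → i = 1 := by
  intro i hi hia
  apply hfaith i hi
  intro g hg
  obtain ⟨u, hu⟩ : ∃ u, u = g⁻¹ * (i * g * i⁻¹) := ⟨_, rfl⟩
  have huF : u ∈ F := by rw [hu]; exact F.mul_mem (F.inv_mem hg) (hIF i hi g hg)
  have huA : u ∈ A := by
    apply hAsc u huF
    intro a ha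
    have e1 : i⁻¹ * a * i = a := by
      rw [mul_assoc, ← hia a ha, ← mul_assoc, inv_mul_cancel, one_mul]
    have ha' : g * a * g⁻¹ ∈ A := hAFi g hg a ha
    have e2 : i * (g * a * g⁻¹) * i⁻¹ = g * a * g⁻¹ := by
      rw [hia _ ha', mul_assoc, mul_inv_cancel, mul_one]
    have e3 : u * a * u⁻¹ = g⁻¹ * (i * (g * (i⁻¹ * a * i) * g⁻¹) * i⁻¹) * g := by
      rw [hu]; group
    rw [e1, e2] at e3
    have e4 : u * a * u⁻¹ = a := by rw [e3]; group
    calc u * a = (u * a * u⁻¹) * u := by group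
      _ = a * u := by rw [e4]
  have hiu : i * u = u * i := hia u huA
  have h1 : i * g * i⁻¹ = g * u := by rw [hu]; group
  have h2 : i * i * g * (i * i)⁻¹ = g * u * u := by
    calc i * i * g * (i * i)⁻¹ = i * (i * g * i⁻¹) * i⁻¹ := by group
      _ = i * (g * u) * i⁻¹ := by rw [h1]
      _ = (i * g * i⁻¹) * ((i * u) * i⁻¹) := by group
      _ = g * u * u := by rw [h1, hiu]; group
  rw [hI2 i hi] at h2
  have h3 : u * u = 1 := by
    have h2' : g * (u * u) = g * 1 := by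
      rw [mul_one, ← mul_assoc, ← h2]; simp
    exact mul_left_cancel h2'
  have h4 : u = 1 := hodd u huF h3
  rw [h4, mul_one] at h1
  calc i * g = (i * g * i⁻¹) * i := by group
    _ = g * i := by rw [h1]

/-- The invariant carried along the greedy construction. -/
def EAGood (A I : Subgroup S) (n k : ℕ) (f : Fin k → Subgroup S) : Prop :=
  (∀ j, (Nat.card (f j)).Prime) ∧ (∀ j, f j ≤ A) ∧
  (∀ j, ∀ i ∈ I, (∀ x ∈ f j, i * x * i⁻¹ = x) ∨ (∀ x ∈ f j, i * x * i⁻¹ = x⁻¹)) ∧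
  Nat.card ↥(⨆ j, f j) = ∏ j, Nat.card (f j) ∧
  Nat.card ↥(I ⊓ Subgroup.centralizer ((⨆ j, f j : Subgroup S) : Set S)) * 2 ^ k = 2 ^ n

theorem ea_iSup_cons {k : ℕ} (P : Subgroup S) (f : Fin k → Subgroup S) :
    (⨆ j, (Fin.cons P f : Fin (k + 1) → Subgroup S) j) = P ⊔ ⨆ j, f j := by
  apply le_antisymm
  · apply iSup_le
    intro j
    refine Fin.cases ?_ (fun j' => ?_) j
    · rw [Fin.cons_zero]; exact le_sup_left
    · rw [Fin.cons_succ]; exact le_trans (le_iSup f j') le_sup_right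
  · apply sup_le
    · refine le_iSup_of_le 0 ?_
      rw [Fin.cons_zero]
    · apply iSup_le
      intro j
      refine le_iSup_of_le j.succ ?_
      rw [Fin.cons_succ]

theorem ea_mem_centralizer_sup (P B : Subgroup S) (g : S) :
    g ∈ Subgroup.centralizer ((P ⊔ B : Subgroup S) : Set S) ↔
      (∀ x ∈ P, g * x = x * g) ∧ (∀ x ∈ B, g * x = x * g) := by
  rw [Subgroup.mem_centralizer_iff]
  constructor
  · intro h
    exact ⟨fun x hx => (h x ((le_sup_left : P ≤ P ⊔ B) hx)).symm,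
      fun x hx => (h x ((le_sup_right : B ≤ P ⊔ B) hx)).symm⟩
  · rintro ⟨h1, h2⟩ x hx
    have hle : P ⊔ B ≤ Subgroup.centralizer ({g} : Set S) := by
      apply sup_le
      · intro y hy
        rw [Subgroup.mem_centralizer_iff]
        intro z hz
        rw [Set.mem_singleton_iff.1 hz]; exact h1 y hy
      · intro y hy
        rw [Subgroup.mem_centralizer_iff]
        intro z hz
        rw [Set.mem_singleton_iff.1 hz]; exact h2 y hy
    have := Subgroup.mem_centralizer_iff.1 (hle hx) g rfl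
    exact this.symm

theorem ea_greedy_step [Finite S] (A I : Subgroup S) (n k : ℕ) (hk : k < n)
    (hAc : ∀ a ∈ A, ∀ b ∈ A, a * b = b * a) (hodd : ∀ x ∈ A, x * x = 1 → x = 1)
    (hIc : ∀ a ∈ I, ∀ b ∈ I, a * b = b * a) (hI2 : ∀ a ∈ I, a * a = 1)
    (hIA : ∀ i ∈ I, ∀ a ∈ A, i * a * i⁻¹ ∈ A)
    (hfaith : ∀ i ∈ I, (∀ a ∈ A, i * a = a * i) → i = 1)
    (f : Fin k → Subgroup S) (hf : EAGood A I n k f) :
    ∃ g : Fin (k + 1) → Subgroup S, EAGood A I n (k + 1) g := by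
  classical
  obtain ⟨hfp, hfA, hfpm, hfcard, hfD⟩ := hf
  obtain ⟨B, hB⟩ : ∃ B : Subgroup S, B = ⨆ j, f j := ⟨_, rfl⟩
  rw [← hB] at hfcard hfD
  have hBA : B ≤ A := by rw [hB]; exact iSup_le hfA
  obtain ⟨i, hiD, hi1⟩ : ∃ i ∈ I ⊓ Subgroup.centralizer (B : Set S), i ≠ 1 := by
    by_contra hcon
    have hbot : I ⊓ Subgroup.centralizer (B : Set S) = ⊥ := by
      rw [Subgroup.eq_bot_iff_forall]
      intro x hx
      by_contra hx1
      exact hcon ⟨x, hx, hx1⟩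
    rw [hbot, Subgroup.card_bot, one_mul] at hfD
    have := Nat.pow_right_injective (le_refl 2) hfD
    omega
  have hiI : i ∈ I := (Subgroup.mem_inf.1 hiD).1
  have hiBc : ∀ b ∈ B, b * i = i * b :=
    Subgroup.mem_centralizer_iff.1 (Subgroup.mem_inf.1 hiD).2
  have hiB : ∀ b ∈ B, i * b * i⁻¹ = b := by
    intro b hb
    rw [← hiBc b hb, mul_inv_cancel_right]
  obtain ⟨a, haA, hia⟩ : ∃ a ∈ A, i * a ≠ a * i := by
    by_contra hcon
    apply hi1
    apply hfaith i hiI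
    intro a ha
    by_contra h
    exact hcon ⟨a, ha, h⟩
  let W : Subgroup S :=
    { carrier := {w | w ∈ A ∧ i * w * i⁻¹ = w⁻¹}
      mul_mem' := by
        rintro x y ⟨hx, hx'⟩ ⟨hy, hy'⟩
        refine ⟨A.mul_mem hx hy, ?_⟩
        have : i * (x * y) * i⁻¹ = (i * x * i⁻¹) * (i * y * i⁻¹) := by group
        rw [this, hx', hy', mul_inv_rev]
        exact hAc _ (A.inv_mem hx) _ (A.inv_mem hy)
      one_mem' := ⟨A.one_mem, by simp⟩
      inv_mem' := by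
        rintro x ⟨hx, hx'⟩
        refine ⟨A.inv_mem hx, ?_⟩
        have : i * x⁻¹ * i⁻¹ = (i * x * i⁻¹)⁻¹ := by group
        rw [this, hx'] }
  have hWmem : ∀ w, w ∈ W ↔ w ∈ A ∧ i * w * i⁻¹ = w⁻¹ := fun w => Iff.rfl
  have hWA : W ≤ A := fun w hw => ((hWmem w).1 hw).1
  have hWc : ∀ a ∈ W, ∀ b ∈ W, a * b = b * a := fun a ha b hb => hAc a (hWA ha) b (hWA hb)
  have hIW : ∀ j ∈ I, ∀ w ∈ W, j * w * j⁻¹ ∈ W := by
    intro j hj w hw
    rw [hWmem] at hw ⊢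
    refine ⟨hIA j hj w hw.1, ?_⟩
    have hij : i * j = j * i := hIc i hiI j hj
    calc i * (j * w * j⁻¹) * i⁻¹ = (i * j) * w * (i * j)⁻¹ := by group
      _ = (j * i) * w * (j * i)⁻¹ := by rw [hij]
      _ = j * (i * w * i⁻¹) * j⁻¹ := by group
      _ = j * w⁻¹ * j⁻¹ := by rw [hw.2]
      _ = (j * w * j⁻¹)⁻¹ := by group
  have hW1 : W ≠ ⊥ := by
    intro hbot
    have hw₀ : a⁻¹ * (i * a * i⁻¹) ∈ W := by
      rw [hWmem]
      refine ⟨A.mul_mem (A.inv_mem haA) (hIA i hiI a haA), ?_⟩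
      have : i * (a⁻¹ * (i * a * i⁻¹)) * i⁻¹
          = (i * a * i⁻¹)⁻¹ * ((i * i) * a * (i * i)⁻¹) := by group
      rw [this, hI2 i hiI]; group
    rw [hbot, Subgroup.mem_bot] at hw₀
    apply hia
    have : i * a * i⁻¹ = a := by
      have := congrArg (fun z => a * z) hw₀
      simpa using this
    calc i * a = (i * a * i⁻¹) * i := by group
      _ = a * i := by rw [this]
  obtain ⟨P, hPW, hPprime, hPpm⟩ := ea_eigen_prime I W hIc hI2 hWc hIW hW1
  have hPA : P ≤ A := le_trans hPW hWA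
  have hPinv : ∀ x ∈ P, i * x * i⁻¹ = x⁻¹ := fun x hx => ((hWmem x).1 (hPW hx)).2
  have hPne : ∃ x ∈ P, x ≠ x⁻¹ := by
    have hPbot : P ≠ ⊥ := by
      intro h
      rw [h, Subgroup.card_bot] at hPprime
      exact Nat.not_prime_one hPprime
    obtain ⟨⟨x, hx⟩, hne⟩ := Subgroup.ne_bot_iff_exists_ne_one.1 hPbot
    refine ⟨x, hx, ?_⟩
    intro h
    apply hne
    apply Subtype.ext
    apply hodd x (hPA hx)
    calc x * x = x * x⁻¹ := by rw [← h]
      _ = 1 := mul_inv_cancel x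
  have hsup : (⨆ j, (Fin.cons P f : Fin (k + 1) → Subgroup S) j) = P ⊔ B := by
    rw [ea_iSup_cons, hB]
  have hPB : P ⊓ B = ⊥ := by
    rw [Subgroup.eq_bot_iff_forall]
    intro x hx
    obtain ⟨hxP, hxB⟩ := Subgroup.mem_inf.1 hx
    have h1 := hPinv x hxP
    rw [hiB x hxB] at h1
    apply hodd x (hPA hxP)
    calc x * x = x * x⁻¹ := by rw [← h1]
      _ = 1 := mul_inv_cancel x
  have hnorm : P ≤ Subgroup.normalizer (B : Set S) := by
    refine le_trans ?_ (Subgroup.centralizer_le_normalizer (B : Set S))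
    intro p hp
    rw [Subgroup.mem_centralizer_iff]
    intro b hb
    exact hAc b (hBA hb) p (hPA hp)
  refine ⟨Fin.cons P f, ?_, ?_, ?_, ?_, ?_⟩
  · intro j
    refine Fin.cases ?_ (fun j' => ?_) j
    · rw [Fin.cons_zero]; exact hPprime
    · rw [Fin.cons_succ]; exact hfp j'
  · intro j
    refine Fin.cases ?_ (fun j' => ?_) j
    · rw [Fin.cons_zero]; exact hPA
    · rw [Fin.cons_succ]; exact hfA j'
  · intro j
    refine Fin.cases ?_ (fun j' => ?_) j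
    · rw [Fin.cons_zero]; exact hPpm
    · rw [Fin.cons_succ]; exact hfpm j'
  · rw [hsup, Fin.prod_univ_succ]
    simp only [Fin.cons_zero, Fin.cons_succ]
    rw [← hfcard]
    have := Cfsg.Agent.Lib.Helper2.card_sup_mul_card_inf P B hnorm
    rw [hPB, Subgroup.card_bot, mul_one] at this
    exact this
  · rw [hsup]
    obtain ⟨D, hD⟩ : ∃ D : Subgroup S, D = I ⊓ Subgroup.centralizer (B : Set S) := ⟨_, rfl⟩
    obtain ⟨D', hD'⟩ : ∃ D' : Subgroup S,
        D' = I ⊓ Subgroup.centralizer ((P ⊔ B : Subgroup S) : Set S) := ⟨_, rfl⟩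
    rw [← hD] at hfD hiD
    rw [← hD']
    have hD'D : D' ≤ D := by
      rw [hD, hD']
      exact inf_le_inf_left _ (Subgroup.centralizer_le (by
        intro x hx; exact (le_sup_right : B ≤ P ⊔ B) hx))
    have hmemD' : ∀ b ∈ D, b ∈ D' ↔ ∀ x ∈ P, b * x * b⁻¹ = x := by
      intro b hb
      rw [hD] at hb
      obtain ⟨hbI, hbB⟩ := Subgroup.mem_inf.1 hb
      rw [hD', Subgroup.mem_inf, ea_mem_centralizer_sup]
      constructor
      · rintro ⟨_, h1, _⟩ x hx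
        rw [h1 x hx, mul_inv_cancel_right]
      · intro h
        refine ⟨hbI, ?_, ?_⟩
        · intro x hx
          calc b * x = (b * x * b⁻¹) * b := by group
            _ = x * b := by rw [h x hx]
        · intro x hx
          exact ((Subgroup.mem_centralizer_iff.1 hbB) x hx).symm
    have hidx : (D'.subgroupOf D).index = 2 := by
      rw [Subgroup.index_eq_two_iff]
      refine ⟨⟨i, hiD⟩, ?_⟩
      rintro ⟨b, hb⟩
      have hbI : b ∈ I := by rw [hD] at hb; exact (Subgroup.mem_inf.1 hb).1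
      have hbiD : b * i ∈ D := D.mul_mem hb hiD
      have e : ∀ x, (b * i) * x * (b * i)⁻¹ = b * (i * x * i⁻¹) * b⁻¹ := by intro x; group
      rcases hPpm b hbI with h | h
      · -- b centralizes P
        right
        refine ⟨?_, ?_⟩
        · rw [Subgroup.mem_subgroupOf]
          exact (hmemD' b hb).2 h
        · rw [Subgroup.mem_subgroupOf]
          intro hcon
          have h2 := (hmemD' (b * i) hbiD).1 hcon
          obtain ⟨x, hx, hne⟩ := hPne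
          apply hne
          have h3 := h2 x hx
          rw [e, hPinv x hx, h _ (P.inv_mem hx)] at h3
          exact h3.symm
      · left
        refine ⟨?_, ?_⟩
        · rw [Subgroup.mem_subgroupOf]
          apply (hmemD' (b * i) hbiD).2
          intro x hx
          rw [e, hPinv x hx, h _ (P.inv_mem hx), inv_inv]
        · rw [Subgroup.mem_subgroupOf]
          intro hcon
          have h2 := (hmemD' b hb).1 hcon
          obtain ⟨x, hx, hne⟩ := hPne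
          apply hne
          rw [← h2 x hx]
          exact (h2 x hx).symm ▸ (h x hx)
    have hcard1 : Nat.card (D'.subgroupOf D) * (D'.subgroupOf D).index = Nat.card D :=
      Subgroup.card_mul_index _
    have hcard2 : Nat.card (D'.subgroupOf D) = Nat.card D' :=
      Nat.card_congr (Subgroup.subgroupOfEquivOfLe hD'D).toEquiv
    rw [hidx, hcard2] at hcard1
    rw [← hcard1] at hfD
    rw [← hfD, pow_succ]
    ring

theorem ea_greedy [Finite S] (A I : Subgroup S) (n : ℕ)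
    (hAc : ∀ a ∈ A, ∀ b ∈ A, a * b = b * a) (hodd : ∀ x ∈ A, x * x = 1 → x = 1)
    (hIc : ∀ a ∈ I, ∀ b ∈ I, a * b = b * a) (hI2 : ∀ a ∈ I, a * a = 1)
    (hIA : ∀ i ∈ I, ∀ a ∈ A, i * a * i⁻¹ ∈ A)
    (hfaith : ∀ i ∈ I, (∀ a ∈ A, i * a = a * i) → i = 1)
    (hIn : Nat.card I = 2 ^ n) :
    ∀ k, k ≤ n → ∃ f : Fin k → Subgroup S, EAGood A I n k f := by
  intro k
  induction k with
  | zero =>
    intro _
    refine ⟨fun j => j.elim0, fun j => j.elim0, fun j => j.elim0, fun j => j.elim0, ?_, ?_⟩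
    · rw [iSup_of_empty, Subgroup.card_bot]; simp
    · rw [iSup_of_empty]
      have : Subgroup.centralizer (((⊥ : Subgroup S) : Subgroup S) : Set S) = ⊤ := by
        rw [eq_top_iff]
        intro x _
        rw [Subgroup.mem_centralizer_iff]
        intro h hh
        rw [Subgroup.mem_bot.1 hh]; simp
      rw [this, inf_top_eq, hIn, pow_zero, mul_one]
  | succ k ih =>
    intro hk
    obtain ⟨f, hf⟩ := ih (by omega)
    exact ea_greedy_step A I n k (by omega) hAc hodd hIc hI2 hIA hfaith f hf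


/-- Main theorem: an elementary abelian 2-group of order `2 ^ n` acting faithfully on a
nilpotent group `F` without involutions has `n` independent invariant prime-order subgroups
of `F`, pairwise commuting, with trivial joint centralizer in `I`. -/
theorem ea_main [Finite S] (F I : Subgroup S) (n : ℕ) (hFn : Group.IsNilpotent ↥F)
    (hodd : ∀ x ∈ F, x * x = 1 → x = 1)
    (hIF : ∀ i ∈ I, ∀ x ∈ F, i * x * i⁻¹ ∈ F)
    (hIc : ∀ a ∈ I, ∀ b ∈ I, a * b = b * a) (hI2 : ∀ a ∈ I, a * a = 1)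
    (hfaith : ∀ i ∈ I, (∀ x ∈ F, i * x = x * i) → i = 1)
    (hIn : Nat.card I = 2 ^ n) :
    ∃ f : Fin n → Subgroup S, (∀ i, (Nat.card ↥(f i)).Prime) ∧ (∀ i, f i ≤ F) ∧
      (∀ i, I ≤ Subgroup.normalizer ((f i) : Set S)) ∧
      (∀ i j, i ≠ j → ∀ a ∈ f i, ∀ b ∈ f j, a * b = b * a) ∧
      Nat.card ↥(⨆ i, f i) = ∏ i, Nat.card ↥(f i) ∧
      I ⊓ Subgroup.centralizer ((⨆ i, f i : Subgroup S) : Set S) = ⊥ := by
  obtain ⟨A, hAF, hAc, hAFi, hAIi, hAsc⟩ := ea_self_centralizing F I hFn hIF hIc hI2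
  have hfA := ea_faithful F I A hodd hIF hI2 hfaith hAFi hAsc
  obtain ⟨f, hfp, hfA', hfpm, hfcard, hfD⟩ := ea_greedy A I n hAc
    (fun x hx => hodd x (hAF hx)) hIc hI2 hAIi hfA hIn n le_rfl
  refine ⟨f, hfp, fun j => le_trans (hfA' j) hAF, ?_, ?_, hfcard, ?_⟩
  · intro j i hi
    have key : ∀ i ∈ I, ∀ x ∈ f j, i * x * i⁻¹ ∈ f j := by
      intro i hi x hx
      rcases hfpm j i hi with h | h
      · rw [h x hx]; exact hx
      · rw [h x hx]; exact (f j).inv_mem hx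
    rw [Subgroup.mem_normalizer_iff]
    intro x
    constructor
    · exact key i hi x
    · intro hx
      have := key i⁻¹ (I.inv_mem hi) _ hx
      simpa [mul_assoc] using this
  · intro i j _ a ha b hb
    exact hAc a (hfA' i ha) b (hfA' j hb)
  · have h1 : Nat.card ↥(I ⊓ Subgroup.centralizer ((⨆ j, f j : Subgroup S) : Set S)) = 1 := by
      have h2 : 0 < 2 ^ n := Nat.pos_of_ne_zero (by positivity)
      exact Nat.eq_of_mul_eq_mul_right h2 (by rw [hfD, one_mul])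
    exact Subgroup.card_eq_one.1 h1

end Cfsg.Agent.Lib.Helper4
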