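import Mathlib
import Cfsg.Agent.Lib.Helper4.ElemAbTwo
import Cfsg.Agent.Lib.Helper1.Dih2

set_option autoImplicit false

namespace Cfsg.Agent.Lib.Helper4

variable {S : Type*} [Group S]

/-- Variant of `ea_main` keeping the abelian subgroup and the `±1` action. -/
theorem ea_main' [Finite S] (F I : Subgroup S) (n : ℕ) (hFn : Group.IsNilpotent ↥F)
    (hodd : ∀ x ∈ F, x * x = 1 → x = 1)
    (hIF : ∀ i ∈ I, ∀ x ∈ F, i * x * i⁻¹ ∈ F)
    (hIc : ∀ a ∈ I, ∀ b ∈ I, a * b = b * a) (hI2 : ∀ a ∈ I, a * a = 1)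
    (hfaith : ∀ i ∈ I, (∀ x ∈ F, i * x = x * i) → i = 1)
    (hIn : Nat.card I = 2 ^ n) :
    ∃ (A : Subgroup S) (f : Fin n → Subgroup S), A ≤ F ∧ (∀ a ∈ A, ∀ b ∈ A, a * b = b * a) ∧
      EAGood A I n n f := by
  obtain ⟨A, hAF, hAc, hAFi, hAIi, hAsc⟩ := ea_self_centralizing F I hFn hIF hIc hI2
  have hfA := ea_faithful F I A hodd hIF hI2 hfaith hAFi hAsc
  obtain ⟨f, hf⟩ := ea_greedy A I n hAc
    (fun x hx => hodd x (hAF hx)) hIc hI2 hAIi hfA hIn n le_rfl
  exact ⟨A, f, hAF, hAc, hf⟩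

/-- Dual basis: elements of `I` inverting exactly one of the subgroups `f j`. -/
theorem ea_dual_basis [Finite S] (I : Subgroup S) (n : ℕ) (f : Fin n → Subgroup S)
    (hI2 : ∀ a ∈ I, a * a = 1) (hIn : Nat.card I = 2 ^ n)
    (hne : ∀ j, ∃ x ∈ f j, x ≠ x⁻¹)
    (hpm : ∀ j, ∀ i ∈ I, (∀ x ∈ f j, i * x * i⁻¹ = x) ∨ (∀ x ∈ f j, i * x * i⁻¹ = x⁻¹))
    (hfaith : ∀ i ∈ I, (∀ j, ∀ x ∈ f j, i * x * i⁻¹ = x) → i = 1) :
    ∃ a : Fin n → S, (∀ j, a j ∈ I) ∧ (∀ j, ∀ x ∈ f j, a j * x * (a j)⁻¹ = x⁻¹) ∧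
      (∀ j k, j ≠ k → ∀ x ∈ f k, a j * x * (a j)⁻¹ = x) ∧
      (⨆ j, Subgroup.zpowers (a j)) = I := by
  classical
  -- exclusivity
  have hexcl : ∀ j i, (∀ x ∈ f j, i * x * i⁻¹ = x) → (∀ x ∈ f j, i * x * i⁻¹ = x⁻¹) → False := by
    intro j i h1 h2
    obtain ⟨x, hx, hxne⟩ := hne j
    exact hxne ((h1 x hx).symm.trans (h2 x hx))
  have hmulconj : ∀ u w x : S, (u * w) * x * (u * w)⁻¹ = u * (w * x * w⁻¹) * u⁻¹ := by
    intro u w x; group
  have hcc : ∀ j u w, (∀ x ∈ f j, u * x * u⁻¹ = x) → (∀ x ∈ f j, w * x * w⁻¹ = x) →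
      ∀ x ∈ f j, (u * w) * x * (u * w)⁻¹ = x := by
    intro j u w hu hw x hx
    rw [hmulconj, hw x hx, hu x hx]
  have hii : ∀ j u w, (∀ x ∈ f j, u * x * u⁻¹ = x⁻¹) → (∀ x ∈ f j, w * x * w⁻¹ = x⁻¹) →
      ∀ x ∈ f j, (u * w) * x * (u * w)⁻¹ = x := by
    intro j u w hu hw x hx
    rw [hmulconj, hw x hx, hu _ ((f j).inv_mem hx), inv_inv]
  have hic : ∀ j u w, (∀ x ∈ f j, u * x * u⁻¹ = x⁻¹) → (∀ x ∈ f j, w * x * w⁻¹ = x) →
      ∀ x ∈ f j, (u * w) * x * (u * w)⁻¹ = x⁻¹ := by
    intro j u w hu hw x hx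
    rw [hmulconj, hw x hx, hu x hx]
  -- the character map
  obtain ⟨χ, hχ⟩ : ∃ χ : ↥I → (Fin n → Bool),
      χ = fun (i : ↥I) j => decide (∀ x ∈ f j, (i : S) * x * (i : S)⁻¹ = x) := ⟨_, rfl⟩
  have hχt : ∀ (i : ↥I) j, χ i j = true ↔ ∀ x ∈ f j, (i : S) * x * (i : S)⁻¹ = x := by
    intro i j; rw [hχ]; simp
  have hχinj : Function.Injective χ := by
    intro i i' h
    have ht : (i : S) * (i' : S) = 1 := by
      apply hfaith _ (I.mul_mem i.2 i'.2)
      intro j
      rcases hpm j i i.2 with h1 | h1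
      · have h2 : ∀ x ∈ f j, (i' : S) * x * (i' : S)⁻¹ = x := by
          rw [← hχt, ← h, hχt]; exact h1
        exact hcc j _ _ h1 h2
      · have h2 : ∀ x ∈ f j, (i' : S) * x * (i' : S)⁻¹ = x⁻¹ := by
          rcases hpm j i' i'.2 with h3 | h3
          · exfalso
            have : ∀ x ∈ f j, (i : S) * x * (i : S)⁻¹ = x := by
              rw [← hχt, h, hχt]; exact h3
            exact hexcl j _ this h1
          · exact h3
        exact hii j _ _ h1 h2
    apply Subtype.ext
    have h1 : (i : S) = (i' : S)⁻¹ := eq_inv_of_mul_eq_one_left ht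
    have h2 : (i' : S)⁻¹ = i' := inv_eq_of_mul_eq_one_left (hI2 _ i'.2)
    rw [h1, h2]
  have hχbij : Function.Bijective χ := by
    apply hχinj.bijective_of_nat_card_le
    rw [hIn, Nat.card_fun]
    simp
  -- the dual basis
  have hex : ∀ j : Fin n, ∃ a : ↥I, χ a = fun k => decide (k ≠ j) := fun j => hχbij.2 _
  choose a ha using hex
  have hacent : ∀ j k, j ≠ k → ∀ x ∈ f k, (a j : S) * x * (a j : S)⁻¹ = x := by
    intro j k hjk
    rw [← hχt, ha j]
    simp [hjk.symm]
  have hainv : ∀ j, ∀ x ∈ f j, (a j : S) * x * (a j : S)⁻¹ = x⁻¹ := by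
    intro j
    rcases hpm j (a j) (a j).2 with h | h
    · exfalso
      have := (hχt (a j) j).2 h
      rw [ha j] at this
      simp at this
    · exact h
  obtain ⟨H, hH⟩ : ∃ H : Subgroup S, H = ⨆ j, Subgroup.zpowers (a j : S) := ⟨_, rfl⟩
  have haH : ∀ j, (a j : S) ∈ H := by
    intro j; rw [hH]
    exact Subgroup.mem_iSup_of_mem j (Subgroup.mem_zpowers _)
  have hgen : ∀ m : ℕ, ∀ i ∈ I,
      (Finset.univ.filter (fun j => ¬ ∀ x ∈ f j, i * x * i⁻¹ = x)).card = m → i ∈ H := by
    intro m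
    induction m with
    | zero =>
      intro i hi hcard
      have : i = 1 := by
        apply hfaith i hi
        intro j
        by_contra hj
        have : j ∈ Finset.univ.filter (fun j => ¬ ∀ x ∈ f j, i * x * i⁻¹ = x) := by
          simp only [Finset.mem_filter, Finset.mem_univ, true_and]; exact hj
        rw [Finset.card_eq_zero.1 hcard] at this
        simp at this
      rw [this]; exact H.one_mem
    | succ m ih =>
      intro i hi hcard
      have hne' : (Finset.univ.filter (fun j => ¬ ∀ x ∈ f j, i * x * i⁻¹ = x)).Nonempty := by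
        rw [← Finset.card_pos, hcard]; omega
      obtain ⟨j, hj⟩ := hne'
      have hj' : ¬ ∀ x ∈ f j, i * x * i⁻¹ = x := by
        simpa only [Finset.mem_filter, Finset.mem_univ, true_and] using hj
      have hij : ∀ x ∈ f j, i * x * i⁻¹ = x⁻¹ := by
        rcases hpm j i hi with h | h
        · exact absurd h hj'
        · exact h
      have hi'I : i * (a j : S) ∈ I := I.mul_mem hi (a j).2
      have hfilter : Finset.univ.filter
          (fun k => ¬ ∀ x ∈ f k, (i * (a j : S)) * x * (i * (a j : S))⁻¹ = x)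
          = (Finset.univ.filter (fun k => ¬ ∀ x ∈ f k, i * x * i⁻¹ = x)).erase j := by
        ext k
        simp only [Finset.mem_filter, Finset.mem_univ, true_and, Finset.mem_erase]
        constructor
        · intro hk
          have hkj : k ≠ j := by
            intro h
            apply hk
            rw [h]
            exact hii j _ _ hij (hainv j)
          refine ⟨hkj, ?_⟩
          intro hik
          exact hk (hcc k _ _ hik (hacent j k hkj.symm))
        · rintro ⟨hkj, hik⟩ hcon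
          have hik' : ∀ x ∈ f k, i * x * i⁻¹ = x⁻¹ := by
            rcases hpm k i hi with h | h
            · exact absurd h hik
            · exact h
          exact hexcl k _ hcon (hic k _ _ hik' (hacent j k hkj.symm))
      have hcard' : (Finset.univ.filter
          (fun k => ¬ ∀ x ∈ f k, (i * (a j : S)) * x * (i * (a j : S))⁻¹ = x)).card = m := by
        rw [hfilter, Finset.card_erase_of_mem hj, hcard]; rfl
      have := ih _ hi'I hcard'
      have h2 : i = (i * (a j : S)) * (a j : S)⁻¹ := by group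
      rw [h2]
      exact H.mul_mem this (H.inv_mem (haH j))
  refine ⟨fun j => (a j : S), fun j => (a j).2, hainv, hacent, ?_⟩
  rw [← hH]
  apply le_antisymm
  · rw [hH]
    apply iSup_le
    intro j
    rw [Subgroup.zpowers_le]
    exact (a j).2
  · intro i hi
    exact hgen _ i hi rfl

/-- An involution inverting an element of odd order `≥ 3` generates with it a dihedral group. -/
theorem ea_dihedral (t l : S) (ht : t * t = 1) (htl : t * l * t⁻¹ = l⁻¹)
    (hl : l * l ≠ 1) :
    Nonempty (↥(Subgroup.zpowers t ⊔ Subgroup.zpowers l) ≃* DihedralGroup (orderOf l)) := by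
  have hl1 : l ≠ 1 := by
    intro h; apply hl; rw [h, mul_one]
  have htinv : t⁻¹ = t := inv_eq_of_mul_eq_one_left ht
  have ht1 : t ≠ 1 := by
    intro h
    rw [h] at htl
    apply hl
    have : l = l⁻¹ := by simpa using htl
    calc l * l = l * l⁻¹ := by rw [← this]
      _ = 1 := mul_inv_cancel l
  haveI : Fact (Nat.Prime 2) := ⟨Nat.prime_two⟩
  have hx : orderOf t = 2 := orderOf_eq_prime (by rw [pow_two]; exact ht) ht1
  have hy2 : (t * l) * (t * l) = 1 := by
    have : (t * l) * (t * l) = (t * l * t⁻¹) * (t * t) * l := by group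
    rw [this, htl, ht, mul_one, inv_mul_cancel]
  have hy1 : t * l ≠ 1 := by
    intro h
    have h1 : l = t⁻¹ := eq_inv_of_mul_eq_one_right h
    apply hl
    rw [h1, htinv]; exact ht
  have hy : orderOf (t * l) = 2 := orderOf_eq_prime (by rw [pow_two]; exact hy2) hy1
  have hxy : t ≠ t * l := by
    intro h
    apply hl1
    have := mul_left_cancel (a := t) (b := 1) (c := l) (by rw [mul_one]; exact h)
    exact this.symm
  have h1 := Cfsg.Agent.Lib.Helper1.nonempty_mulEquiv_dihedral hx hy hxy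
  have h2 : t * (t * l) = l := by rw [← mul_assoc, ht, one_mul]
  rw [h2] at h1
  have h3 : Subgroup.closure ({t, t * l} : Set S) = Subgroup.zpowers t ⊔ Subgroup.zpowers l := by
    apply le_antisymm
    · rw [Subgroup.closure_le]
      intro z hz
      rcases hz with hz | hz
      · rw [hz]
        exact (le_sup_left : Subgroup.zpowers t ≤ _) (Subgroup.mem_zpowers t)
      · rw [Set.mem_singleton_iff.1 hz]
        exact Subgroup.mul_mem _
          ((le_sup_left : Subgroup.zpowers t ≤ _) (Subgroup.mem_zpowers t))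
          ((le_sup_right : Subgroup.zpowers l ≤ Subgroup.zpowers t ⊔ Subgroup.zpowers l)
            (Subgroup.mem_zpowers l))
    · apply sup_le
      · rw [Subgroup.zpowers_le]
        exact Subgroup.subset_closure (Or.inl rfl)
      · rw [Subgroup.zpowers_le]
        have hmem : t⁻¹ * (t * l) ∈ Subgroup.closure ({t, t * l} : Set S) :=
          Subgroup.mul_mem _ (Subgroup.inv_mem _ (Subgroup.subset_closure (Or.inl rfl)))
            (Subgroup.subset_closure (Or.inr rfl))
        have e : t⁻¹ * (t * l) = l := by group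
        rw [e] at hmem
        exact hmem
  obtain ⟨e⟩ := h1
  exact ⟨(MulEquiv.subgroupCongr h3.symm).trans e⟩

end Cfsg.Agent.Lib.Helper4
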