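import Mathlib
import Cfsg.Agent.Lib.Helper3.PSolv2
import Cfsg.Agent.Lib.Helper3.Transport

set_option autoImplicit false

namespace Cfsg.Agent.Lib.Helper4

open Cfsg

/-- Hall–Higman Lemma 1.2.3: in a `p`-solvable group with trivial `p'`-core, the `p`-core contains
its centralizer. -/
theorem centralizer_pCore_le_of_psolvable {S : Type*} [Group S] [Finite S] {p : ℕ} [Fact p.Prime]
    (hsol : Cfsg.IsPSolvable p S) (hred : Cfsg.pPrimeCore p S = ⊥) :
    Subgroup.centralizer (Cfsg.pCore p S : Set S) ≤ Cfsg.pCore p S := by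
  obtain ⟨e, he⟩ : ∃ e : S ⧸ (⊥ : Subgroup S) ≃* S, e = QuotientGroup.quotientBot := ⟨_, rfl⟩
  have h0 : Cfsg.pPrimeCore p (S ⧸ (⊥ : Subgroup S)) = ⊥ := by
    have := Cfsg.Agent.Lib.Helper3.pPrimeCore_map_equiv p e
    rw [hred] at this
    exact (Subgroup.map_eq_bot_iff_of_injective _ e.injective).1 this
  have hmain := Cfsg.Agent.Lib.Helper3.centralizer_pCore_le_of_psolvable_quotient hsol ⊥ h0
  have hmap := Cfsg.Agent.Lib.Helper3.pCore_map_equiv p e
  intro x hx
  have hx' : e.symm x ∈ Subgroup.centralizer (Cfsg.pCore p (S ⧸ (⊥ : Subgroup S)) :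
      Set (S ⧸ (⊥ : Subgroup S))) := by
    intro y hy
    have hy' : e y ∈ Cfsg.pCore p S := by
      rw [← hmap]; exact Subgroup.mem_map_of_mem _ hy
    have := hx (e y) hy'
    apply e.injective
    rw [map_mul, map_mul, MulEquiv.apply_symm_apply]
    exact this
  have := hmain hx'
  rw [← hmap]
  exact ⟨e.symm x, this, by simp⟩

end Cfsg.Agent.Lib.Helper4
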