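import Mathlib
import Cfsg.Prelude.Def_Local
import Cfsg.Prelude.Def_Solvable
import Cfsg.Agent.Lib.Helper4.Cores
import Cfsg.Agent.Lib.Helper1.Fitting

/-!
# Transfer of `O_p(N(P)/C(P))`-membership to the quotient by a normal `p'`-subgroup
-/

open scoped commutatorElement

namespace Cfsg.Agent.Lib.Helper4

universe u v

section PSQ

/-- a `p`-element of a `p'`-subgroup is trivial -/
theorem psq_inf_eq_one {G : Type u} [Group G] [Finite G] {p : ℕ} [Fact p.Prime]
    (P N : Subgroup G) (hP : IsPGroup p P) (hN : (Nat.card N).Coprime p)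
    (x : G) (hxP : x ∈ P) (hxN : x ∈ N) : x = 1 := by
  obtain ⟨k, hk⟩ := hP ⟨x, hxP⟩
  have h1 : x ^ (p ^ k) = 1 := by
    have := congrArg Subtype.val hk
    simpa using this
  have h2 : x ^ (Nat.card N) = 1 := by
    have h3 : (⟨x, hxN⟩ : N) ^ (Nat.card N) = 1 := pow_card_eq_one'
    have := congrArg Subtype.val h3
    rw [Subgroup.coe_pow, Subgroup.coe_one] at this
    exact this
  have h3 : x ^ (Nat.gcd (p ^ k) (Nat.card N)) = 1 := pow_gcd_eq_one.2 ⟨h1, h2⟩
  have h4 : Nat.gcd (p ^ k) (Nat.card N) = 1 := by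
    have : Nat.Coprime (p ^ k) (Nat.card N) := (Nat.Coprime.pow_left k hN.symm)
    exact this
  rw [h4, pow_one] at h3
  exact h3

/-- Membership in `O_p` of a quotient. -/
theorem psq_mem_pCore_quot_iff {H : Type u} [Group H] [Finite H] (p : ℕ) [Fact p.Prime]
    (K : Subgroup H) [K.Normal] (h : H) :
    (QuotientGroup.mk h : H ⧸ K) ∈ Cfsg.pCore p (H ⧸ K) ↔
      ∃ D : Subgroup H, D.Normal ∧ K ≤ D ∧ (∀ d ∈ D, ∃ k : ℕ, d ^ (p ^ k) ∈ K) ∧ h ∈ D := by
  constructor
  · intro hh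
    haveI : (Cfsg.pCore p (H ⧸ K)).Normal := pCore_normal p
    refine ⟨(Cfsg.pCore p (H ⧸ K)).comap (QuotientGroup.mk' K), inferInstance, ?_, ?_, ?_⟩
    · intro k hk
      rw [Subgroup.mem_comap, QuotientGroup.mk'_apply, (QuotientGroup.eq_one_iff k).2 hk]
      exact Subgroup.one_mem _
    · intro d hd
      rw [Subgroup.mem_comap] at hd
      obtain ⟨k, hk⟩ := (pCore_isPGroup (G := H ⧸ K) (p := p)) ⟨_, hd⟩
      refine ⟨k, ?_⟩
      have h1 := congrArg Subtype.val hk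
      rw [Subgroup.coe_pow, Subgroup.coe_one] at h1
      rw [← QuotientGroup.eq_one_iff, ← QuotientGroup.mk'_apply, map_pow]
      exact h1
    · exact hh
  · rintro ⟨D, hDn, hKD, hpow, hhD⟩
    have hle : D.map (QuotientGroup.mk' K) ≤ Cfsg.pCore p (H ⧸ K) := by
      apply le_sSup
      refine ⟨hDn.map _ (QuotientGroup.mk'_surjective _), ?_⟩
      rintro ⟨y, hy⟩
      obtain ⟨d, hd, rfl⟩ := Subgroup.mem_map.1 hy
      obtain ⟨k, hk⟩ := hpow d hd
      refine ⟨k, Subtype.ext ?_⟩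
      rw [Subgroup.coe_pow, Subgroup.coe_one, ← map_pow, QuotientGroup.mk'_apply,
        QuotientGroup.eq_one_iff]
      exact hk
    exact hle (Subgroup.mem_map.2 ⟨h, hhD, rfl⟩)

/-- Transfer of `O_p`-membership along a surjection compatible with the kernels. -/
theorem psq_pcore_transfer {H : Type u} {H' : Type v} [Group H] [Group H'] [Finite H] [Finite H']
    (p : ℕ) [Fact p.Prime] (ψ : H →* H') (hψ : Function.Surjective ψ)
    (K : Subgroup H) [K.Normal] (K' : Subgroup H') [K'.Normal]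
    (hK : ∀ h, h ∈ K ↔ ψ h ∈ K') (h : H) :
    (QuotientGroup.mk h : H ⧸ K) ∈ Cfsg.pCore p (H ⧸ K) ↔
      (QuotientGroup.mk (ψ h) : H' ⧸ K') ∈ Cfsg.pCore p (H' ⧸ K') := by
  rw [psq_mem_pCore_quot_iff, psq_mem_pCore_quot_iff]
  constructor
  · rintro ⟨D, hDn, hKD, hpow, hhD⟩
    refine ⟨D.map ψ, hDn.map ψ hψ, ?_, ?_, Subgroup.mem_map.2 ⟨h, hhD, rfl⟩⟩
    · intro k' hk'
      obtain ⟨k, rfl⟩ := hψ k'
      exact Subgroup.mem_map.2 ⟨k, hKD ((hK k).2 hk'), rfl⟩
    · intro d' hd'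
      obtain ⟨d, hd, rfl⟩ := Subgroup.mem_map.1 hd'
      obtain ⟨k, hk⟩ := hpow d hd
      refine ⟨k, ?_⟩
      rw [← map_pow]
      exact (hK _).1 hk
  · rintro ⟨D', hDn, hKD, hpow, hhD⟩
    refine ⟨D'.comap ψ, hDn.comap ψ, ?_, ?_, Subgroup.mem_comap.2 hhD⟩
    · intro k hk
      exact Subgroup.mem_comap.2 (hKD ((hK k).1 hk))
    · intro d hd
      obtain ⟨k, hk⟩ := hpow (ψ d) (Subgroup.mem_comap.1 hd)
      refine ⟨k, ?_⟩
      rw [← map_pow] at hk
      exact (hK _).2 hk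

variable {G : Type u} [Group G] [Finite G]

/-- Frattini: if `N` is a normal `p'`-subgroup and `N ⊔ P` is normal for the `p`-subgroup `P`,
then `G = N_G(P) N`. -/
theorem psq_frattini {p : ℕ} [Fact p.Prime] (N P : Subgroup G) [hNn : N.Normal]
    (hN : (Nat.card N).Coprime p) (hP : IsPGroup p P) (hsup : (N ⊔ P).Normal) (g : G) :
    ∃ h ∈ Subgroup.normalizer (P : Set G), ∃ n ∈ N, g = h * n := by
  haveI := hsup
  have hPle : P ≤ N ⊔ P := le_sup_right
  have hPp : IsPGroup p (P.subgroupOf (N ⊔ P)) :=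
    hP.comap_of_injective (N ⊔ P).subtype (N ⊔ P).subtype_injective
  obtain ⟨S, hS⟩ := hPp.exists_le_sylow
  have hSp : IsPGroup p ((S : Subgroup ↥(N ⊔ P)).map (N ⊔ P).subtype) := S.2.map _
  have hPS : P ≤ (S : Subgroup ↥(N ⊔ P)).map (N ⊔ P).subtype := by
    intro x hx
    exact Subgroup.mem_map.2 ⟨⟨x, hPle hx⟩, hS (Subgroup.mem_subgroupOf.2 hx), rfl⟩
  have hSP : (S : Subgroup ↥(N ⊔ P)).map (N ⊔ P).subtype = P := by
    apply le_antisymm _ hPS
    intro q hq
    obtain ⟨q', hq', rfl⟩ := Subgroup.mem_map.1 hq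
    have hq2 : ((N ⊔ P).subtype q') ∈ ((N ⊔ P : Subgroup G) : Set G) := q'.2
    rw [Subgroup.normal_mul] at hq2
    obtain ⟨n, hn, x, hx, hnx⟩ := Set.mem_mul.1 hq2
    have hn2 : n = (N ⊔ P).subtype q' * x⁻¹ := by rw [← hnx]; group
    have hn3 : n ∈ (S : Subgroup ↥(N ⊔ P)).map (N ⊔ P).subtype := by
      rw [hn2]
      exact Subgroup.mul_mem _ hq (Subgroup.inv_mem _ (hPS hx))
    have hn1 : n = 1 := psq_inf_eq_one _ N hSp hN n hn3 hn
    rw [← hnx, hn1, one_mul]
    exact hx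
  have hfr := Sylow.normalizer_sup_eq_top S
  rw [hSP] at hfr
  have hg : g ∈ ((Subgroup.normalizer (P : Set G) ⊔ (N ⊔ P) : Subgroup G) : Set G) := by
    rw [hfr]; exact Subgroup.mem_top g
  rw [Subgroup.mul_normal] at hg
  obtain ⟨h, hh, y, hy, hhy⟩ := Set.mem_mul.1 hg
  have hy2 : y ∈ ((N ⊔ P : Subgroup G) : Set G) := hy
  rw [Subgroup.normal_mul] at hy2
  obtain ⟨n, hn, x, hx, hnx⟩ := Set.mem_mul.1 hy2
  refine ⟨h * x, Subgroup.mul_mem _ hh (Subgroup.le_normalizer hx), x⁻¹ * n * x, ?_, ?_⟩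
  · have := hNn.conj_mem n hn x⁻¹
    simpa using this
  · rw [← hhy, ← hnx]; group

/-- The transfer lemma for `N_G(P)/C_G(P)` and the quotient by a normal `p'`-subgroup. -/
theorem psq_TL {p : ℕ} [Fact p.Prime] (N P : Subgroup G) [hNn : N.Normal]
    (hN : (Nat.card N).Coprime p) (hP : IsPGroup p P) (hsup : (N ⊔ P).Normal)
    (a : G) (ha : a ∈ Subgroup.normalizer (P : Set G))
    (ha' : QuotientGroup.mk' N a ∈
      Subgroup.normalizer ((P.map (QuotientGroup.mk' N) : Subgroup (G ⧸ N)) : Set (G ⧸ N))) :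
    (QuotientGroup.mk (s := (Subgroup.centralizer (P : Set G)).subgroupOf
        (Subgroup.normalizer (P : Set G))) (⟨a, ha⟩ : ↥(Subgroup.normalizer (P : Set G)))) ∈
      Cfsg.pCore p (↥(Subgroup.normalizer (P : Set G)) ⧸
        (Subgroup.centralizer (P : Set G)).subgroupOf (Subgroup.normalizer (P : Set G))) ↔
    (QuotientGroup.mk (s := (Subgroup.centralizer
          ((P.map (QuotientGroup.mk' N) : Subgroup (G ⧸ N)) : Set (G ⧸ N))).subgroupOf
        (Subgroup.normalizer ((P.map (QuotientGroup.mk' N) : Subgroup (G ⧸ N)) : Set (G ⧸ N))))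
        (⟨QuotientGroup.mk' N a, ha'⟩ :
          ↥(Subgroup.normalizer ((P.map (QuotientGroup.mk' N) : Subgroup (G ⧸ N)) : Set (G ⧸ N))))) ∈
      Cfsg.pCore p (↥(Subgroup.normalizer
          ((P.map (QuotientGroup.mk' N) : Subgroup (G ⧸ N)) : Set (G ⧸ N))) ⧸
        (Subgroup.centralizer
          ((P.map (QuotientGroup.mk' N) : Subgroup (G ⧸ N)) : Set (G ⧸ N))).subgroupOf
        (Subgroup.normalizer ((P.map (QuotientGroup.mk' N) : Subgroup (G ⧸ N)) : Set (G ⧸ N)))) := by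
  have hmapn : ∀ h : ↥(Subgroup.normalizer (P : Set G)), QuotientGroup.mk' N (h : G) ∈
      Subgroup.normalizer ((P.map (QuotientGroup.mk' N) : Subgroup (G ⧸ N)) : Set (G ⧸ N)) := by
    intro h
    exact Subgroup.le_normalizer_map (QuotientGroup.mk' N) (Subgroup.mem_map.2 ⟨h, h.2, rfl⟩)
  let ψ : ↥(Subgroup.normalizer (P : Set G)) →*
      ↥(Subgroup.normalizer ((P.map (QuotientGroup.mk' N) : Subgroup (G ⧸ N)) : Set (G ⧸ N))) :=
    ((QuotientGroup.mk' N).comp (Subgroup.normalizer (P : Set G)).subtype).codRestrict _ hmapn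
  have hψs : Function.Surjective ψ := by
    rintro ⟨y, hy⟩
    obtain ⟨g, rfl⟩ := QuotientGroup.mk'_surjective N y
    obtain ⟨h, hh, n, hn, rfl⟩ := psq_frattini N P hN hP hsup g
    refine ⟨⟨h, hh⟩, Subtype.ext ?_⟩
    show QuotientGroup.mk' N h = QuotientGroup.mk' N (h * n)
    rw [map_mul, QuotientGroup.mk'_apply, QuotientGroup.mk'_apply,
      (QuotientGroup.eq_one_iff n).2 hn, mul_one]
  have hK : ∀ h : ↥(Subgroup.normalizer (P : Set G)),
      h ∈ (Subgroup.centralizer (P : Set G)).subgroupOf (Subgroup.normalizer (P : Set G)) ↔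
      ψ h ∈ (Subgroup.centralizer
          ((P.map (QuotientGroup.mk' N) : Subgroup (G ⧸ N)) : Set (G ⧸ N))).subgroupOf
        (Subgroup.normalizer ((P.map (QuotientGroup.mk' N) : Subgroup (G ⧸ N)) : Set (G ⧸ N))) := by
    intro h
    rw [Subgroup.mem_subgroupOf, Subgroup.mem_subgroupOf, Subgroup.mem_centralizer_iff,
      Subgroup.mem_centralizer_iff]
    constructor
    · intro hc y hy
      obtain ⟨x, hx, rfl⟩ := Subgroup.mem_map.1 hy
      show QuotientGroup.mk' N x * QuotientGroup.mk' N (h : G) =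
        QuotientGroup.mk' N (h : G) * QuotientGroup.mk' N x
      rw [← map_mul, ← map_mul, hc x hx]
    · intro hc x hx
      have h1 : QuotientGroup.mk' N x * QuotientGroup.mk' N (h : G) =
        QuotientGroup.mk' N (h : G) * QuotientGroup.mk' N x :=
        hc _ (Subgroup.mem_map.2 ⟨x, hx, rfl⟩)
      have h2 : (h : G) * x * (h : G)⁻¹ * x⁻¹ ∈ N := by
        rw [← QuotientGroup.eq_one_iff, ← QuotientGroup.mk'_apply, map_mul, map_mul, map_mul,
          ← h1, map_inv, map_inv]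
        group
      have h3 : (h : G) * x * (h : G)⁻¹ * x⁻¹ ∈ P :=
        Subgroup.mul_mem _ ((Subgroup.mem_normalizer_iff.1 h.2 x).1 hx) (Subgroup.inv_mem _ hx)
      have h4 := psq_inf_eq_one P N hP hN _ h3 h2
      have h5 : (h : G) * x = x * (h : G) := by
        have : (h : G) * x = ((h : G) * x * (h : G)⁻¹ * x⁻¹) * (x * (h : G)) := by group
        rw [this, h4, one_mul]
      exact h5.symm
  exact psq_pcore_transfer p ψ hψs _ _ hK ⟨a, ha⟩

/-- A normal `p`-subgroup lies in `O_{p',p}`. -/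
theorem psq_normal_le_pPrimePCore {H : Type u} [Group H] (p : ℕ) (Q : Subgroup H) [hQ : Q.Normal]
    (hQp : IsPGroup p Q) : Q ≤ Cfsg.pPrimePCore p H := by
  unfold Cfsg.pPrimePCore
  haveI : (Cfsg.pPrimeCore p H).Normal := pPrimeCore_normal p
  rw [← Subgroup.map_le_iff_le_comap]
  apply le_sSup
  exact ⟨hQ.map _ (QuotientGroup.mk'_surjective _), hQp.map _⟩

/-- Lifting a normal `p`-subgroup of `G ⧸ N` to a `p`-subgroup of `G`. -/
theorem psq_lift_P {p : ℕ} [Fact p.Prime] (N : Subgroup G) [hNn : N.Normal]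
    (Pb : Subgroup (G ⧸ N)) [hPbn : Pb.Normal] (hPb : IsPGroup p Pb) :
    ∃ P : Subgroup G, IsPGroup p P ∧ P.map (QuotientGroup.mk' N) = Pb ∧ (N ⊔ P).Normal := by
  obtain ⟨S, hS⟩ := Sylow.mapSurjective_surjective (QuotientGroup.mk'_surjective N) p
    (Classical.arbitrary (Sylow p (G ⧸ N)))
  have hPbS : Pb ≤ (S : Subgroup G).map (QuotientGroup.mk' N) := by
    have h1 : Pb ≤ Cfsg.pCore p (G ⧸ N) := le_sSup ⟨hPbn, hPb⟩
    have h2 := pCore_le_sylow (Classical.arbitrary (Sylow p (G ⧸ N)))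
    rw [← hS] at h2
    exact h1.trans h2
  refine ⟨(S : Subgroup G) ⊓ Pb.comap (QuotientGroup.mk' N), ?_, ?_, ?_⟩
  · exact S.2.to_le inf_le_left
  · apply le_antisymm
    · rintro y hy
      obtain ⟨x, hx, rfl⟩ := Subgroup.mem_map.1 hy
      exact Subgroup.mem_comap.1 hx.2
    · intro y hy
      obtain ⟨s, hs, rfl⟩ := Subgroup.mem_map.1 (hPbS hy)
      exact Subgroup.mem_map.2 ⟨s, ⟨hs, Subgroup.mem_comap.2 hy⟩, rfl⟩
  · have heq : N ⊔ ((S : Subgroup G) ⊓ Pb.comap (QuotientGroup.mk' N)) =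
        Pb.comap (QuotientGroup.mk' N) := by
      apply le_antisymm
      · apply sup_le
        · intro n hn
          rw [Subgroup.mem_comap, QuotientGroup.mk'_apply, (QuotientGroup.eq_one_iff n).2 hn]
          exact Subgroup.one_mem _
        · exact inf_le_right
      · intro x hx
        obtain ⟨s, hs, hsx⟩ := Subgroup.mem_map.1 (hPbS (Subgroup.mem_comap.1 hx))
        have h1 : x * s⁻¹ ∈ N := by
          rw [← QuotientGroup.eq_one_iff, ← QuotientGroup.mk'_apply, map_mul, map_inv, hsx]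
          group
        have h2 : s ∈ (S : Subgroup G) ⊓ Pb.comap (QuotientGroup.mk' N) :=
          ⟨hs, Subgroup.mem_comap.2 (by rw [hsx]; exact Subgroup.mem_comap.1 hx)⟩
        have h3 : x = x * s⁻¹ * s := by group
        rw [h3]
        exact Subgroup.mul_mem _ (Subgroup.mem_sup_left h1) (Subgroup.mem_sup_right h2)
    rw [heq]
    exact hPbn.comap _

/-- Lifting a `p`-element of `N_{G/N}(P̄)` to a `p`-element of `N_G(P)`. -/
theorem psq_lift_elt {p : ℕ} [Fact p.Prime] (N P : Subgroup G) [hNn : N.Normal]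
    (hN : (Nat.card N).Coprime p) (h : G) (hh : h ∈ Subgroup.normalizer (P : Set G)) (k : ℕ)
    (hk : (QuotientGroup.mk' N h) ^ (p ^ k) = 1) :
    ∃ a ∈ Subgroup.normalizer (P : Set G), QuotientGroup.mk' N a = QuotientGroup.mk' N h ∧
      a ^ (p ^ k) = 1 := by
  set m := Nat.card N with hm
  set M := m ^ (Nat.totient (p ^ k)) with hM
  have hcop : Nat.Coprime m (p ^ k) := Nat.Coprime.pow_right k hN
  have hmod : M ≡ 1 [MOD p ^ k] := Nat.ModEq.pow_totient hcop
  have hn0 : h ^ (p ^ k) ∈ N := by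
    rw [← QuotientGroup.eq_one_iff, ← QuotientGroup.mk'_apply, map_pow]
    exact hk
  have hn1 : (h ^ (p ^ k)) ^ m = 1 := by
    have h3 : (⟨h ^ (p ^ k), hn0⟩ : N) ^ (Nat.card N) = 1 := pow_card_eq_one'
    have := congrArg Subtype.val h3
    rw [Subgroup.coe_pow, Subgroup.coe_one] at this
    exact this
  have hpos : 0 < Nat.totient (p ^ k) := Nat.totient_pos.2 (pow_pos (Fact.out : p.Prime).pos k)
  refine ⟨h ^ M, Subgroup.pow_mem _ hh M, ?_, ?_⟩
  · rw [map_pow, pow_eq_pow_mod M hk, hmod, ← pow_eq_pow_mod 1 hk, pow_one]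
  · rw [← pow_mul, mul_comm, pow_mul]
    have : M = m * m ^ (Nat.totient (p ^ k) - 1) := by
      rw [hM, ← pow_succ', Nat.sub_add_cancel hpos]
    rw [this, pow_mul, hn1, one_pow]

end PSQ

end Cfsg.Agent.Lib.Helper4
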