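import Cfsg.Agent.Lib.Helper4.QuadPair9
import Cfsg.Agent.Lib.Helper3.Frattini

/-! Burnside: elements of order prime to `p` acting trivially on the Frattini quotient of a normal
`p`-subgroup centralise it; the kernel of the action on the Frattini quotient is a `p`-group
modulo the centraliser. -/

namespace Cfsg.Agent.Lib.Helper4

open Cfsg.Agent.Lib.Helper3
open scoped commutatorElement

section QuadPairJ

universe u

variable {X : Type u} [Group X] [Finite X]

/-- the kernel of the action on `D / Φ` as a subgroup -/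
def qpFrK (D Φ : Subgroup X) [hDn : D.Normal] [hΦn : Φ.Normal] : Subgroup X where
  carrier := {z | ∀ d ∈ D, ⁅z, d⁆ ∈ Φ}
  one_mem' := fun d _ => by rw [commutatorElement_one_left]; exact Subgroup.one_mem _
  mul_mem' := fun {a b} ha hb d hd => by
    have h1 : ⁅a * b, d⁆ = a * ⁅b, d⁆ * a⁻¹ * ⁅a, d⁆ := by
      simp only [commutatorElement_def]; group
    rw [h1]
    exact Subgroup.mul_mem _ (hΦn.conj_mem _ (hb d hd) a) (ha d hd)
  inv_mem' := fun {a} ha d hd => by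
    have h1 : ⁅a⁻¹, d⁆ = a⁻¹ * ⁅a, d⁆⁻¹ * a⁻¹⁻¹ := by
      simp only [commutatorElement_def]; group
    rw [h1]
    exact hΦn.conj_mem _ (Subgroup.inv_mem _ (ha d hd)) a⁻¹

theorem qp_burnside_q (p : ℕ) [Fact p.Prime] (D : Subgroup X) [hDn : D.Normal]
    (hDp : IsPGroup p D) (q : ℕ) [Fact q.Prime] (hqp : q ≠ p) (z : X)
    (hZq : IsPGroup q (Subgroup.zpowers z))
    (hz : ∀ d ∈ D, ⁅z, d⁆ ∈ (frattini ↥D).map D.subtype) :
    z ∈ Subgroup.centralizer (D : Set X) := by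
  have hpp := (Fact.out : p.Prime)
  have hq := (Fact.out : q.Prime)
  obtain ⟨Φ, hΦ⟩ : ∃ Φ : Subgroup X, Φ = (frattini ↥D).map D.subtype := ⟨_, rfl⟩
  haveI hΦn : Φ.Normal := hΦ ▸ inferInstance
  have hΦD : Φ ≤ D := by rw [hΦ]; exact Subgroup.map_subtype_le _
  rw [← hΦ] at hz
  have hΦc : (Nat.card ↥Φ).Coprime q := by
    obtain ⟨k, hk⟩ := IsPGroup.iff_card.mp (hDp.to_le hΦD)
    rw [hk]
    apply Nat.Coprime.pow_left
    exact (Nat.coprime_primes hpp hq).mpr (fun h => hqp h.symm)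
  have hzK : z ∈ qpFrK D Φ := hz
  set C : Subgroup ↥D := (Subgroup.centralizer ({z} : Set X)).subgroupOf D with hC
  have hsup : C ⊔ frattini ↥D = ⊤ := by
    rw [eq_top_iff]
    rintro ⟨d, hd⟩ _
    have hdx : ∀ x ∈ Subgroup.zpowers z, ⁅d, x⁆ ∈ Φ := by
      intro x hx
      have hxK : x ∈ qpFrK D Φ := by
        obtain ⟨k, rfl⟩ := Subgroup.mem_zpowers_iff.mp hx
        exact Subgroup.zpow_mem _ hzK k
      have := Subgroup.inv_mem _ (hxK d hd)
      rwa [commutatorElement_inv] at this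
    obtain ⟨n, hn, hnd⟩ := exists_mul_mem_centralizer hΦn hΦc hZq d hdx
    have hndD : n * d ∈ D := Subgroup.mul_mem _ (hΦD hn) hd
    have h1 : (⟨n * d, hndD⟩ : ↥D) ∈ C := by
      show n * d ∈ Subgroup.centralizer ({z} : Set X)
      rw [Subgroup.mem_centralizer_iff]
      intro w hw
      rw [Set.mem_singleton_iff.mp hw]
      exact Subgroup.mem_centralizer_iff.mp hnd _ (Subgroup.mem_zpowers _)
    have h2 : (⟨n⁻¹, hΦD (Subgroup.inv_mem _ hn)⟩ : ↥D) ∈ frattini ↥D := by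
      have hn' := Subgroup.inv_mem _ hn
      rw [hΦ] at hn'
      obtain ⟨w, hw, hwn⟩ := hn'
      have : w = ⟨n⁻¹, hΦD (Subgroup.inv_mem _ hn)⟩ := Subtype.ext hwn
      rw [← this]; exact hw
    have h3 : (⟨d, hd⟩ : ↥D) = ⟨n⁻¹, hΦD (Subgroup.inv_mem _ hn)⟩ * ⟨n * d, hndD⟩ := by
      apply Subtype.ext
      show d = n⁻¹ * (n * d)
      group
    rw [h3]
    exact Subgroup.mul_mem _ (Subgroup.mem_sup_right h2) (Subgroup.mem_sup_left h1)
  have hCtop : C = ⊤ := frattini_nongenerating hsup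
  rw [Subgroup.mem_centralizer_iff]
  intro d hd
  have h1 : (⟨d, hd⟩ : ↥D) ∈ C := by rw [hCtop]; exact Subgroup.mem_top _
  have h2 : d ∈ Subgroup.centralizer ({z} : Set X) := h1
  exact (Subgroup.mem_centralizer_iff.mp h2 _ rfl).symm

theorem qp_burnside_pprime (p : ℕ) [Fact p.Prime] (D : Subgroup X) [hDn : D.Normal]
    (hDp : IsPGroup p D) :
    ∀ (m : ℕ) (y : X), ¬ p ∣ m → 0 < m → y ^ m = 1 →
      (∀ d ∈ D, ⁅y, d⁆ ∈ (frattini ↥D).map D.subtype) →
      y ∈ Subgroup.centralizer (D : Set X) := by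
  obtain ⟨Φ, hΦ⟩ : ∃ Φ : Subgroup X, Φ = (frattini ↥D).map D.subtype := ⟨_, rfl⟩
  haveI hΦn : Φ.Normal := hΦ ▸ inferInstance
  rw [← hΦ]
  intro m
  induction m using Nat.strong_induction_on with
  | _ m IH =>
  intro y hpm hm0 hym hyK
  by_cases hm1 : m = 1
  · subst hm1
    rw [pow_one] at hym
    rw [hym]; exact one_mem _
  obtain ⟨q, hq, hqm⟩ := Nat.exists_prime_and_dvd hm1
  haveI : Fact q.Prime := ⟨hq⟩
  have hqp : q ≠ p := by
    rintro rfl
    exact hpm hqm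
  obtain ⟨s, m', hqm', hmeq⟩ := Nat.exists_eq_pow_mul_and_not_dvd hm0.ne' q hq.ne_one
  have hs : s ≠ 0 := by
    rintro rfl
    rw [pow_zero, one_mul] at hmeq
    exact hqm' (hmeq ▸ hqm)
  have hm'0 : 0 < m' := by
    apply Nat.pos_of_ne_zero
    rintro rfl
    rw [mul_zero] at hmeq
    omega
  have hm'lt : m' < m := by
    have h1 : 1 < q ^ s := Nat.one_lt_pow hs hq.one_lt
    rw [hmeq]
    nlinarith
  have hpm' : ¬ p ∣ m' := fun h => hpm (hmeq ▸ Dvd.dvd.mul_left h _)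
  have hyK' : y ∈ qpFrK D Φ := hyK
  have h1 : y ^ m' ∈ Subgroup.centralizer (D : Set X) := by
    apply qp_burnside_q p D hDp q hqp (y ^ m')
    · intro x
      obtain ⟨k, hk⟩ := Subgroup.mem_zpowers_iff.1 x.2
      refine ⟨s, Subtype.ext ?_⟩
      rw [Subgroup.coe_pow, Subgroup.coe_one, ← hk, ← zpow_natCast, ← zpow_mul, mul_comm,
        zpow_mul, zpow_natCast, ← pow_mul, mul_comm, ← hmeq, hym, one_zpow]
    · rw [← hΦ]
      exact (qpFrK D Φ).pow_mem hyK' m'
  have h2 : y ^ (q ^ s) ∈ Subgroup.centralizer (D : Set X) := by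
    apply IH m' hm'lt (y ^ (q ^ s)) hpm' hm'0
    · rw [← pow_mul, ← hmeq, hym]
    · exact (qpFrK D Φ).pow_mem hyK' (q ^ s)
  have hcop : Nat.Coprime m' (q ^ s) :=
    Nat.Coprime.pow_right s (((Nat.Prime.coprime_iff_not_dvd hq).2 hqm').symm)
  have hbez := Nat.gcd_eq_gcd_ab m' (q ^ s)
  rw [hcop.gcd_eq_one] at hbez
  have hy : y = (y ^ m') ^ (Nat.gcdA m' (q ^ s)) * (y ^ (q ^ s)) ^ (Nat.gcdB m' (q ^ s)) := by
    rw [← zpow_natCast, ← zpow_natCast, ← zpow_mul, ← zpow_mul, ← zpow_add, ← hbez]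
    simp
  rw [hy]
  exact mul_mem (Subgroup.zpow_mem _ h1 _) (Subgroup.zpow_mem _ h2 _)

/-- elements acting trivially on the Frattini quotient have a `p`-power in the centraliser -/
theorem qp_burnside_pow (p : ℕ) [Fact p.Prime] (D : Subgroup X) [hDn : D.Normal]
    (hDp : IsPGroup p D) (z : X)
    (hz : ∀ d ∈ D, ⁅z, d⁆ ∈ (frattini ↥D).map D.subtype) :
    ∃ j : ℕ, z ^ (p ^ j) ∈ Subgroup.centralizer (D : Set X) := by
  have hpp := (Fact.out : p.Prime)
  obtain ⟨Φ, hΦ⟩ : ∃ Φ : Subgroup X, Φ = (frattini ↥D).map D.subtype := ⟨_, rfl⟩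
  haveI hΦn : Φ.Normal := hΦ ▸ inferInstance
  obtain ⟨j, m, hpm, hjm⟩ :=
    Nat.exists_eq_pow_mul_and_not_dvd (orderOf_pos z).ne' p hpp.ne_one
  have hm0 : 0 < m := by
    apply Nat.pos_of_ne_zero
    rintro rfl
    rw [mul_zero] at hjm
    exact (orderOf_pos z).ne' hjm
  refine ⟨j, qp_burnside_pprime p D hDp m (z ^ (p ^ j)) hpm hm0 ?_ ?_⟩
  · rw [← pow_mul, ← hjm, pow_orderOf_eq_one]
  · have hzK : z ∈ qpFrK D Φ := hΦ ▸ hz
    have h1 : ∀ d ∈ D, ⁅z ^ (p ^ j), d⁆ ∈ Φ := (qpFrK D Φ).pow_mem hzK (p ^ j)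
    intro d hd
    have h2 := h1 d hd
    rw [hΦ] at h2
    exact h2

end QuadPairJ

section QuadPairK

universe u

variable {G : Type u} [Group G] [Finite G]

/-- membership in the section kernel, in terms of commutators -/
theorem qp_sectionKernel_comm {X : Type u} [Group X] (D Φ : Subgroup X) [Φ.Normal] (z : X)
    (hz : z ∈ Cfsg.sectionKernel D Φ) : ∀ e ∈ D, ⁅z, e⁆ ∈ Φ := by
  intro e he
  unfold Cfsg.sectionKernel at hz
  rw [Subgroup.mem_comap, Subgroup.mem_centralizer_iff] at hz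
  have h1 := hz (QuotientGroup.mk' Φ e) (Subgroup.mem_map.2 ⟨e, he, rfl⟩)
  rw [← QuotientGroup.eq_one_iff, ← QuotientGroup.mk'_apply, map_commutatorElement,
    commutatorElement_eq_one_iff_commute]
  exact h1.symm

/-- **`p`-stability in the normaliser form** for `p`-solvable normalisers not involving
`SL(2,3)` when `p = 3`. -/
theorem qp_gstable (p : ℕ) [Fact p.Prime] (hp2 : p ≠ 2) (P A N : Subgroup G)
    (hP : IsPGroup p P) (hPN : P ≤ N)
    [hDn : (P.subgroupOf N).Normal]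
    [hCn : ((Subgroup.centralizer (P : Set G)).subgroupOf N).Normal]
    (hquad : ⁅⁅P, A⁆, A⁆ = ⊥) (hsol : Cfsg.IsPSolvable p ↥N)
    (hno : ¬ (p = 3 ∧ Cfsg.Involves (Matrix.SpecialLinearGroup (Fin 2) (ZMod 3)) ↥N)) :
    (A.subgroupOf N).map (QuotientGroup.mk' ((Subgroup.centralizer (P : Set G)).subgroupOf N))
      ≤ Cfsg.pCore p (↥N ⧸ (Subgroup.centralizer (P : Set G)).subgroupOf N) := by
  have hDp : IsPGroup p (P.subgroupOf N) :=
    hP.comap_of_injective N.subtype N.subtype_injective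
  have hsec := qp_pstable_section p hp2 hsol hno (P.subgroupOf N) hDp
  intro y hy
  obtain ⟨a', ha', rfl⟩ := Subgroup.mem_map.1 hy
  have ha'A : (a' : G) ∈ A := Subgroup.mem_subgroupOf.1 ha'
  have hq0 : ⁅⁅P.subgroupOf N, Subgroup.zpowers a'⁆, Subgroup.zpowers a'⁆ = ⊥ := by
    apply (Subgroup.map_eq_bot_iff_of_injective _ N.subtype_injective).1
    rw [Subgroup.map_commutator, Subgroup.map_commutator, MonoidHom.map_zpowers, eq_bot_iff,
      ← hquad]
    have h1 : (P.subgroupOf N).map N.subtype ≤ P := by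
      rw [Subgroup.subgroupOf_map_subtype]; exact inf_le_left
    have h2 : Subgroup.zpowers (N.subtype a') ≤ A := by
      rw [Subgroup.zpowers_le]; exact ha'A
    exact Subgroup.commutator_mono (Subgroup.commutator_mono h1 h2) h2
  obtain ⟨D₁, hD₁n, hKD₁, ⟨k, hk⟩, haD₁⟩ := hsec a' (by rw [hq0]; exact bot_le)
  haveI : (Subgroup.map (QuotientGroup.mk' ((frattini ↥(P.subgroupOf N)).map
      (P.subgroupOf N).subtype)) (P.subgroupOf N)).Normal :=
    hDn.map _ (QuotientGroup.mk'_surjective _)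
  haveI hKn : (Cfsg.sectionKernel (P.subgroupOf N)
      ((frattini ↥(P.subgroupOf N)).map (P.subgroupOf N).subtype)).Normal := by
    unfold Cfsg.sectionKernel
    exact (inferInstance : (Subgroup.centralizer _).Normal).comap _
  have hle : D₁.map (QuotientGroup.mk' ((Subgroup.centralizer (P : Set G)).subgroupOf N)) ≤
      Cfsg.pCore p (↥N ⧸ (Subgroup.centralizer (P : Set G)).subgroupOf N) := by
    apply le_sSup
    refine ⟨hD₁n.map _ (QuotientGroup.mk'_surjective _), ?_⟩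
    rintro ⟨y, hy⟩
    obtain ⟨d, hd, rfl⟩ := Subgroup.mem_map.1 hy
    have h1 : d ^ (p ^ k) ∈ Cfsg.sectionKernel (P.subgroupOf N)
        ((frattini ↥(P.subgroupOf N)).map (P.subgroupOf N).subtype) := by
      rw [← hk]
      exact Subgroup.pow_relIndex_mem _ hd
    obtain ⟨j, hj⟩ := qp_burnside_pow p (P.subgroupOf N) hDp (d ^ (p ^ k))
      (qp_sectionKernel_comm _ _ _ h1)
    refine ⟨k + j, Subtype.ext ?_⟩
    rw [Subgroup.coe_pow, Subgroup.coe_one, ← map_pow, QuotientGroup.mk'_apply,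
      QuotientGroup.eq_one_iff, Subgroup.mem_subgroupOf, Subgroup.mem_centralizer_iff]
    intro x hx
    rw [Subgroup.mem_centralizer_iff] at hj
    have h2 := hj ⟨x, hPN hx⟩ (Subgroup.mem_subgroupOf.2 hx)
    have h3 := congrArg Subtype.val h2
    rw [pow_add, pow_mul]
    simpa using h3
  exact hle (Subgroup.mem_map.2 ⟨a', haD₁, rfl⟩)

end QuadPairK

end Cfsg.Agent.Lib.Helper4
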