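import Cfsg.Agent.Lib.Helper4.QuadPair9

/-! `p`-solvable groups not involving `SL(2,3)` (when `p = 3`) are `p`-stable in the action sense;
a group involving `SL(2,3)` has an element of order 4. -/

namespace Cfsg.Agent.Lib.Helper4

open Cfsg.Agent.Lib.Helper3
open scoped commutatorElement

section QuadPairL

universe u

theorem qp_pstable_on' {X : Type u} [Group X] [Finite X] (p : ℕ) [Fact p.Prime] (hp2 : p ≠ 2)
    (hX : Cfsg.IsPSolvable p X)
    (hno : ¬ (p = 3 ∧ Cfsg.Involves (Matrix.SpecialLinearGroup (Fin 2) (ZMod 3)) X))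
    (V : Subgroup X) [V.Normal] (hV : Cfsg.IsElementaryAbelian p V) : Cfsg.IsPStableOn p V := by
  intro a ha
  by_contra hna
  exact hno (qp_pstable_on p hp2 hX V hV a ha hna)

theorem qp_actionPStable {G : Type u} [Group G] [Finite G] (p : ℕ) [Fact p.Prime] (hp2 : p ≠ 2)
    (hsep : Cfsg.IsPSolvable p G)
    (hno : ¬ (p = 3 ∧ Cfsg.Involves (Matrix.SpecialLinearGroup (Fin 2) (ZMod 3)) G)) :
    Cfsg.IsActionPStable p G := by
  classical
  have hpp := (Fact.out : p.Prime)
  refine ⟨fun V _ hV => qp_pstable_on' p hp2 hsep hno V hV, ?_, ?_⟩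
  · exact qp_pstable_section p hp2 hsep hno (Cfsg.pCore p G) pCore_isPGroup
  · intro S V _ hle
    have hnoN : ¬ (p = 3 ∧ Cfsg.Involves (Matrix.SpecialLinearGroup (Fin 2) (ZMod 3))
        ↥(Subgroup.normalizer (Cfsg.thompsonSubgroupOf p (S : Subgroup G) : Set G))) := by
      rintro ⟨h3, hinv⟩
      exact hno ⟨h3, qp_involves_trans hinv (involves_subgroup involves_self _)⟩
    apply qp_pstable_on' p hp2 (Cfsg.Agent.Lib.Helper7.isPSolvable_subgroup hpp hsep _) hnoN V
    obtain ⟨J, hJ⟩ : ∃ J : Subgroup ↥(S : Subgroup G), J = Cfsg.thompsonSubgroup p ↥(S : Subgroup G) :=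
      ⟨_, rfl⟩
    have hZ : Cfsg.omegaCenterThompson p ↥(S : Subgroup G) =
        Subgroup.closure {x : ↥(S : Subgroup G) |
          x ∈ J ⊓ Subgroup.centralizer (J : Set ↥(S : Subgroup G)) ∧ x ^ p = 1} := by
      rw [hJ]; rfl
    obtain ⟨hc, hpw⟩ := qp_closure_elemAb p
      {x : ↥(S : Subgroup G) | x ∈ J ⊓ Subgroup.centralizer (J : Set ↥(S : Subgroup G)) ∧ x ^ p = 1}
      (by
        rintro x ⟨hx, -⟩ y ⟨hy, -⟩
        have h1 : y ∈ Subgroup.centralizer (J : Set ↥(S : Subgroup G)) := hy.2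
        rw [Subgroup.mem_centralizer_iff] at h1
        exact h1 x hx.1)
      (fun x hx => hx.2)
    rw [← hZ] at hc hpw
    apply qp_isElementaryAbelian_of
    · intro x hx y hy
      obtain ⟨x', hx', hxx⟩ := Subgroup.mem_map.1 (hle (Subgroup.mem_map.2 ⟨x, hx, rfl⟩))
      obtain ⟨y', hy', hyy⟩ := Subgroup.mem_map.1 (hle (Subgroup.mem_map.2 ⟨y, hy, rfl⟩))
      apply Subtype.ext
      have h1 := congrArg (fun z : ↥(S : Subgroup G) => (z : G)) (hc x' hx' y' hy')
      simp only [Subgroup.coe_mul] at h1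
      have hxx' : (x' : G) = (x : G) := hxx
      have hyy' : (y' : G) = (y : G) := hyy
      rw [hxx', hyy'] at h1
      simpa using h1
    · intro x hx
      obtain ⟨x', hx', hxx⟩ := Subgroup.mem_map.1 (hle (Subgroup.mem_map.2 ⟨x, hx, rfl⟩))
      apply Subtype.ext
      have h1 := congrArg (fun z : ↥(S : Subgroup G) => (z : G)) (hpw x' hx')
      simp only [Subgroup.coe_pow, Subgroup.coe_one] at h1
      have hxx' : (x' : G) = (x : G) := hxx
      rw [hxx'] at h1
      simpa using h1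

/-- an element of order 4 of `SL(2,3)` -/
def sl23_i : Matrix.SpecialLinearGroup (Fin 2) (ZMod 3) := ⟨!![0, 1; -1, 0], by decide⟩

theorem sl23_i_pow4 : sl23_i ^ 4 = 1 := by decide

theorem sl23_i_pow2 : sl23_i ^ 2 ≠ 1 := by decide

/-- a group involving `SL(2,3)` has an element of order 4 -/
theorem qp_order4_of_involves {X : Type u} [Group X] [Finite X]
    (h : Cfsg.Involves (Matrix.SpecialLinearGroup (Fin 2) (ZMod 3)) X) :
    ∃ y : X, orderOf y = 4 := by
  obtain ⟨K, R, hn, ⟨e⟩⟩ := h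
  haveI := hn
  -- an element of order 4 in SL(2,3)
  obtain ⟨i, hi⟩ : ∃ i : Matrix.SpecialLinearGroup (Fin 2) (ZMod 3), orderOf i = 4 := by
    refine ⟨sl23_i, ?_⟩
    have h4 := sl23_i_pow4
    have h2 := sl23_i_pow2
    have hd : orderOf sl23_i ∣ 2 ^ 2 := orderOf_dvd_of_pow_eq_one h4
    obtain ⟨k, hk, hk'⟩ := (Nat.dvd_prime_pow Nat.prime_two).1 hd
    interval_cases k
    · exfalso
      apply h2
      rw [pow_zero, orderOf_eq_one_iff] at hk'
      rw [hk', one_pow]
    · exfalso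
      apply h2
      rw [pow_one] at hk'
      have := pow_orderOf_eq_one sl23_i
      rwa [hk'] at this
    · rw [hk']; norm_num
  obtain ⟨z, hz⟩ := QuotientGroup.mk_surjective (e.symm i)
  have hzord : orderOf (QuotientGroup.mk z : ↥K ⧸ R.subgroupOf K) = 4 := by
    rw [hz, MulEquiv.orderOf_eq, hi]
  have hdvd : 4 ∣ orderOf z := by
    rw [← hzord]
    exact orderOf_dvd_of_pow_eq_one (by rw [← QuotientGroup.mk_pow, pow_orderOf_eq_one]; rfl)
  obtain ⟨m, hm⟩ := hdvd
  refine ⟨((z ^ m : ↥K) : X), ?_⟩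
  rw [Subgroup.orderOf_coe, orderOf_pow_of_dvd (by
    rintro rfl
    rw [mul_zero] at hm
    exact (orderOf_pos z).ne' hm) ⟨4, by rw [hm, mul_comm]⟩, hm]
  exact Nat.mul_div_cancel 4 (Nat.pos_of_ne_zero (by
    rintro rfl
    rw [mul_zero] at hm
    exact (orderOf_pos z).ne' hm))

end QuadPairL

end Cfsg.Agent.Lib.Helper4
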