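import Mathlib
import Cfsg.Prelude.Def_Local
import Cfsg.Prelude.Def_Solvable
import Cfsg.Agent.Lib.Helper4.QuadPairA
import Cfsg.Agent.Lib.Helper4.QuadPairB
import Cfsg.Agent.Lib.Helper4.PStabQuot

/-!
# `p`-stability on a normal `p`-subgroup, centraliser form
-/

open scoped commutatorElement

namespace Cfsg.Agent.Lib.Helper4

universe u

section PSN

variable {X : Type u} [Group X] [Finite X]

/-- a group of odd order does not involve `SL(2,3)` -/
theorem psn_odd_no_sl23 (hodd : Odd (Nat.card X)) (p : ℕ) :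
    ¬ (p = 3 ∧ Cfsg.Involves (Matrix.SpecialLinearGroup (Fin 2) (ZMod 3)) X) := by
  rintro ⟨-, hinv⟩
  obtain ⟨y, hy⟩ := qp_order4_of_involves hinv
  have h1 : 4 ∣ Nat.card X := hy ▸ orderOf_dvd_natCard y
  have h3 : 2 ∣ Nat.card X := dvd_trans (by norm_num : 2 ∣ 4) h1
  exact (Nat.not_even_iff_odd.2 hodd) (even_iff_two_dvd.2 h3)

/-- `p`-stability on a normal `p`-subgroup `D`: a quadratically acting element lies in a normal
subgroup all of whose elements have a `p`-power in `C(D)`. -/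
theorem psn_stable_normal (p : ℕ) [Fact p.Prime] (hp2 : p ≠ 2)
    (hsol : Cfsg.IsPSolvable p X)
    (hno : ¬ (p = 3 ∧ Cfsg.Involves (Matrix.SpecialLinearGroup (Fin 2) (ZMod 3)) X))
    (D : Subgroup X) [hDn : D.Normal] (hDp : IsPGroup p D) (a : X)
    (hq : ⁅⁅D, Subgroup.zpowers a⁆, Subgroup.zpowers a⁆ = ⊥) :
    ∃ D₁ : Subgroup X, D₁.Normal ∧ a ∈ D₁ ∧
      ∀ d ∈ D₁, ∃ j : ℕ, d ^ (p ^ j) ∈ Subgroup.centralizer (D : Set X) := by
  have hsec := qp_pstable_section p hp2 hsol hno D hDp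
  obtain ⟨D₁, hD₁n, hKD₁, ⟨k, hk⟩, haD₁⟩ := hsec a (by rw [hq]; exact bot_le)
  haveI : (Subgroup.map (QuotientGroup.mk' ((frattini ↥D).map D.subtype)) D).Normal :=
    hDn.map _ (QuotientGroup.mk'_surjective _)
  haveI hKn : (Cfsg.sectionKernel D ((frattini ↥D).map D.subtype)).Normal := by
    unfold Cfsg.sectionKernel
    exact (inferInstance : (Subgroup.centralizer _).Normal).comap _
  refine ⟨D₁, hD₁n, haD₁, ?_⟩
  intro d hd
  have h1 : d ^ (p ^ k) ∈ Cfsg.sectionKernel D ((frattini ↥D).map D.subtype) := by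
    rw [← hk]
    exact Subgroup.pow_relIndex_mem _ hd
  obtain ⟨j, hj⟩ := qp_burnside_pow p D hDp (d ^ (p ^ k)) (qp_sectionKernel_comm _ _ _ h1)
  refine ⟨k + j, ?_⟩
  rw [pow_add, pow_mul]
  exact hj

/-- sufficient condition for membership in `O_p` of a quotient -/
theorem psn_mem_pCore_quot_of {H : Type u} [Group H] (p : ℕ)
    (K : Subgroup H) [K.Normal] (h : H) (D : Subgroup H) (hDn : D.Normal)
    (hpow : ∀ d ∈ D, ∃ k : ℕ, d ^ (p ^ k) ∈ K) (hhD : h ∈ D) :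
    (QuotientGroup.mk h : H ⧸ K) ∈ Cfsg.pCore p (H ⧸ K) := by
  have hle : D.map (QuotientGroup.mk' K) ≤ Cfsg.pCore p (H ⧸ K) := by
    apply le_sSup
    refine ⟨hDn.map _ (QuotientGroup.mk'_surjective _), ?_⟩
    rintro ⟨y, hy⟩
    obtain ⟨d, hd, rfl⟩ := Subgroup.mem_map.1 hy
    obtain ⟨k, hk⟩ := hpow d hd
    refine ⟨k, Subtype.ext ?_⟩
    rw [Subgroup.coe_pow, Subgroup.coe_one, ← map_pow, QuotientGroup.mk'_apply,
      QuotientGroup.eq_one_iff]
    exact hk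
  exact hle (Subgroup.mem_map.2 ⟨h, hhD, rfl⟩)

/-- `p`-stability on a normal `p`-subgroup, quotient form. -/
theorem psn_stable_normal_mem (p : ℕ) [Fact p.Prime] (hp2 : p ≠ 2)
    (hsol : Cfsg.IsPSolvable p X)
    (hno : ¬ (p = 3 ∧ Cfsg.Involves (Matrix.SpecialLinearGroup (Fin 2) (ZMod 3)) X))
    (D : Subgroup X) [hDn : D.Normal] (hDp : IsPGroup p D) (a : X)
    (hq : ⁅⁅D, Subgroup.zpowers a⁆, Subgroup.zpowers a⁆ = ⊥) :
    (QuotientGroup.mk a : X ⧸ Subgroup.centralizer (D : Set X)) ∈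
      Cfsg.pCore p (X ⧸ Subgroup.centralizer (D : Set X)) := by
  obtain ⟨D₁, hD₁n, haD₁, hpow⟩ := psn_stable_normal p hp2 hsol hno D hDp a hq
  exact psn_mem_pCore_quot_of p _ a D₁ hD₁n hpow haD₁

/-- an abelian subgroup `B` normalised by `D` acts quadratically on `D` (when `D` is normal) -/
theorem psn_quadratic_of_abelian (D B : Subgroup X)
    (hB : ∀ x ∈ B, ∀ y ∈ B, x * y = y * x) (hDB : D ≤ Subgroup.normalizer (B : Set X))
    (b : X) (hb : b ∈ B) :
    ⁅⁅D, Subgroup.zpowers b⁆, Subgroup.zpowers b⁆ = ⊥ := by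
  rw [eq_bot_iff]
  have hzB : Subgroup.zpowers b ≤ B := by rw [Subgroup.zpowers_le]; exact hb
  have h1 : ⁅D, B⁆ ≤ B := by
    rw [Subgroup.commutator_le]
    intro x hx y hy
    rw [commutatorElement_def]
    exact Subgroup.mul_mem _ ((Subgroup.mem_normalizer_iff.1 (hDB hx) y).1 hy)
      (Subgroup.inv_mem _ hy)
  have h2 : ⁅B, B⁆ = ⊥ := by
    rw [eq_bot_iff, Subgroup.commutator_le]
    intro x hx y hy
    rw [Subgroup.mem_bot, commutatorElement_eq_one_iff_commute]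
    exact hB x hx y hy
  calc ⁅⁅D, Subgroup.zpowers b⁆, Subgroup.zpowers b⁆
      ≤ ⁅⁅D, B⁆, B⁆ := Subgroup.commutator_mono (Subgroup.commutator_mono le_rfl hzB) hzB
    _ ≤ ⁅B, B⁆ := Subgroup.commutator_mono h1 le_rfl
    _ = ⊥ := h2

end PSN

end Cfsg.Agent.Lib.Helper4
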