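import Cfsg.Agent.Lib.Helper4.PLength
import Cfsg.Agent.Lib.Helper4.PStabNormal
import Cfsg.Agent.Lib.Helper4.PStabQuot
import Cfsg.Agent.Lib.Helper4.HH123
import Cfsg.Agent.Lib.Helper4.QuadPairB
import Cfsg.Agent.Lib.Helper3.SolvPSolv
import Cfsg.Agent.Lib.Helper3.PComp
import Cfsg.Agent.S0144

/-! Groups of exponent dividing `6` have `2`-length and `3`-length at most one. -/

namespace Cfsg.Agent.Lib.Helper4

open scoped commutatorElement

section Exp6

universe u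

/-- `p`-length one criterion: every `p`-element of `G / O_{p'}(G)` lies in `O_p`. -/
theorem plength_one_of_pelements {G : Type u} [Group G] [Finite G] (p : ℕ) [Fact p.Prime]
    (h : ∀ x : G ⧸ Cfsg.pPrimeCore p G, (∃ k : ℕ, x ^ (p ^ k) = 1) →
      x ∈ Cfsg.pCore p (G ⧸ Cfsg.pPrimeCore p G)) :
    Cfsg.PLengthLE p 1 G := by
  classical
  have hidx : ((Cfsg.pPrimePCore p G).index).Coprime p := by
    obtain ⟨P⟩ : Nonempty (Sylow p (G ⧸ Cfsg.pPrimeCore p G)) := inferInstance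
    have hPle : (P : Subgroup (G ⧸ Cfsg.pPrimeCore p G)) ≤
        Cfsg.pCore p (G ⧸ Cfsg.pPrimeCore p G) := by
      intro x hx
      apply h
      obtain ⟨k, hk⟩ := P.2 ⟨x, hx⟩
      exact ⟨k, by simpa using congrArg Subtype.val hk⟩
    have heq : Cfsg.pCore p (G ⧸ Cfsg.pPrimeCore p G) = (P : Subgroup _) :=
      le_antisymm (pCore_le_sylow P) hPle
    unfold Cfsg.pPrimePCore
    rw [Subgroup.index_comap_of_surjective _ (QuotientGroup.mk'_surjective _), heq]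
    exact ((Nat.Prime.coprime_iff_not_dvd Fact.out).2 P.not_dvd_index).symm
  obtain ⟨V, hV⟩ : ∃ V : ℕ → Subgroup G, V = fun n => if n = 0 then ⊥ else
      if n = 1 then Cfsg.pPrimeCore p G else if n = 2 then Cfsg.pPrimePCore p G else ⊤ := ⟨_, rfl⟩
  have hV0 : V 0 = ⊥ := by rw [hV]; simp
  have hV1 : V 1 = Cfsg.pPrimeCore p G := by rw [hV]; simp
  have hV2 : V 2 = Cfsg.pPrimePCore p G := by rw [hV]; simp
  have hV3 : ∀ n, 3 ≤ n → V n = ⊤ := by
    intro n hn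
    rw [hV]
    simp [show n ≠ 0 by omega, show n ≠ 1 by omega, show n ≠ 2 by omega]
  have hle := le_ups_of_chain p V hV0 ?_ ?_ ?_ 3
  · unfold Cfsg.PLengthLE
    rw [eq_top_iff, ← hV3 3 le_rfl]
    exact hle
  · intro n
    rcases Nat.lt_or_ge n 3 with h3 | h3
    · interval_cases n
      · rw [hV0]; infer_instance
      · rw [hV1]; infer_instance
      · rw [hV2]; unfold Cfsg.pPrimePCore; infer_instance
    · rw [hV3 n h3]; infer_instance
  · intro n he
    rcases Nat.lt_or_ge n 3 with h3 | h3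
    · interval_cases n
      · rw [hV0, hV1, Subgroup.relIndex_bot_left]
        exact Cfsg.Agent.Lib.Helper1.pPrimeCore_coprime p
      · exact absurd he (by decide)
      · rw [hV2, hV3 3 le_rfl, Subgroup.relIndex_top_right]
        exact hidx
    · rw [hV3 n h3, hV3 (n + 1) (by omega), Subgroup.relIndex_top_right, Subgroup.index_top]
      exact Nat.coprime_one_left _
  · intro n he
    rcases Nat.lt_or_ge n 3 with h3 | h3
    · interval_cases n
      · exact absurd (by decide) he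
      · rw [hV1, hV2]
        unfold Cfsg.pPrimePCore
        rw [relIndex_comap_mk]
        exact (pCore_isPGroup (p := p) (G := G ⧸ Cfsg.pPrimeCore p G)).exists_card_eq
      · exact absurd (by decide) he
    · refine ⟨0, ?_⟩
      rw [hV3 n h3, hV3 (n + 1) (by omega), Subgroup.relIndex_top_right, Subgroup.index_top,
        pow_zero]

theorem exp6_zpowers_pgroup {X : Type u} [Group X] (p : ℕ) (x : X)
    (hx : ∃ k : ℕ, x ^ (p ^ k) = 1) : IsPGroup p (Subgroup.zpowers x) := by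
  obtain ⟨k, hk⟩ := hx
  rintro ⟨y, hy⟩
  obtain ⟨n, rfl⟩ := Subgroup.mem_zpowers_iff.1 hy
  refine ⟨k, Subtype.ext ?_⟩
  rw [Subgroup.coe_pow, Subgroup.coe_one]
  show (x ^ n) ^ (p ^ k) = 1
  rw [← zpow_natCast, ← zpow_mul, mul_comm, zpow_mul, zpow_natCast, hk, one_zpow]

/-- `2`-elements lie in `O_2` -/
theorem exp6_two {X : Type u} [Group X] [Finite X] (h6 : ∀ x : X, x ^ 6 = 1)
    (hc : Subgroup.centralizer (Cfsg.pCore 2 X : Set X) ≤ Cfsg.pCore 2 X)
    (x : X) (hx : ∃ k : ℕ, x ^ (2 ^ k) = 1) : x ∈ Cfsg.pCore 2 X := by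
  haveI : Fact (Nat.Prime 2) := ⟨Nat.prime_two⟩
  have hsq : ∀ y : X, (∃ k : ℕ, y ^ (2 ^ k) = 1) → y ^ 2 = 1 := by
    rintro y ⟨k, hk⟩
    have h1 : orderOf y ∣ 2 ^ k := orderOf_dvd_of_pow_eq_one hk
    have h2 : orderOf y ∣ 2 * 3 := orderOf_dvd_of_pow_eq_one (h6 y)
    have h3 : Nat.Coprime (orderOf y) 3 :=
      Nat.Coprime.coprime_dvd_left h1 (Nat.Coprime.pow_left k (by norm_num))
    have h4 : orderOf y ∣ 2 := h3.dvd_of_dvd_mul_right h2
    exact orderOf_dvd_iff_pow_eq_one.1 h4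
  have hV : IsPGroup 2 (Cfsg.pCore 2 X) := pCore_isPGroup
  have hZ : IsPGroup 2 (Subgroup.zpowers x) := exp6_zpowers_pgroup 2 x hx
  have hsup : IsPGroup 2 ↥(Cfsg.pCore 2 X ⊔ Subgroup.zpowers x : Subgroup X) :=
    hV.to_sup_of_normal_left hZ
  apply hc
  rw [Subgroup.mem_centralizer_iff]
  intro v hv
  have hvx : (v * x) ^ 2 = 1 := by
    apply hsq
    have hmem : v * x ∈ Cfsg.pCore 2 X ⊔ Subgroup.zpowers x :=
      Subgroup.mul_mem_sup hv (Subgroup.mem_zpowers x)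
    obtain ⟨k, hk⟩ := hsup ⟨_, hmem⟩
    exact ⟨k, by simpa using congrArg Subtype.val hk⟩
  have hv2 : v ^ 2 = 1 := by
    apply hsq
    obtain ⟨k, hk⟩ := hV ⟨v, hv⟩
    exact ⟨k, by simpa using congrArg Subtype.val hk⟩
  have hx2 : x ^ 2 = 1 := hsq x hx
  rw [pow_two] at hvx hv2 hx2
  have hxi : x⁻¹ = x := inv_eq_of_mul_eq_one_left hx2
  have hvi : v⁻¹ = v := inv_eq_of_mul_eq_one_left hv2
  have h7 : v * x = (v * x)⁻¹ := (inv_eq_of_mul_eq_one_left hvx).symm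
  rw [mul_inv_rev, hxi, hvi] at h7
  exact h7

/-- in a group of exponent three, conjugates commute -/
theorem exp3_conj_comm {X : Type*} [Group X] (t a : X) (ht : t ^ 3 = 1)
    (h1 : (t * a) ^ 3 = 1) (h2 : (t⁻¹ * a) ^ 3 = 1) :
    a * (t * a * t⁻¹) = (t * a * t⁻¹) * a := by
  have ht' : t * t * t = 1 := by rw [← ht, pow_succ, pow_two]
  have h1' : t * a * (t * a) * (t * a) = 1 := by rw [← h1, pow_succ, pow_two]
  have h2' : t⁻¹ * a * (t⁻¹ * a) * (t⁻¹ * a) = 1 := by rw [← h2, pow_succ, pow_two]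
  have ht2 : t⁻¹ * t⁻¹ = t := by
    calc t⁻¹ * t⁻¹ = t⁻¹ * t⁻¹ * (t * t * t) := by rw [ht', mul_one]
      _ = t := by group
  have ht3 : t * t = t⁻¹ := by
    calc t * t = t⁻¹ * (t * t * t) := by group
      _ = t⁻¹ := by rw [ht', mul_one]
  have hA : (t * a * t⁻¹) * (t⁻¹ * a * t) * a = 1 := by
    calc (t * a * t⁻¹) * (t⁻¹ * a * t) * a = t * a * (t⁻¹ * t⁻¹) * a * t * a := by group
      _ = t * a * t * a * t * a := by rw [ht2]
      _ = t * a * (t * a) * (t * a) := by group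
      _ = 1 := h1'
  have hB : (t⁻¹ * a * t) * (t * a * t⁻¹) * a = 1 := by
    calc (t⁻¹ * a * t) * (t * a * t⁻¹) * a = t⁻¹ * a * (t * t) * a * t⁻¹ * a := by group
      _ = t⁻¹ * a * t⁻¹ * a * t⁻¹ * a := by rw [ht3]
      _ = t⁻¹ * a * (t⁻¹ * a) * (t⁻¹ * a) := by group
      _ = 1 := h2'
  obtain ⟨b, hb⟩ : ∃ b, b = t * a * t⁻¹ := ⟨_, rfl⟩
  obtain ⟨c, hcd⟩ : ∃ c, c = t⁻¹ * a * t := ⟨_, rfl⟩
  rw [← hb, ← hcd] at hA hB
  rw [← hb]
  have h3 : b * c = c * b := by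
    rw [eq_inv_of_mul_eq_one_left hA, eq_inv_of_mul_eq_one_left hB]
  have hcomm : Commute b (b * c) := (Commute.refl b).mul_right h3
  have h4 : Commute b a := by
    rw [← inv_eq_of_mul_eq_one_right hA]
    exact hcomm.inv_right
  exact h4.eq.symm

/-- `3`-elements lie in `O_3` -/
theorem exp6_three {X : Type u} [Group X] [Finite X] (h6 : ∀ x : X, x ^ 6 = 1)
    (hsol : Cfsg.IsPSolvable 3 X)
    (hc : Subgroup.centralizer (Cfsg.pCore 3 X : Set X) ≤ Cfsg.pCore 3 X)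
    (x : X) (hx : ∃ k : ℕ, x ^ (3 ^ k) = 1) : x ∈ Cfsg.pCore 3 X := by
  haveI : Fact (Nat.Prime 3) := ⟨Nat.prime_three⟩
  have hcube : ∀ y : X, (∃ k : ℕ, y ^ (3 ^ k) = 1) → y ^ 3 = 1 := by
    rintro y ⟨k, hk⟩
    have h1 : orderOf y ∣ 3 ^ k := orderOf_dvd_of_pow_eq_one hk
    have h2 : orderOf y ∣ 3 * 2 := orderOf_dvd_of_pow_eq_one (h6 y)
    have h3 : Nat.Coprime (orderOf y) 2 :=
      Nat.Coprime.coprime_dvd_left h1 (Nat.Coprime.pow_left k (by norm_num))
    have h4 : orderOf y ∣ 3 := h3.dvd_of_dvd_mul_right h2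
    exact orderOf_dvd_iff_pow_eq_one.1 h4
  have hno : ¬ ((3 : ℕ) = 3 ∧ Cfsg.Involves (Matrix.SpecialLinearGroup (Fin 2) (ZMod 3)) X) := by
    rintro ⟨-, hinv⟩
    obtain ⟨y, hy⟩ := qp_order4_of_involves hinv
    have h1 : orderOf y ∣ 6 := orderOf_dvd_of_pow_eq_one (h6 y)
    rw [hy] at h1
    omega
  have hV : IsPGroup 3 (Cfsg.pCore 3 X) := pCore_isPGroup
  have hZ : IsPGroup 3 (Subgroup.zpowers x) := exp6_zpowers_pgroup 3 x hx
  have hsup : IsPGroup 3 ↥(Cfsg.pCore 3 X ⊔ Subgroup.zpowers x : Subgroup X) :=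
    hV.to_sup_of_normal_left hZ
  have hcubesup : ∀ y ∈ Cfsg.pCore 3 X ⊔ Subgroup.zpowers x, y ^ 3 = 1 := by
    intro y hy
    apply hcube
    obtain ⟨k, hk⟩ := hsup ⟨y, hy⟩
    exact ⟨k, by simpa using congrArg Subtype.val hk⟩
  have hcomm : ∀ v ∈ Cfsg.pCore 3 X, x * (v * x * v⁻¹) = (v * x * v⁻¹) * x := by
    intro v hv
    have hvs : v ∈ Cfsg.pCore 3 X ⊔ Subgroup.zpowers x := Subgroup.mem_sup_left hv
    have hxs : x ∈ Cfsg.pCore 3 X ⊔ Subgroup.zpowers x :=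
      Subgroup.mem_sup_right (Subgroup.mem_zpowers x)
    apply exp3_conj_comm v x
    · exact hcubesup v hvs
    · exact hcubesup _ (Subgroup.mul_mem _ hvs hxs)
    · exact hcubesup _ (Subgroup.mul_mem _ (Subgroup.inv_mem _ hvs) hxs)
  have hle : ⁅Cfsg.pCore 3 X, Subgroup.zpowers x⁆ ≤
      Subgroup.centralizer (Subgroup.zpowers x : Set X) := by
    rw [Subgroup.commutator_le]
    intro v hv y hy
    rw [Subgroup.mem_centralizer_iff]
    intro z hz
    obtain ⟨i, rfl⟩ := Subgroup.mem_zpowers_iff.1 hy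
    obtain ⟨j, rfl⟩ := Subgroup.mem_zpowers_iff.1 hz
    have hc1 : Commute x (v * x * v⁻¹) := hcomm v hv
    have hc2 : Commute (x ^ j) ((v * x * v⁻¹) ^ i) := hc1.zpow_zpow j i
    have hc3 : Commute (x ^ j) ((x ^ i)⁻¹) := ((Commute.refl x).zpow_zpow j i).inv_right
    have hc4 := hc2.mul_right hc3
    rw [conj_zpow] at hc4
    rw [commutatorElement_def]
    exact hc4.eq
  have hq : ⁅⁅Cfsg.pCore 3 X, Subgroup.zpowers x⁆, Subgroup.zpowers x⁆ = ⊥ := by
    rw [eq_bot_iff, Subgroup.commutator_le]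
    intro w hw z hz
    rw [Subgroup.mem_bot, commutatorElement_eq_one_iff_commute]
    exact ((Subgroup.mem_centralizer_iff.1 (hle hw)) z hz).symm
  have hmem := psn_stable_normal_mem 3 (by norm_num) hsol hno (Cfsg.pCore 3 X) hV x hq
  rw [psq_mem_pCore_quot_iff] at hmem
  obtain ⟨D, hDn, hCD, hDpow, hxD⟩ := hmem
  have hDp : IsPGroup 3 D := by
    rintro ⟨d, hd⟩
    obtain ⟨k, hk⟩ := hDpow d hd
    obtain ⟨m, hm⟩ := hV ⟨_, hc hk⟩
    refine ⟨k + m, Subtype.ext ?_⟩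
    have h1 := congrArg Subtype.val hm
    simp only [Subgroup.coe_pow, Subgroup.coe_one] at h1 ⊢
    rw [pow_add, pow_mul]
    exact h1
  exact (le_sSup ⟨hDn, hDp⟩ : D ≤ Cfsg.pCore 3 X) hxD

theorem exp6_plength {G : Type u} [Group G] [Finite G] (h : ∀ x : G, x ^ 6 = 1) :
    Cfsg.PLengthLE 2 1 G ∧ Cfsg.PLengthLE 3 1 G := by
  haveI : Fact (Nat.Prime 2) := ⟨Nat.prime_two⟩
  haveI : Fact (Nat.Prime 3) := ⟨Nat.prime_three⟩
  have hn0 : Nat.card G ≠ 0 := Nat.card_pos.ne'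
  have hsub : (Nat.card G).primeFactors ⊆ ({2, 3} : Finset ℕ) := by
    intro q hq
    have hqp : q.Prime := Nat.prime_of_mem_primeFactors hq
    have hqd : q ∣ Nat.card G := Nat.dvd_of_mem_primeFactors hq
    haveI : Fact q.Prime := ⟨hqp⟩
    obtain ⟨g, hg⟩ := exists_prime_orderOf_dvd_card' q hqd
    have h1 : q ∣ 2 * 3 := hg ▸ orderOf_dvd_of_pow_eq_one (h g)
    simp only [Finset.mem_insert, Finset.mem_singleton]
    rcases (Nat.Prime.dvd_mul hqp).1 h1 with h2 | h3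
    · left; exact (Nat.prime_dvd_prime_iff_eq hqp Nat.prime_two).1 h2
    · right; exact (Nat.prime_dvd_prime_iff_eq hqp Nat.prime_three).1 h3
  have hcard : Nat.card G =
      2 ^ (Nat.card G).factorization 2 * 3 ^ (Nat.card G).factorization 3 := by
    conv_lhs => rw [← Nat.prod_factorization_pow_eq_self hn0]
    have h5 : (Nat.card G).factorization.prod (· ^ ·) =
        ∏ q ∈ (Nat.card G).primeFactors, q ^ (Nat.card G).factorization q := by
      rw [Finsupp.prod, Nat.support_factorization]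
    rw [h5, Finset.prod_subset hsub (fun q _ hq => by
      rw [Finsupp.notMem_support_iff.1 (by rw [Nat.support_factorization]; exact hq), pow_zero])]
    rw [Finset.prod_pair (by norm_num)]
  haveI hsolv : Group.IsSolvable G :=
    Cfsg.Agent.S0144.result 2 3 _ _ Nat.prime_two Nat.prime_three hcard
  constructor
  · apply plength_one_of_pelements 2
    intro x hx
    have h6 : ∀ y : G ⧸ Cfsg.pPrimeCore 2 G, y ^ 6 = 1 := by
      intro y
      obtain ⟨g, rfl⟩ := QuotientGroup.mk_surjective y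
      rw [← QuotientGroup.mk_pow, h g]
      rfl
    have hps : Cfsg.IsPSolvable 2 (G ⧸ Cfsg.pPrimeCore 2 G) :=
      Cfsg.Agent.Lib.Helper3.isPSolvable_of_isSolvable 2 _ _ rfl inferInstance
    have hc := Cfsg.Agent.Lib.Helper4.centralizer_pCore_le_of_psolvable hps
      (Cfsg.Agent.Lib.Helper3.pPrimeCore_quotient_eq_bot 2)
    exact exp6_two h6 hc x hx
  · apply plength_one_of_pelements 3
    intro x hx
    have h6 : ∀ y : G ⧸ Cfsg.pPrimeCore 3 G, y ^ 6 = 1 := by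
      intro y
      obtain ⟨g, rfl⟩ := QuotientGroup.mk_surjective y
      rw [← QuotientGroup.mk_pow, h g]
      rfl
    have hps : Cfsg.IsPSolvable 3 (G ⧸ Cfsg.pPrimeCore 3 G) :=
      Cfsg.Agent.Lib.Helper3.isPSolvable_of_isSolvable 3 _ _ rfl inferInstance
    have hc := Cfsg.Agent.Lib.Helper4.centralizer_pCore_le_of_psolvable hps
      (Cfsg.Agent.Lib.Helper3.pPrimeCore_quotient_eq_bot 3)
    exact exp6_three h6 hps hc x hx

end Exp6

end Cfsg.Agent.Lib.Helper4
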