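import Mathlib

set_option autoImplicit false

namespace Cfsg.Agent.Lib.Helper4

section
variable {G F V : Type*} [Group G] [Field F] [AddCommGroup V] [Module F V]

/-- The action induced on the quotient by an invariant submodule. -/
def quotMulAction (ρ : G →* Module.End F V) (W : Submodule F V)
    (hW : ∀ g, W ≤ W.comap (ρ g)) : MulAction G (V ⧸ W) where
  smul g q := W.mapQ W (ρ g) (hW g) q
  one_smul q := by
    obtain ⟨v, rfl⟩ := W.mkQ_surjective q
    show W.mapQ W (ρ 1) (hW 1) (W.mkQ v) = W.mkQ v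
    simp
  mul_smul g h q := by
    obtain ⟨v, rfl⟩ := W.mkQ_surjective q
    show W.mapQ W (ρ (g * h)) (hW (g * h)) (W.mkQ v) =
      W.mapQ W (ρ g) (hW g) (W.mapQ W (ρ h) (hW h) (W.mkQ v))
    simp

theorem exists_fixed_mod [Finite V] (p : ℕ) [Fact p.Prime] [CharP F p]
    (hG : IsPGroup p G) (ρ : G →* Module.End F V) (W : Submodule F V)
    (hW : ∀ g, W ≤ W.comap (ρ g)) (hWtop : W ≠ ⊤) :
    ∃ v, v ∉ W ∧ ∀ g, ρ g v - v ∈ W := by
  letI := quotMulAction ρ W hW
  have hsmul : ∀ (g : G) (q : V ⧸ W), g • q = W.mapQ W (ρ g) (hW g) q := fun _ _ => rfl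
  have hp : p.Prime := Fact.out
  have hfin : Finite (V ⧸ W) := Finite.of_surjective _ W.mkQ_surjective
  have hdvd : p ∣ Nat.card (V ⧸ W) := by
    -- a nonzero element of additive order p
    obtain ⟨v, -, hv⟩ := SetLike.exists_of_lt (lt_top_iff_ne_top.2 hWtop)
    have hx : (W.mkQ v) ≠ 0 := by
      intro h0
      exact hv ((Submodule.Quotient.mk_eq_zero W).1 h0)
    have hpx : p • (W.mkQ v) = 0 := by
      have : (p : F) • (W.mkQ v) = 0 := by rw [CharP.cast_eq_zero, zero_smul]
      rwa [Nat.cast_smul_eq_nsmul] at this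
    have hord : addOrderOf (W.mkQ v) = p := by
      have h1 := addOrderOf_dvd_of_nsmul_eq_zero hpx
      rcases (Nat.dvd_prime hp).1 h1 with h | h
      · exfalso
        exact hx (AddMonoid.addOrderOf_eq_one_iff.1 h)
      · exact h
    rw [← hord]
    exact addOrderOf_dvd_natCard _
  have h0 : (0 : V ⧸ W) ∈ MulAction.fixedPoints G (V ⧸ W) := by
    intro g
    rw [hsmul]
    simp
  obtain ⟨b, hb, hne⟩ := hG.exists_fixed_point_of_prime_dvd_card_of_fixed_point (V ⧸ W) hdvd h0
  obtain ⟨v, rfl⟩ := W.mkQ_surjective b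
  refine ⟨v, ?_, ?_⟩
  · intro hv
    apply hne
    symm
    exact (Submodule.Quotient.mk_eq_zero W).2 hv
  · intro g
    have := hb g
    rw [hsmul] at this
    have h2 : Submodule.Quotient.mk (p := W) (ρ g v) = Submodule.Quotient.mk v := this
    exact (Submodule.Quotient.eq W).1 h2

end

end Cfsg.Agent.Lib.Helper4

namespace Cfsg.Agent.Lib.Helper4

section
variable {S F V : Type*} [Group S] [Field F] [AddCommGroup V] [Module F V]

/-- The ascending series of iterated fixed points of the subgroup `U` acting through `ρ`. -/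
def fixSeries (ρ : S →* Module.End F V) (U : Subgroup S) : ℕ → Submodule F V
  | 0 => ⊥
  | (i + 1) => ⨅ u : U, (fixSeries ρ U i).comap (ρ (u : S) - 1)

theorem fixSeries_zero (ρ : S →* Module.End F V) (U : Subgroup S) : fixSeries ρ U 0 = ⊥ := rfl

theorem mem_fixSeries_succ (ρ : S →* Module.End F V) (U : Subgroup S) (i : ℕ) (v : V) :
    v ∈ fixSeries ρ U (i + 1) ↔ ∀ u ∈ U, ρ u v - v ∈ fixSeries ρ U i := by
  show v ∈ ⨅ u : U, (fixSeries ρ U i).comap (ρ (u : S) - 1) ↔ _
  rw [Submodule.mem_iInf]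
  constructor
  · intro h u hu
    have := h ⟨u, hu⟩
    simpa using this
  · intro h u
    have := h u.1 u.2
    simpa using this

theorem fixSeries_le_succ (ρ : S →* Module.End F V) (U : Subgroup S) (i : ℕ) :
    fixSeries ρ U i ≤ fixSeries ρ U (i + 1) := by
  induction i with
  | zero => rw [fixSeries_zero]; exact bot_le
  | succ i ih =>
    intro v hv
    rw [mem_fixSeries_succ] at hv ⊢
    intro u hu
    exact ih (hv u hu)

theorem fixSeries_map_le (ρ : S →* Module.End F V) (U : Subgroup S) (g : S)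
    (hg : g ∈ Subgroup.normalizer (U : Set S)) (i : ℕ) :
    (fixSeries ρ U i).map (ρ g) ≤ fixSeries ρ U i := by
  induction i with
  | zero => rw [fixSeries_zero, Submodule.map_bot]
  | succ i ih =>
    rintro w ⟨v, hv, rfl⟩
    have hv' := (mem_fixSeries_succ ρ U i v).1 hv
    rw [mem_fixSeries_succ]
    intro u hu
    -- ρ u (ρ g v) - ρ g v = ρ g (ρ (g⁻¹ u g) v - v)
    have hu' : g⁻¹ * u * g ∈ U := by
      have := (Subgroup.mem_normalizer_iff.1 hg (g⁻¹ * u * g))
      rw [this]
      simpa [mul_assoc] using hu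
    have h1 := hv' _ hu'
    have h2 : ρ u (ρ g v) - ρ g v = ρ g (ρ (g⁻¹ * u * g) v - v) := by
      rw [map_sub]
      congr 1
      rw [← Module.End.mul_apply, ← Module.End.mul_apply, ← map_mul, ← map_mul]
      congr 2
      group
    rw [h2]
    exact ih ⟨_, h1, rfl⟩

theorem fixSeries_map_eq (ρ : S →* Module.End F V) (U : Subgroup S) (g : S)
    (hg : g ∈ Subgroup.normalizer (U : Set S)) (i : ℕ) :
    (fixSeries ρ U i).map (ρ g) = fixSeries ρ U i := by
  apply le_antisymm (fixSeries_map_le ρ U g hg i)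
  have hg' : g⁻¹ ∈ Subgroup.normalizer (U : Set S) := inv_mem hg
  have h := fixSeries_map_le ρ U g⁻¹ hg' i
  intro v hv
  refine ⟨ρ g⁻¹ v, h ⟨v, hv, rfl⟩, ?_⟩
  rw [← Module.End.mul_apply, ← map_mul, mul_inv_cancel, map_one, Module.End.one_apply]

theorem fixSeries_lt_succ [Finite V] (p : ℕ) [Fact p.Prime] [CharP F p]
    (ρ : S →* Module.End F V) (U : Subgroup S) (hU : IsPGroup p U) (i : ℕ)
    (h : fixSeries ρ U i ≠ ⊤) : fixSeries ρ U i < fixSeries ρ U (i + 1) := by
  have hinv : ∀ u : U, fixSeries ρ U i ≤ (fixSeries ρ U i).comap ((ρ.comp U.subtype) u) := by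
    intro u v hv
    have hun : (u : S) ∈ Subgroup.normalizer (U : Set S) := Subgroup.le_normalizer u.2
    exact fixSeries_map_le ρ U u hun i ⟨v, hv, rfl⟩
  obtain ⟨v, hv, hfix⟩ := exists_fixed_mod p hU (ρ.comp U.subtype) (fixSeries ρ U i) hinv h
  apply lt_of_le_of_ne (fixSeries_le_succ ρ U i)
  intro heq
  apply hv
  rw [heq, mem_fixSeries_succ]
  intro u hu
  exact hfix ⟨u, hu⟩

theorem fixSeries_eventually_top [Finite V] (p : ℕ) [Fact p.Prime] [CharP F p]
    (ρ : S →* Module.End F V) (U : Subgroup S) (hU : IsPGroup p U) :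
    ∃ m, fixSeries ρ U m = ⊤ := by
  by_contra hne
  push Not at hne
  have hmono : StrictMono (fixSeries ρ U) :=
    strictMono_nat_of_lt_succ (fun i => fixSeries_lt_succ p ρ U hU i (hne i))
  have : Finite (Submodule F V) := Finite.of_injective (fun W => (W : Set V)) SetLike.coe_injective
  exact not_injective_infinite_finite _ hmono.injective

theorem exists_flag [Finite V] (p : ℕ) [Fact p.Prime] [CharP F p]
    (ρ : S →* Module.End F V) (U : Subgroup S) (hU : IsPGroup p U)
    (hfaith : ∃ u ∈ U, ρ u ≠ 1) :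
    ∃ (k : ℕ) (W : Fin (k + 2) → Submodule F V), 1 ≤ k ∧ StrictMono W ∧ W 0 = ⊥ ∧
      W (Fin.last (k + 1)) = ⊤ ∧
      (∀ g ∈ Subgroup.normalizer (U : Set S), ∀ i, (W i).map (ρ g) = W i) ∧
      (∀ u ∈ U, ∀ i : Fin (k + 1), ∀ v ∈ W i.succ, ρ u v - v ∈ W (Fin.castSucc i)) := by
  classical
  obtain ⟨u₀, hu₀, hρu₀⟩ := hfaith
  have hex := fixSeries_eventually_top p ρ U hU
  set m := Nat.find hex with hm
  have hmtop : fixSeries ρ U m = ⊤ := Nat.find_spec hex
  have hlt : ∀ i < m, fixSeries ρ U i ≠ ⊤ := fun i hi => Nat.find_min hex hi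
  have hm0 : m ≠ 0 := by
    intro h0
    rw [h0, fixSeries_zero] at hmtop
    apply hρu₀
    ext v
    have hv : v ∈ (⊥ : Submodule F V) := by rw [hmtop]; trivial
    rw [Submodule.mem_bot] at hv
    rw [hv]; simp
  have hm1 : m ≠ 1 := by
    intro h1
    rw [h1] at hmtop
    apply hρu₀
    ext v
    have hv : v ∈ fixSeries ρ U (0 + 1) := by rw [hmtop]; trivial
    rw [mem_fixSeries_succ, fixSeries_zero] at hv
    have := hv u₀ hu₀
    rw [Submodule.mem_bot, sub_eq_zero] at this
    rw [this]; simp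
  obtain ⟨k, hk⟩ : ∃ k, m = k + 1 := ⟨m - 1, by omega⟩
  have hk1 : 1 ≤ k := by omega
  refine ⟨k, fun i => fixSeries ρ U i.val, hk1, ?_, ?_, ?_, ?_, ?_⟩
  · rw [Fin.strictMono_iff_lt_succ]
    intro i
    have hi : (Fin.castSucc i).val < m := by
      rw [Fin.val_castSucc]; omega
    have := fixSeries_lt_succ p ρ U hU _ (hlt _ hi)
    simpa using this
  · simp [fixSeries_zero]
  · simp only [Fin.val_last]
    rw [← hk]; exact hmtop
  · intro g hg i
    exact fixSeries_map_eq ρ U g hg _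
  · intro u hu i v hv
    simp only [Fin.val_succ] at hv
    rw [mem_fixSeries_succ] at hv
    simpa using hv u hu

end

end Cfsg.Agent.Lib.Helper4
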