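import Mathlib

/-! Fixed-point-free actions on commutative groups: norm computations. -/

namespace Cfsg.Agent.Lib.Helper4

section Abstract

variable {H V : Type*} [Group H] [CommGroup V] (θ : H →* MulAut V)

/-- The norm of `v` over a subgroup `Q` containing an element acting without fixed points. -/
theorem fpf_norm_eq_one (Q : Subgroup H) [Fintype Q] (c : H) (hcQ : c ∈ Q)
    (hc : ∀ v : V, θ c v = v → v = 1) (v : V) : ∏ z : Q, θ (z : H) v = 1 := by
  apply hc
  rw [map_prod]
  have h1 : ∀ z : Q, θ c (θ (z : H) v) = θ (((⟨c, hcQ⟩ : Q) * z : Q) : H) v := by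
    intro z
    rw [Subgroup.coe_mul, map_mul, MulAut.mul_apply]
  simp_rw [h1]
  exact Fintype.prod_equiv (Equiv.mulLeft (⟨c, hcQ⟩ : Q)) _ _ (fun z => rfl)

variable [Finite H]

theorem fpf_pq_pow (hfpf : ∀ h : H, h ≠ 1 → ∀ v : V, θ h v = v → v = 1)
    (p q : ℕ) (hp : p.Prime) (hq : q.Prime) (hlt : p < q) (hcard : Nat.card H = p * q)
    (hnc : ¬ IsMulCommutative H) (v : V) : v ^ q = 1 := by
  classical
  haveI : Fact p.Prime := ⟨hp⟩
  haveI : Fact q.Prime := ⟨hq⟩
  have hpq : p ≠ q := hlt.ne
  have hH0 : Nat.card H ≠ 0 := Nat.card_pos.ne'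
  -- Sylow subgroups
  have hfq : (Nat.card H).factorization q = 1 := by
    rw [hcard, Nat.factorization_mul hp.ne_zero hq.ne_zero, Finsupp.add_apply,
      hq.factorization_self, Nat.factorization_eq_zero_of_not_dvd, zero_add]
    intro hd
    exact hpq ((Nat.prime_dvd_prime_iff_eq hq hp).1 hd).symm
  have hfp : (Nat.card H).factorization p = 1 := by
    rw [hcard, Nat.factorization_mul hp.ne_zero hq.ne_zero, Finsupp.add_apply,
      hp.factorization_self, Nat.factorization_eq_zero_of_not_dvd, add_zero]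
    intro hd
    exact hpq ((Nat.prime_dvd_prime_iff_eq hp hq).1 hd)
  obtain ⟨Qs⟩ : Nonempty (Sylow q H) := inferInstance
  obtain ⟨Bs⟩ : Nonempty (Sylow p H) := inferInstance
  have hcardQ : Nat.card (Qs : Subgroup H) = q := by
    rw [Qs.card_eq_multiplicity, hfq, pow_one]
  have hcardB : Nat.card (Bs : Subgroup H) = p := by
    rw [Bs.card_eq_multiplicity, hfp, pow_one]
  -- Q is normal
  have hQn : (Qs : Subgroup H).Normal := by
    have h1 : Nat.card (Sylow q H) ∣ p := by
      have := Qs.card_dvd_index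
      have hidx : (Qs : Subgroup H).index = p := by
        have := (Qs : Subgroup H).card_mul_index
        rw [hcardQ, hcard, mul_comm] at this
        exact Nat.eq_of_mul_eq_mul_right hq.pos this
      rwa [hidx] at this
    have h2 : Nat.card (Sylow q H) ≡ 1 [MOD q] := card_sylow_modEq_one q H
    have h3 : Nat.card (Sylow q H) = 1 := by
      rcases (Nat.dvd_prime hp).1 h1 with h | h
      · exact h
      · exfalso
        rw [h] at h2
        have : p % q = 1 % q := h2
        rw [Nat.mod_eq_of_lt hlt, Nat.mod_eq_of_lt hq.one_lt] at this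
        exact hp.one_lt.ne' this
    haveI : Subsingleton (Sylow q H) := (Nat.card_eq_one_iff_unique.1 h3).1
    exact Sylow.normal_of_subsingleton Qs
  set Q : Subgroup H := (Qs : Subgroup H) with hQ
  set B : Subgroup H := (Bs : Subgroup H) with hB
  haveI : Fintype Q := Fintype.ofFinite _
  haveI : Fintype B := Fintype.ofFinite _
  have hQne : ∃ c ∈ Q, c ≠ 1 := by
    have : Nontrivial Q := by
      rw [← Finite.one_lt_card_iff_nontrivial, hcardQ]; exact hq.one_lt
    obtain ⟨c, hc⟩ := exists_ne (1 : Q)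
    exact ⟨c, c.2, fun h => hc (Subtype.ext h)⟩
  have hBne : ∃ c ∈ B, c ≠ 1 := by
    have : Nontrivial B := by
      rw [← Finite.one_lt_card_iff_nontrivial, hcardB]; exact hp.one_lt
    obtain ⟨c, hc⟩ := exists_ne (1 : B)
    exact ⟨c, c.2, fun h => hc (Subtype.ext h)⟩
  obtain ⟨cQ, hcQ, hcQ1⟩ := hQne
  obtain ⟨cB, hcB, hcB1⟩ := hBne
  have normQ : ∀ w : V, ∏ z : Q, θ (z : H) w = 1 :=
    fpf_norm_eq_one θ Q cQ hcQ (hfpf cQ hcQ1)
  have normB : ∀ w : V, ∏ z : B, θ (z : H) w = 1 :=
    fpf_norm_eq_one θ B cB hcB (hfpf cB hcB1)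
  -- no nonidentity element of B commutes with a nonidentity element of Q
  have hnocomm : ∀ b ∈ B, b ≠ 1 → ∀ t ∈ Q, t * b = b * t → t = 1 := by
    intro b hb hb1 t ht htb
    by_contra ht1
    apply hnc
    -- b is central
    have hQcent : Q ≤ Subgroup.centralizer ({b} : Set H) := by
      intro y hy
      have hz : (⟨y, hy⟩ : Q) ∈ Subgroup.zpowers (⟨t, ht⟩ : Q) :=
        mem_zpowers_of_prime_card hcardQ (fun h => ht1 (congrArg Subtype.val h))
      obtain ⟨k, hk⟩ := Subgroup.mem_zpowers_iff.1 hz
      have hy' : y = t ^ k := by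
        have := congrArg Subtype.val hk
        simpa using this.symm
      rw [Subgroup.mem_centralizer_iff]
      intro h hh
      rw [Set.mem_singleton_iff] at hh
      rw [hh, hy']
      exact ((Commute.zpow_left (show Commute t b from htb) k).eq).symm
    have hBcent : B ≤ Subgroup.centralizer ({b} : Set H) := by
      intro y hy
      have hz : (⟨y, hy⟩ : B) ∈ Subgroup.zpowers (⟨b, hb⟩ : B) :=
        mem_zpowers_of_prime_card hcardB (fun h => hb1 (congrArg Subtype.val h))
      obtain ⟨k, hk⟩ := Subgroup.mem_zpowers_iff.1 hz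
      have hy' : y = b ^ k := by
        have := congrArg Subtype.val hk
        simpa using this.symm
      rw [Subgroup.mem_centralizer_iff]
      intro h hh
      rw [Set.mem_singleton_iff] at hh
      rw [hh, hy']
      exact ((Commute.zpow_left (Commute.refl b) k).eq).symm
    have htop : Q ⊔ B = ⊤ := by
      rw [← Subgroup.card_eq_iff_eq_top]
      have h1 : q ∣ Nat.card (Q ⊔ B : Subgroup H) := hcardQ ▸ Subgroup.card_dvd_of_le le_sup_left
      have h2 : p ∣ Nat.card (Q ⊔ B : Subgroup H) := hcardB ▸ Subgroup.card_dvd_of_le le_sup_right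
      have h3 : p * q ∣ Nat.card (Q ⊔ B : Subgroup H) :=
        Nat.Coprime.mul_dvd_of_dvd_of_dvd ((Nat.coprime_primes hp hq).2 hpq) h2 h1
      rw [← hcard] at h3
      exact Nat.dvd_antisymm (Subgroup.card_subgroup_dvd_card _) h3
    have hbcen : b ∈ Subgroup.center H := by
      rw [Subgroup.mem_center_iff]
      intro g
      have hg : g ∈ Subgroup.centralizer ({b} : Set H) := by
        have : g ∈ Q ⊔ B := by rw [htop]; trivial
        exact (sup_le hQcent hBcent) this
      exact ((Subgroup.mem_centralizer_iff.1 hg) b rfl).symm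
    have hBle : B ≤ Subgroup.center H := by
      intro y hy
      have hz : (⟨y, hy⟩ : B) ∈ Subgroup.zpowers (⟨b, hb⟩ : B) :=
        mem_zpowers_of_prime_card hcardB (fun h => hb1 (congrArg Subtype.val h))
      obtain ⟨k, hk⟩ := Subgroup.mem_zpowers_iff.1 hz
      have hy' : y = b ^ k := by
        have := congrArg Subtype.val hk
        simpa using this.symm
      rw [hy']
      exact Subgroup.zpow_mem _ hbcen k
    have hidx : (Subgroup.center H).index ∣ q := by
      have h1 := Subgroup.index_dvd_of_le hBle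
      have hidxB : B.index = q := by
        have := B.card_mul_index
        rw [hcardB, hcard] at this
        exact Nat.eq_of_mul_eq_mul_left hp.pos this
      rwa [hidxB] at h1
    haveI : IsCyclic (H ⧸ Subgroup.center H) := by
      rcases (Nat.dvd_prime hq).1 hidx with h | h
      · have : Subsingleton (H ⧸ Subgroup.center H) := by
          rw [← Finite.card_le_one_iff_subsingleton, ← Subgroup.index_eq_card, h]
        exact isCyclic_of_subsingleton
      · exact isCyclic_of_prime_card (p := q) (by rw [← Subgroup.index_eq_card, h])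
    exact MonoidHom.isMulCommutative_of_isCyclic_of_ker_le_center
      (QuotientGroup.mk' (Subgroup.center H)) (by rw [QuotientGroup.ker_mk'])
  -- the double product
  have hdouble1 : ∏ y : Q, ∏ b : B, θ ((y : H) * (b : H) * (y : H)⁻¹) v = 1 := by
    apply Finset.prod_eq_one
    intro y _
    have h1 : ∀ b : B, θ ((y : H) * (b : H) * (y : H)⁻¹) v =
        θ (y : H) (θ (b : H) (θ (y : H)⁻¹ v)) := by
      intro b
      rw [map_mul, map_mul, MulAut.mul_apply, MulAut.mul_apply]
    simp_rw [h1]
    rw [← map_prod, normB, map_one]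
  rw [Finset.prod_comm] at hdouble1
  have hdouble2 : ∏ b : B, ∏ y : Q, θ ((y : H) * (b : H) * (y : H)⁻¹) v = v ^ q := by
    rw [Fintype.prod_eq_single (1 : B)]
    · simp only [Subgroup.coe_one, mul_one, mul_inv_cancel, map_one, MulAut.one_apply,
        Finset.prod_const, Finset.card_univ]
      rw [← Nat.card_eq_fintype_card, hcardQ]
    · intro b hb1
      have hb1' : (b : H) ≠ 1 := fun h => hb1 (Subtype.ext h)
      -- the bijection y ↦ y b y⁻¹ b⁻¹ on Q
      let σ : Q → Q := fun y => ⟨(y : H) * (b : H) * (y : H)⁻¹ * (b : H)⁻¹, by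
        have h1 : (b : H) * (y : H)⁻¹ * (b : H)⁻¹ ∈ Q := hQn.conj_mem _ (Q.inv_mem y.2) _
        have h2 : (y : H) * (b : H) * (y : H)⁻¹ * (b : H)⁻¹ =
            (y : H) * ((b : H) * (y : H)⁻¹ * (b : H)⁻¹) := by group
        rw [h2]
        exact Q.mul_mem y.2 h1⟩
      have hσinj : Function.Injective σ := by
        intro y y' hyy
        have h1 : (y : H) * (b : H) * (y : H)⁻¹ * (b : H)⁻¹ =
            (y' : H) * (b : H) * (y' : H)⁻¹ * (b : H)⁻¹ := congrArg Subtype.val hyy
        have h2 : ((y' : H)⁻¹ * (y : H)) * (b : H) = (b : H) * ((y' : H)⁻¹ * (y : H)) := by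
          have h3 : (y : H) * (b : H) * (y : H)⁻¹ = (y' : H) * (b : H) * (y' : H)⁻¹ :=
            mul_right_cancel h1
          calc ((y' : H)⁻¹ * (y : H)) * (b : H)
              = (y' : H)⁻¹ * ((y : H) * (b : H) * (y : H)⁻¹) * (y : H) := by group
            _ = (y' : H)⁻¹ * ((y' : H) * (b : H) * (y' : H)⁻¹) * (y : H) := by rw [h3]
            _ = (b : H) * ((y' : H)⁻¹ * (y : H)) := by group
        have h4 := hnocomm b b.2 hb1' _ (Q.mul_mem (Q.inv_mem y'.2) y.2) h2
        apply Subtype.ext
        have : (y : H) = (y' : H) * ((y' : H)⁻¹ * (y : H)) := by group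
        rw [this, h4, mul_one]
      have hσbij : Function.Bijective σ := Finite.injective_iff_bijective.1 hσinj
      have h5 : ∀ y : Q, θ ((y : H) * (b : H) * (y : H)⁻¹) v =
          θ ((σ y : Q) : H) (θ (b : H) v) := by
        intro y
        rw [← MulAut.mul_apply, ← map_mul]
        congr 2
        show (y : H) * (b : H) * (y : H)⁻¹ = (y : H) * (b : H) * (y : H)⁻¹ * (b : H)⁻¹ * (b : H)
        group
      simp_rw [h5]
      rw [Function.Bijective.prod_comp hσbij (fun z : Q => θ (z : H) (θ (b : H) v))]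
      exact normQ _
  rw [← hdouble2, hdouble1]

end Abstract

end Cfsg.Agent.Lib.Helper4
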