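import Mathlib
import Cfsg.Agent.S0039
import Cfsg.Agent.S0041
import Cfsg.Agent.S0025
import Cfsg.Agent.S0024
import Cfsg.Agent.S0093
import Cfsg.Agent.Lib.Helper2.FrobCount
import Cfsg.Agent.Lib.Helper3.NormAux
import Cfsg.Agent.Lib.Helper7.CyclicSub

set_option autoImplicit false

namespace Cfsg.Agent.Lib.Helper4

section FrobComp

variable {G : Type*} [Group G] [Finite G]

/-- a group acting without fixed points on a nontrivial normal complement has coprime order. -/
theorem frobcomp_coprime (K H : Subgroup G) [K.Normal] (hc : Subgroup.IsComplement' K H)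
    (hK : K ≠ ⊥) (hfpf : ∀ h ∈ H, h ≠ 1 → K ⊓ Subgroup.centralizer {h} = ⊥) :
    (Nat.card H).Coprime (Nat.card K) := by
  by_cases hH : H = ⊥
  · rw [hH, Subgroup.card_bot]; exact Nat.coprime_one_left _
  · have hF : Cfsg.IsFrobeniusComplement H := (Cfsg.Agent.S0039.result K H hc hK hH).mpr hfpf
    have := Cfsg.Agent.Lib.Helper2.frob_coprime_index H hF
    rwa [hc.index_eq_card] at this

/-- a solvable subgroup of the complement normalizes a nontrivial abelian subgroup of `K`. -/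
theorem frobcomp_invariant_abelian (K H : Subgroup G) [K.Normal]
    (hc : Subgroup.IsComplement' K H)
    (hK : K ≠ ⊥) (hfpf : ∀ h ∈ H, h ≠ 1 → K ⊓ Subgroup.centralizer {h} = ⊥)
    (A : Subgroup G) (hAH : A ≤ H) (hsolv : Group.IsSolvable A) :
    ∃ V : Subgroup G, V ≤ K ∧ V ≠ ⊥ ∧ V ≤ Subgroup.centralizer (V : Set G) ∧
      A ≤ Subgroup.normalizer (V : Set G) := by
  have hcop := frobcomp_coprime K H hc hK hfpf
  have hcopA : (Nat.card A).Coprime (Nat.card K) :=
    Nat.Coprime.coprime_dvd_left (Subgroup.card_dvd_of_le hAH) hcop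
  have hKcard : Nat.card K ≠ 1 := fun h => hK (Subgroup.card_eq_one.mp h)
  obtain ⟨r, hr, hrK⟩ := Nat.exists_prime_and_dvd hKcard
  haveI : Fact r.Prime := ⟨hr⟩
  have hAK : A ≤ Subgroup.normalizer (K : Set G) := by
    rw [Subgroup.normalizer_eq_top_iff.mpr inferInstance]; exact le_top
  have hAbot : A ≤ Subgroup.normalizer (((⊥ : Subgroup G) : Subgroup G) : Set G) := by
    rw [Subgroup.normalizer_eq_top_iff.mpr inferInstance]; exact le_top
  obtain ⟨P, -, hPA⟩ := Cfsg.Agent.S0025.result A K hAK hcopA (Or.inl hsolv) r ⊥ bot_le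
    IsPGroup.of_bot hAbot
  obtain ⟨R, hR⟩ : ∃ R : Subgroup G, R = (P : Subgroup K).map K.subtype := ⟨_, rfl⟩
  rw [← hR] at hPA
  have hRK : R ≤ K := hR ▸ Subgroup.map_subtype_le _
  have hPne : (P : Subgroup K) ≠ ⊥ := P.ne_bot_of_dvd_card hrK
  haveI : Nontrivial ↥(P : Subgroup K) := (Subgroup.nontrivial_iff_ne_bot _).mpr hPne
  haveI := P.isPGroup'.center_nontrivial
  obtain ⟨z, hz⟩ := exists_ne (1 : Subgroup.center ↥(P : Subgroup ↥K))
  refine ⟨R ⊓ Subgroup.centralizer (R : Set G), inf_le_left.trans hRK, ?_, ?_, ?_⟩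
  · intro hbot
    have hmem : ((z.1.1 : ↥K) : G) ∈ R ⊓ Subgroup.centralizer (R : Set G) := by
      refine Subgroup.mem_inf.mpr ⟨?_, ?_⟩
      · rw [hR]; exact ⟨z.1.1, z.1.2, rfl⟩
      · rw [Subgroup.mem_centralizer_iff]
        intro x hx
        rw [hR] at hx
        obtain ⟨x', hx', rfl⟩ := hx
        have h1 := Subgroup.mem_center_iff.mp z.2 ⟨x', hx'⟩
        have h2 := congrArg (fun t : ↥(P : Subgroup ↥K) => ((t : ↥K) : G)) h1
        simpa using h2
    rw [hbot, Subgroup.mem_bot] at hmem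
    apply hz
    apply Subtype.ext
    apply Subtype.ext
    apply Subtype.ext
    simpa using hmem
  · exact inf_le_right.trans (Subgroup.centralizer_le (by exact_mod_cast
      (inf_le_left : R ⊓ Subgroup.centralizer (R : Set G) ≤ R)))
  · exact (le_inf hPA (hPA.trans
      (Cfsg.Agent.Lib.Helper3.normalizer_le_normalizer_centralizer R))).trans
      (Cfsg.Agent.Lib.Helper3.normalizer_inf_normalizer_le R _)

/-- abelian subgroups of the complement are cyclic. -/
theorem frobcomp_abelian_cyclic (K H : Subgroup G) [K.Normal]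
    (hc : Subgroup.IsComplement' K H)
    (hK : K ≠ ⊥) (hfpf : ∀ h ∈ H, h ≠ 1 → K ⊓ Subgroup.centralizer {h} = ⊥)
    (A : Subgroup G) (hAH : A ≤ H) (hab : A ≤ Subgroup.centralizer (A : Set G)) :
    IsCyclic A := by
  haveI hcomm : IsMulCommutative A := Subgroup.le_centralizer_iff_isMulCommutative.mp hab
  have hsolv : Group.IsSolvable A :=
    Group.isSolvable_of_comm (fun a b => Subtype.ext ((Subgroup.mem_centralizer_iff.mp (hab b.2)) a a.2))
  obtain ⟨V, hVK, hVne, hVc, hAV⟩ := frobcomp_invariant_abelian K H hc hK hfpf A hAH hsolv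
  haveI : IsMulCommutative V := Subgroup.le_centralizer_iff_isMulCommutative.mp hVc
  exact Cfsg.Agent.S0041.result A V hVne hAV
    (fun a ha ha1 => by
      rw [eq_bot_iff, ← hfpf a (hAH ha) ha1]
      exact inf_le_inf_right _ hVK) (Or.inl hcomm)

/-- a `p`-subgroup of the complement has at most one subgroup of order `p`. -/
theorem frobcomp_unique_order_p (K H : Subgroup G) [K.Normal]
    (hc : Subgroup.IsComplement' K H)
    (hK : K ≠ ⊥) (hfpf : ∀ h ∈ H, h ≠ 1 → K ⊓ Subgroup.centralizer {h} = ⊥)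
    {p : ℕ} [Fact p.Prime] (Q : Subgroup G) (hQH : Q ≤ H) (hQ : IsPGroup p Q)
    (X Y : Subgroup G) (hX : X ≤ Q) (hY : Y ≤ Q) (hcX : Nat.card X = p) (hcY : Nat.card Y = p) :
    X = Y := by
  have hp : p.Prime := Fact.out
  -- a central subgroup of order p
  have hQne : Q ≠ ⊥ := by
    intro h
    rw [h, le_bot_iff] at hX
    rw [hX, Subgroup.card_bot] at hcX
    exact hp.one_lt.ne hcX
  haveI : Nontrivial ↥Q := (Subgroup.nontrivial_iff_ne_bot _).mpr hQne
  haveI := hQ.center_nontrivial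
  obtain ⟨z, hz⟩ := exists_ne (1 : Subgroup.center ↥Q)
  have hz1 : (z : ↥Q) ≠ 1 := fun h => hz (Subtype.ext h)
  obtain ⟨n, hn1, hn2⟩ := Cfsg.Agent.S0093.exists_order_p hQ (z : ↥Q) hz1
  obtain ⟨w, hw⟩ : ∃ w : ↥Q, w = (z : ↥Q) ^ n := ⟨_, rfl⟩
  rw [← hw] at hn1 hn2
  have hwc : w ∈ Subgroup.center ↥Q := hw ▸ Subgroup.pow_mem _ z.2 n
  have hwG1 : (w : G) ≠ 1 := fun h => hn1 (Subtype.ext h)
  have hwGp : (w : G) ^ p = 1 := by
    have := congrArg Subtype.val hn2
    simpa using this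
  have hord : orderOf (w : G) = p := by
    have hd : orderOf (w : G) ∣ p := orderOf_dvd_of_pow_eq_one hwGp
    rcases (Nat.dvd_prime hp).mp hd with h | h
    · exact absurd (orderOf_eq_one_iff.mp h) hwG1
    · exact h
  obtain ⟨Z, hZ⟩ : ∃ Z : Subgroup G, Z = Subgroup.zpowers (w : G) := ⟨_, rfl⟩
  have hZQ : Z ≤ Q := by rw [hZ, Subgroup.zpowers_le]; exact w.2
  have hcZ : Nat.card Z = p := by rw [hZ, Nat.card_zpowers, hord]
  have hZc : Z ≤ Subgroup.centralizer (Q : Set G) := by
    rw [hZ, Subgroup.zpowers_le, Subgroup.mem_centralizer_iff]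
    intro x hx
    have h1 := Subgroup.mem_center_iff.mp hwc ⟨x, hx⟩
    have h2 := congrArg Subtype.val h1
    simpa using h2
  have key : ∀ X : Subgroup G, X ≤ Q → Nat.card X = p → X = Z := by
    intro X hX hcX
    haveI : Fact (Nat.card X).Prime := ⟨hcX ▸ hp⟩
    haveI hXcyc : IsCyclic X := isCyclic_of_prime_card rfl
    have hXc : X ≤ Subgroup.centralizer (X : Set G) :=
      Subgroup.le_centralizer_iff_isMulCommutative.mpr inferInstance
    have hZX : Z ≤ Subgroup.centralizer (X : Set G) :=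
      hZc.trans (Subgroup.centralizer_le (by exact_mod_cast hX))
    have hZZ : Z ≤ Subgroup.centralizer (Z : Set G) :=
      hZc.trans (Subgroup.centralizer_le (by exact_mod_cast hZQ))
    have hXZ : X ≤ Subgroup.centralizer (Z : Set G) := Subgroup.le_centralizer_iff.mp hZX
    have hM : X ⊔ Z ≤ Subgroup.centralizer ((X ⊔ Z : Subgroup G) : Set G) := by
      rw [Subgroup.le_centralizer_iff]
      exact sup_le (Subgroup.le_centralizer_iff.mp (sup_le hXc hZX))
        (Subgroup.le_centralizer_iff.mp (sup_le hXZ hZZ))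
    haveI hcyc : IsCyclic ↥(X ⊔ Z) :=
      frobcomp_abelian_cyclic K H hc hK hfpf (X ⊔ Z) ((sup_le hX hZQ).trans hQH) hM
    exact Cfsg.Agent.Lib.Helper7.eq_of_le_cyclic_of_card_eq (X ⊔ Z) X Z le_sup_left le_sup_right
      (hcX.trans hcZ.symm)
  rw [key X hX hcX, key Y hY hcY]

end FrobComp

end Cfsg.Agent.Lib.Helper4
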