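import Mathlib
import Cfsg.Prelude.Def_Solvable
import Cfsg.Agent.Lib.Helper8.CharFrobThm
import Cfsg.Agent.Lib.Helper4.FrobBasic
import Cfsg.Agent.Lib.Helper4.FrobComp
import Cfsg.Agent.Lib.Helper4.Schmidt
import Cfsg.Agent.Lib.Helper4.CoprimeAct
import Cfsg.Agent.Lib.Helper3.Radical
import Cfsg.Agent.Lib.Helper2.Index

set_option autoImplicit false

namespace Cfsg.Agent.Lib.Helper4

open scoped Pointwise

section FrobConj

variable {G : Type*} [Group G] [Finite G]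

/-- in a Frobenius complement, an element of prime order `p` normalizing a subgroup of prime
order `q ≠ p` centralizes it. -/
theorem frobcomp_pq_centralizes (K H : Subgroup G) [K.Normal]
    (hc : Subgroup.IsComplement' K H)
    (hK : K ≠ ⊥) (hfpf : ∀ h ∈ H, h ≠ 1 → K ⊓ Subgroup.centralizer {h} = ⊥)
    {p q : ℕ} (hp : p.Prime) (hq : q.Prime) (hpq : p ≠ q) (Z : Subgroup G) (h : G)
    (hZH : Z ≤ H) (hhH : h ∈ H) (hZq : Nat.card Z = q) (hhp : orderOf h = p)
    (hnorm : h ∈ Subgroup.normalizer (Z : Set G)) :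
    ∀ z ∈ Z, h * z = z * h := by
  obtain ⟨P, hP⟩ : ∃ P : Subgroup G, P = Subgroup.zpowers h := ⟨_, rfl⟩
  have hPcard : Nat.card P = p := by rw [hP, Nat.card_zpowers, hhp]
  have hPN : P ≤ Subgroup.normalizer (Z : Set G) := by
    rw [hP, Subgroup.zpowers_le]; exact hnorm
  have hPH : P ≤ H := by rw [hP, Subgroup.zpowers_le]; exact hhH
  have hcop : (Nat.card P).Coprime (Nat.card Z) := by
    rw [hPcard, hZq]; exact (Nat.coprime_primes hp hq).mpr hpq
  have hdisj : P ⊓ Z = ⊥ := (Subgroup.disjoint_of_coprime_natCard hcop).eq_bot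
  have hcard := Cfsg.Agent.Lib.Helper2.card_sup_mul_card_inf P Z hPN
  rw [hdisj, Subgroup.card_bot, mul_one, hPcard, hZq] at hcard
  haveI : Fact p.Prime := ⟨hp⟩
  haveI : Fact q.Prime := ⟨hq⟩
  have hPcyc : IsCyclic P := isCyclic_of_prime_card hPcard
  have hZcyc : IsCyclic Z := isCyclic_of_prime_card hZq
  have hPs : Group.IsSolvable P := by
    haveI := hPcyc
    have hcm : IsMulCommutative P := IsCyclic.isMulCommutative
    exact Group.isSolvable_of_comm (fun a b => hcm.is_comm.comm a b)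
  have hZs : Group.IsSolvable Z := by
    haveI := hZcyc
    have hcm : IsMulCommutative Z := IsCyclic.isMulCommutative
    exact Group.isSolvable_of_comm (fun a b => hcm.is_comm.comm a b)
  have hBs : Group.IsSolvable ↥(Z ⊔ P) :=
    Cfsg.Agent.Lib.Helper3.solvable_sup_of_le_normalizer hZs hPs hPN
  have hBH : Z ⊔ P ≤ H := sup_le hZH hPH
  obtain ⟨V, hVK, hVne, hVc, hBV⟩ :=
    frobcomp_invariant_abelian K H hc hK hfpf (Z ⊔ P) hBH hBs
  haveI : IsMulCommutative V := Subgroup.le_centralizer_iff_isMulCommutative.mp hVc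
  have hBcard : Nat.card ↥(Z ⊔ P) = p * q := by rw [sup_comm]; exact hcard
  have hcyc : IsCyclic ↥(Z ⊔ P) := Cfsg.Agent.S0041.result (Z ⊔ P) V hVne hBV
    (fun a ha ha1 => by
      rw [eq_bot_iff, ← hfpf a (hBH ha) ha1]
      exact inf_le_inf_right _ hVK) (Or.inr ⟨p, q, hp, hq, hBcard⟩)
  intro z hz
  have hzB : z ∈ Z ⊔ P := (le_sup_left : Z ≤ Z ⊔ P) hz
  have hhB : h ∈ Z ⊔ P := (le_sup_right : P ≤ Z ⊔ P) (by rw [hP]; exact Subgroup.mem_zpowers h)
  haveI := hcyc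
  have hcm : IsMulCommutative ↥(Z ⊔ P) := IsCyclic.isMulCommutative
  have := hcm.is_comm.comm (⟨h, hhB⟩ : ↥(Z ⊔ P)) ⟨z, hzB⟩
  exact congrArg Subtype.val this

/-- a Frobenius complement is not itself a Frobenius group. -/
theorem frob_complement_not_frobenius (H : Subgroup G) (hH : Cfsg.IsFrobeniusComplement H)
    (D : Subgroup H) (hD : Cfsg.IsFrobeniusComplement D) : False := by
  classical
  obtain ⟨K, hKset, hKn, hKc⟩ := Cfsg.Agent.Lib.Helper8.frobenius_kernel_thm H hH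
  haveI := hKn
  obtain ⟨L, hLset, hLn, hLc⟩ := Cfsg.Agent.Lib.Helper8.frobenius_kernel_thm D hD
  haveI := hLn
  have hK : K ≠ ⊥ := by
    intro h; apply hH.2.1
    have := hKc.sup_eq_top
    rwa [h, bot_sup_eq] at this
  have hfpf := (Cfsg.Agent.S0039.result K H hKc hK hH.1).mp hH
  have hL : L ≠ ⊥ := by
    intro h; apply hD.2.1
    have := hLc.sup_eq_top
    rwa [h, bot_sup_eq] at this
  have hLD : L ⊓ D = ⊥ := hLc.disjoint.eq_bot
  have hcopD : (Nat.card D).Coprime (Nat.card L) := by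
    have := Cfsg.Agent.Lib.Helper2.frob_coprime_index D hD
    rwa [hLc.index_eq_card] at this
  have hDcard : Nat.card D ≠ 1 := fun h => hD.1 (Subgroup.card_eq_one.mp h)
  obtain ⟨p, hp, hpD⟩ := Nat.exists_prime_and_dvd hDcard
  have hLcard : Nat.card L ≠ 1 := fun h => hL (Subgroup.card_eq_one.mp h)
  obtain ⟨q, hq, hqL⟩ := Nat.exists_prime_and_dvd hLcard
  haveI : Fact p.Prime := ⟨hp⟩
  haveI : Fact q.Prime := ⟨hq⟩
  have hpL : ¬ p ∣ Nat.card L := by
    intro h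
    have h1 := Nat.dvd_gcd hpD h
    rw [Nat.Coprime.gcd_eq_one hcopD] at h1
    exact hp.one_lt.ne' (Nat.dvd_one.mp h1)
  have hpq : p ≠ q := by
    intro h; rw [h] at hpL; exact hpL hqL
  -- Sylow q-subgroup of L and Frattini
  obtain ⟨P⟩ : Nonempty (Sylow q L) := inferInstance
  have hfr := Sylow.normalizer_sup_eq_top P
  obtain ⟨Qh, hQh⟩ : ∃ Qh : Subgroup H, Qh = (P : Subgroup L).map L.subtype := ⟨_, rfl⟩
  rw [← hQh] at hfr
  obtain ⟨NQ, hNQ⟩ : ∃ NQ : Subgroup H, NQ = Subgroup.normalizer (Qh : Set H) := ⟨_, rfl⟩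
  rw [← hNQ] at hfr
  have hQhL : Qh ≤ L := hQh ▸ Subgroup.map_subtype_le _
  have hNQL : NQ ≤ Subgroup.normalizer (L : Set H) := by
    rw [Subgroup.normalizer_eq_top_iff.mpr hLn]; exact le_top
  have hcard := Cfsg.Agent.Lib.Helper2.card_sup_mul_card_inf NQ L hNQL
  rw [hfr, Subgroup.card_top] at hcard
  have hpH : p ∣ Nat.card H := hpD.trans (Subgroup.card_subgroup_dvd_card D)
  have hpNQ : p ∣ Nat.card NQ := by
    have h1 : p ∣ Nat.card NQ * Nat.card L := by rw [← hcard]; exact Dvd.dvd.mul_right hpH _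
    rcases hp.dvd_mul.mp h1 with h | h
    · exact h
    · exact absurd h hpL
  obtain ⟨h₀, hh₀⟩ := exists_prime_orderOf_dvd_card' p hpNQ
  obtain ⟨h, hh⟩ : ∃ h : H, h = (h₀ : H) := ⟨_, rfl⟩
  have hhord : orderOf h = p := by rw [hh, Subgroup.orderOf_coe]; exact hh₀
  have hhNQ : h ∈ Subgroup.normalizer (Qh : Set H) := by rw [hh, ← hNQ]; exact h₀.2
  have hhL : h ∉ L := by
    intro hmem
    have := Subgroup.orderOf_dvd_natCard L hmem
    rw [hhord] at this
    exact hpL this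
  have hhker : h ∉ Cfsg.frobeniusKernel D := by rw [← hLset]; exact hhL
  obtain ⟨hh1, g, hg⟩ := frb_not_mem_kernel hhker
  -- in G
  obtain ⟨R, hR⟩ : ∃ R : Subgroup G, R = Qh.map H.subtype := ⟨_, rfl⟩
  have hRH : R ≤ H := hR ▸ Subgroup.map_subtype_le _
  have hRq : IsPGroup q R := by
    rw [hR, hQh]; exact (P.isPGroup'.map _).map _
  have hPne : (P : Subgroup L) ≠ ⊥ := P.ne_bot_of_dvd_card hqL
  have hRne : R ≠ ⊥ := by
    rw [hR, hQh]
    intro hbot
    rw [Subgroup.map_eq_bot_iff_of_injective _ (Subgroup.subtype_injective _),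
      Subgroup.map_eq_bot_iff_of_injective _ (Subgroup.subtype_injective _)] at hbot
    exact hPne hbot
  have hqR : q ∣ Nat.card R := by
    rcases hRq.card_eq_or_dvd with h1 | h1
    · exact absurd (Subgroup.card_eq_one.mp h1) hRne
    · exact h1
  obtain ⟨z₀, hz₀⟩ := exists_prime_orderOf_dvd_card' q hqR
  obtain ⟨z, hz⟩ : ∃ z : G, z = (z₀ : G) := ⟨_, rfl⟩
  have hzord : orderOf z = q := by rw [hz, Subgroup.orderOf_coe]; exact hz₀
  have hzR : z ∈ R := by rw [hz]; exact z₀.2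
  obtain ⟨Z, hZ⟩ : ∃ Z : Subgroup G, Z = Subgroup.zpowers z := ⟨_, rfl⟩
  have hZR : Z ≤ R := by rw [hZ, Subgroup.zpowers_le]; exact hzR
  have hZcard : Nat.card Z = q := by rw [hZ, Nat.card_zpowers, hzord]
  have hhG : orderOf (h : G) = p := by rw [Subgroup.orderOf_coe]; exact hhord
  -- h normalizes R
  have hhR : (h : G) ∈ Subgroup.normalizer (R : Set G) := by
    rw [Subgroup.mem_normalizer_iff]
    intro x
    have hN := Subgroup.mem_normalizer_iff.mp hhNQ
    constructor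
    · intro hx
      rw [hR] at hx ⊢
      obtain ⟨w, hw, rfl⟩ := hx
      exact ⟨h * w * h⁻¹, (hN w).mp hw, by simp⟩
    · intro hx
      rw [hR] at hx ⊢
      obtain ⟨w, hw, hwx⟩ := hx
      refine ⟨h⁻¹ * w * h, ?_, ?_⟩
      · rw [SetLike.mem_coe, hN]
        have e : h * (h⁻¹ * w * h) * h⁻¹ = w := by group
        rw [e]; exact hw
      · have e : ((h⁻¹ * w * h : H) : G) = (h : G)⁻¹ * (w : G) * (h : G) := by simp
        rw [Subgroup.coe_subtype, e]
        rw [Subgroup.coe_subtype] at hwx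
        rw [hwx]; group
  have hcjR : cj (h : G) R = R := cj_eq_of_mem_normalizer hhR
  have hcjZ : cj (h : G) Z = Z := by
    apply frobcomp_unique_order_p K H hKc hK hfpf R hRH hRq (cj (h : G) Z) Z
    · rw [← hcjR]; exact cj_mono _ hZR
    · exact hZR
    · rw [card_cj', hZcard]
    · exact hZcard
  have hhZ : (h : G) ∈ Subgroup.normalizer (Z : Set G) := mem_normalizer_of_cj_eq hcjZ
  have hcomm := frobcomp_pq_centralizes K H hKc hK hfpf hp hq hpq Z (h : G) (hZR.trans hRH) h.2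
    hZcard hhG hhZ z (by rw [hZ]; exact Subgroup.mem_zpowers z)
  -- back in H
  obtain ⟨w, hwQ, hwz⟩ : ∃ w : H, w ∈ Qh ∧ (w : G) = z := by
    rw [hR] at hzR
    obtain ⟨w, hw, hwz⟩ := hzR
    exact ⟨w, hw, hwz⟩
  have hwL : w ∈ L := hQhL hwQ
  have hw1 : w ≠ 1 := by
    intro h1
    rw [h1] at hwz
    have : orderOf z = 1 := by rw [← hwz]; simp
    rw [hzord] at this
    exact hq.one_lt.ne' this
  have hcommH : h * w = w * h := by
    apply Subtype.ext
    rw [Subgroup.coe_mul, Subgroup.coe_mul, hwz]; exact hcomm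
  obtain ⟨d, hd⟩ : ∃ d : H, d = g⁻¹ * h * g := ⟨_, rfl⟩
  rw [← hd] at hg
  have hd1 : d ≠ 1 := by
    intro h1; apply hh1
    have e : h = g * d * g⁻¹ := by rw [hd]; group
    rw [e, h1]; group
  obtain ⟨w', hw'⟩ : ∃ w' : H, w' = g⁻¹ * w * g := ⟨_, rfl⟩
  have hw'L : w' ∈ L := by
    have := hLn.conj_mem w hwL g⁻¹
    rw [hw']; simpa using this
  have hw'1 : w' ≠ 1 := by
    intro h1; apply hw1
    have e : w = g * w' * g⁻¹ := by rw [hw']; group
    rw [e, h1]; group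
  have hcomm' : w' * d = d * w' := by
    rw [hw', hd]
    have e1 : g⁻¹ * w * g * (g⁻¹ * h * g) = g⁻¹ * (w * h) * g := by group
    have e2 : g⁻¹ * h * g * (g⁻¹ * w * g) = g⁻¹ * (h * w) * g := by group
    rw [e1, e2, hcommH]
  have hw'D : w' ∈ D := frb_centralizer_le hD hg hd1 hcomm'
  have : w' ∈ L ⊓ D := Subgroup.mem_inf.mpr ⟨hw'L, hw'D⟩
  rw [hLD, Subgroup.mem_bot] at this
  exact hw'1 this

/-- two Frobenius complements with nontrivial intersection: one is contained in the other. -/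
theorem frob_le_of_inf_ne_bot (H H₀ : Subgroup G) (hH : Cfsg.IsFrobeniusComplement H)
    (hH₀ : Cfsg.IsFrobeniusComplement H₀) (hne : H ⊓ H₀ ≠ ⊥) : H ≤ H₀ := by
  by_contra hnot
  apply frob_complement_not_frobenius H hH (H₀.subgroupOf H)
  refine ⟨?_, ?_, ?_⟩
  · rw [Ne, Subgroup.subgroupOf_eq_bot, disjoint_iff, inf_comm]; exact hne
  · rw [Ne, Subgroup.subgroupOf_eq_top]; exact hnot
  · intro g hg
    have hg' : (g : G) ∉ H₀ := fun h => hg (Subgroup.mem_subgroupOf.mpr h)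
    have h0 := hH₀.2.2 _ hg'
    rw [eq_bot_iff]
    intro x hx
    obtain ⟨hx1, hx2⟩ := Subgroup.mem_inf.mp hx
    rw [frb_mem_smul_iff] at hx2
    rw [Subgroup.mem_subgroupOf] at hx1 hx2
    have hmem : (x : G) ∈ H₀ ⊓ MulAut.conj (g : G) • H₀ := by
      refine Subgroup.mem_inf.mpr ⟨hx1, ?_⟩
      rw [frb_mem_smul_iff]
      simpa using hx2
    rw [h0, Subgroup.mem_bot] at hmem
    rw [Subgroup.mem_bot]
    exact Subtype.ext hmem

theorem frob_eq_of_inf_ne_bot (H H₀ : Subgroup G) (hH : Cfsg.IsFrobeniusComplement H)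
    (hH₀ : Cfsg.IsFrobeniusComplement H₀) (hne : H ⊓ H₀ ≠ ⊥) : H = H₀ :=
  le_antisymm (frob_le_of_inf_ne_bot H H₀ hH hH₀ hne)
    (frob_le_of_inf_ne_bot H₀ H hH₀ hH (by rwa [inf_comm]))

/-- all Frobenius complements are conjugate. -/
theorem frob_complements_conj (H H₀ : Subgroup G) (hH : Cfsg.IsFrobeniusComplement H)
    (hH₀ : Cfsg.IsFrobeniusComplement H₀) : ∃ g : G, cj g H₀ = H := by
  obtain ⟨K, hKset, hKn, hKc⟩ := Cfsg.Agent.Lib.Helper8.frobenius_kernel_thm H hH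
  obtain ⟨K₀, hK₀set, hK₀n, hK₀c⟩ := Cfsg.Agent.Lib.Helper8.frobenius_kernel_thm H₀ hH₀
  have hKtop : K ≠ ⊤ := by
    intro h; apply hH.1
    have := hKc.disjoint.eq_bot
    rwa [h, top_inf_eq] at this
  have hK₀top : K₀ ≠ ⊤ := by
    intro h; apply hH₀.1
    have := hK₀c.disjoint.eq_bot
    rwa [h, top_inf_eq] at this
  obtain ⟨a, haK⟩ : ∃ a, a ∉ K := by
    by_contra hcon
    push Not at hcon
    exact hKtop (eq_top_iff.mpr fun x _ => hcon x)
  obtain ⟨b, hbK⟩ : ∃ b, b ∉ K₀ := by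
    by_contra hcon
    push Not at hcon
    exact hK₀top (eq_top_iff.mpr fun x _ => hcon x)
  obtain ⟨x, hxK, hxK₀⟩ : ∃ x, x ∉ K ∧ x ∉ K₀ := by
    by_cases h1 : a ∈ K₀
    · by_cases h2 : b ∈ K
      · refine ⟨a * b, ?_, ?_⟩
        · intro h
          apply haK
          have := K.mul_mem h (K.inv_mem h2)
          simpa using this
        · intro h
          apply hbK
          have := K₀.mul_mem (K₀.inv_mem h1) h
          simpa using this
      · exact ⟨b, h2, hbK⟩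
    · exact ⟨a, haK, h1⟩
  have hxk : x ∉ Cfsg.frobeniusKernel H := by rw [← hKset]; exact hxK
  have hxk₀ : x ∉ Cfsg.frobeniusKernel H₀ := by rw [← hK₀set]; exact hxK₀
  obtain ⟨hx1, c, hc⟩ := frb_not_mem_kernel hxk
  obtain ⟨-, c₀, hc₀⟩ := frb_not_mem_kernel hxk₀
  have hne : cj c H ⊓ cj c₀ H₀ ≠ ⊥ := by
    intro hbot
    have : x ∈ cj c H ⊓ cj c₀ H₀ :=
      Subgroup.mem_inf.mpr ⟨(mem_cj_iff c H x).mpr hc, (mem_cj_iff c₀ H₀ x).mpr hc₀⟩
    rw [hbot, Subgroup.mem_bot] at this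
    exact hx1 this
  have heq := frob_eq_of_inf_ne_bot (cj c H) (cj c₀ H₀) (frb_cj H hH c) (frb_cj H₀ hH₀ c₀) hne
  refine ⟨c⁻¹ * c₀, ?_⟩
  rw [cj_mul, ← heq, ← cj_mul, inv_mul_cancel, cj_one]

end FrobConj

end Cfsg.Agent.Lib.Helper4
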