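import Mathlib
import Cfsg.Prelude.Def_Solvable
import Cfsg.Agent.Lib.Helper1.PGroupMax
import Cfsg.Agent.Lib.Helper4.ConjSub
import Cfsg.Agent.S0029
import Cfsg.Agent.S0023
import Cfsg.Agent.S0024
import Cfsg.Agent.S0042
import Cfsg.Agent.Lib.Helper4.CoprimeSylow

/-! The norm lemma for Frobenius groups acting on a group of coprime order. -/

set_option autoImplicit false
set_option linter.unusedSectionVars false

namespace Cfsg.Agent.Lib.Helper4

open scoped IsMulCommutative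
open scoped commutatorElement

theorem frob_norm_core {A X : Type*} [CommGroup A] [Group X] (φ : X →* MulAut A)
    (F : Subgroup X) [Finite F] (h : X) (n : ℕ) (hn : 0 < n)
    (hhF : ∀ f ∈ F, h * f * h⁻¹ ∈ F)
    (hfix : ∀ f ∈ F, ∀ j : ℕ, 0 < j → j < n → f * h ^ j = h ^ j * f → f = 1)
    (hnorm : ∀ v : A, ∏ j ∈ Finset.range n, φ (h ^ j) v = 1)
    (htors : ∀ v : A, v ^ Nat.card F = 1 → v = 1) :
    ∀ f ∈ F, ∀ v : A, φ f v = v := by
  classical
  haveI : Fintype ↥F := Fintype.ofFinite _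
  have hhFj : ∀ j : ℕ, ∀ f ∈ F, h ^ j * f * (h ^ j)⁻¹ ∈ F := by
    intro j
    induction j with
    | zero => intro f hf; simpa using hf
    | succ j ih =>
      intro f hf
      have h1 := hhF _ (ih f hf)
      have e : h ^ (j + 1) * f * (h ^ (j + 1))⁻¹ = h * (h ^ j * f * (h ^ j)⁻¹) * h⁻¹ := by
        rw [pow_succ']; group
      rw [e]; exact h1
  let NF : A → A := fun w => ∏ f : ↥F, φ (f : X) w
  have hNF_prod : ∀ (s : Finset ℕ) (g : ℕ → A), NF (∏ j ∈ s, g j) = ∏ j ∈ s, NF (g j) := by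
    intro s g
    simp only [NF, map_prod]
    exact Finset.prod_comm
  have hNF_inv : ∀ w, NF w⁻¹ = (NF w)⁻¹ := by
    intro w; simp only [NF, map_inv, Finset.prod_inv_distrib]
  have hNF_fix : ∀ (f₀ : ↥F) w, φ (f₀ : X) (NF w) = NF w := by
    intro f₀ w
    simp only [NF, map_prod]
    have h1 : ∀ f : ↥F, φ (f₀ : X) (φ (f : X) w) = φ ((f₀ * f : ↥F) : X) w := by
      intro f; rw [Subgroup.coe_mul, map_mul, MulAut.mul_apply]
    simp only [h1]
    exact Equiv.prod_comp (Equiv.mulLeft f₀) (fun f : ↥F => φ (f : X) w)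
  have hre : ∀ j : ℕ, 0 < j → j < n → ∀ v : A,
      ∏ f : ↥F, φ ((f : X) * h ^ j * (f : X)⁻¹) v = NF (φ (h ^ j) v) := by
    intro j hj0 hjn v
    let σ : ↥F → ↥F := fun f => ⟨(f : X) * (h ^ j * (f : X)⁻¹ * (h ^ j)⁻¹),
      F.mul_mem f.2 (hhFj j _ (F.inv_mem f.2))⟩
    have hσinj : Function.Injective σ := by
      intro f₁ f₂ h12
      have h1 : (f₁ : X) * (h ^ j * (f₁ : X)⁻¹ * (h ^ j)⁻¹) =
          (f₂ : X) * (h ^ j * (f₂ : X)⁻¹ * (h ^ j)⁻¹) := congrArg Subtype.val h12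
      have h3 : (f₁ : X) * h ^ j * (f₁ : X)⁻¹ = (f₂ : X) * h ^ j * (f₂ : X)⁻¹ := by
        have h2 := congrArg (· * h ^ j) h1
        simpa [mul_assoc] using h2
      have h2 : ((f₂ : X)⁻¹ * (f₁ : X)) * h ^ j = h ^ j * ((f₂ : X)⁻¹ * (f₁ : X)) := by
        calc ((f₂ : X)⁻¹ * (f₁ : X)) * h ^ j
            = (f₂ : X)⁻¹ * ((f₁ : X) * h ^ j * (f₁ : X)⁻¹) * (f₁ : X) := by group
          _ = (f₂ : X)⁻¹ * ((f₂ : X) * h ^ j * (f₂ : X)⁻¹) * (f₁ : X) := by rw [h3]
          _ = h ^ j * ((f₂ : X)⁻¹ * (f₁ : X)) := by group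
      have h4 := hfix _ (F.mul_mem (F.inv_mem f₂.2) f₁.2) j hj0 hjn h2
      apply Subtype.ext
      have h5 : (f₁ : X) = (f₂ : X) * ((f₂ : X)⁻¹ * (f₁ : X)) := by group
      rw [h5, h4, mul_one]
    have hσbij : Function.Bijective σ := Finite.injective_iff_bijective.1 hσinj
    let e : ↥F ≃ ↥F := Equiv.ofBijective σ hσbij
    have h5 : ∀ f : ↥F, φ ((f : X) * h ^ j * (f : X)⁻¹) v = φ ((e f : ↥F) : X) (φ (h ^ j) v) := by
      intro f
      rw [← MulAut.mul_apply, ← map_mul]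
      have h6 : (f : X) * h ^ j * (f : X)⁻¹ = ((e f : ↥F) : X) * h ^ j := by
        show (f : X) * h ^ j * (f : X)⁻¹ = (f : X) * (h ^ j * (f : X)⁻¹ * (h ^ j)⁻¹) * h ^ j
        group
      rw [h6]
    simp only [h5]
    exact Equiv.prod_comp e (fun f : ↥F => φ (f : X) (φ (h ^ j) v))
  intro f₀ hf₀ v
  have hmain : ∏ f : ↥F, ∏ j ∈ Finset.range n, φ ((f : X) * h ^ j * (f : X)⁻¹) v = 1 := by
    apply Finset.prod_eq_one
    intro f _
    have h1 := hnorm (φ ((f : X)⁻¹) v)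
    have h2 : ∀ j, φ ((f : X) * h ^ j * (f : X)⁻¹) v =
        φ (f : X) (φ (h ^ j) (φ ((f : X)⁻¹) v)) := by
      intro j
      rw [map_mul, map_mul, MulAut.mul_apply, MulAut.mul_apply]
    simp only [h2]
    rw [← map_prod, h1, map_one]
  rw [Finset.prod_comm] at hmain
  have hsplit : Finset.range n = insert 0 (Finset.Ico 1 n) := by
    ext j; simp only [Finset.mem_range, Finset.mem_insert, Finset.mem_Ico]; omega
  rw [hsplit, Finset.prod_insert (by simp)] at hmain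
  have h0 : ∏ f : ↥F, φ ((f : X) * h ^ 0 * (f : X)⁻¹) v = v ^ Nat.card F := by
    simp only [pow_zero, mul_one, mul_inv_cancel, map_one, MulAut.one_apply, Finset.prod_const,
      Finset.card_univ, Nat.card_eq_fintype_card]
  have h1 : ∏ j ∈ Finset.Ico 1 n, ∏ f : ↥F, φ ((f : X) * h ^ j * (f : X)⁻¹) v =
      NF (∏ j ∈ Finset.Ico 1 n, φ (h ^ j) v) := by
    rw [hNF_prod]
    apply Finset.prod_congr rfl
    intro j hj
    rw [Finset.mem_Ico] at hj
    exact hre j (by omega) hj.2 v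
  have h2 : ∏ j ∈ Finset.Ico 1 n, φ (h ^ j) v = v⁻¹ := by
    have h3 := hnorm v
    rw [hsplit, Finset.prod_insert (by simp), pow_zero, map_one, MulAut.one_apply] at h3
    exact eq_inv_of_mul_eq_one_right h3
  rw [h0, h1, h2, hNF_inv] at hmain
  have h3 : NF v = v ^ Nat.card F := (mul_inv_eq_one.1 hmain).symm
  have h4 := hNF_fix ⟨f₀, hf₀⟩ v
  rw [h3, map_pow] at h4
  have h5 : (φ f₀ v * v⁻¹) ^ Nat.card F = 1 := by
    rw [mul_pow, inv_pow, h4, mul_inv_cancel]
  exact mul_inv_eq_one.1 (htors _ h5)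

section
variable {X : Type*} [Group X] [Finite X]

theorem frob_norm_abelian (V F : Subgroup X) [hVn : V.Normal]
    (hVab : ∀ a ∈ V, ∀ b ∈ V, a * b = b * a) (h : X) (n : ℕ) (hn : 0 < n)
    (hhF : ∀ f ∈ F, h * f * h⁻¹ ∈ F)
    (hfix : ∀ f ∈ F, ∀ j : ℕ, 0 < j → j < n → f * h ^ j = h ^ j * f → f = 1)
    (hnorm : ∀ v ∈ V, (v * h) ^ n = 1)
    (htors : ∀ v ∈ V, v ^ Nat.card F = 1 → v = 1) :
    ∀ f ∈ F, ∀ v ∈ V, f * v * f⁻¹ = v := by
  classical
  haveI hVc : IsMulCommutative ↥V := ⟨⟨fun a b => Subtype.ext (hVab a.1 a.2 b.1 b.2)⟩⟩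
  have hφ : ∀ (k : X) (v : ↥V), ((MulAut.conjNormal k v : ↥V) : X) = k * v * k⁻¹ :=
    fun k v => MulAut.conjNormal_apply k v
  have hh1 : h ^ n = 1 := by simpa using hnorm 1 V.one_mem
  have hprodX : ∀ (v : ↥V) (m : ℕ), ((v : X) * h) ^ m =
      ((∏ j ∈ Finset.range m, (MulAut.conjNormal (h ^ j) : MulAut ↥V) v : ↥V) : X) * h ^ m := by
    intro v m
    induction m with
    | zero => simp
    | succ m ih =>
      rw [pow_succ, ih, Finset.prod_range_succ, Subgroup.coe_mul, hφ, pow_succ]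
      group
  have hnorm' : ∀ v : ↥V,
      ∏ j ∈ Finset.range n, (MulAut.conjNormal (h ^ j) : MulAut ↥V) v = 1 := by
    intro v
    have h1 := hprodX v n
    rw [hnorm v v.2, hh1, mul_one] at h1
    exact Subtype.ext h1.symm
  have htors' : ∀ v : ↥V, v ^ Nat.card F = 1 → v = 1 := by
    intro v hv
    have h1 := htors v v.2 (by have h2 := congrArg Subtype.val hv; simpa using h2)
    exact Subtype.ext h1
  have key := frob_norm_core (A := ↥V) (MulAut.conjNormal : X →* MulAut ↥V) F h n hn hhF hfix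
    hnorm' htors'
  intro f hf v hv
  have h1 := key f hf ⟨v, hv⟩
  have h2 := congrArg Subtype.val h1
  rw [hφ] at h2
  exact h2

end

section pgroup

theorem frob_norm_pgroup {L : Type*} [Group L] [Finite L] {p : ℕ} [Fact p.Prime]
    (P F : Subgroup L) [hPn : P.Normal] (hP : IsPGroup p P) (h : L) (n : ℕ) (hn : 0 < n)
    (hhF : ∀ f ∈ F, h * f * h⁻¹ ∈ F)
    (hfix : ∀ f ∈ F, ∀ j : ℕ, 0 < j → j < n → f * h ^ j = h ^ j * f → f = 1)
    (hnorm : ∀ u ∈ P, (u * h) ^ n = 1)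
    (hcop : (Nat.card F).Coprime p)
    (hdisj : (F ⊔ Subgroup.zpowers h) ⊓ P = ⊥) :
    F ≤ Subgroup.centralizer (P : Set L) := by
  classical
  obtain ⟨Φ, hΦ⟩ : ∃ Φ : Subgroup L, Φ = (frattini ↥P).map P.subtype := ⟨_, rfl⟩
  haveI hΦn : Φ.Normal := by rw [hΦ]; exact ConjAct.normal_of_characteristic_of_normal
  have hΦP : Φ ≤ P := by
    rw [hΦ]; rintro _ ⟨x, -, rfl⟩; exact x.2
  have hcomm : ∀ a ∈ P, ∀ b ∈ P, a * b * a⁻¹ * b⁻¹ ∈ Φ := by
    intro a ha b hb
    have h1 : commutator ↥P ≤ frattini ↥P := by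
      unfold frattini Order.radical
      exact le_iInf₂ (fun M hM => Cfsg.Agent.Lib.Helper1.commutator_le_coatom_of_isPGroup hP hM)
    have h2 : ⁅(⟨a, ha⟩ : ↥P), ⟨b, hb⟩⁆ ∈ commutator ↥P := by
      rw [commutator_def]
      exact Subgroup.commutator_mem_commutator (Subgroup.mem_top _) (Subgroup.mem_top _)
    rw [hΦ]
    exact ⟨_, h1 h2, by simp [commutatorElement_def]⟩
  obtain ⟨mk, hmkdef⟩ : ∃ mk : L →* L ⧸ Φ, mk = QuotientGroup.mk' Φ := ⟨_, rfl⟩
  have hmk1 : ∀ x : L, mk x = 1 ↔ x ∈ Φ := fun x => by rw [hmkdef]; exact QuotientGroup.eq_one_iff x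
  have hmksurj : Function.Surjective mk := by rw [hmkdef]; exact QuotientGroup.mk'_surjective Φ
  haveI hVn : (P.map mk).Normal := hPn.map mk hmksurj
  have hVab : ∀ a ∈ P.map mk, ∀ b ∈ P.map mk, a * b = b * a := by
    rintro _ ⟨a, ha, rfl⟩ _ ⟨b, hb, rfl⟩
    rw [← map_mul, ← map_mul]
    have h1 := hcomm a⁻¹ (P.inv_mem ha) b⁻¹ (P.inv_mem hb)
    have h2 : mk ((b * a)⁻¹ * (a * b)) = 1 := by
      rw [hmk1]
      have e : (b * a)⁻¹ * (a * b) = a⁻¹ * b⁻¹ * a⁻¹⁻¹ * b⁻¹⁻¹ := by group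
      rw [e]; exact h1
    rw [map_mul, map_inv, inv_mul_eq_one] at h2
    exact h2.symm
  have hhF' : ∀ f ∈ F.map mk, mk h * f * (mk h)⁻¹ ∈ F.map mk := by
    rintro _ ⟨f, hf, rfl⟩
    exact ⟨h * f * h⁻¹, hhF f hf, by simp⟩
  have hfix' : ∀ f ∈ F.map mk, ∀ j : ℕ, 0 < j → j < n → f * (mk h) ^ j = (mk h) ^ j * f → f = 1 := by
    rintro _ ⟨f, hf, rfl⟩ j hj0 hjn hcommf
    have h1 : mk ((h ^ j * f)⁻¹ * (f * h ^ j)) = 1 := by
      rw [map_mul, map_inv, inv_mul_eq_one, map_mul, map_mul, map_pow]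
      exact hcommf.symm
    rw [hmk1] at h1
    have h2 : (h ^ j * f)⁻¹ * (f * h ^ j) ∈ F ⊔ Subgroup.zpowers h := by
      have hfS : f ∈ F ⊔ Subgroup.zpowers h := (le_sup_left : F ≤ _) hf
      have hhS : h ^ j ∈ F ⊔ Subgroup.zpowers h :=
        (le_sup_right : Subgroup.zpowers h ≤ _) (Subgroup.pow_mem _ (Subgroup.mem_zpowers h) j)
      exact Subgroup.mul_mem _ (Subgroup.inv_mem _ (Subgroup.mul_mem _ hhS hfS))
        (Subgroup.mul_mem _ hfS hhS)
    have h3 : (h ^ j * f)⁻¹ * (f * h ^ j) ∈ (F ⊔ Subgroup.zpowers h) ⊓ P := ⟨h2, hΦP h1⟩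
    rw [hdisj, Subgroup.mem_bot, inv_mul_eq_one] at h3
    rw [hfix f hf j hj0 hjn h3.symm, map_one]
  have hnorm' : ∀ v ∈ P.map mk, (v * mk h) ^ n = 1 := by
    rintro _ ⟨u, hu, rfl⟩
    rw [← map_mul, ← map_pow, hnorm u hu, map_one]
  have htors' : ∀ v ∈ P.map mk, v ^ Nat.card (F.map mk) = 1 → v = 1 := by
    rintro _ ⟨u, hu, rfl⟩ hv
    have h1 : orderOf (mk u) ∣ Nat.card F :=
      (orderOf_dvd_of_pow_eq_one hv).trans (Subgroup.card_map_dvd F mk)
    obtain ⟨k, hk⟩ := hP ⟨u, hu⟩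
    have hk' : u ^ (p ^ k) = 1 := by
      have := congrArg Subtype.val hk
      simpa using this
    have h2 : orderOf (mk u) ∣ p ^ k := by
      apply orderOf_dvd_of_pow_eq_one
      rw [← map_pow, hk', map_one]
    have h3 : orderOf (mk u) = 1 :=
      Nat.eq_one_of_dvd_coprimes (Nat.Coprime.pow_right k hcop) h1 h2
    exact orderOf_eq_one_iff.1 h3
  have key := frob_norm_abelian (P.map mk) (F.map mk) hVab (mk h) n hn hhF' hfix' hnorm' htors'
  have htriv : ∀ a ∈ F, ∀ k ∈ P, a * k * a⁻¹ * k⁻¹ ∈ (frattini ↥P).map P.subtype := by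
    intro a ha k hk
    rw [← hΦ, ← hmk1]
    have h1 := key (mk a) (Subgroup.mem_map_of_mem mk ha) (mk k) (Subgroup.mem_map_of_mem mk hk)
    rw [map_mul, map_mul, map_mul, map_inv, map_inv, h1, mul_inv_cancel]
  have hcopΦ : (Nat.card F).Coprime (Nat.card (frattini ↥P)) := by
    obtain ⟨k, hk⟩ := IsPGroup.iff_card.1 (hP.to_subgroup (frattini ↥P))
    rw [hk]
    exact Nat.Coprime.pow_right k hcop
  have hFP : F ≤ Subgroup.normalizer (P : Set L) := by
    rw [Subgroup.normalizer_eq_top_iff.2 hPn]; exact le_top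
  exact Cfsg.Agent.S0029.result F P hFP hcopΦ htriv

end pgroup

section main
variable {G : Type*} [Group G] [Finite G]

theorem frobKer_mem_iff (H : Subgroup G) (u : G) :
    u ∈ Cfsg.frobeniusKernel H ↔ u = 1 ∨ ∀ g : G, u ∉ cj g H := Iff.rfl

theorem exists_order_of_pow_ne_one (N : Subgroup G) [N.Normal] (g : G) (n : ℕ)
    (hn : orderOf ((QuotientGroup.mk' N) g) = n) (hg : g ^ n ≠ 1) :
    ∃ p : ℕ, p.Prime ∧ p ∣ Nat.card N ∧ ∃ g' : G, orderOf g' = p * n := by
  have hn0 : n ≠ 0 := by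
    rw [← hn]; exact (orderOf_pos _).ne'
  have hgN : g ^ n ∈ N := by
    rw [← QuotientGroup.eq_one_iff, ← QuotientGroup.mk'_apply, map_pow, ← hn]
    exact pow_orderOf_eq_one _
  have hm1 : orderOf (g ^ n) ≠ 1 := fun h1 => hg (orderOf_eq_one_iff.1 h1)
  obtain ⟨p, hp, hpd⟩ := Nat.exists_prime_and_dvd hm1
  have hndvd : n ∣ orderOf g := by
    rw [← hn]; exact orderOf_map_dvd _ g
  have hord : orderOf (g ^ n) = orderOf g / n := orderOf_pow_of_dvd hn0 hndvd
  have hpn : p * n ∣ orderOf g := by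
    obtain ⟨t, ht⟩ := hndvd
    rw [hord, ht, Nat.mul_div_cancel_left _ (Nat.pos_of_ne_zero hn0)] at hpd
    rw [ht, mul_comm p n]
    exact Nat.mul_dvd_mul_left n hpd
  refine ⟨p, hp, hpd.trans (Subgroup.orderOf_dvd_natCard N hgN), g ^ (orderOf g / (p * n)), ?_⟩
  have hpn0 : p * n ≠ 0 := Nat.mul_ne_zero hp.ne_zero hn0
  have hk0 : orderOf g / (p * n) ≠ 0 := by
    have hpos : 0 < orderOf g := orderOf_pos g
    exact (Nat.div_pos (Nat.le_of_dvd hpos hpn) (Nat.pos_of_ne_zero hpn0)).ne'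
  rw [orderOf_pow_of_dvd hk0 (Nat.div_dvd_of_dvd hpn), Nat.div_div_self hpn (orderOf_pos g).ne']

theorem frob_quotient_element_order (N : Subgroup G) [hNn : N.Normal]
    (Fb Hb : Subgroup (G ⧸ N)) [Fb.Normal] (hHb : Cfsg.IsFrobeniusComplement Hb)
    (hker : Cfsg.frobeniusKernel Hb = (Fb : Set (G ⧸ N)))
    (hcyc : IsCyclic Hb) (hcop : (Nat.card Fb).Coprime (Nat.card N))
    (hnot : ¬ Fb ≤ (Subgroup.centralizer (N : Set G)).map (QuotientGroup.mk' N)) :
    ∃ p : ℕ, p.Prime ∧ p ∣ Nat.card N ∧ ∃ g : G, orderOf g = p * Nat.card Hb := by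
  classical
  obtain ⟨π, hπdef⟩ : ∃ π : G →* G ⧸ N, π = QuotientGroup.mk' N := ⟨_, rfl⟩
  rw [← hπdef] at hnot
  have hπsurj : Function.Surjective π := by rw [hπdef]; exact QuotientGroup.mk'_surjective N
  have hπ1 : ∀ x : G, π x = 1 ↔ x ∈ N := fun x => by rw [hπdef]; exact QuotientGroup.eq_one_iff x
  obtain ⟨hb, hhb⟩ := hcyc.exists_generator
  obtain ⟨hbar, hbardef⟩ : ∃ hbar : G ⧸ N, hbar = (hb : G ⧸ N) := ⟨_, rfl⟩
  have hbarH : hbar ∈ Hb := by rw [hbardef]; exact hb.2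
  obtain ⟨n, hndef⟩ : ∃ n : ℕ, n = Nat.card Hb := ⟨_, rfl⟩
  have hordbar : orderOf hbar = n := by
    rw [hbardef, Subgroup.orderOf_coe, hndef]
    exact orderOf_eq_card_of_forall_mem_zpowers hhb
  have hn : 0 < n := by rw [hndef]; exact Nat.card_pos
  rw [← hndef]
  by_contra hcon
  have hall : ∀ g : G, π g = hbar → g ^ n = 1 := by
    intro g hg
    by_contra hne
    apply hcon
    apply exists_order_of_pow_ne_one N g n _ hne
    rw [← hπdef, hg]; exact hordbar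
  -- Frobenius facts
  have hFH : ∀ x : G ⧸ N, x ∈ Fb → x ∈ Hb → x = 1 := by
    intro x hxF hxH
    have h1 : x ∈ Cfsg.frobeniusKernel Hb := by rw [hker]; exact hxF
    rcases (frobKer_mem_iff Hb x).1 h1 with h2 | h2
    · exact h2
    · exact absurd (by rw [cj_one]; exact hxH) (h2 1)
  have hcent : ∀ f ∈ Fb, ∀ y ∈ Hb, y ≠ 1 → f * y = y * f → f = 1 := by
    intro f hf y hy hy1 hfy
    by_cases hfH : f ∈ Hb
    · exact hFH f hf hfH
    · exfalso
      have h1 : Hb ⊓ cj f Hb = ⊥ := hHb.2.2 f hfH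
      have h2 : y ∈ cj f Hb := by
        have h3 := conj_mem_cj f Hb hy
        have e : f * y * f⁻¹ = y := by rw [hfy]; group
        rwa [e] at h3
      have h3 : y ∈ Hb ⊓ cj f Hb := ⟨hy, h2⟩
      rw [h1, Subgroup.mem_bot] at h3
      exact hy1 h3
  -- Fb is nilpotent, hence solvable
  haveI hFbsol : Group.IsSolvable ↥Fb := by
    obtain ⟨N', hN'set, -, hN'nil⟩ := Cfsg.Agent.S0042.result Hb hHb
    have hN' : N' = Fb := SetLike.coe_injective (hN'set.trans hker)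
    subst hN'
    haveI := hN'nil
    infer_instance
  -- the preimage F of Fb
  obtain ⟨F, hFdef⟩ : ∃ F : Subgroup G, F = Fb.comap π := ⟨_, rfl⟩
  haveI hFn : F.Normal := by rw [hFdef]; infer_instance
  have hFmem : ∀ x : G, x ∈ F ↔ π x ∈ Fb := fun x => by rw [hFdef, Subgroup.mem_comap]
  have hNF : N ≤ F := by
    intro x hx
    rw [hFmem, (hπ1 x).2 hx]; exact Fb.one_mem
  have hFcard : Nat.card F = Nat.card N * Nat.card Fb := by
    have h1 : F.index = Fb.index := by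
      rw [hFdef]; exact Subgroup.index_comap_of_surjective Fb hπsurj
    have h2 := Subgroup.card_mul_index F
    have h3 := Subgroup.card_mul_index Fb
    have h4 := Subgroup.card_eq_card_quotient_mul_card_subgroup N
    have h5 : Fb.index ≠ 0 := Subgroup.index_ne_zero_of_finite
    rw [h1] at h2
    have h6 : Nat.card F * Fb.index = Nat.card N * Nat.card Fb * Fb.index := by
      rw [h2, h4, ← h3]; ring
    exact Nat.eq_of_mul_eq_mul_right (Nat.pos_of_ne_zero h5) h6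
  have hnormN : ∀ S : Subgroup G, S ≤ Subgroup.normalizer (N : Set G) := by
    intro S
    rw [Subgroup.normalizer_eq_top_iff.2 hNn]; exact le_top
  have hrel : N.relIndex F = Nat.card Fb := by
    have h1 := Subgroup.card_mul_index (N.subgroupOf F)
    rw [card_subgroupOf_of_le hNF, hFcard] at h1
    exact Nat.eq_of_mul_eq_mul_left Nat.card_pos h1
  obtain ⟨F0, hF0F, hF0card, hNF0⟩ := sz_exists_sub F N hNF (hnormN F)
    (by rw [hrel]; exact hcop.symm)
  have hF0card' : Nat.card F0 = Nat.card Fb := by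
    rw [hFcard] at hF0card
    exact Nat.eq_of_mul_eq_mul_left Nat.card_pos hF0card
  have hcopF0 : (Nat.card F0).Coprime (Nat.card N) := by rw [hF0card']; exact hcop
  have hF0N : ∀ x : G, x ∈ F0 → x ∈ N → x = 1 := by
    intro x hx hxN
    have : x ∈ N ⊓ F0 := ⟨hxN, hx⟩
    rwa [hNF0, Subgroup.mem_bot] at this
  have hF0π : ∀ x ∈ F0, π x ∈ Fb := fun x hx => (hFmem x).1 (hF0F hx)
  haveI hF0sol : Group.IsSolvable ↥F0 := by
    let ψ : ↥F0 →* ↥Fb := (π.comp F0.subtype).codRestrict Fb (fun x => hF0π x.1 x.2)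
    have hψ : Function.Injective ψ := by
      intro x y hxy
      have h1 : π (x : G) = π (y : G) := congrArg Subtype.val hxy
      have h2 : π ((x : G)⁻¹ * (y : G)) = 1 := by
        rw [map_mul, map_inv, h1, inv_mul_cancel]
      have h3 := hF0N _ (F0.mul_mem (F0.inv_mem x.2) y.2) ((hπ1 _).1 h2)
      exact Subtype.ext (inv_mul_eq_one.1 h3)
    exact Group.isSolvable_of_isSolvable_injective hψ
  have hF0map : F0.map π = Fb := by
    apply Subgroup.eq_of_le_of_card_ge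
    · rintro _ ⟨x, hx, rfl⟩; exact hF0π x hx
    · rw [← hF0card']
      let ψ : ↥F0 → ↥(F0.map π) := fun x => ⟨π x.1, Subgroup.mem_map_of_mem π x.2⟩
      have hψ : Function.Injective ψ := by
        intro x y hxy
        have h1 : π (x : G) = π (y : G) := congrArg Subtype.val hxy
        have h2 : π ((x : G)⁻¹ * (y : G)) = 1 := by
          rw [map_mul, map_inv, h1, inv_mul_cancel]
        have h3 := hF0N _ (F0.mul_mem (F0.inv_mem x.2) y.2) ((hπ1 _).1 h2)
        exact Subtype.ext (inv_mul_eq_one.1 h3)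
      exact Nat.card_le_card_of_injective ψ hψ
  have hsupF : N ⊔ F0 = F := by
    apply Subgroup.eq_of_le_of_card_ge (sup_le hNF hF0F)
    rw [act_card_sup F0 N (hnormN F0) hcopF0, hF0card]
  -- Frattini argument
  have hfrat : ∀ x : G, ∃ u ∈ N, cj u F0 = cj x F0 := by
    intro x
    apply sz_act_conj F0 N (hnormN F0) hcopF0 (Or.inl hF0sol) (cj x F0)
    · rw [hsupF, ← cj_self_of_normal F x]
      exact cj_mono x hF0F
    · exact card_cj' x F0
  obtain ⟨x₀, hx₀⟩ := hπsurj hbar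
  obtain ⟨u, huN, hu⟩ := hfrat x₀
  obtain ⟨h0, hh0def⟩ : ∃ h0 : G, h0 = u⁻¹ * x₀ := ⟨_, rfl⟩
  have hh0F0 : cj h0 F0 = F0 := by
    rw [hh0def, cj_mul, ← hu, cj_inv_cj']
  have hh0π : π h0 = hbar := by
    rw [hh0def, map_mul, map_inv, (hπ1 u).2 huN, inv_one, one_mul, hx₀]
  -- an invariant Sylow subgroup not centralized by F0
  have hexP : ∃ (p : ℕ) (_ : Fact p.Prime) (P : Sylow p ↥N),
      F0 ≤ Subgroup.normalizer (((P : Subgroup ↥N).map N.subtype : Subgroup G) : Set G) ∧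
      ¬ F0 ≤ Subgroup.centralizer (((P : Subgroup ↥N).map N.subtype : Subgroup G) : Set G) := by
    by_contra hno
    apply hnot
    have hNC : N ≤ Subgroup.centralizer (F0 : Set G) := by
      have hidx : ((Subgroup.centralizer (F0 : Set G)).subgroupOf N).index = 1 := by
        rw [Nat.eq_one_iff_not_exists_prime_dvd]
        intro p hp hpd
        haveI : Fact p.Prime := ⟨hp⟩
        obtain ⟨P, hPinv⟩ := Cfsg.Agent.S0023.result F0 N (hnormN F0) hcopF0 (Or.inl hF0sol) p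
        have hPc : F0 ≤ Subgroup.centralizer
            (((P : Subgroup ↥N).map N.subtype : Subgroup G) : Set G) := by
          by_contra hPc
          exact hno ⟨p, ⟨hp⟩, P, hPinv, hPc⟩
        have hPle : (P : Subgroup ↥N) ≤ (Subgroup.centralizer (F0 : Set G)).subgroupOf N := by
          intro x hx
          rw [Subgroup.mem_subgroupOf]
          have h1 : (x : G) ∈ ((P : Subgroup ↥N).map N.subtype : Subgroup G) := ⟨x, hx, rfl⟩
          exact (Subgroup.le_centralizer_iff.1 hPc) h1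
        exact P.not_dvd_index (hpd.trans (Subgroup.index_dvd_of_le hPle))
      intro x hx
      have h1 : (⟨x, hx⟩ : ↥N) ∈ (Subgroup.centralizer (F0 : Set G)).subgroupOf N := by
        rw [Subgroup.index_eq_one.1 hidx]; exact Subgroup.mem_top _
      exact h1
    rw [← hF0map]
    exact Subgroup.map_mono (Subgroup.le_centralizer_iff.1 hNC)
  obtain ⟨p, hpF, P, hPinv, hPnc⟩ := hexP
  haveI := hpF
  obtain ⟨P', hP'def⟩ : ∃ P' : Subgroup G, P' = (P : Subgroup ↥N).map N.subtype := ⟨_, rfl⟩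
  rw [← hP'def] at hPinv hPnc
  have hP'N : P' ≤ N := by rw [hP'def]; exact Subgroup.map_subtype_le _
  have hP'p : IsPGroup p P' := by rw [hP'def]; exact P.2.map _
  have hP'card : Nat.card P' = p ^ (Nat.card N).factorization p := by
    rw [hP'def, Subgroup.card_map_of_injective N.subtype_injective]
    exact P.card_eq_multiplicity
  -- adjust h0 to normalize P'
  have hQ'N : cj h0 P' ≤ N := by
    rw [← cj_self_of_normal N h0]; exact cj_mono h0 hP'N
  obtain ⟨P₂, hP₂def⟩ : ∃ P₂ : Sylow p ↥N, P₂ = Sylow.ofCard ((cj h0 P').subgroupOf N) (by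
      rw [card_subgroupOf_of_le hQ'N, card_cj', hP'card]) := ⟨_, rfl⟩
  have hP₂map : (P₂ : Subgroup ↥N).map N.subtype = cj h0 P' := by
    rw [hP₂def, Sylow.coe_ofCard, Subgroup.subgroupOf_map_subtype, inf_of_le_left hQ'N]
  have hcjinv : ∀ g : G, cj g F0 = F0 → ∀ f ∈ F0, g⁻¹ * f * g ∈ F0 := by
    intro g hg f hf
    have h1 : f ∈ cj g F0 := by rw [hg]; exact hf
    exact (mem_cj_iff g F0 f).1 h1
  have hQinv : F0 ≤ Subgroup.normalizer (((P₂ : Subgroup ↥N).map N.subtype : Subgroup G) : Set G) := by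
    rw [hP₂map]
    intro f hf
    rw [Subgroup.mem_normalizer_iff_map_conj_eq]
    show cj f (cj h0 P') = cj h0 P'
    have h1 : h0⁻¹ * f * h0 ∈ F0 := hcjinv h0 hh0F0 f hf
    have h2 : cj (h0⁻¹ * f * h0) P' = P' := cj_eq_of_mem_normalizer (hPinv h1)
    have e : f * h0 = h0 * (h0⁻¹ * f * h0) := by group
    rw [← cj_mul, e, cj_mul, h2]
  obtain ⟨c, hcC, hcP⟩ := Cfsg.Agent.S0024.result F0 N (hnormN F0) hcopF0 (Or.inl hF0sol) p P P₂
    (by rw [← hP'def]; exact hPinv) hQinv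
  have hcP' : cj (c : G) P' = cj h0 P' := by
    rw [hP'def, ← sylow_map_smul N c P, hcP, hP₂map, hP'def]
  obtain ⟨h1, hh1def⟩ : ∃ h1 : G, h1 = (c : G)⁻¹ * h0 := ⟨_, rfl⟩
  have hh1P : cj h1 P' = P' := by
    rw [hh1def, cj_mul, ← hcP', cj_inv_cj']
  have hcF0 : cj (c : G)⁻¹ F0 = F0 := by
    ext x
    rw [mem_cj_iff, inv_inv]
    have hcomm : ∀ y ∈ F0, y * (c : G) = (c : G) * y := Subgroup.mem_centralizer_iff.1 hcC
    constructor
    · intro hx
      have h2 := hcomm _ hx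
      have e : x = (c : G)⁻¹ * ((c : G) * x * (c : G)⁻¹ * (c : G)) := by group
      rw [e, h2]
      have e2 : (c : G)⁻¹ * ((c : G) * ((c : G) * x * (c : G)⁻¹)) = (c : G) * x * (c : G)⁻¹ := by group
      rw [e2]; exact hx
    · intro hx
      have h2 := hcomm _ hx
      have e : (c : G) * x * (c : G)⁻¹ = x := by rw [← h2]; group
      rw [e]; exact hx
  have hh1F0 : cj h1 F0 = F0 := by
    rw [hh1def, cj_mul, hh0F0, hcF0]
  have hh1π : π h1 = hbar := by
    rw [hh1def, map_mul, map_inv, (hπ1 (c : G)).2 c.2, inv_one, one_mul, hh0π]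
  have hh1n : h1 ^ n = 1 := hall h1 hh1π
  -- work in the normalizer of P'
  obtain ⟨Nm, hNmdef⟩ : ∃ Nm : Subgroup G, Nm = Subgroup.normalizer (P' : Set G) := ⟨_, rfl⟩
  have hF0Nm : F0 ≤ Nm := by rw [hNmdef]; exact hPinv
  have hP'Nm : P' ≤ Nm := by rw [hNmdef]; exact Subgroup.le_normalizer
  have hh1Nm : h1 ∈ Nm := by
    rw [hNmdef, Subgroup.mem_normalizer_iff_map_conj_eq]; exact hh1P
  haveI hPLn : (P'.subgroupOf Nm).Normal := by
    rw [hNmdef]; exact Subgroup.normal_in_normalizer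
  have hP'ne : P' ≠ ⊥ := by
    intro hbot
    apply hPnc
    rw [hbot]
    intro f _
    rw [Subgroup.mem_centralizer_iff]
    intro y hy
    have hy1 : y = 1 := (Subgroup.mem_bot.1 hy)
    rw [hy1, one_mul, mul_one]
  have hpN : p ∣ Nat.card N := by
    have h1 : Nat.card P' ≠ 1 := fun h1 => hP'ne (Subgroup.card_eq_one.1 h1)
    obtain ⟨k, hk⟩ := IsPGroup.iff_card.1 hP'p
    have hk0 : k ≠ 0 := by
      rintro rfl; exact h1 (by rw [hk, pow_zero])
    have h2 : p ∣ Nat.card P' := by rw [hk]; exact dvd_pow_self p hk0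
    exact h2.trans (Subgroup.card_dvd_of_le hP'N)
  have hkey := frob_norm_pgroup (L := ↥Nm) (P'.subgroupOf Nm) (F0.subgroupOf Nm)
    hP'p.comap_subtype (⟨h1, hh1Nm⟩ : ↥Nm) n hn
    (by
      intro f hf
      rw [Subgroup.mem_subgroupOf] at hf ⊢
      have h2 := conj_mem_cj h1 F0 hf
      rw [hh1F0] at h2
      exact h2)
    (by
      intro f hf j hj0 hjn hfj
      rw [Subgroup.mem_subgroupOf] at hf
      have h2 : (f : G) * h1 ^ j = h1 ^ j * (f : G) := by
        have := congrArg Subtype.val hfj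
        simpa using this
      have h3 : π (f : G) * hbar ^ j = hbar ^ j * π (f : G) := by
        rw [← hh1π, ← map_pow, ← map_mul, ← map_mul, h2]
      have h4 : hbar ^ j ≠ 1 := by
        apply pow_ne_one_of_lt_orderOf (by omega)
        rw [hordbar]; exact hjn
      have h5 := hcent _ (hF0π _ hf) _ (Hb.pow_mem hbarH j) h4 h3
      have h6 := hF0N _ hf ((hπ1 _).1 h5)
      exact Subtype.ext h6)
    (by
      intro u hu
      rw [Subgroup.mem_subgroupOf] at hu
      have h2 : ((u : G) * h1) ^ n = 1 := by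
        apply hall
        rw [map_mul, (hπ1 _).2 (hP'N hu), one_mul, hh1π]
      exact Subtype.ext (by simpa using h2))
    (by
      rw [card_subgroupOf_of_le hF0Nm, hF0card']
      exact Nat.Coprime.coprime_dvd_right hpN hcop)
    (by
      rw [eq_bot_iff]
      intro k hk
      obtain ⟨hk1, hk2⟩ := Subgroup.mem_inf.1 hk
      rw [Subgroup.mem_bot]
      have hnorm2 : Subgroup.zpowers (⟨h1, hh1Nm⟩ : ↥Nm) ≤
          Subgroup.normalizer ((F0.subgroupOf Nm : Subgroup ↥Nm) : Set ↥Nm) := by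
        rw [Subgroup.zpowers_le, Subgroup.mem_normalizer_iff]
        intro x
        rw [Subgroup.mem_subgroupOf, Subgroup.mem_subgroupOf]
        constructor
        · intro hx
          have h2 := conj_mem_cj h1 F0 hx
          rw [hh1F0] at h2
          exact h2
        · intro hx
          have hx' : h1 * (x : G) * h1⁻¹ ∈ F0 := hx
          have h2 := hcjinv h1 hh1F0 _ hx'
          have e : h1⁻¹ * (h1 * (x : G) * h1⁻¹) * h1 = (x : G) := by group
          rwa [e] at h2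
      obtain ⟨f, hf, z, hz, rfl⟩ := act_mem_sup _ _ hnorm2 hk1
      obtain ⟨i, rfl⟩ := Subgroup.mem_zpowers_iff.1 hz
      rw [Subgroup.mem_subgroupOf] at hf hk2
      have hk2' : (f : G) * h1 ^ i ∈ P' := by
        have : ((f * (⟨h1, hh1Nm⟩ : ↥Nm) ^ i : ↥Nm) : G) = (f : G) * h1 ^ i := by simp
        rw [← this]; exact hk2
      have h3 : π (f : G) * hbar ^ i = 1 := by
        rw [← hh1π, ← map_zpow, ← map_mul]
        exact (hπ1 _).2 (hP'N hk2')
      have h4 : hbar ^ i = (π (f : G))⁻¹ := eq_inv_of_mul_eq_one_right h3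
      have h5 : hbar ^ i = 1 := by
        apply hFH _ _ (Hb.zpow_mem hbarH i)
        rw [h4]; exact Fb.inv_mem (hF0π _ hf)
      have h6 : π (f : G) = 1 := by rw [h5, mul_one] at h3; exact h3
      have h7 : (f : G) = 1 := hF0N _ hf ((hπ1 _).1 h6)
      have h8 : h1 ^ i = 1 := by
        have hdvd : (n : ℤ) ∣ i := by
          rw [← hordbar]; exact orderOf_dvd_iff_zpow_eq_one.2 h5
        obtain ⟨t, rfl⟩ := hdvd
        rw [zpow_mul, zpow_natCast, hh1n, one_zpow]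
      apply Subtype.ext
      have : ((f * (⟨h1, hh1Nm⟩ : ↥Nm) ^ i : ↥Nm) : G) = (f : G) * h1 ^ i := by simp
      rw [this, h7, h8, one_mul]; rfl)
  apply hPnc
  intro f hf
  rw [Subgroup.mem_centralizer_iff]
  intro y hy
  have h2 : (⟨f, hF0Nm hf⟩ : ↥Nm) ∈ Subgroup.centralizer ((P'.subgroupOf Nm : Subgroup ↥Nm) : Set ↥Nm) :=
    hkey (by rw [Subgroup.mem_subgroupOf]; exact hf)
  have h3 := (Subgroup.mem_centralizer_iff.1 h2) ⟨y, hP'Nm hy⟩ (by
    show (⟨y, hP'Nm hy⟩ : ↥Nm) ∈ P'.subgroupOf Nm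
    rw [Subgroup.mem_subgroupOf]; exact hy)
  exact congrArg Subtype.val h3

end main

end Cfsg.Agent.Lib.Helper4
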