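import Cfsg.Prelude.Def_Transfer
import Cfsg.Agent.Lib.Helper4.Fusion
import Cfsg.Agent.Lib.Helper4.NormalPComplement
import Cfsg.Agent.Lib.Helper4.ConjSub
import Mathlib

set_option autoImplicit false
set_option linter.unusedSectionVars false

namespace Cfsg.Agent.Lib.Helper4

open Cfsg

section basic
variable {H : Type*} [Group H] [Finite H] (p : ℕ) [hp : Fact p.Prime]

/-- If all `p'`-elements lie in the normal subgroup `C`, the quotient is a `p`-group. -/
theorem isPGroup_quotient_of_coprime_mem (C : Subgroup H) [C.Normal]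
    (hC : ∀ g : H, (orderOf g).Coprime p → g ∈ C) : IsPGroup p (H ⧸ C) := by
  intro x
  induction x using QuotientGroup.induction_on with
  | H g =>
    have h0 : orderOf g ≠ 0 := (orderOf_pos g).ne'
    obtain ⟨e, m, hm, hem⟩ := Nat.exists_eq_pow_mul_and_not_dvd h0 p hp.out.ne_one
    refine ⟨e, ?_⟩
    rw [← QuotientGroup.mk_pow]
    refine (QuotientGroup.eq_one_iff _).2 (hC _ ?_)
    rw [orderOf_pow, hem]
    have hpe : 0 < p ^ e := pow_pos hp.out.pos e
    have hgcd : (p ^ e * m).gcd (p ^ e) = p ^ e := Nat.gcd_eq_right (Dvd.intro _ rfl)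
    rw [hgcd, Nat.mul_div_cancel_left _ hpe]
    exact (Nat.Coprime.symm ((Nat.Prime.coprime_iff_not_dvd hp.out).2 hm))

/-- In a `p`-group quotient, elements of order prime to `p` are trivial. -/
theorem mem_of_coprime_of_isPGroup_quotient (K : Subgroup H) [K.Normal] (hK : IsPGroup p (H ⧸ K))
    (g : H) (hg : (orderOf g).Coprime p) : g ∈ K := by
  rw [← QuotientGroup.eq_one_iff]
  obtain ⟨k, hk⟩ := hK (g : H ⧸ K)
  have h1 : orderOf (g : H ⧸ K) ∣ p ^ k := orderOf_dvd_of_pow_eq_one hk
  have h2 : orderOf (g : H ⧸ K) ∣ orderOf g := orderOf_map_dvd (QuotientGroup.mk' K) g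
  have h3 : (orderOf (g : H ⧸ K)).Coprime (p ^ k) :=
    Nat.Coprime.pow_right k (Nat.Coprime.coprime_dvd_left h2 hg)
  exact orderOf_eq_one_iff.1 (Nat.Coprime.eq_one_of_dvd h3 h1)

theorem mem_iff_coprime_of_normal_hall (K : Subgroup H) [K.Normal] (hcard : (Nat.card K).Coprime p)
    (hK : IsPGroup p (H ⧸ K)) (g : H) : g ∈ K ↔ (orderOf g).Coprime p := by
  constructor
  · intro hg
    have h1 : orderOf (⟨g, hg⟩ : K) ∣ Nat.card K := orderOf_dvd_natCard _
    have h2 : orderOf (⟨g, hg⟩ : K) = orderOf g := Subgroup.orderOf_mk g hg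
    rw [← h2]
    exact Nat.Coprime.coprime_dvd_left h1 hcard
  · exact mem_of_coprime_of_isPGroup_quotient p K hK g

theorem exists_normal_hall_of_hasNormalPComplement (h : HasNormalPComplement p H) :
    ∃ (K : Subgroup H) (_ : K.Normal), (Nat.card K).Coprime p ∧ IsPGroup p (H ⧸ K) := by
  obtain ⟨P, N, hN, hc⟩ := h
  refine ⟨N, hN, ?_, ?_⟩
  · have h1 : Nat.card N * Nat.card P = Nat.card H := hc.card_mul_card
    have h2 : Nat.card P = p ^ (Nat.card H).factorization p := Sylow.card_eq_multiplicity P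
    have hHpos : Nat.card H ≠ 0 := Nat.card_pos.ne'
    have h3 : Nat.card N = (Nat.card H) / p ^ (Nat.card H).factorization p := by
      have : Nat.card H = Nat.card N * p ^ (Nat.card H).factorization p := by rw [← h2, h1]
      exact (Nat.div_eq_of_eq_mul_left (pow_pos hp.out.pos _) this).symm
    rw [h3]
    exact (Nat.coprime_ordCompl hp.out hHpos).symm
  · have h1 : N.index = Nat.card P := hc.symm.index_eq_card
    obtain ⟨a, ha⟩ := (IsPGroup.iff_card).1 P.2
    apply IsPGroup.of_card (n := a)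
    rw [← Subgroup.index_eq_card, h1, ha]

end basic

section frob
variable {G : Type*} [Group G]

/-- Frobenius' hypothesis: `p'`-elements normalizing a `p`-subgroup centralize it. -/
def FrobHyp (p : ℕ) (G : Type*) [Group G] : Prop :=
  ∀ Q : Subgroup G, IsPGroup p Q → ∀ g ∈ Subgroup.normalizer (Q : Set G), (orderOf g).Coprime p →
    g ∈ Subgroup.centralizer (Q : Set G)

theorem frobHyp_subgroup {p : ℕ} (h : FrobHyp p G) (H : Subgroup G) : FrobHyp p H := by
  intro Q hQ g hg hgp
  have hQ' : IsPGroup p (Q.map H.subtype) := hQ.map H.subtype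
  have hg' : (g : G) ∈ Subgroup.normalizer ((Q.map H.subtype : Subgroup G) : Set G) :=
    Subgroup.le_normalizer_map H.subtype ⟨g, hg, rfl⟩
  have hord : orderOf (g : G) = orderOf g := Subgroup.orderOf_coe g
  have h1 := h _ hQ' _ hg' (by rw [hord]; exact hgp)
  rw [Subgroup.mem_centralizer_iff] at h1 ⊢
  intro q hq
  apply Subtype.ext
  have := h1 (q : G) ⟨q, hq, rfl⟩
  simpa using this

/-- Under Frobenius' hypothesis, `N_G(U) = N_S(U) C_G(U)` when `N_S(U)` is Sylow in `N_G(U)`. -/
theorem frob_normalizer [Finite G] {p : ℕ} [hp : Fact p.Prime] (h : FrobHyp p G) (S : Subgroup G)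
    (hS : IsPGroup p S) (U : Subgroup G) (hU : U ≤ S)
    (hidx : ¬ p ∣ (S ⊓ Subgroup.normalizer (U : Set G)).relIndex (Subgroup.normalizer (U : Set G)))
    (x : G) (hx : x ∈ Subgroup.normalizer (U : Set G)) :
    ∃ s ∈ S ⊓ Subgroup.normalizer (U : Set G), ∀ u ∈ U, s * u * s⁻¹ = x * u * x⁻¹ := by
  classical
  set M : Subgroup G := Subgroup.normalizer (U : Set G) with hM
  -- work inside M
  set C : Subgroup M := (Subgroup.centralizer (U : Set G)).subgroupOf M with hC
  have hCn : C.Normal := by
    refine ⟨fun n hn g => ?_⟩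
    rw [hC, Subgroup.mem_subgroupOf, Subgroup.mem_centralizer_iff] at hn ⊢
    intro u hu
    have hgu : (g : G)⁻¹ * u * (g : G) ∈ U := by
      have := (Subgroup.mem_normalizer_iff.1 (inv_mem g.2) u).1 hu
      simpa using this
    have := hn _ hgu
    have e1 : u * ((g * n * g⁻¹ : M) : G) = (g : G) * (((g : G)⁻¹ * u * (g : G)) * (n : G)) * (g : G)⁻¹ := by
      simp only [Subgroup.coe_mul, Subgroup.coe_inv]; group
    have e2 : ((g * n * g⁻¹ : M) : G) * u = (g : G) * ((n : G) * ((g : G)⁻¹ * u * (g : G))) * (g : G)⁻¹ := by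
      simp only [Subgroup.coe_mul, Subgroup.coe_inv]; group
    rw [e1, e2, this]
  have hCmem : ∀ g : M, (orderOf g).Coprime p → g ∈ C := by
    intro g hg
    rw [hC, Subgroup.mem_subgroupOf]
    exact h U (hS.to_le hU) g g.2 (by rw [Subgroup.orderOf_coe]; exact hg)
  have hquot : IsPGroup p (M ⧸ C) := isPGroup_quotient_of_coprime_mem p C hCmem
  set P : Subgroup M := (S ⊓ M).subgroupOf M with hP
  have hPidx : ¬ p ∣ P.index := hidx
  set D : Subgroup M := P ⊔ C with hD
  have hD1 : D.index ∣ P.index := Subgroup.index_dvd_of_le le_sup_left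
  have hD2 : D.index ∣ C.index := Subgroup.index_dvd_of_le le_sup_right
  obtain ⟨a, ha⟩ := (IsPGroup.iff_card).1 hquot
  have hCidx : C.index = p ^ a := by rw [Subgroup.index_eq_card]; exact ha
  have hDtop : D = ⊤ := by
    rw [← Subgroup.index_eq_one]
    rw [hCidx] at hD2
    obtain ⟨k, -, hk⟩ := (Nat.dvd_prime_pow hp.out).1 hD2
    rcases Nat.eq_zero_or_pos k with h0 | hpos
    · rw [hk, h0, pow_zero]
    · exfalso
      apply hPidx
      refine dvd_trans ?_ hD1
      rw [hk]
      exact dvd_pow_self p hpos.ne'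
  have hxD : (⟨x, hx⟩ : M) ∈ P ⊔ C := by rw [← hD, hDtop]; exact Subgroup.mem_top _
  rw [Subgroup.mem_sup_of_normal_right] at hxD
  obtain ⟨s, hs, c, hc, hsc⟩ := hxD
  refine ⟨(s : G), hs, fun u hu => ?_⟩
  have hc' : (c : G) ∈ Subgroup.centralizer (U : Set G) := hc
  have hcu : (c : G) * u = u * (c : G) := ((Subgroup.mem_centralizer_iff.1 hc') u hu).symm
  have hx' : x = (s : G) * (c : G) := by
    have := congrArg (fun z : M => (z : G)) hsc
    simpa using this.symm
  rw [hx']
  have : (s : G) * (c : G) * u * ((s : G) * (c : G))⁻¹ = (s : G) * ((c : G) * u * (c : G)⁻¹) * (s : G)⁻¹ := by group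
  rw [this, hcu]
  group

/-- Under Frobenius' hypothesis a Sylow `p`-subgroup controls its own fusion. -/
theorem frob_fuses [Finite G] {p : ℕ} [hp : Fact p.Prime] (h : FrobHyp p G) (S : Sylow p G)
    (A : Set G) (g : G)
    (hF : Fuses {U : Subgroup G | U ≤ (S : Subgroup G) ∧
      ¬ p ∣ ((S : Subgroup G) ⊓ Subgroup.normalizer (U : Set G)).relIndex (Subgroup.normalizer (U : Set G))} A g) :
    ∃ s ∈ (S : Subgroup G), ∀ a ∈ A, s⁻¹ * a * s = g⁻¹ * a * g := by
  induction hF with
  | nil A => exact ⟨1, Subgroup.one_mem _, fun a _ => by simp⟩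
  | cons A T y g' hT hy hAT _ ih =>
    obtain ⟨s', hs', hs'A⟩ := ih
    obtain ⟨s₁, hs₁, hs₁T⟩ := frob_normalizer h (S : Subgroup G) S.2 T hT.1 hT.2 y⁻¹ (inv_mem hy)
    refine ⟨s₁⁻¹ * s', Subgroup.mul_mem _ (inv_mem hs₁.1) hs', fun a ha => ?_⟩
    have h1 := hs₁T a (hAT ha)
    have h2 : y⁻¹ * a * y ∈ rc y A := ⟨a, ha, rfl⟩
    have h3 := hs'A _ h2
    have h4 : (s₁⁻¹ * s')⁻¹ * a * (s₁⁻¹ * s') = s'⁻¹ * (s₁ * a * s₁⁻¹) * s' := by group
    rw [h4, h1, inv_inv, h3]
    group

theorem frob_control [Finite G] {p : ℕ} [hp : Fact p.Prime] (h : FrobHyp p G) (S : Sylow p G)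
    (a g : G) (ha : a ∈ (S : Subgroup G)) (hag : g⁻¹ * a * g ∈ (S : Subgroup G)) :
    ∃ s ∈ (S : Subgroup G), s⁻¹ * a * s = g⁻¹ * a * g := by
  set 𝓕 : Set (Subgroup G) := {U : Subgroup G | U ≤ (S : Subgroup G) ∧
      ¬ p ∣ ((S : Subgroup G) ⊓ Subgroup.normalizer (U : Set G)).relIndex (Subgroup.normalizer (U : Set G))} with h𝓕
  have hfam : ∀ T : Subgroup G, T ≤ (S : Subgroup G) → ∃ U ∈ 𝓕, U ≤ (S : Subgroup G) ∧
      (∃ g : G, cj g T = U) ∧
      ¬ p ∣ ((S : Subgroup G) ⊓ Subgroup.normalizer ((U : Subgroup G) : Set G)).relIndex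
        (Subgroup.normalizer ((U : Subgroup G) : Set G)) := by
    intro T hT
    obtain ⟨g, hg1, hg2⟩ := exists_cj_sylow_normalizer p S T T Subgroup.le_normalizer (S.2.to_le hT)
    exact ⟨cj g T, ⟨hg1, hg2⟩, hg1, ⟨g, rfl⟩, hg2⟩
  set B : Subgroup G := Subgroup.zpowers a with hB
  have hBS : B ≤ (S : Subgroup G) := by rw [hB, Subgroup.zpowers_le]; exact ha
  have hBg : cj g⁻¹ B ≤ (S : Subgroup G) := by
    rw [hB, cj_def, MonoidHom.map_zpowers, Subgroup.zpowers_le]
    simpa [MulAut.conj_apply] using hag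
  have hF := fuses_of_family S 𝓕 hfam B hBS g hBg
  obtain ⟨s, hs, hsA⟩ := frob_fuses h S _ g hF
  exact ⟨s, hs, hsA a (Subgroup.mem_zpowers a)⟩

open scoped commutatorElement in
/-- Under Frobenius' hypothesis, `S ∩ G' ≤ S'`. -/
theorem frob_focal [Finite G] {p : ℕ} [hp : Fact p.Prime] (h : FrobHyp p G) (S : Sylow p G) :
    commutator G ⊓ (S : Subgroup G) ≤ ⁅(S : Subgroup G), (S : Subgroup G)⁆ := by
  rw [Subgroup.commutator_inf_eq_focalSubgroup, Subgroup.focalSubgroup_def, Subgroup.closure_le]
  rintro g ⟨hgS, x, hxS, u, rfl⟩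
  have h1 : u * x⁻¹ * u⁻¹ ∈ (S : Subgroup G) := by
    have : u * x⁻¹ * u⁻¹ = x⁻¹ * ⁅x, u⁆ := by rw [commutatorElement_def]; group
    rw [this]
    exact Subgroup.mul_mem _ (inv_mem hxS) hgS
  obtain ⟨s, hs, hsx⟩ := frob_control h S x⁻¹ u⁻¹ (inv_mem hxS) (by simpa using h1)
  have h2 : ⁅x, u⁆ = ⁅x, s⁻¹⁆ := by
    rw [commutatorElement_def, commutatorElement_def]
    have e1 : x * u * x⁻¹ * u⁻¹ = x * (u⁻¹⁻¹ * x⁻¹ * u⁻¹) := by group
    have e2 : x * s⁻¹ * x⁻¹ * s⁻¹⁻¹ = x * (s⁻¹ * x⁻¹ * s) := by group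
    rw [e1, e2, hsx]
  rw [h2]
  exact Subgroup.commutator_mem_commutator hxS (inv_mem hs)

/-- Frobenius' normal `p`-complement theorem (the hard direction), by induction on the order. -/
theorem frob_hasNormalPComplement (p : ℕ) [hp : Fact p.Prime] :
    ∀ (n : ℕ) (G : Type*) [Group G] [Finite G], Nat.card G = n → FrobHyp p G →
      ∃ (K : Subgroup G) (_ : K.Normal), (Nat.card K).Coprime p ∧ IsPGroup p (G ⧸ K) := by
  intro n
  induction n using Nat.strong_induction_on with
  | _ n ih =>
    intro G _ _ hn h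
    classical
    obtain ⟨S⟩ : Nonempty (Sylow p G) := inferInstance
    by_cases hS : (S : Subgroup G) = ⊥
    · -- G is a p'-group
      refine ⟨⊤, inferInstance, ?_, ?_⟩
      · have hcard : Nat.card S = 1 := by rw [hS]; exact Subgroup.card_bot
        have h2 : Nat.card S = p ^ (Nat.card G).factorization p := Sylow.card_eq_multiplicity S
        have h3 : (Nat.card G).factorization p = 0 := by
          rw [hcard] at h2
          by_contra h0
          have : 1 < p ^ (Nat.card G).factorization p := Nat.one_lt_pow h0 hp.out.one_lt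
          omega
        rw [Subgroup.card_top]
        have hGpos : Nat.card G ≠ 0 := Nat.card_pos.ne'
        rcases (Nat.factorization_eq_zero_iff _ _).1 h3 with h4 | h4 | h4
        · exact absurd hp.out h4
        · exact (Nat.Coprime.symm ((Nat.Prime.coprime_iff_not_dvd hp.out).2 h4))
        · exact absurd h4 hGpos
      · intro x
        refine ⟨0, ?_⟩
        have : Subsingleton (G ⧸ (⊤ : Subgroup G)) := QuotientGroup.subsingleton_quotient_top
        exact Subsingleton.elim _ _
    · -- S ≠ 1 : S' < S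
      have hSnt : Nontrivial (S : Subgroup G) := (Subgroup.nontrivial_iff_ne_bot _).2 hS
      have : Group.IsNilpotent (S : Subgroup G) := S.2.isNilpotent
      have hlt : commutator (S : Subgroup G) < ⊤ := Group.IsSolvable.commutator_lt_top_of_nontrivial _
      have hex : ∃ x ∈ (S : Subgroup G), x ∉ commutator G := by
        by_contra hcon
        push Not at hcon
        have hle : (S : Subgroup G) ≤ ⁅(S : Subgroup G), (S : Subgroup G)⁆ := by
          intro x hx
          exact frob_focal h S ⟨hcon x hx, hx⟩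
        rw [← Subgroup.map_subtype_commutator] at hle
        apply hlt.ne
        rw [eq_top_iff]
        intro y _
        obtain ⟨z, hz, hzy⟩ := hle y.2
        have : z = y := Subtype.ext hzy
        rwa [this] at hz
      obtain ⟨x, hxS, hxG'⟩ := hex
      -- the map to the abelianization, followed by the m-th power
      set A := Abelianization G with hA
      set m : ℕ := (Nat.card A) / p ^ (Nat.card A).factorization p with hm
      set k : ℕ := (Nat.card A).factorization p with hk
      have hApos : Nat.card A ≠ 0 := Nat.card_pos.ne'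
      have hmk : p ^ k * m = Nat.card A := Nat.ordProj_mul_ordCompl_eq_self _ _
      have hmcop : m.Coprime p := (Nat.coprime_ordCompl hp.out hApos).symm
      set φ : G →* A := (powMonoidHom m).comp Abelianization.of with hφ
      set M : Subgroup G := φ.ker with hMdef
      have hMn : M.Normal := MonoidHom.normal_ker φ
      have hMmem : ∀ g : G, (orderOf g).Coprime p → g ∈ M := by
        intro g hg
        rw [hMdef, MonoidHom.mem_ker]
        have h1 : orderOf (φ g) ∣ orderOf g := orderOf_map_dvd φ g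
        have h2 : (φ g) ^ (p ^ k) = 1 := by
          rw [hφ, MonoidHom.comp_apply, powMonoidHom_apply, ← pow_mul, mul_comm, hmk]
          exact pow_card_eq_one'
        have h3 : orderOf (φ g) ∣ p ^ k := orderOf_dvd_of_pow_eq_one h2
        have h4 : (orderOf (φ g)).Coprime (p ^ k) :=
          Nat.Coprime.pow_right k (Nat.Coprime.coprime_dvd_left h1 hg)
        exact orderOf_eq_one_iff.1 (Nat.Coprime.eq_one_of_dvd h4 h3)
      have hMquot : IsPGroup p (G ⧸ M) := isPGroup_quotient_of_coprime_mem p M hMmem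
      have hxM : x ∉ M := by
        intro hxM
        rw [hMdef, MonoidHom.mem_ker, hφ, MonoidHom.comp_apply, powMonoidHom_apply] at hxM
        apply hxG'
        rw [← Abelianization.ker_of, MonoidHom.mem_ker]
        obtain ⟨j, hj⟩ := (S.2 ⟨x, hxS⟩)
        have hj' : x ^ (p ^ j) = 1 := by
          have := congrArg (fun z : (S : Subgroup G) => (z : G)) hj
          simpa using this
        have h1 : orderOf (Abelianization.of x) ∣ m := orderOf_dvd_of_pow_eq_one hxM
        have h2 : orderOf (Abelianization.of x) ∣ p ^ j := by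
          apply orderOf_dvd_of_pow_eq_one
          rw [← map_pow, hj', map_one]
        have h3 : (orderOf (Abelianization.of x)).Coprime (p ^ j) :=
          Nat.Coprime.pow_right j (Nat.Coprime.coprime_dvd_left h1 hmcop)
        exact orderOf_eq_one_iff.1 (Nat.Coprime.eq_one_of_dvd h3 h2)
      have hMlt : Nat.card M < n := by
        rw [← hn]
        have hne : M ≠ ⊤ := fun h0 => hxM (h0 ▸ Subgroup.mem_top x)
        have hle : Nat.card M ≤ Nat.card G := Subgroup.card_le_card_group M
        rcases hle.lt_or_eq with h1 | h1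
        · exact h1
        · exact absurd ((Subgroup.card_eq_iff_eq_top M).1 h1) hne
      obtain ⟨K, hKn, hKcard, hKquot⟩ := ih (Nat.card M) hMlt M rfl (frobHyp_subgroup h M)
      set N : Subgroup G := K.map M.subtype with hN
      have hNmem : ∀ g : G, g ∈ N ↔ (orderOf g).Coprime p := by
        intro g
        constructor
        · rintro ⟨c, hc, rfl⟩
          have := (mem_iff_coprime_of_normal_hall p K hKcard hKquot c).1 hc
          rwa [Subgroup.coe_subtype, Subgroup.orderOf_coe]
        · intro hg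
          have hgM := hMmem g hg
          refine ⟨⟨g, hgM⟩, ?_, rfl⟩
          apply (mem_iff_coprime_of_normal_hall p K hKcard hKquot _).2
          rw [Subgroup.orderOf_mk]; exact hg
      have hNn : N.Normal := by
        refine ⟨fun n hn g => ?_⟩
        rw [hNmem] at hn ⊢
        have : orderOf (g * n * g⁻¹) = orderOf n := by
          have := orderOf_injective (MulAut.conj g).toMonoidHom (MulAut.conj g).injective n
          simpa [MulAut.conj_apply] using this
        rw [this]; exact hn
      refine ⟨N, hNn, ?_, ?_⟩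
      · have : Nat.card N = Nat.card K := by
          rw [hN]; exact Subgroup.card_map_of_injective M.subtype_injective
        rw [this]; exact hKcard
      · exact isPGroup_quotient_of_coprime_mem p N (fun g hg => (hNmem g).2 hg)

end frob

end Cfsg.Agent.Lib.Helper4
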