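import Mathlib

/-!
Gleason-type lemmas: multiple transitivity from congruences on orbit lengths.
-/

namespace Cfsg.Agent.Lib.Helper4

section GL1

variable {G : Type*} [Group G] {α : Type*} [MulAction G α]

/-- The step from `j`-fold to `(j+1)`-fold transitivity through pointwise stabilisers. -/
theorem multiply_pretransitive_succ_of_fixing [DecidableEq α] {j : ℕ}
    (hj : MulAction.IsMultiplyPretransitive G α j)
    (h : ∀ s : Finset α, s.card = j → ∀ x y : α, x ∉ s → y ∉ s →
      ∃ g : G, (∀ z ∈ s, g • z = z) ∧ g • x = y) :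
    MulAction.IsMultiplyPretransitive G α (j + 1) := by
  constructor
  intro u v
  obtain ⟨u', hu'⟩ : ∃ u' : Fin j ↪ α, u' = Fin.castSuccEmb.trans u := ⟨_, rfl⟩
  obtain ⟨v', hv'⟩ : ∃ v' : Fin j ↪ α, v' = Fin.castSuccEmb.trans v := ⟨_, rfl⟩
  obtain ⟨g₁, hg₁⟩ := hj.exists_smul_eq u' v'
  have hg₁' : ∀ i : Fin j, g₁ • u (Fin.castSucc i) = v (Fin.castSucc i) := by
    intro i
    have := DFunLike.congr_fun hg₁ i
    rw [Function.Embedding.smul_apply, hu', hv'] at this
    exact this
  obtain ⟨s, hs⟩ : ∃ s : Finset α, s = Finset.univ.map v' := ⟨_, rfl⟩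
  have hscard : s.card = j := by
    rw [hs, Finset.card_map, Finset.card_univ, Fintype.card_fin]
  have hsmem : ∀ z, z ∈ s ↔ ∃ i : Fin j, v (Fin.castSucc i) = z := by
    intro z
    rw [hs, Finset.mem_map]
    constructor
    · rintro ⟨i, -, hi⟩
      refine ⟨i, ?_⟩
      rw [← hi, hv']
      rfl
    · rintro ⟨i, hi⟩
      refine ⟨i, Finset.mem_univ _, ?_⟩
      rw [← hi, hv']
      rfl
  have hx : g₁ • u (Fin.last j) ∉ s := by
    rw [hsmem]
    rintro ⟨i, hi⟩
    rw [← hg₁' i] at hi
    have := u.injective (smul_left_cancel g₁ hi)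
    exact (Fin.castSucc_lt_last i).ne this
  have hy : v (Fin.last j) ∉ s := by
    rw [hsmem]
    rintro ⟨i, hi⟩
    have := v.injective hi
    exact (Fin.castSucc_lt_last i).ne this
  obtain ⟨g₂, hg₂s, hg₂⟩ := h s hscard _ _ hx hy
  refine ⟨g₂ * g₁, ?_⟩
  ext i
  rw [Function.Embedding.smul_apply, mul_smul]
  rcases Fin.eq_castSucc_or_eq_last i with ⟨i', rfl⟩ | rfl
  · rw [hg₁' i']
    exact hg₂s _ ((hsmem _).mpr ⟨i', rfl⟩)
  · exact hg₂

end GL1

section GL2

variable {H : Type*} [Group H] {α : Type*} [MulAction H α] [Finite α] [DecidableEq α]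

/-- Transitivity on an invariant set from congruences of orbit lengths. -/
theorem rel_trans_of_mod_count (R : Finset α) {m t : ℕ} (hm1 : 1 ≤ m) (hmR : m < R.card)
    (ht : 1 < t)
    (h : ∀ s : Finset α, s ⊆ R → s.card = m → ∀ x ∈ R,
      (MulAction.orbit H x).ncard ≡ ((s : Set α) ∩ MulAction.orbit H x).ncard [MOD t]) :
    ∀ x ∈ R, ∀ y ∈ R, ∃ g : H, g • x = y := by
  intro x hx y hy
  by_contra hcon
  have hyΓ : y ∉ MulAction.orbit H x := by
    rintro ⟨g, hg⟩
    exact hcon ⟨g, hg⟩
  have hxy : x ≠ y := by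
    rintro rfl
    exact hyΓ (MulAction.mem_orbit_self _)
  -- a set containing x, avoiding y
  have h1 : ({x} : Finset α) ⊆ R.erase y := by
    rw [Finset.singleton_subset_iff, Finset.mem_erase]
    exact ⟨hxy, hx⟩
  have h2 : m ≤ (R.erase y).card := by
    rw [Finset.card_erase_of_mem hy]
    omega
  obtain ⟨u, hxu, huR, hucard⟩ := Finset.exists_subsuperset_card_eq h1
    (by rw [Finset.card_singleton]; exact hm1) h2
  have hxu' : x ∈ u := Finset.singleton_subset_iff.mp hxu
  have hyu : y ∉ u := fun hyu => (Finset.mem_erase.mp (huR hyu)).1 rfl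
  have huR' : u ⊆ R := huR.trans (Finset.erase_subset _ _)
  obtain ⟨s', hs'⟩ : ∃ s' : Finset α, s' = insert y (u.erase x) := ⟨_, rfl⟩
  have hs'card : s'.card = m := by
    rw [hs', Finset.card_insert_of_notMem, Finset.card_erase_of_mem hxu', hucard]
    · omega
    · intro hmem
      exact hyu (Finset.mem_of_mem_erase hmem)
  have hs'R : s' ⊆ R := by
    rw [hs']
    intro z hz
    rw [Finset.mem_insert] at hz
    rcases hz with rfl | hz
    · exact hy
    · exact huR' (Finset.mem_of_mem_erase hz)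
  have e1 := h u huR' hucard x hx
  have e2 := h s' hs'R hs'card x hx
  have hset : ((s' : Set α) ∩ MulAction.orbit H x) =
      ((u : Set α) ∩ MulAction.orbit H x) \ {x} := by
    ext z
    rw [hs']
    simp only [Finset.coe_insert, Finset.coe_erase, Set.mem_inter_iff, Set.mem_insert_iff,
      Set.mem_diff, Set.mem_singleton_iff, Finset.mem_coe]
    constructor
    · rintro ⟨hz | ⟨hzu, hzx⟩, hzΓ⟩
      · rw [hz] at hzΓ
        exact absurd hzΓ hyΓ
      · exact ⟨⟨hzu, hzΓ⟩, hzx⟩
    · rintro ⟨⟨hzu, hzΓ⟩, hzx⟩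
      exact ⟨Or.inr ⟨hzu, hzx⟩, hzΓ⟩
  have hcount : ((s' : Set α) ∩ MulAction.orbit H x).ncard + 1 =
      ((u : Set α) ∩ MulAction.orbit H x).ncard := by
    rw [hset]
    exact Set.ncard_sdiff_singleton_add_one ⟨hxu', MulAction.mem_orbit_self _⟩ (Set.toFinite _)
  rw [← hcount] at e1
  have e3 : ((s' : Set α) ∩ MulAction.orbit H x).ncard + 1 ≡
      ((s' : Set α) ∩ MulAction.orbit H x).ncard + 0 [MOD t] := by
    rw [add_zero]
    exact e1.symm.trans e2
  have e4 : 1 ≡ 0 [MOD t] := Nat.ModEq.add_left_cancel' _ e3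
  have e5 : t ∣ 1 := (Nat.modEq_zero_iff_dvd).mp e4
  have := Nat.le_of_dvd Nat.one_pos e5
  omega

end GL2

section GL3

/-- Fixed point congruence for a `p`-group on an invariant set. -/
theorem pgroup_invariant_set_count {P : Type*} [Group P] {α : Type*} [MulAction P α]
    {p : ℕ} [Fact p.Prime] (hP : IsPGroup p P) (Γ : Set α) (hfin : Γ.Finite)
    (hΓ : ∀ g : P, ∀ z ∈ Γ, g • z ∈ Γ) :
    Γ.ncard ≡ (Γ ∩ MulAction.fixedPoints P α).ncard [MOD p] := by
  let S : SubMulAction P α := { carrier := Γ, smul_mem' := fun g z hz => hΓ g z hz }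
  haveI : Finite ↥S := hfin.to_subtype
  have h1 := hP.card_modEq_card_fixedPoints ↥S
  have h2 : Nat.card ↥S = Γ.ncard := rfl
  have h3 : Nat.card (MulAction.fixedPoints P ↥S) = (Γ ∩ MulAction.fixedPoints P α).ncard := by
    have : (Γ ∩ MulAction.fixedPoints P α) =
        Subtype.val '' (MulAction.fixedPoints P ↥S : Set ↥S) := by
      ext z
      constructor
      · rintro ⟨hzΓ, hzfix⟩
        refine ⟨⟨z, hzΓ⟩, ?_, rfl⟩
        intro g
        apply Subtype.ext
        exact hzfix g
      · rintro ⟨w, hw, rfl⟩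
        refine ⟨w.2, ?_⟩
        intro g
        exact congrArg Subtype.val (hw g)
    rw [this, Set.ncard_image_of_injective _ Subtype.val_injective]
    rfl
  rw [h2, h3] at h1
  exact h1

end GL3


section GL4

variable {G : Type*} [Group G] {α : Type*} [MulAction G α] [Fintype α] [DecidableEq α]

theorem gleason_multi {p k : ℕ} (hp : p.Prime) (hkn : k < Fintype.card α)
    (h : ∀ s : Finset α, s.card = k → ∃ P : Subgroup G, IsPGroup p P ∧
      MulAction.fixedPoints P α = (s : Set α)) :
    ∀ j, j ≤ k → MulAction.IsMultiplyPretransitive G α j := by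
  haveI : Fact p.Prime := ⟨hp⟩
  intro j
  induction j with
  | zero =>
    intro _
    exact MulAction.is_zero_pretransitive'
  | succ j ih =>
    intro hjk
    apply multiply_pretransitive_succ_of_fixing (ih (by omega))
    intro s₀ hs₀ x y hx hy
    obtain ⟨H, hH⟩ : ∃ H : Subgroup G, H = fixingSubgroup G (s₀ : Set α) := ⟨_, rfl⟩
    obtain ⟨R, hR⟩ : ∃ R : Finset α, R = Finset.univ \ s₀ := ⟨_, rfl⟩
    have hRmem : ∀ z, z ∈ R ↔ z ∉ s₀ := by
      intro z
      rw [hR, Finset.mem_sdiff]
      exact ⟨fun h => h.2, fun h => ⟨Finset.mem_univ _, h⟩⟩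
    have hRcard : R.card = Fintype.card α - j := by
      rw [hR, Finset.card_sdiff_of_subset (Finset.subset_univ _), Finset.card_univ, hs₀]
    have horb : ∀ x ∈ R, ∀ z ∈ MulAction.orbit ↥H x, z ∉ s₀ := by
      intro x hx z hz hzs
      obtain ⟨g, rfl⟩ := hz
      have hg : (g : G) ∈ fixingSubgroup G (s₀ : Set α) := by
        rw [← hH]
        exact g.2
      have h1 : (g : G)⁻¹ • ((g : G) • x) = (g : G) • x := by
        have := (mem_fixingSubgroup_iff G).mp (inv_mem hg) ((g : G) • x) hzs
        exact this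
      rw [inv_smul_smul] at h1
      have hzs' : (g : G) • x ∈ s₀ := hzs
      rw [← h1] at hzs'
      exact (hRmem x).mp hx hzs'
    have key := rel_trans_of_mod_count (H := ↥H) R (m := k - j) (t := p) (by omega)
      (by rw [hRcard]; omega) hp.one_lt (by
        intro s hsR hscard x hx
        have hdisj : Disjoint s₀ s := by
          rw [Finset.disjoint_left]
          intro z hz0 hz
          exact (hRmem z).mp (hsR hz) hz0
        have hcard : (s₀ ∪ s).card = k := by
          rw [Finset.card_union_of_disjoint hdisj, hs₀, hscard]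
          omega
        obtain ⟨P, hP, hPfix⟩ := h (s₀ ∪ s) hcard
        have hPH : ∀ g : ↥P, (g : G) ∈ H := by
          intro g
          rw [hH, mem_fixingSubgroup_iff]
          intro z hz
          have hzfix : z ∈ MulAction.fixedPoints ↥P α := by
            rw [hPfix]
            exact Finset.mem_coe.mpr (Finset.mem_union_left _ hz)
          exact hzfix g
        have hinv : ∀ g : ↥P, ∀ z ∈ MulAction.orbit ↥H x, g • z ∈ MulAction.orbit ↥H x := by
          intro g z hz
          obtain ⟨h', rfl⟩ := hz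
          exact ⟨⟨(g : G), hPH g⟩ * h', by simp only [mul_smul]; rfl⟩
        have hcount := pgroup_invariant_set_count hP (MulAction.orbit ↥H x) (Set.toFinite _) hinv
        have hset : MulAction.orbit ↥H x ∩ MulAction.fixedPoints ↥P α =
            (s : Set α) ∩ MulAction.orbit ↥H x := by
          rw [hPfix]
          ext z
          simp only [Set.mem_inter_iff, Finset.coe_union, Set.mem_union, Finset.mem_coe]
          constructor
          · rintro ⟨hzΓ, hz0 | hzs⟩
            · exact absurd hz0 (horb x hx z hzΓ)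
            · exact ⟨hzs, hzΓ⟩
          · rintro ⟨hzs, hzΓ⟩
            exact ⟨hzΓ, Or.inr hzs⟩
        rw [hset] at hcount
        exact hcount)
    obtain ⟨g, hg⟩ := key x ((hRmem x).mpr hx) y ((hRmem y).mpr hy)
    refine ⟨(g : G), ?_, hg⟩
    have hg' : (g : G) ∈ fixingSubgroup G (s₀ : Set α) := by
      rw [← hH]
      exact g.2
    intro z hz
    exact (mem_fixingSubgroup_iff G).mp hg' z hz

end GL4

end Cfsg.Agent.Lib.Helper4
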