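import Mathlib
import Cfsg.Agent.Lib.Helper4.Gleason

/-!
Multiple transitivity from constant orders of pointwise stabilisers.
-/

namespace Cfsg.Agent.Lib.Helper4

section GO1

variable {H : Type*} [Group H] {α : Type*} [MulAction H α]

theorem dvd_ncard_of_orbits_eq (t : ℕ) : ∀ (n : ℕ) (Y : Set α), Y.Finite → Y.ncard = n →
    (∀ g : H, ∀ z ∈ Y, g • z ∈ Y) → (∀ z ∈ Y, (MulAction.orbit H z).ncard = t) → t ∣ n := by
  intro n
  induction n using Nat.strong_induction_on with
  | _ n ih =>
    intro Y hfin hn hinv horb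
    by_cases hY : Y = ∅
    · rw [hY, Set.ncard_empty] at hn
      rw [← hn]
      exact dvd_zero _
    · obtain ⟨z, hz⟩ := Set.nonempty_iff_ne_empty.mpr hY
      have hO : MulAction.orbit H z ⊆ Y := by
        rintro _ ⟨g, rfl⟩
        exact hinv g z hz
      have hOfin : (MulAction.orbit H z).Finite := hfin.subset hO
      have hOt := horb z hz
      have ht1 : 1 ≤ t := by
        rw [← hOt, Nat.succ_le_iff, Set.ncard_pos hOfin]
        exact ⟨z, MulAction.mem_orbit_self z⟩
      have htn : t ≤ n := by
        rw [← hOt, ← hn]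
        exact Set.ncard_le_ncard hO hfin
      have hY'card : (Y \ MulAction.orbit H z).ncard = n - t := by
        rw [Set.ncard_sdiff hO hOfin, hn, hOt]
      have hY'inv : ∀ g : H, ∀ w ∈ Y \ MulAction.orbit H z, g • w ∈ Y \ MulAction.orbit H z := by
        intro g w hw
        refine ⟨hinv g w hw.1, ?_⟩
        rintro ⟨h, hh⟩
        apply hw.2
        refine ⟨g⁻¹ * h, ?_⟩
        simp only [mul_smul]
        rw [show h • z = g • w from hh, inv_smul_smul]
      have := ih (n - t) (by omega) (Y \ MulAction.orbit H z) (hfin.subset Set.diff_subset)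
        hY'card hY'inv (fun w hw => horb w hw.1)
      have h2 : n = (n - t) + t := by omega
      rw [h2]
      exact dvd_add this dvd_rfl

end GO1

section GO2

variable {G : Type*} [Group G] [Finite G] {α : Type*} [MulAction G α] [Fintype α] [DecidableEq α]

/-- Orbit length of a point under a pointwise stabiliser. -/
theorem fixing_orbit_mul (s : Finset α) (z : α) :
    (MulAction.orbit ↥(fixingSubgroup G (s : Set α)) z).ncard *
      Nat.card ↥(fixingSubgroup G ((insert z s : Finset α) : Set α)) =
      Nat.card ↥(fixingSubgroup G (s : Set α)) := by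
  rw [← MulAction.index_stabilizer, ← Subgroup.index_mul_card
    (MulAction.stabilizer ↥(fixingSubgroup G (s : Set α)) z)]
  congr 1
  have hmap : (MulAction.stabilizer ↥(fixingSubgroup G (s : Set α)) z).map
      (fixingSubgroup G (s : Set α)).subtype =
      fixingSubgroup G ((insert z s : Finset α) : Set α) := by
    ext g
    rw [Subgroup.mem_map, mem_fixingSubgroup_iff]
    constructor
    · rintro ⟨h, hh, rfl⟩
      intro y hy
      rw [Finset.coe_insert, Set.mem_insert_iff] at hy
      rcases hy with rfl | hy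
      · exact hh
      · exact (mem_fixingSubgroup_iff G).mp h.2 y hy
    · intro hg
      have hgs : g ∈ fixingSubgroup G (s : Set α) := by
        rw [mem_fixingSubgroup_iff]
        intro y hy
        exact hg y (by rw [Finset.coe_insert]; exact Set.mem_insert_of_mem _ hy)
      refine ⟨⟨g, hgs⟩, ?_, rfl⟩
      rw [MulAction.mem_stabilizer_iff]
      exact hg z (by rw [Finset.coe_insert]; exact Set.mem_insert _ _)
  rw [← hmap, Subgroup.card_map_of_injective (Subgroup.subtype_injective _)]

theorem stab_order_multi [FaithfulSMul G α] {k l m : ℕ} (hk : 1 < k)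
    (hkn : k ≤ Fintype.card α) (hl : 1 < l)
    (hkm1 : ∀ s : Finset α, s.card = k - 1 → Nat.card (fixingSubgroup G (s : Set α)) = l)
    (hkm : ∀ s : Finset α, s.card = k → Nat.card (fixingSubgroup G (s : Set α)) = m) :
    ∀ j, j ≤ k - 1 → MulAction.IsMultiplyPretransitive G α j := by
  -- orbit lengths
  have horb : ∀ s : Finset α, s.card = k - 1 → ∀ z, z ∉ s →
      (MulAction.orbit ↥(fixingSubgroup G (s : Set α)) z).ncard * m = l := by
    intro s hs z hz
    have := fixing_orbit_mul (G := G) s z
    rw [hkm1 s hs, hkm (insert z s) (by rw [Finset.card_insert_of_notMem hz, hs]; omega)] at this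
    exact this
  obtain ⟨t, ht⟩ : ∃ t, t = l / m := ⟨_, rfl⟩
  have hm0 : m ≠ 0 := by
    obtain ⟨s₁, -, hs₁⟩ := Finset.exists_subset_card_eq (s := (Finset.univ : Finset α))
      (n := k - 1) (by rw [Finset.card_univ]; omega)
    have hex : ∃ z, z ∉ s₁ := by
      by_contra hcon
      have : s₁ = Finset.univ := by
        rw [Finset.eq_univ_iff_forall]
        intro z
        by_contra hz
        exact hcon ⟨z, hz⟩
      rw [this, Finset.card_univ] at hs₁
      omega
    obtain ⟨z, hz⟩ := hex
    intro h0
    have := horb s₁ hs₁ z hz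
    rw [h0, mul_zero] at this
    omega
  have horb' : ∀ s : Finset α, s.card = k - 1 → ∀ z, z ∉ s →
      (MulAction.orbit ↥(fixingSubgroup G (s : Set α)) z).ncard = t := by
    intro s hs z hz
    rw [ht, ← horb s hs z hz, Nat.mul_div_cancel _ (Nat.pos_of_ne_zero hm0)]
  have ht1 : 1 < t := by
    obtain ⟨s₁, -, hs₁⟩ := Finset.exists_subset_card_eq (s := (Finset.univ : Finset α))
      (n := k - 1) (by rw [Finset.card_univ]; omega)
    by_contra hcon
    rw [not_lt] at hcon
    have htriv : ∀ g : ↥(fixingSubgroup G (s₁ : Set α)), g = 1 := by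
      intro g
      apply Subtype.ext
      apply FaithfulSMul.eq_of_smul_eq_smul (α := α)
      intro z
      rw [Subgroup.coe_one, one_smul]
      by_cases hz : z ∈ s₁
      · exact (mem_fixingSubgroup_iff G).mp g.2 z hz
      · have h1 := horb' s₁ hs₁ z hz
        have h2 : g • z ∈ MulAction.orbit ↥(fixingSubgroup G (s₁ : Set α)) z := ⟨g, rfl⟩
        have h3 : (MulAction.orbit ↥(fixingSubgroup G (s₁ : Set α)) z).ncard ≤ 1 := by
          rw [h1]
          exact hcon
        rw [Set.ncard_le_one (Set.toFinite _)] at h3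
        exact h3 _ h2 _ (MulAction.mem_orbit_self z)
    have hcard : Nat.card ↥(fixingSubgroup G (s₁ : Set α)) = 1 := by
      rw [Nat.card_eq_one_iff_unique]
      exact ⟨⟨fun a b => (htriv a).trans (htriv b).symm⟩, ⟨1⟩⟩
    rw [hkm1 s₁ hs₁] at hcard
    omega
  intro j
  induction j with
  | zero =>
    intro _
    exact MulAction.is_zero_pretransitive'
  | succ j ih =>
    intro hjk
    apply multiply_pretransitive_succ_of_fixing (ih (by omega))
    intro s₀ hs₀ x y hx hy
    obtain ⟨H, hH⟩ : ∃ H : Subgroup G, H = fixingSubgroup G (s₀ : Set α) := ⟨_, rfl⟩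
    obtain ⟨R, hR⟩ : ∃ R : Finset α, R = Finset.univ \ s₀ := ⟨_, rfl⟩
    have hRmem : ∀ z, z ∈ R ↔ z ∉ s₀ := by
      intro z
      rw [hR, Finset.mem_sdiff]
      exact ⟨fun h => h.2, fun h => ⟨Finset.mem_univ _, h⟩⟩
    have hRcard : R.card = Fintype.card α - j := by
      rw [hR, Finset.card_sdiff_of_subset (Finset.subset_univ _), Finset.card_univ, hs₀]
    have horbR : ∀ x ∈ R, ∀ z ∈ MulAction.orbit ↥H x, z ∉ s₀ := by
      intro x hx z hz hzs
      obtain ⟨g, rfl⟩ := hz
      have hg : (g : G) ∈ fixingSubgroup G (s₀ : Set α) := by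
        rw [← hH]
        exact g.2
      have h1 : (g : G)⁻¹ • ((g : G) • x) = (g : G) • x := by
        have := (mem_fixingSubgroup_iff G).mp (inv_mem hg) ((g : G) • x) hzs
        exact this
      rw [inv_smul_smul] at h1
      have hzs' : (g : G) • x ∈ s₀ := hzs
      rw [← h1] at hzs'
      exact (hRmem x).mp hx hzs'
    have key := rel_trans_of_mod_count (H := ↥H) R (m := k - 1 - j) (t := t) (by omega)
      (by rw [hRcard]; omega) ht1 (by
        intro s hsR hscard x hx
        have hdisj : Disjoint s₀ s := by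
          rw [Finset.disjoint_left]
          intro z hz0 hz
          exact (hRmem z).mp (hsR hz) hz0
        have hcard : (s₀ ∪ s).card = k - 1 := by
          rw [Finset.card_union_of_disjoint hdisj, hs₀, hscard]
          omega
        obtain ⟨H₁, hH₁⟩ : ∃ H₁ : Subgroup G, H₁ = fixingSubgroup G ((s₀ ∪ s : Finset α) : Set α) :=
          ⟨_, rfl⟩
        have hH₁H : ∀ g : ↥H₁, (g : G) ∈ H := by
          intro g
          have hg : (g : G) ∈ fixingSubgroup G ((s₀ ∪ s : Finset α) : Set α) := by
            rw [← hH₁]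
            exact g.2
          rw [hH, mem_fixingSubgroup_iff]
          intro z hz
          exact (mem_fixingSubgroup_iff G).mp hg z
            (Finset.mem_coe.mpr (Finset.mem_union_left _ (Finset.mem_coe.mp hz)))
        obtain ⟨Γ, hΓ⟩ : ∃ Γ : Set α, Γ = MulAction.orbit ↥H x := ⟨_, rfl⟩
        rw [← hΓ]
        have hΓinv : ∀ g : ↥H₁, ∀ z ∈ Γ, g • z ∈ Γ := by
          intro g z hz
          rw [hΓ] at hz ⊢
          obtain ⟨h', rfl⟩ := hz
          exact ⟨⟨(g : G), hH₁H g⟩ * h', by simp only [mul_smul]; rfl⟩
        -- the part outside s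
        have hYinv : ∀ g : ↥H₁, ∀ z ∈ Γ \ (s : Set α), g • z ∈ Γ \ (s : Set α) := by
          intro g z hz
          refine ⟨hΓinv g z hz.1, ?_⟩
          intro hgz
          apply hz.2
          have hg : (g : G) ∈ fixingSubgroup G ((s₀ ∪ s : Finset α) : Set α) := by
            rw [← hH₁]
            exact g.2
          have h1 : (g : G)⁻¹ • ((g : G) • z) = (g : G) • z :=
            (mem_fixingSubgroup_iff G).mp (inv_mem hg) ((g : G) • z)
              (Finset.mem_coe.mpr (Finset.mem_union_right _ (Finset.mem_coe.mp hgz)))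
          rw [inv_smul_smul] at h1
          rw [h1]
          exact hgz
        have hYorb : ∀ z ∈ Γ \ (s : Set α), (MulAction.orbit ↥H₁ z).ncard = t := by
          intro z hz
          have hz0 : z ∉ s₀ := by
            rw [hΓ] at hz
            exact horbR x hx z hz.1
          have hzs : z ∉ s₀ ∪ s := by
            rw [Finset.mem_union]
            rintro (h | h)
            · exact hz0 h
            · exact hz.2 (Finset.mem_coe.mpr h)
          rw [hH₁]
          exact horb' (s₀ ∪ s) hcard z hzs
        have hdvd := dvd_ncard_of_orbits_eq (H := ↥H₁) t _ (Γ \ (s : Set α))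
          (Set.toFinite _) rfl hYinv hYorb
        obtain ⟨c, hc⟩ := hdvd
        have hsplit := Set.ncard_inter_add_ncard_sdiff_eq_ncard Γ (s : Set α) (Set.toFinite _)
        rw [hc, Set.inter_comm] at hsplit
        rw [← hsplit]
        unfold Nat.ModEq
        rw [Nat.add_mul_mod_self_left])
    obtain ⟨g, hg⟩ := key x ((hRmem x).mpr hx) y ((hRmem y).mpr hy)
    refine ⟨(g : G), ?_, hg⟩
    have hg' : (g : G) ∈ fixingSubgroup G (s₀ : Set α) := by
      rw [← hH]
      exact g.2
    intro z hz
    exact (mem_fixingSubgroup_iff G).mp hg' z hz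

end GO2

end Cfsg.Agent.Lib.Helper4
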