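import Cfsg.Agent.Lib.Helper4.Hall

set_option autoImplicit false
set_option linter.unusedSectionVars false

namespace Cfsg.Agent.Lib.Helper4

open scoped Pointwise

section
variable {G : Type*} [Group G] [Finite G]

/-- Relative Hall conjugacy: Hall subgroups of a solvable subgroup `L` are conjugate in `L`. -/
theorem hall_conj_sub (L H K : Subgroup G) [hL : Group.IsSolvable L] (hHL : H ≤ L) (hKL : K ≤ L)
    (hcard : Nat.card K = Nat.card H) (hcop : (Nat.card H).Coprime (H.relIndex L)) :
    ∃ l ∈ L, cj l H = K := by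
  have hcardL : Nat.card L = Nat.card H * H.relIndex L := by
    have h1 := Subgroup.relIndex_mul_relIndex ⊥ H L bot_le hHL
    rw [Subgroup.relIndex_bot_left, Subgroup.relIndex_bot_left] at h1
    exact h1.symm
  obtain ⟨l, hl⟩ := ((hall_all (Nat.card L) L rfl) (Nat.card H) (H.relIndex L) hcardL hcop).2.1
    (H.subgroupOf L) (K.subgroupOf L) (card_subgroupOf_of_le hHL)
    ((card_subgroupOf_of_le hKL).trans hcard)
  refine ⟨(l : G), l.2, ?_⟩
  have h1 := congrArg (Subgroup.map L.subtype) hl
  rw [map_cj, Subgroup.subgroupOf_map_subtype, Subgroup.subgroupOf_map_subtype,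
    inf_of_le_left hHL, inf_of_le_left hKL] at h1
  exact h1

end

end Cfsg.Agent.Lib.Helper4
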