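import Cfsg.Agent.Lib.Helper4.CoprimeAct

set_option autoImplicit false
set_option linter.unusedSectionVars false

namespace Cfsg.Agent.Lib.Helper4

open scoped Pointwise

universe u

theorem card_lt_of_ne_top' {G : Type u} [Group G] [Finite G] (L : Subgroup G) (hL : L ≠ ⊤) :
    Nat.card L < Nat.card G := by
  have hle : Nat.card L ≤ Nat.card G := Subgroup.card_le_card_group L
  rcases hle.lt_or_eq with h | h
  · exact h
  · exact absurd ((Subgroup.card_eq_iff_eq_top L).1 h) hL

open scoped IsMulCommutative in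
/-- Transfer into an abelian Hall subgroup whose fusion is trivial gives a normal complement. -/
theorem hall_transfer_complement {G : Type u} [Group G] [Finite G] (H : Subgroup G)
    [hc : IsMulCommutative H] (hHall : Nat.Coprime (Nat.card H) H.index)
    (key : ∀ h ∈ H, ∀ (k : ℕ) (g₀ : G), g₀⁻¹ * h ^ k * g₀ ∈ H → g₀⁻¹ * h ^ k * g₀ = h ^ k) :
    ∃ N : Subgroup G, N.Normal ∧ N.IsComplement' H := by
  classical
  set V : G →* H := MonoidHom.transfer (MonoidHom.id H) with hV
  have hVpow : ∀ h : H, V (h : G) = h ^ H.index := by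
    intro h
    have := MonoidHom.transfer_eq_pow (MonoidHom.id H) (h : G) (key h h.2)
    rw [hV, this]
    rfl
  refine ⟨V.ker, MonoidHom.normal_ker V, ?_⟩
  have hdisj : Disjoint V.ker H := by
    rw [disjoint_iff, eq_bot_iff]
    rintro x ⟨hxk, hxH⟩
    have h1 : V x = 1 := hxk
    have h2 := hVpow ⟨x, hxH⟩
    rw [h1] at h2
    have h3 : orderOf (⟨x, hxH⟩ : H) ∣ H.index := orderOf_dvd_of_pow_eq_one h2.symm
    have h4 : orderOf (⟨x, hxH⟩ : H) ∣ Nat.card H := orderOf_dvd_natCard _
    have h5 : orderOf (⟨x, hxH⟩ : H) = 1 := Nat.eq_one_of_dvd_coprimes hHall h4 h3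
    have h6 : (⟨x, hxH⟩ : H) = 1 := orderOf_eq_one_iff.1 h5
    rw [Subgroup.mem_bot]
    exact congrArg Subtype.val h6
  have hsurj : Function.Surjective V := by
    intro h
    obtain ⟨h', hh'⟩ := (powCoprime hHall).surjective h
    refine ⟨(h' : G), ?_⟩
    rw [hVpow]; exact hh'
  apply Subgroup.isComplement'_of_card_mul_and_disjoint _ hdisj
  have h1 : V.ker.index = Nat.card H := by
    rw [Subgroup.index_ker, MonoidHom.range_eq_top.2 hsurj, Subgroup.card_top]
  rw [← h1, mul_comm]
  exact Subgroup.index_mul_card _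

/-- Burnside's theorem for Hall subgroups, by induction on the order. -/
theorem hall_burnside : ∀ (n : ℕ) (G : Type u) [Group G] [Finite G], Nat.card G = n →
    ∀ H : Subgroup G, Nat.Coprime (Nat.card H) H.index →
    Subgroup.normalizer (H : Set G) ≤ Subgroup.centralizer (H : Set G) →
    ∃ N : Subgroup G, N.Normal ∧ N.IsComplement' H := by
  intro n
  induction n using Nat.strong_induction_on with
  | _ n ih =>
  intro G _ _ hn H hHall hNC
  classical
  have hHC : H ≤ Subgroup.centralizer (H : Set G) := Subgroup.le_normalizer.trans hNC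
  haveI hcomm : IsMulCommutative H :=
    ⟨⟨fun a b => Subtype.ext ((Subgroup.mem_centralizer_iff.1 (hHC b.2) a a.2))⟩⟩
  have hHsolv : Group.IsSolvable H := by
    apply Group.isSolvable_of_comm
    intro a b
    exact hcomm.is_comm.comm a b
  apply hall_transfer_complement H hHall
  intro h hh k g₀ hw
  set u : G := h ^ k with hu
  have huH : u ∈ H := H.pow_mem hh k
  set C : Subgroup G := Subgroup.centralizer {u} with hC
  have hHleC : H ≤ C := by
    intro x hx
    rw [hC, Subgroup.mem_centralizer_iff]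
    intro y hy
    rw [Set.mem_singleton_iff] at hy
    rw [hy]
    exact (Subgroup.mem_centralizer_iff.1 (hHC hx) u huH)
  by_cases hCtop : C = ⊤
  · have : g₀ ∈ C := by rw [hCtop]; exact Subgroup.mem_top _
    rw [hC, Subgroup.mem_centralizer_iff] at this
    have h1 := this u rfl
    calc g₀⁻¹ * u * g₀ = g₀⁻¹ * (u * g₀) := by group
      _ = g₀⁻¹ * (g₀ * u) := by rw [h1]
      _ = u := by group
  · -- apply the induction hypothesis to C
    set H₂ : Subgroup G := cj g₀ H with hH₂
    have huH₂ : u ∈ H₂ := by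
      rw [hH₂, mem_cj_iff]; exact hw
    have hH₂leC : H₂ ≤ C := by
      rintro _ ⟨x, hx, rfl⟩
      rw [hC, Subgroup.mem_centralizer_iff]
      intro y hy
      rw [Set.mem_singleton_iff] at hy
      rw [hy]
      -- u = g₀ w g₀⁻¹ with w ∈ H, commute with g₀ x g₀⁻¹
      have h1 := Subgroup.mem_centralizer_iff.1 (hHC hx) _ hw
      show u * (g₀ * x * g₀⁻¹) = (g₀ * x * g₀⁻¹) * u
      have e1 : u * (g₀ * x * g₀⁻¹) = g₀ * ((g₀⁻¹ * u * g₀) * x) * g₀⁻¹ := by group
      have e2 : (g₀ * x * g₀⁻¹) * u = g₀ * (x * (g₀⁻¹ * u * g₀)) * g₀⁻¹ := by group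
      rw [e1, e2, h1]
    have hlt : Nat.card C < n := by rw [← hn]; exact card_lt_of_ne_top' C hCtop
    have hHall' : Nat.Coprime (Nat.card (H.subgroupOf C)) (H.subgroupOf C).index := by
      rw [card_subgroupOf_of_le hHleC]
      exact Nat.Coprime.coprime_dvd_right (Subgroup.relIndex_dvd_index_of_le hHleC) hHall
    have hNC' : Subgroup.normalizer ((H.subgroupOf C : Subgroup C) : Set C) ≤
        Subgroup.centralizer ((H.subgroupOf C : Subgroup C) : Set C) := by
      intro x hx
      have hx' : (x : G) ∈ Subgroup.normalizer (H : Set G) := by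
        rw [Subgroup.mem_normalizer_iff]
        intro y
        constructor
        · intro hy
          have := (Subgroup.mem_normalizer_iff.1 hx ⟨y, hHleC hy⟩).1 (Subgroup.mem_subgroupOf.2 hy)
          exact Subgroup.mem_subgroupOf.1 this
        · intro hy
          have hyC : y ∈ C := by
            have : y = (x : G)⁻¹ * ((x : G) * y * (x : G)⁻¹) * (x : G) := by group
            rw [this]
            exact C.mul_mem (C.mul_mem (C.inv_mem x.2) (hHleC hy)) x.2
          have := (Subgroup.mem_normalizer_iff.1 hx ⟨y, hyC⟩).2 (Subgroup.mem_subgroupOf.2 hy)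
          exact Subgroup.mem_subgroupOf.1 this
      have h1 := hNC hx'
      rw [Subgroup.mem_centralizer_iff] at h1 ⊢
      intro y hy
      exact Subtype.ext (h1 (y : G) (Subgroup.mem_subgroupOf.1 hy))
    obtain ⟨K', hK'n, hK'c⟩ := ih (Nat.card C) hlt C rfl (H.subgroupOf C) hHall' hNC'
    set K : Subgroup G := K'.map C.subtype with hK
    have hKC : K ≤ C := Subgroup.map_subtype_le _
    have hCK : C ≤ Subgroup.normalizer (K : Set G) := by
      intro c hc
      rw [Subgroup.mem_normalizer_iff_map_conj_eq]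
      show cj c K = K
      have h1 : cj (⟨c, hc⟩ : C) K' = K' :=
        Subgroup.mem_normalizer_iff_map_conj_eq.1
          (by rw [Subgroup.normalizer_eq_top_iff.2 hK'n]; exact Subgroup.mem_top _)
      have h2 := congrArg (Subgroup.map C.subtype) h1
      rw [map_cj] at h2
      exact h2
    have hcardK : Nat.card K = Nat.card K' := Subgroup.card_map_of_injective C.subtype_injective
    have hcard1 : Nat.card K * Nat.card H = Nat.card C := by
      rw [hcardK, ← card_subgroupOf_of_le hHleC]; exact hK'c.card_mul_card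
    have hcopK : (Nat.card K).Coprime (Nat.card H) := by
      have h1 : (H.subgroupOf C).index = Nat.card K' := hK'c.index_eq_card
      rw [hcardK, ← h1]
      have := hHall'
      rw [card_subgroupOf_of_le hHleC] at this
      exact this.symm
    obtain ⟨c, hc, hcH⟩ := sz_conj_sub C K H H₂ hKC hCK hHleC hH₂leC hcard1
      (by rw [hH₂, card_cj']; exact hcard1) hcopK (Or.inr hHsolv)
    -- n := g₀⁻¹ c normalizes H
    have hnN : g₀⁻¹ * c ∈ Subgroup.normalizer (H : Set G) := by
      rw [Subgroup.mem_normalizer_iff_map_conj_eq]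
      show cj (g₀⁻¹ * c) H = H
      rw [cj_mul, hcH, hH₂, cj_inv_cj']
    have hnC := hNC hnN
    have h1 : (g₀⁻¹ * c) * u = u * (g₀⁻¹ * c) := (Subgroup.mem_centralizer_iff.1 hnC u huH).symm
    have h2 : c * u = u * c := by
      rw [hC, Subgroup.mem_centralizer_iff] at hc
      exact (hc u rfl).symm
    calc g₀⁻¹ * u * g₀ = (g₀⁻¹ * c) * (c⁻¹ * (u * c)) * c⁻¹ * g₀ := by group
      _ = (g₀⁻¹ * c) * (c⁻¹ * (c * u)) * c⁻¹ * g₀ := by rw [h2]
      _ = ((g₀⁻¹ * c) * u) * c⁻¹ * g₀ := by group
      _ = (u * (g₀⁻¹ * c)) * c⁻¹ * g₀ := by rw [h1]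
      _ = u := by group

end Cfsg.Agent.Lib.Helper4
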