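import Mathlib
import Cfsg.Prelude.Def_OddOrderLocal

set_option maxHeartbeats 1000000

namespace Cfsg.Agent.Lib.Helper4

open scoped commutatorElement

/-! ### Arithmetic -/

theorem mc_lte_dvd {p : ℕ} (hp : p.Prime) (hp1 : Odd p) (r : ℕ) (hr1 : 1 ≤ r) (hr : p ∣ r - 1)
    (i j α : ℕ) : p ^ α ∣ i * (r ^ j - 1) ↔ p ^ α ∣ i * (r - 1) * j := by
  have hnd : ¬ p ∣ r := by
    intro h
    have h2 : p ∣ r - (r - 1) := Nat.dvd_sub h hr
    have h3 : r - (r - 1) = 1 := by omega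
    rw [h3] at h2
    exact hp.one_lt.ne' (Nat.dvd_one.1 h2)
  have h1 := Nat.emultiplicity_pow_sub_pow hp hp1 (x := r) (y := 1) (by simpa using hr) hnd j
  rw [one_pow] at h1
  rw [pow_dvd_iff_le_emultiplicity, pow_dvd_iff_le_emultiplicity,
    Nat.Prime.emultiplicity_mul hp, Nat.Prime.emultiplicity_mul hp, Nat.Prime.emultiplicity_mul hp,
    h1, add_assoc]

theorem mc_gcd_trick (n k m : ℕ) : n ∣ k * m ↔ n ∣ Nat.gcd n k * m := by
  constructor
  · intro h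
    have h2 : n ∣ n * m := Dvd.intro _ rfl
    have h3 := Nat.dvd_gcd h2 h
    rwa [Nat.gcd_mul_right] at h3
  · intro h
    exact h.trans (Nat.mul_dvd_mul_right (Nat.gcd_dvd_right n k) m)

theorem mc_pow_dvd_pow_mul {p : ℕ} (hp : p.Prime) (α x m : ℕ) :
    p ^ α ∣ p ^ x * m ↔ p ^ (α - x) ∣ m := by
  rcases le_or_gt x α with h | h
  · obtain ⟨d, rfl⟩ := Nat.exists_eq_add_of_le h
    rw [Nat.add_sub_cancel_left, pow_add]
    exact Nat.mul_dvd_mul_iff_left (pow_pos hp.pos x)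
  · have h0 : α - x = 0 := by omega
    rw [h0, pow_zero]
    constructor
    · intro _; exact one_dvd _
    · intro _
      exact Dvd.dvd.mul_right (pow_dvd_pow p h.le) m

/-! ### General group lemmas -/

theorem mc_card_eq_inf_mul_map {G : Type*} [Group G] (N : Subgroup G) [N.Normal] (L : Subgroup G) :
    Nat.card L = Nat.card ↥(N ⊓ L) * Nat.card ↥(L.map (QuotientGroup.mk' N)) := by
  have h1 := Subgroup.relIndex_mul_relIndex ⊥ (N ⊓ L) L bot_le inf_le_right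
  rw [Subgroup.relIndex_bot_left, Subgroup.relIndex_bot_left, Subgroup.inf_relIndex_right] at h1
  have h2 := Subgroup.relIndex_ker (QuotientGroup.mk' N) (K := L)
  rw [QuotientGroup.ker_mk'] at h2
  rw [← h1, h2]

theorem mc_conj_pow {G : Type*} [Group G] {a b : G} {r : ℕ} (h : b * a * b⁻¹ = a ^ r) (i j : ℕ) :
    b ^ j * a ^ i * (b ^ j)⁻¹ = a ^ (i * r ^ j) := by
  induction j generalizing i with
  | zero => simp
  | succ j ih =>
    have h1 : ∀ m : ℕ, b * a ^ m * b⁻¹ = a ^ (m * r) := by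
      intro m
      rw [← conj_pow, h, ← pow_mul, mul_comm]
    calc b ^ (j + 1) * a ^ i * (b ^ (j + 1))⁻¹ = b * (b ^ j * a ^ i * (b ^ j)⁻¹) * b⁻¹ := by
          rw [pow_succ']; group
      _ = a ^ (i * r ^ (j + 1)) := by rw [ih, h1, pow_succ, mul_assoc]

theorem mc_isMulComm_iff {G : Type*} [Group G] (L : Subgroup G) :
    IsMulCommutative ↥L ↔ ∀ x ∈ L, ∀ y ∈ L, x * y = y * x := by
  constructor
  · intro h x hx y hy
    have := h.is_comm.comm (⟨x, hx⟩ : L) ⟨y, hy⟩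
    exact Subtype.ext_iff.1 this
  · intro h
    exact ⟨⟨fun x y => Subtype.ext (h x.1 x.2 y.1 y.2)⟩⟩

/-! ### The data of a metacyclic p-group -/

structure IsMC {G : Type*} [Group G] (p : ℕ) (a b : G) (α β ρ n r : ℕ) : Prop where
  hp : p.Prime
  hodd : Odd p
  ha : orderOf a = p ^ α
  hr1 : 1 ≤ r
  hr : p ∣ r - 1
  hρ : Nat.gcd (p ^ α) (r - 1) = p ^ ρ
  hn : ρ + n = α
  hconj : b * a * b⁻¹ = a ^ r
  hgen : ∀ g : G, ∃ i j : ℕ, g = a ^ i * b ^ j
  hb : ∀ j : ℕ, b ^ j ∈ Subgroup.zpowers a ↔ p ^ β ∣ j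
  hcard : Nat.card G = p ^ α * p ^ β

theorem exists_isMC {G : Type*} [Group G] [Finite G] {p : ℕ} [Fact p.Prime] (hp2 : p ≠ 2)
    (hG : IsPGroup p G) (hmc : Cfsg.IsMetacyclic G) :
    ∃ (a b : G) (α β ρ n r : ℕ), IsMC p a b α β ρ n r := by
  have hp : p.Prime := Fact.out
  have hodd : Odd p := hp.odd_of_ne_two hp2
  obtain ⟨N, hN, hNc, hQc⟩ := hmc
  obtain ⟨⟨a, haN⟩, ha⟩ := hNc.exists_generator
  have hNa : ∀ x : G, x ∈ N ↔ x ∈ Subgroup.zpowers a := by
    intro x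
    constructor
    · intro hx
      obtain ⟨z, hz⟩ := Subgroup.mem_zpowers_iff.1 (ha ⟨x, hx⟩)
      have : a ^ z = x := by
        have := congrArg Subtype.val hz
        simpa using this
      rw [← this]
      exact Subgroup.zpow_mem_zpowers a z
    · intro hx
      obtain ⟨z, rfl⟩ := Subgroup.mem_zpowers_iff.1 hx
      exact N.zpow_mem haN z
  have hNeq : N = Subgroup.zpowers a := Subgroup.ext hNa
  obtain ⟨q, hq⟩ := hQc.exists_generator
  obtain ⟨b, rfl⟩ := QuotientGroup.mk_surjective q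
  obtain ⟨α, hα⟩ := (IsPGroup.iff_orderOf.1 hG) a
  obtain ⟨β, hβ⟩ := (hG.to_quotient N).exists_card_eq
  have hordb : orderOf (b : G ⧸ N) = p ^ β := by
    rw [orderOf_eq_card_of_forall_mem_zpowers hq, hβ]
  have hcard : Nat.card G = p ^ α * p ^ β := by
    rw [Subgroup.card_eq_card_quotient_mul_card_subgroup N, hβ, hNeq, Nat.card_zpowers, hα,
      mul_comm]
  have hnat : ∀ x : G, x ∈ Subgroup.zpowers a → ∃ i : ℕ, x = a ^ i := by
    intro x hx
    rw [← mem_powers_iff_mem_zpowers] at hx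
    obtain ⟨i, hi⟩ := (Submonoid.mem_powers_iff _ _).1 hx
    exact ⟨i, hi.symm⟩
  have hb : ∀ j : ℕ, b ^ j ∈ Subgroup.zpowers a ↔ p ^ β ∣ j := by
    intro j
    rw [← hNa, ← hordb, orderOf_dvd_iff_pow_eq_one, ← QuotientGroup.mk_pow,
      QuotientGroup.eq_one_iff]
  have hgen : ∀ g : G, ∃ i j : ℕ, g = a ^ i * b ^ j := by
    intro g
    have h1 := hq (g : G ⧸ N)
    rw [← mem_powers_iff_mem_zpowers] at h1
    obtain ⟨j, hj⟩ := (Submonoid.mem_powers_iff _ _).1 h1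
    have h2 : g * (b ^ j)⁻¹ ∈ N := by
      rw [← QuotientGroup.eq_one_iff, QuotientGroup.mk_mul, QuotientGroup.mk_inv,
        QuotientGroup.mk_pow, hj, mul_inv_cancel]
    obtain ⟨i, hi⟩ := hnat _ ((hNa _).1 h2)
    refine ⟨i, j, ?_⟩
    rw [← hi]; group
  have hconj0 : ∃ r0 : ℕ, b * a * b⁻¹ = a ^ r0 := by
    apply hnat
    rw [← hNa]
    exact hN.conj_mem a haN b
  obtain ⟨r0, hr0⟩ := hconj0
  rcases Nat.eq_zero_or_pos α with h0 | hpos
  · -- a = 1
    have ha1 : a = 1 := by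
      rw [← orderOf_eq_one_iff, hα, h0, pow_zero]
    refine ⟨a, b, α, β, 0, 0, 1, hp, hodd, hα, le_refl 1, by simp, ?_, by omega, ?_, hgen, hb,
      hcard⟩
    · simp [h0]
    · rw [ha1]; simp
  · -- r0 ≡ 1 mod p
    obtain ⟨k, hk⟩ := (IsPGroup.iff_orderOf.1 hG) b
    have h1 := mc_conj_pow hr0 1 (p ^ k)
    rw [← hk, pow_orderOf_eq_one] at h1
    simp only [pow_one, inv_one, one_mul, mul_one] at h1
    have h2 : a ^ 1 = a ^ (r0 ^ orderOf b) := by rw [pow_one]; exact h1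
    rw [pow_eq_pow_iff_modEq, hα] at h2
    have h3 : 1 ≡ r0 ^ orderOf b [MOD p] :=
      Nat.ModEq.of_dvd (dvd_pow_self p hpos.ne') h2
    have h4 : ((1 : ℕ) : ZMod p) = ((r0 ^ orderOf b : ℕ) : ZMod p) :=
      (ZMod.natCast_eq_natCast_iff _ _ _).2 h3
    rw [hk] at h4
    push_cast at h4
    rw [ZMod.pow_card_pow] at h4
    have h5 : 1 ≡ r0 [MOD p] := by
      apply (ZMod.natCast_eq_natCast_iff _ _ _).1
      push_cast
      exact h4
    have hr1 : 1 ≤ r0 := by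
      rcases Nat.eq_zero_or_pos r0 with h | h
      · rw [h] at h5
        have := (Nat.modEq_zero_iff_dvd.1 h5)
        exact absurd (Nat.dvd_one.1 this) hp.one_lt.ne'
      · exact h
    have hr : p ∣ r0 - 1 := (Nat.modEq_iff_dvd' hr1).1 h5
    obtain ⟨ρ, hρα, hρ⟩ := (Nat.dvd_prime_pow hp).1 (Nat.gcd_dvd_left (p ^ α) (r0 - 1))
    exact ⟨a, b, α, β, ρ, α - ρ, r0, hp, hodd, hα, hr1, hr, hρ, by omega, hr0, hgen, hb, hcard⟩

namespace IsMC

variable {G : Type*} [Group G] {p : ℕ} {a b : G} {α β ρ n r : ℕ}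

theorem conj_pow' (h : IsMC p a b α β ρ n r) (i j : ℕ) :
    b ^ j * a ^ i * (b ^ j)⁻¹ = a ^ (i * r ^ j) := mc_conj_pow h.hconj i j

theorem swap (h : IsMC p a b α β ρ n r) (j k : ℕ) : b ^ j * a ^ k = a ^ (k * r ^ j) * b ^ j := by
  rw [← h.conj_pow' k j]; group

theorem mul_formula (h : IsMC p a b α β ρ n r) (i j k l : ℕ) :
    (a ^ i * b ^ j) * (a ^ k * b ^ l) = a ^ (i + k * r ^ j) * b ^ (j + l) := by
  calc (a ^ i * b ^ j) * (a ^ k * b ^ l) = a ^ i * (b ^ j * a ^ k) * b ^ l := by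
        simp only [mul_assoc]
    _ = a ^ i * (a ^ (k * r ^ j) * b ^ j) * b ^ l := by rw [h.swap]
    _ = a ^ (i + k * r ^ j) * b ^ (j + l) := by rw [pow_add, pow_add]; simp only [mul_assoc]

theorem isOfFinOrder (h : IsMC p a b α β ρ n r) : IsOfFinOrder a :=
  orderOf_pos_iff.1 (by rw [h.ha]; exact pow_pos h.hp.pos α)

theorem finite (h : IsMC p a b α β ρ n r) : Finite G := by
  apply Nat.finite_of_card_ne_zero
  rw [h.hcard]
  exact (mul_pos (pow_pos h.hp.pos α) (pow_pos h.hp.pos β)).ne'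

theorem pow_eq_one_iff (h : IsMC p a b α β ρ n r) (x : ℕ) : a ^ x = 1 ↔ p ^ α ∣ x := by
  rw [← h.ha, orderOf_dvd_iff_pow_eq_one]

theorem pow_eq_pow_iff (h : IsMC p a b α β ρ n r) (x y : ℕ) :
    a ^ x = a ^ y ↔ x ≡ y [MOD p ^ α] := by
  rw [pow_eq_pow_iff_modEq, h.ha]

theorem commute_iff (h : IsMC p a b α β ρ n r) (i j k l : ℕ) :
    Commute (a ^ i * b ^ j) (a ^ k * b ^ l) ↔
      k * (r ^ j - 1) ≡ i * (r ^ l - 1) [MOD p ^ α] := by
  rw [commute_iff_eq, h.mul_formula, h.mul_formula, add_comm l j, mul_left_inj, h.pow_eq_pow_iff]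
  obtain ⟨s, hs⟩ := Nat.exists_eq_add_of_le' (Nat.one_le_pow j r h.hr1)
  obtain ⟨s', hs'⟩ := Nat.exists_eq_add_of_le' (Nat.one_le_pow l r h.hr1)
  rw [hs, hs', Nat.add_sub_cancel, Nat.add_sub_cancel]
  have e1 : i + k * (s + 1) = k * s + (i + k) := by ring
  have e2 : k + i * (s' + 1) = i * s' + (i + k) := by ring
  rw [e1, e2]
  constructor
  · intro h1; exact Nat.ModEq.add_right_cancel' _ h1
  · intro h1; exact Nat.ModEq.add_right _ h1

theorem dvd_mul_iff (h : IsMC p a b α β ρ n r) (x : ℕ) : p ^ α ∣ x * (r - 1) ↔ p ^ n ∣ x := by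
  rw [mul_comm, mc_gcd_trick, h.hρ, mc_pow_dvd_pow_mul h.hp]
  have : α - ρ = n := by have := h.hn; omega
  rw [this]

theorem commute_pow_iff (h : IsMC p a b α β ρ n r) (k i j : ℕ) :
    Commute (a ^ k) (a ^ i * b ^ j) ↔ p ^ n ∣ k * j := by
  have h1 := h.commute_iff k 0 i j
  rw [pow_zero, mul_one, pow_zero, Nat.sub_self, mul_zero] at h1
  rw [h1, Nat.ModEq.comm, Nat.modEq_zero_iff_dvd, mc_lte_dvd h.hp h.hodd r h.hr1 h.hr,
    show k * (r - 1) * j = (k * j) * (r - 1) by ring, h.dvd_mul_iff]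

theorem commute_b_iff (h : IsMC p a b α β ρ n r) (i j : ℕ) :
    Commute (a ^ i * b ^ j) b ↔ p ^ n ∣ i := by
  have h1 := h.commute_iff i j 0 1
  rw [pow_zero, one_mul, pow_one, zero_mul, pow_one] at h1
  rw [h1, Nat.ModEq.comm, Nat.modEq_zero_iff_dvd, h.dvd_mul_iff]

theorem commute_a_iff (h : IsMC p a b α β ρ n r) (i j : ℕ) :
    Commute (a ^ i * b ^ j) a ↔ p ^ n ∣ j := by
  have h1 := h.commute_pow_iff 1 i j
  rw [pow_one, one_mul] at h1
  rw [← h1]
  exact ⟨Commute.symm, Commute.symm⟩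

theorem normal (h : IsMC p a b α β ρ n r) : (Subgroup.zpowers a).Normal := by
  constructor
  intro x hx g
  obtain ⟨z, rfl⟩ := Subgroup.mem_zpowers_iff.1 hx
  obtain ⟨i, j, rfl⟩ := h.hgen g
  have h1 : a ^ i * b ^ j * a * (a ^ i * b ^ j)⁻¹ = a ^ (r ^ j) := by
    have h2 := h.conj_pow' 1 j
    rw [pow_one, one_mul] at h2
    calc a ^ i * b ^ j * a * (a ^ i * b ^ j)⁻¹
        = a ^ i * (b ^ j * a * (b ^ j)⁻¹) * (a ^ i)⁻¹ := by group
      _ = a ^ (r ^ j) := by rw [h2]; group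
  rw [← conj_zpow, h1]
  exact Subgroup.zpow_mem _ (Subgroup.npow_mem_zpowers a _) z

theorem mem_zpowers_iff (h : IsMC p a b α β ρ n r) (x : G) :
    x ∈ Subgroup.zpowers a ↔ ∃ i : ℕ, x = a ^ i := by
  rw [← h.isOfFinOrder.mem_powers_iff_mem_zpowers, Submonoid.mem_powers_iff]
  constructor
  · rintro ⟨i, hi⟩; exact ⟨i, hi.symm⟩
  · rintro ⟨i, hi⟩; exact ⟨i, hi.symm⟩

theorem commutator_eq (h : IsMC p a b α β ρ n r) :
    commutator G = Subgroup.zpowers (a ^ (r - 1)) := by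
  apply le_antisymm
  · unfold commutator
    rw [Subgroup.commutator_le]
    intro g _ g' _
    obtain ⟨i, j, rfl⟩ := h.hgen g
    obtain ⟨k, l, rfl⟩ := h.hgen g'
    have e : ⁅a ^ i * b ^ j, a ^ k * b ^ l⁆ =
        (a ^ i * b ^ j * (a ^ k * b ^ l)) * ((a ^ k * b ^ l) * (a ^ i * b ^ j))⁻¹ := by
      rw [commutatorElement_def]; group
    rw [e, h.mul_formula, h.mul_formula, add_comm l j]
    have e2 : a ^ (i + k * r ^ j) * b ^ (j + l) * (a ^ (k + i * r ^ l) * b ^ (j + l))⁻¹ =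
        a ^ (i + k * r ^ j) * (a ^ (k + i * r ^ l))⁻¹ := by group
    rw [e2]
    obtain ⟨s, hs⟩ := Nat.sub_one_dvd_pow_sub_one r j
    obtain ⟨s', hs'⟩ := Nat.sub_one_dvd_pow_sub_one r l
    have hj : r ^ j = (r - 1) * s + 1 := by have := Nat.one_le_pow j r h.hr1; omega
    have hl : r ^ l = (r - 1) * s' + 1 := by have := Nat.one_le_pow l r h.hr1; omega
    rw [hj, hl]
    have e3 : a ^ (i + k * ((r - 1) * s + 1)) * (a ^ (k + i * ((r - 1) * s' + 1)))⁻¹ =
        (a ^ (r - 1)) ^ ((k * s : ℤ) - (i * s' : ℤ)) := by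
      rw [← zpow_natCast, ← zpow_natCast, ← zpow_natCast, ← zpow_neg, ← zpow_add, ← zpow_mul]
      congr 1
      push_cast
      ring
    rw [e3]
    exact Subgroup.zpow_mem_zpowers _ _
  · rw [Subgroup.zpowers_le]
    have e : a ^ (r - 1) = ⁅b, a⁆ := by
      rw [commutatorElement_def, h.hconj]
      have e1 : r = (r - 1) + 1 := by have := h.hr1; omega
      conv_rhs => rw [e1, pow_succ]
      group
    rw [e]
    exact Subgroup.commutator_mem_commutator (Subgroup.mem_top b) (Subgroup.mem_top a)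

theorem orderOf_a_pow (h : IsMC p a b α β ρ n r) (k : ℕ) :
    orderOf (a ^ k) = p ^ α / Nat.gcd (p ^ α) k := by
  rw [h.isOfFinOrder.orderOf_pow, h.ha]

theorem orderOf_a_pow_pow (h : IsMC p a b α β ρ n r) (s : ℕ) (hs : s ≤ α) :
    orderOf (a ^ (p ^ s)) = p ^ (α - s) := by
  rw [h.orderOf_a_pow, Nat.gcd_eq_right (pow_dvd_pow p hs), Nat.pow_div hs h.hp.pos]

theorem card_commutator (h : IsMC p a b α β ρ n r) : Nat.card (commutator G) = p ^ n := by
  have hρα : ρ ≤ α := by have := h.hn; omega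
  have e : α - ρ = n := by have := h.hn; omega
  rw [h.commutator_eq, Nat.card_zpowers, h.orderOf_a_pow, h.hρ, Nat.pow_div hρα h.hp.pos, e]

theorem exists_t0 (h : IsMC p a b α β ρ n r) : ∃ t : ℕ, b ^ (p ^ β) = a ^ t ∧ p ^ n ∣ t := by
  obtain ⟨t, ht⟩ := (h.mem_zpowers_iff _).1 ((h.hb (p ^ β)).2 dvd_rfl)
  refine ⟨t, ht, ?_⟩
  have h1 : Commute (a ^ t * b ^ 0) b := by
    rw [pow_zero, mul_one, ← ht]
    exact (Commute.refl b).pow_left _
  exact (h.commute_b_iff t 0).1 h1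

theorem n_le_β (h : IsMC p a b α β ρ n r) : n ≤ β := by
  obtain ⟨t, ht, _⟩ := h.exists_t0
  have h1 : Commute (a ^ 1) (a ^ 0 * b ^ (p ^ β)) := by
    rw [pow_zero, one_mul, ht]
    exact (Commute.refl a).pow_pow _ _
  have h2 := (h.commute_pow_iff 1 0 (p ^ β)).1 h1
  rw [one_mul] at h2
  exact (Nat.pow_dvd_pow_iff_le_right h.hp.one_lt).1 h2

theorem index_commutator (h : IsMC p a b α β ρ n r) : (commutator G).index = p ^ (ρ + β) := by
  have h1 := Subgroup.card_mul_index (commutator G)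
  rw [h.card_commutator, h.hcard, ← h.hn] at h1
  have h2 : p ^ n * (commutator G).index = p ^ n * p ^ (ρ + β) := by
    rw [h1]; ring
  exact Nat.eq_of_mul_eq_mul_left (pow_pos h.hp.pos n) h2

theorem mem_center_iff (h : IsMC p a b α β ρ n r) (i j : ℕ) :
    a ^ i * b ^ j ∈ Subgroup.center G ↔ p ^ n ∣ i ∧ p ^ n ∣ j := by
  constructor
  · intro hz
    rw [Subgroup.mem_center_iff] at hz
    exact ⟨(h.commute_b_iff i j).1 (hz b).symm, (h.commute_a_iff i j).1 (hz a).symm⟩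
  · rintro ⟨hi, hj⟩
    rw [Subgroup.mem_center_iff]
    intro g
    obtain ⟨k, l, rfl⟩ := h.hgen g
    have ha := (h.commute_a_iff i j).2 hj
    have hb := (h.commute_b_iff i j).2 hi
    exact ((ha.pow_right k).mul_right (hb.pow_right l)).symm.eq

theorem orderOf_mk_b (h : IsMC p a b α β ρ n r) [(Subgroup.zpowers a).Normal] :
    orderOf (QuotientGroup.mk b : G ⧸ Subgroup.zpowers a) = p ^ β := by
  apply Nat.dvd_antisymm
  · rw [orderOf_dvd_iff_pow_eq_one, ← QuotientGroup.mk_pow, QuotientGroup.eq_one_iff]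
    exact (h.hb _).2 dvd_rfl
  · rw [← h.hb, ← QuotientGroup.eq_one_iff, QuotientGroup.mk_pow, pow_orderOf_eq_one]

theorem mk_a_pow (h : IsMC p a b α β ρ n r) [(Subgroup.zpowers a).Normal] (i j : ℕ) :
    (QuotientGroup.mk (a ^ i * b ^ j) : G ⧸ Subgroup.zpowers a) =
      (QuotientGroup.mk b : G ⧸ Subgroup.zpowers a) ^ j := by
  rw [QuotientGroup.mk_mul, QuotientGroup.mk_pow _ b,
    (QuotientGroup.eq_one_iff _).2 (Subgroup.npow_mem_zpowers a i), one_mul]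

theorem card_of_desc (h : IsMC p a b α β ρ n r) (L : Subgroup G) (s t : ℕ) (hs : s ≤ α)
    (ht : t ≤ β)
    (h1 : ∀ x : ℕ, a ^ x ∈ L ↔ p ^ s ∣ x)
    (h2 : ∀ x y : ℕ, a ^ x * b ^ y ∈ L → p ^ t ∣ y)
    (h3 : ∃ x : ℕ, a ^ x * b ^ (p ^ t) ∈ L) :
    Nat.card L = p ^ (α - s) * p ^ (β - t) := by
  haveI := h.normal
  rw [mc_card_eq_inf_mul_map (Subgroup.zpowers a) L]
  have e1 : Subgroup.zpowers a ⊓ L = Subgroup.zpowers (a ^ (p ^ s)) := by
    ext x
    rw [Subgroup.mem_inf]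
    constructor
    · rintro ⟨hx1, hx2⟩
      obtain ⟨i, rfl⟩ := (h.mem_zpowers_iff x).1 hx1
      obtain ⟨i', rfl⟩ := (h1 i).1 hx2
      rw [pow_mul]
      exact Subgroup.npow_mem_zpowers _ _
    · intro hx
      obtain ⟨z, rfl⟩ := Subgroup.mem_zpowers_iff.1 hx
      exact ⟨Subgroup.zpow_mem _ (Subgroup.npow_mem_zpowers a _) z,
        Subgroup.zpow_mem _ ((h1 _).2 dvd_rfl) z⟩
  have e2 : L.map (QuotientGroup.mk' (Subgroup.zpowers a)) =
      Subgroup.zpowers ((QuotientGroup.mk b : G ⧸ Subgroup.zpowers a) ^ (p ^ t)) := by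
    ext q
    rw [Subgroup.mem_map]
    constructor
    · rintro ⟨x, hx, rfl⟩
      obtain ⟨i, j, rfl⟩ := h.hgen x
      obtain ⟨j', rfl⟩ := h2 i j hx
      rw [QuotientGroup.mk'_apply, h.mk_a_pow, pow_mul]
      exact Subgroup.npow_mem_zpowers _ _
    · intro hq
      obtain ⟨z, rfl⟩ := Subgroup.mem_zpowers_iff.1 hq
      obtain ⟨x, hx⟩ := h3
      refine ⟨(a ^ x * b ^ (p ^ t)) ^ z, L.zpow_mem hx z, ?_⟩
      rw [map_zpow, QuotientGroup.mk'_apply, h.mk_a_pow]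
  rw [e1, e2, Nat.card_zpowers, Nat.card_zpowers, h.orderOf_a_pow_pow s hs]
  congr 1
  haveI := h.finite
  rw [orderOf_pow, h.orderOf_mk_b, Nat.gcd_eq_right (pow_dvd_pow p ht), Nat.pow_div ht h.hp.pos]

theorem card_center (h : IsMC p a b α β ρ n r) :
    Nat.card (Subgroup.center G) = p ^ (α - n) * p ^ (β - n) := by
  apply h.card_of_desc (Subgroup.center G) n n (by have := h.hn; omega) h.n_le_β
  · intro x
    have h1 := h.mem_center_iff x 0
    rw [pow_zero, mul_one] at h1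
    rw [h1]
    simp
  · intro x y hxy; exact ((h.mem_center_iff x y).1 hxy).2
  · exact ⟨0, (h.mem_center_iff 0 (p ^ n)).2 ⟨dvd_zero _, dvd_rfl⟩⟩

theorem index_center (h : IsMC p a b α β ρ n r) : (Subgroup.center G).index = (p ^ n) ^ 2 := by
  have h1 := Subgroup.card_mul_index (Subgroup.center G)
  have hnα : n ≤ α := by have := h.hn; omega
  have hnβ := h.n_le_β
  rw [h.card_center, h.hcard] at h1
  have e1 : p ^ α = p ^ (α - n) * p ^ n := by rw [← pow_add]; congr 1; omega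
  have e2 : p ^ β = p ^ (β - n) * p ^ n := by rw [← pow_add]; congr 1; omega
  have h2 : (p ^ (α - n) * p ^ (β - n)) * (Subgroup.center G).index =
      (p ^ (α - n) * p ^ (β - n)) * (p ^ n) ^ 2 := by
    rw [h1]
    conv_lhs => rw [e1, e2]
    ring
  exact Nat.eq_of_mul_eq_mul_left
    (mul_pos (pow_pos h.hp.pos _) (pow_pos h.hp.pos _)) h2

end IsMC

theorem metacyclic_index_center {G : Type*} [Group G] [Finite G] {p : ℕ} [Fact p.Prime]
    (hp : p ≠ 2) (hG : IsPGroup p G) (hmc : Cfsg.IsMetacyclic G) :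
    (Subgroup.center G).index = Nat.card ↥(commutator G) ^ 2 := by
  obtain ⟨a, b, α, β, ρ, n, r, h⟩ := exists_isMC hp hG hmc
  rw [h.index_center, h.card_commutator]

end Cfsg.Agent.Lib.Helper4
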