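import Mathlib
import Cfsg.Agent.Lib.Helper4.Metacyclic

set_option maxHeartbeats 1000000

namespace Cfsg.Agent.Lib.Helper4

theorem mc_dvd_gcd (n m k j : ℕ) (hnm : n ∣ m) : n ∣ k * j ↔ n ∣ Nat.gcd m k * j := by
  constructor
  · intro h
    have h2 : n ∣ m * j := Dvd.dvd.mul_right hnm j
    have h3 := Nat.dvd_gcd h2 h
    rwa [Nat.gcd_mul_right] at h3
  · intro h
    exact h.trans (Nat.mul_dvd_mul_right (Nat.gcd_dvd_right m k) j)

namespace IsMC

variable {G : Type*} [Group G] {p : ℕ} {a b : G} {α β ρ n r : ℕ}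

theorem isCyclic_quot (h : IsMC p a b α β ρ n r) [(Subgroup.zpowers a).Normal] :
    IsCyclic (G ⧸ Subgroup.zpowers a) := by
  rw [isCyclic_iff_exists_zpowers_eq_top]
  refine ⟨(QuotientGroup.mk b : G ⧸ Subgroup.zpowers a), (Subgroup.eq_top_iff' _).2 ?_⟩
  intro q
  obtain ⟨x, rfl⟩ := QuotientGroup.mk_surjective q
  obtain ⟨i, j, rfl⟩ := h.hgen x
  rw [h.mk_a_pow]
  exact Subgroup.npow_mem_zpowers _ _

theorem exists_decomp (h : IsMC p a b α β ρ n r) (L : Subgroup G) :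
    ∃ k i j : ℕ, a ^ k ∈ L ∧ a ^ i * b ^ j ∈ L ∧
      (∀ y ∈ L, ∃ t m : ℕ, y = (a ^ k) ^ t * (a ^ i * b ^ j) ^ m) ∧
      Nat.card L = (p ^ α / Nat.gcd (p ^ α) k) * (p ^ β / Nat.gcd (p ^ β) j) := by
  haveI := h.normal
  haveI := h.finite
  haveI := h.isCyclic_quot
  have hc1 : IsCyclic ↥(Subgroup.zpowers a ⊓ L) :=
    Subgroup.isCyclic_of_le (inf_le_left : Subgroup.zpowers a ⊓ L ≤ Subgroup.zpowers a)
  obtain ⟨g, hg⟩ := (Subgroup.isCyclic_iff_exists_zpowers_eq_top _).1 hc1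
  have hg1 : g ∈ Subgroup.zpowers a ⊓ L := by rw [← hg]; exact Subgroup.mem_zpowers g
  obtain ⟨k, rfl⟩ := (h.mem_zpowers_iff g).1 hg1.1
  have hc2 : IsCyclic ↥(L.map (QuotientGroup.mk' (Subgroup.zpowers a))) := inferInstance
  obtain ⟨q, hq⟩ := (Subgroup.isCyclic_iff_exists_zpowers_eq_top _).1 hc2
  have hq1 : q ∈ L.map (QuotientGroup.mk' (Subgroup.zpowers a)) := by
    rw [← hq]; exact Subgroup.mem_zpowers q
  obtain ⟨x, hxL, rfl⟩ := Subgroup.mem_map.1 hq1
  obtain ⟨i, j, rfl⟩ := h.hgen x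
  refine ⟨k, i, j, hg1.2, hxL, ?_, ?_⟩
  · intro y hy
    have h1 : (QuotientGroup.mk' (Subgroup.zpowers a)) y ∈
        L.map (QuotientGroup.mk' (Subgroup.zpowers a)) := Subgroup.mem_map_of_mem _ hy
    rw [← hq, ← mem_powers_iff_mem_zpowers, Submonoid.mem_powers_iff] at h1
    obtain ⟨m, hm⟩ := h1
    have h2 : y * ((a ^ i * b ^ j) ^ m)⁻¹ ∈ Subgroup.zpowers a ⊓ L := by
      refine Subgroup.mem_inf.2 ⟨?_, ?_⟩
      · rw [← QuotientGroup.eq_one_iff, QuotientGroup.mk_mul, QuotientGroup.mk_inv,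
          QuotientGroup.mk_pow]
        rw [QuotientGroup.mk'_apply, QuotientGroup.mk'_apply] at hm
        rw [hm, mul_inv_cancel]
      · exact L.mul_mem hy (L.inv_mem (L.pow_mem hxL m))
    rw [← hg, ← mem_powers_iff_mem_zpowers, Submonoid.mem_powers_iff] at h2
    obtain ⟨t, ht⟩ := h2
    refine ⟨t, m, ?_⟩
    rw [ht]; group
  · rw [mc_card_eq_inf_mul_map (Subgroup.zpowers a) L, ← hg, ← hq, Nat.card_zpowers,
      Nat.card_zpowers, h.orderOf_a_pow k, QuotientGroup.mk'_apply, h.mk_a_pow, orderOf_pow,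
      h.orderOf_mk_b]

theorem abelian_iff (h : IsMC p a b α β ρ n r) (L : Subgroup G) :
    IsMulCommutative ↥L ↔ Nat.card L ≤ p ^ (ρ + β) := by
  obtain ⟨k, i, j, hk, hx, hdec, hcard⟩ := h.exists_decomp L
  have hiff : IsMulCommutative ↥L ↔ Commute (a ^ k) (a ^ i * b ^ j) := by
    rw [mc_isMulComm_iff]
    constructor
    · intro h1; exact h1 _ hk _ hx
    · intro hc y hy y' hy'
      obtain ⟨t, m, rfl⟩ := hdec y hy
      obtain ⟨t', m', rfl⟩ := hdec y' hy'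
      have c1 : Commute ((a ^ k) ^ t) ((a ^ k) ^ t' * (a ^ i * b ^ j) ^ m') :=
        ((Commute.refl (a ^ k)).pow_pow t t').mul_right (hc.pow_pow t m')
      have c2 : Commute ((a ^ i * b ^ j) ^ m) ((a ^ k) ^ t' * (a ^ i * b ^ j) ^ m') :=
        (hc.symm.pow_pow m t').mul_right ((Commute.refl (a ^ i * b ^ j)).pow_pow m m')
      exact (c1.mul_left c2).eq
  rw [hiff, h.commute_pow_iff, hcard]
  have hp := h.hp
  have hnα : n ≤ α := by have := h.hn; omega
  have hnβ := h.n_le_β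
  obtain ⟨κ, hκα, hκ⟩ := (Nat.dvd_prime_pow hp).1 (Nat.gcd_dvd_left (p ^ α) k)
  obtain ⟨ι, hιβ, hι⟩ := (Nat.dvd_prime_pow hp).1 (Nat.gcd_dvd_left (p ^ β) j)
  rw [mc_dvd_gcd (p ^ n) (p ^ α) k j (pow_dvd_pow p hnα), hκ, mul_comm,
    mc_dvd_gcd (p ^ n) (p ^ β) j (p ^ κ) (pow_dvd_pow p hnβ), hι, ← pow_add,
    Nat.pow_dvd_pow_iff_le_right hp.one_lt, Nat.pow_div hκα hp.pos, Nat.pow_div hιβ hp.pos,
    ← pow_add, Nat.pow_le_pow_iff_right hp.one_lt]
  have := h.hn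
  omega

theorem abelian_iff' (h : IsMC p a b α β ρ n r) (L : Subgroup G) :
    IsMulCommutative ↥L ↔ Nat.card L ≤ (commutator G).index := by
  rw [h.index_commutator]; exact h.abelian_iff L

end IsMC

/-- Abelian subgroups of metacyclic `p`-groups: criterion and maximal ones, parametrised by the
bound `M` (which will be the index of the derived subgroup). -/
theorem mc_maximal_iff {G : Type*} [Group G] [Finite G] {p : ℕ} [Fact p.Prime]
    (hG : IsPGroup p G) (m : ℕ) (hm : p ^ m ∣ Nat.card G)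
    (hab : ∀ L : Subgroup G, IsMulCommutative ↥L ↔ Nat.card L ≤ p ^ m) (L : Subgroup G) :
    Maximal (fun K : Subgroup G => IsMulCommutative ↥K) L ↔ Nat.card ↥L = p ^ m := by
  have hp : p.Prime := Fact.out
  constructor
  · intro hmax
    have h1 : Nat.card L ≤ p ^ m := (hab L).1 hmax.1
    by_contra hne
    obtain ⟨x, hx⟩ := (hG.to_subgroup L).exists_card_eq
    have hlt : x < m := by
      have : p ^ x < p ^ m := by rw [← hx]; exact lt_of_le_of_ne h1 hne
      exact (Nat.pow_lt_pow_iff_right hp.one_lt).1 this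
    have hdvd : p ^ (x + 1) ∣ Nat.card G := (pow_dvd_pow p hlt).trans hm
    obtain ⟨K, hK, hLK⟩ := Sylow.exists_subgroup_card_pow_succ hdvd hx
    have hKab : IsMulCommutative ↥K := by
      rw [hab K, hK]
      exact Nat.pow_le_pow_right hp.pos hlt
    have h2 := hmax.2 hKab hLK
    have h3 := Subgroup.card_le_of_le h2
    rw [hK, hx] at h3
    have := (Nat.pow_le_pow_iff_right hp.one_lt).1 h3
    omega
  · intro hcard
    refine ⟨(hab L).2 hcard.le, ?_⟩
    intro K hK hLK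
    have h1 := (hab K).1 hK
    rw [← hcard] at h1
    exact (Subgroup.eq_of_le_of_card_ge hLK h1).ge

theorem metacyclic_abelian_subgroups {G : Type*} [Group G] [Finite G] {p : ℕ} [Fact p.Prime]
    (hp : p ≠ 2) (hG : IsPGroup p G) (hmc : Cfsg.IsMetacyclic G) (L : Subgroup G) :
    (IsMulCommutative ↥L ↔ Nat.card ↥L ≤ (commutator G).index) ∧
      (Maximal (fun K : Subgroup G => IsMulCommutative ↥K) L ↔
        Nat.card ↥L = (commutator G).index) := by
  obtain ⟨a, b, α, β, ρ, n, r, h⟩ := exists_isMC hp hG hmc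
  refine ⟨h.abelian_iff' L, ?_⟩
  rw [h.index_commutator]
  apply mc_maximal_iff hG (ρ + β) _ h.abelian_iff L
  rw [h.hcard, ← h.hn, pow_add, pow_add]
  exact Nat.mul_dvd_mul (Dvd.intro _ rfl) dvd_rfl

end Cfsg.Agent.Lib.Helper4
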