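import Mathlib
import Cfsg.Prelude.Def_BaumannBlocks
import Cfsg.Agent.Lib.Helper4.Metacyclic2

set_option maxHeartbeats 1000000

namespace Cfsg.Agent.Lib.Helper4

theorem mc_isMetacyclic_subgroup {G : Type*} [Group G] (hmc : Cfsg.IsMetacyclic G)
    (R : Subgroup G) : Cfsg.IsMetacyclic ↥R := by
  obtain ⟨N, hN, hNc, hQc⟩ := hmc
  refine ⟨N.subgroupOf R, inferInstance, ?_, ?_⟩
  · let f : ↥(N.subgroupOf R) →* ↥N :=
      { toFun := fun x => ⟨x.1.1, x.2⟩, map_one' := rfl, map_mul' := fun _ _ => rfl }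
    apply isCyclic_of_injective f
    intro x y hxy
    have h1 : x.1.1 = y.1.1 := congrArg (fun z : ↥N => (z : G)) hxy
    exact Subtype.ext (Subtype.ext h1)
  · let f : ↥R ⧸ N.subgroupOf R →* G ⧸ N :=
      QuotientGroup.map (N.subgroupOf R) N R.subtype (le_refl _)
    apply isCyclic_of_injective f
    rw [injective_iff_map_eq_one]
    intro q hq
    obtain ⟨x, rfl⟩ := QuotientGroup.mk_surjective q
    have h1 : f (QuotientGroup.mk x) = QuotientGroup.mk (x : G) := rfl
    rw [h1, QuotientGroup.eq_one_iff] at hq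
    rw [QuotientGroup.eq_one_iff]
    exact hq

theorem mc_isMulComm_map {G : Type*} [Group G] (R : Subgroup G) (L' : Subgroup ↥R) :
    IsMulCommutative ↥(L'.map R.subtype) ↔ IsMulCommutative ↥L' := by
  rw [mc_isMulComm_iff, mc_isMulComm_iff]
  constructor
  · intro h x hx y hy
    have := h x.1 (Subgroup.mem_map_of_mem _ hx) y.1 (Subgroup.mem_map_of_mem _ hy)
    exact Subtype.ext this
  · intro h x hx y hy
    obtain ⟨x', hx', rfl⟩ := Subgroup.mem_map.1 hx
    obtain ⟨y', hy', rfl⟩ := Subgroup.mem_map.1 hy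
    have := h x' hx' y' hy'
    exact congrArg Subtype.val this

theorem mc_isMulComm_top {G : Type*} [Group G] :
    IsMulCommutative ↥(⊤ : Subgroup G) ↔ IsMulCommutative G := by
  rw [mc_isMulComm_iff]
  constructor
  · intro h; exact ⟨⟨fun x y => h x (Subgroup.mem_top x) y (Subgroup.mem_top y)⟩⟩
  · intro h x _ y _; exact h.is_comm.comm x y

theorem mc_index_comm_subgroup {G : Type*} [Group G] [Finite G] {p : ℕ} [Fact p.Prime]
    (hG : IsPGroup p G) (R : Subgroup G) (x y : ℕ)
    (hx : ∀ L' : Subgroup ↥R, IsMulCommutative ↥L' ↔ Nat.card L' ≤ p ^ x)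
    (hy : ∀ L : Subgroup G, IsMulCommutative ↥L ↔ Nat.card L ≤ p ^ y)
    (hxR : p ^ x ∣ Nat.card R) (hna : ¬ IsMulCommutative ↥R) : x = y := by
  have hp : p.Prime := Fact.out
  obtain ⟨c, hc⟩ := (hG.to_subgroup R).exists_card_eq
  have hxc : x < c := by
    have h1 := hx ⊤
    rw [mc_isMulComm_top, Subgroup.card_top, hc, Nat.pow_le_pow_iff_right hp.one_lt] at h1
    by_contra hcon
    exact hna (h1.2 (by omega))
  apply le_antisymm
  · obtain ⟨L', hL'⟩ := Sylow.exists_subgroup_card_pow_prime p hxR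
    have h1 : IsMulCommutative ↥L' := (hx L').2 hL'.le
    have h2 := (hy (L'.map R.subtype)).1 ((mc_isMulComm_map R L').2 h1)
    rw [Subgroup.card_map_of_injective R.subtype_injective, hL',
      Nat.pow_le_pow_iff_right hp.one_lt] at h2
    exact h2
  · by_contra hcon
    have hlt : x < y := by omega
    have hd : p ^ (x + 1) ∣ Nat.card R := by rw [hc]; exact pow_dvd_pow p hxc
    obtain ⟨L', hL'⟩ := Sylow.exists_subgroup_card_pow_prime p hd
    have h1 : ¬ IsMulCommutative ↥L' := by
      rw [hx L', hL', Nat.pow_le_pow_iff_right hp.one_lt]; omega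
    apply h1
    rw [← mc_isMulComm_map R L', hy, Subgroup.card_map_of_injective R.subtype_injective, hL',
      Nat.pow_le_pow_iff_right hp.one_lt]
    omega

theorem mc_card_center_of_comm {G : Type*} [Group G] (h : IsMulCommutative G) :
    Nat.card (Subgroup.center G) = Nat.card G := by
  have : Subgroup.center G = ⊤ := by
    rw [Subgroup.eq_top_iff']
    intro x
    rw [Subgroup.mem_center_iff]
    intro g
    exact h.is_comm.comm g x
  rw [this, Subgroup.card_top]

theorem metacyclic_centrally_large {G : Type*} [Group G] [Finite G] {p : ℕ} [Fact p.Prime]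
    (hp2 : p ≠ 2) (hG : IsPGroup p G) (hmc : Cfsg.IsMetacyclic G) :
    Cfsg.maxCentralProduct G = (commutator G).index ^ 2 ∧
    ∀ R : Subgroup G, Cfsg.IsCentrallyLarge R ↔
      (¬ IsMulCommutative ↥R ∨ Maximal (fun K : Subgroup G => IsMulCommutative ↥K) R) := by
  have hp : p.Prime := Fact.out
  obtain ⟨a, b, α, β, ρ, n, r, h⟩ := exists_isMC hp2 hG hmc
  have hidx := h.index_commutator
  have hab := h.abelian_iff
  have hdvd : p ^ (ρ + β) ∣ Nat.card G := by
    rw [h.hcard, ← h.hn, pow_add, pow_add]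
    exact Nat.mul_dvd_mul (Dvd.intro _ rfl) dvd_rfl
  have hmaxiff := mc_maximal_iff hG (ρ + β) hdvd hab
  -- the product for abelian subgroups
  have hA : ∀ R : Subgroup G, IsMulCommutative ↥R →
      Nat.card ↥R * Nat.card ↥(Subgroup.center ↥R) = Nat.card R ^ 2 := by
    intro R hR
    rw [mc_card_center_of_comm hR, sq]
  -- the product for non-abelian subgroups
  have hB : ∀ R : Subgroup G, ¬ IsMulCommutative ↥R →
      Nat.card ↥R * Nat.card ↥(Subgroup.center ↥R) = (p ^ (ρ + β)) ^ 2 := by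
    intro R hR
    obtain ⟨a', b', α', β', ρ', n', r', h'⟩ :=
      exists_isMC hp2 (hG.to_subgroup R) (mc_isMetacyclic_subgroup hmc R)
    have h1 := h'.index_commutator
    have h2 := h'.card_commutator
    have h3 := h'.index_center
    have h4 := Subgroup.card_mul_index (commutator ↥R)
    have h5 := Subgroup.card_mul_index (Subgroup.center ↥R)
    rw [h1, h2] at h4
    rw [h3] at h5
    have hxy : ρ' + β' = ρ + β := by
      apply mc_index_comm_subgroup hG R (ρ' + β') (ρ + β) h'.abelian_iff hab _ hR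
      rw [← h4]; exact Dvd.intro_left _ rfl
    rw [hxy] at h4
    have h6 : (p ^ n') ^ 2 * (Nat.card ↥R * Nat.card ↥(Subgroup.center ↥R)) =
        (p ^ n') ^ 2 * (p ^ (ρ + β)) ^ 2 := by
      calc (p ^ n') ^ 2 * (Nat.card ↥R * Nat.card ↥(Subgroup.center ↥R))
          = Nat.card ↥R * (Nat.card ↥(Subgroup.center ↥R) * (p ^ n') ^ 2) := by ring
        _ = Nat.card ↥R * Nat.card ↥R := by rw [h5]
        _ = (p ^ n') ^ 2 * (p ^ (ρ + β)) ^ 2 := by rw [← h4]; ring
    exact Nat.eq_of_mul_eq_mul_left (pow_pos (pow_pos hp.pos _) _) h6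
  have hmax : Cfsg.maxCentralProduct G = (p ^ (ρ + β)) ^ 2 := by
    unfold Cfsg.maxCentralProduct
    apply IsGreatest.csSup_eq
    constructor
    · obtain ⟨K, hK⟩ := Sylow.exists_subgroup_card_pow_prime p hdvd
      refine ⟨K, ?_⟩
      rw [hA K ((hab K).2 hK.le), hK]
    · rintro k ⟨R, rfl⟩
      by_cases hR : IsMulCommutative ↥R
      · rw [hA R hR]
        exact Nat.pow_le_pow_left ((hab R).1 hR) 2
      · rw [hB R hR]
  refine ⟨by rw [hmax, hidx], ?_⟩
  intro R
  unfold Cfsg.IsCentrallyLarge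
  rw [hmax]
  constructor
  · intro hR
    by_cases hRc : IsMulCommutative ↥R
    · right
      rw [hA R hRc] at hR
      rw [hmaxiff]
      exact Nat.pow_left_injective (by norm_num : (2 : ℕ) ≠ 0) hR
    · left; exact hRc
  · rintro (hR | hR)
    · exact hB R hR
    · rw [hA R hR.1, (hmaxiff R).1 hR]

end Cfsg.Agent.Lib.Helper4
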