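import Mathlib
import Cfsg.Agent.Lib.Helper4.Metacyclic3
import Cfsg.Agent.Lib.Helper1.PGroupMax

set_option maxHeartbeats 1000000

namespace Cfsg.Agent.Lib.Helper4

theorem mc_index_centralizer_le {G : Type*} [Group G] (M : Subgroup G) [Finite M] (g : G)
    (hM : ∀ h : G, h * g * h⁻¹ * g⁻¹ ∈ M) :
    (Subgroup.centralizer ({g} : Set G)).index ≤ Nat.card M := by
  rw [Subgroup.index_eq_card]
  let f : G ⧸ Subgroup.centralizer ({g} : Set G) → M := fun q =>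
    Quotient.liftOn' q (fun h => (⟨h * g * h⁻¹ * g⁻¹, hM h⟩ : M)) (by
      intro h h' hrel
      rw [QuotientGroup.leftRel_apply, Subgroup.mem_centralizer_singleton_iff] at hrel
      apply Subtype.ext
      show h * g * h⁻¹ * g⁻¹ = h' * g * h'⁻¹ * g⁻¹
      have e : h' * g * h'⁻¹ = h * g * h⁻¹ := by
        calc h' * g * h'⁻¹ = h * ((h⁻¹ * h') * g) * (h⁻¹ * h')⁻¹ * h⁻¹ := by group
          _ = h * (g * (h⁻¹ * h')) * (h⁻¹ * h')⁻¹ * h⁻¹ := by rw [hrel]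
          _ = h * g * h⁻¹ := by group
      rw [e])
  apply Nat.card_le_card_of_injective f
  intro q q'
  refine Quotient.inductionOn₂' q q' ?_
  intro h h' hqq
  have e : h * g * h⁻¹ * g⁻¹ = h' * g * h'⁻¹ * g⁻¹ := congrArg Subtype.val hqq
  have e' : h * g * h⁻¹ = h' * g * h'⁻¹ := mul_right_cancel e
  apply Quotient.sound'
  rw [QuotientGroup.leftRel_apply, Subgroup.mem_centralizer_singleton_iff]
  calc h⁻¹ * h' * g = h⁻¹ * (h' * g * h'⁻¹) * h' := by group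
    _ = h⁻¹ * (h * g * h⁻¹) * h' := by rw [e']
    _ = g * (h⁻¹ * h') := by group

theorem mc_split_pow {p : ℕ} (m x : ℕ) (h1 : p ^ m ∣ x) (h2 : ¬ p ^ (m + 1) ∣ x) :
    ∃ x', x = p ^ m * x' ∧ ¬ p ∣ x' := by
  obtain ⟨x', rfl⟩ := h1
  refine ⟨x', rfl, ?_⟩
  intro hc
  apply h2
  rw [pow_succ]
  exact Nat.mul_dvd_mul dvd_rfl hc

theorem mc_key_cancel {p : ℕ} (hp : p.Prime) (n m x' y : ℕ) (hx' : ¬ p ∣ x')
    (hd : p ^ n ∣ (p ^ m * x') * y) : p ^ (n - m) ∣ y := by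
  rw [mul_assoc, mc_pow_dvd_pow_mul hp] at hd
  have hc : Nat.Coprime (p ^ (n - m)) x' :=
    Nat.Coprime.pow_left _ ((Nat.Prime.coprime_iff_not_dvd hp).2 hx')
  exact hc.dvd_of_dvd_mul_left hd

theorem mc_pow_mem_frattini {G : Type*} [Group G] [Finite G] {p : ℕ} [Fact p.Prime]
    (hG : IsPGroup p G) (x : G) : x ^ p ∈ frattini G := by
  unfold frattini Order.radical
  simp only [Subgroup.mem_iInf]
  intro M hM
  have hco : IsCoatom M := hM
  exact Cfsg.Agent.Lib.Helper1.pow_mem_coatom_of_isPGroup hG hco x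

namespace IsMC

variable {G : Type*} [Group G] {p : ℕ} {a b : G} {α β ρ n r : ℕ}

theorem pρ_dvd (h : IsMC p a b α β ρ n r) : p ^ ρ ∣ r - 1 := by
  rw [← h.hρ]; exact Nat.gcd_dvd_right _ _

theorem comm_formula (h : IsMC p a b α β ρ n r) (i j k l : ℕ) :
    (a ^ i * b ^ j) * (a ^ k * b ^ l) * (a ^ i * b ^ j)⁻¹ * (a ^ k * b ^ l)⁻¹ =
      a ^ (i + k * r ^ j) * (a ^ (k + i * r ^ l))⁻¹ := by
  have e : (a ^ i * b ^ j) * (a ^ k * b ^ l) * (a ^ i * b ^ j)⁻¹ * (a ^ k * b ^ l)⁻¹ =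
      (a ^ i * b ^ j * (a ^ k * b ^ l)) * ((a ^ k * b ^ l) * (a ^ i * b ^ j))⁻¹ := by group
  rw [e, h.mul_formula, h.mul_formula, add_comm l j]
  group

theorem index_centralizer_le (h : IsMC p a b α β ρ n r) (s i j : ℕ) (hs : s ≤ n)
    (hi : p ^ s ∣ i) (hj : p ^ s ∣ j) :
    (Subgroup.centralizer ({a ^ i * b ^ j} : Set G)).index ≤ p ^ (n - s) := by
  haveI := h.finite
  have hα : ρ + s ≤ α := by have := h.hn; omega
  have hcard : Nat.card (Subgroup.zpowers (a ^ (p ^ (ρ + s)))) = p ^ (n - s) := by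
    rw [Nat.card_zpowers, h.orderOf_a_pow_pow _ hα]
    congr 1; have := h.hn; omega
  rw [← hcard]
  apply mc_index_centralizer_le
  intro x
  obtain ⟨k, l, rfl⟩ := h.hgen x
  rw [h.comm_formula k l i j]
  have h1 : p ^ (ρ + s) ∣ i * (r ^ l - 1) := by
    rw [mc_lte_dvd h.hp h.hodd r h.hr1 h.hr, pow_add, mul_comm (p ^ ρ)]
    exact Dvd.dvd.mul_right (Nat.mul_dvd_mul hi h.pρ_dvd) l
  have h2 : p ^ (ρ + s) ∣ k * (r ^ j - 1) := by
    rw [mc_lte_dvd h.hp h.hodd r h.hr1 h.hr, pow_add, mul_assoc]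
    exact Dvd.dvd.mul_left (Nat.mul_dvd_mul h.pρ_dvd hj) k
  obtain ⟨u, hu⟩ := h1
  obtain ⟨v, hv⟩ := h2
  obtain ⟨sl, hsl⟩ := Nat.exists_eq_add_of_le' (Nat.one_le_pow l r h.hr1)
  obtain ⟨sj, hsj⟩ := Nat.exists_eq_add_of_le' (Nat.one_le_pow j r h.hr1)
  rw [hsl, Nat.add_sub_cancel] at hu
  rw [hsj, Nat.add_sub_cancel] at hv
  rw [hsl, hsj]
  have e3 : a ^ (k + i * (sl + 1)) * (a ^ (i + k * (sj + 1)))⁻¹ =
      (a ^ (p ^ (ρ + s))) ^ ((u : ℤ) - (v : ℤ)) := by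
    rw [← zpow_natCast, ← zpow_natCast, ← zpow_natCast, ← zpow_neg, ← zpow_add, ← zpow_mul]
    congr 1
    have hu' : ((i * sl : ℕ) : ℤ) = ((p ^ (ρ + s) * u : ℕ) : ℤ) := by rw [hu]
    have hv' : ((k * sj : ℕ) : ℤ) = ((p ^ (ρ + s) * v : ℕ) : ℤ) := by rw [hv]
    push_cast at hu' hv' ⊢
    linear_combination hu' - hv'
  rw [e3]
  exact Subgroup.zpow_mem_zpowers _ _

theorem pow_mem_of_eq (h : IsMC p a b α β ρ n r) (s x k l : ℕ) (hs : s ≤ n) (hk : p ^ s ∣ k)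
    (hl : p ^ s ∣ l) (hx : a ^ x = a ^ k * b ^ l) : p ^ s ∣ x := by
  have hbl : b ^ l ∈ Subgroup.zpowers a := by
    have e : b ^ l = (a ^ k)⁻¹ * a ^ x := by rw [hx]; group
    rw [e]
    exact Subgroup.mul_mem _ (Subgroup.inv_mem _ (Subgroup.npow_mem_zpowers a k))
      (Subgroup.npow_mem_zpowers a x)
  obtain ⟨l', rfl⟩ := (h.hb l).1 hbl
  obtain ⟨t, ht, htn⟩ := h.exists_t0
  rw [pow_mul, ht, ← pow_mul, ← pow_add, h.pow_eq_pow_iff] at hx
  have hsα : p ^ s ∣ p ^ α := pow_dvd_pow p (by have := h.hn; omega)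
  rw [hx.dvd_iff hsα]
  exact dvd_add hk (Dvd.dvd.mul_right ((pow_dvd_pow p hs).trans htn) l')

theorem card_le_of_forall (h : IsMC p a b α β ρ n r) (H : Subgroup G) (s : ℕ) (hs : s ≤ n)
    (hH : ∀ x ∈ H, ∃ k l : ℕ, x = a ^ k * b ^ l ∧ p ^ s ∣ k ∧ p ^ s ∣ l) :
    Nat.card H ≤ p ^ (α - s) * p ^ (β - s) := by
  haveI := h.normal
  haveI := h.finite
  have hsα : s ≤ α := by have := h.hn; omega
  have hsβ : s ≤ β := hs.trans h.n_le_β
  rw [mc_card_eq_inf_mul_map (Subgroup.zpowers a) H]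
  apply Nat.mul_le_mul
  · rw [← h.orderOf_a_pow_pow s hsα, ← Nat.card_zpowers]
    apply Subgroup.card_le_of_le
    intro x hx
    obtain ⟨hx1, hx2⟩ := Subgroup.mem_inf.1 hx
    obtain ⟨i, rfl⟩ := (h.mem_zpowers_iff x).1 hx1
    obtain ⟨k, l, hkl, hk, hl⟩ := hH _ hx2
    obtain ⟨i', rfl⟩ := h.pow_mem_of_eq s i k l hs hk hl hkl
    rw [pow_mul]
    exact Subgroup.npow_mem_zpowers _ _
  · have e : p ^ (β - s) = Nat.card (Subgroup.zpowers
        ((QuotientGroup.mk b : G ⧸ Subgroup.zpowers a) ^ (p ^ s))) := by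
      rw [Nat.card_zpowers, orderOf_pow, h.orderOf_mk_b, Nat.gcd_eq_right (pow_dvd_pow p hsβ),
        Nat.pow_div hsβ h.hp.pos]
    rw [e]
    apply Subgroup.card_le_of_le
    intro q hq
    obtain ⟨x, hx, rfl⟩ := Subgroup.mem_map.1 hq
    obtain ⟨k, l, rfl, hk, hl⟩ := hH x hx
    obtain ⟨l', rfl⟩ := hl
    rw [QuotientGroup.mk'_apply, h.mk_a_pow, pow_mul]
    exact Subgroup.npow_mem_zpowers _ _

theorem lower_aux (h : IsMC p a b α β ρ n r) (m i j : ℕ) (hm : m ≤ n) (hh : G)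
    (hhU : (Subgroup.centralizer ({hh} : Set G)).index ≤ p ^ (n - m))
    (hcl : ∀ k l : ℕ, Commute (a ^ k * b ^ l) (a ^ i * b ^ j) → Commute (a ^ k * b ^ l) hh →
      p ^ (n - m) ∣ k ∧ p ^ (n - m) ∣ l) :
    p ^ (n - m) ≤ (Subgroup.centralizer ({a ^ i * b ^ j} : Set G)).index := by
  haveI := h.finite
  have hp := h.hp
  obtain ⟨C1, hC1⟩ : ∃ C1, C1 = Subgroup.centralizer ({a ^ i * b ^ j} : Set G) := ⟨_, rfl⟩
  obtain ⟨C2, hC2⟩ : ∃ C2, C2 = Subgroup.centralizer ({hh} : Set G) := ⟨_, rfl⟩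
  rw [← hC1]
  rw [← hC2] at hhU
  have h1 : Nat.card ↥(C1 ⊓ C2) ≤ p ^ (α - (n - m)) * p ^ (β - (n - m)) := by
    apply h.card_le_of_forall _ (n - m) (Nat.sub_le n m)
    intro x hx
    obtain ⟨hx1, hx2⟩ := Subgroup.mem_inf.1 hx
    obtain ⟨k, l, rfl⟩ := h.hgen x
    rw [hC1, Subgroup.mem_centralizer_singleton_iff] at hx1
    rw [hC2, Subgroup.mem_centralizer_singleton_iff] at hx2
    exact ⟨k, l, rfl, hcl k l hx1 hx2⟩
  have h2 := Subgroup.card_mul_index (C1 ⊓ C2)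
  have h3 : (C1 ⊓ C2).index ≤ C1.index * C2.index := Subgroup.index_inf_le
  rw [h.hcard] at h2
  have hnα : n ≤ α := by have := h.hn; omega
  have hnβ := h.n_le_β
  have e1 : p ^ α = p ^ (α - (n - m)) * p ^ (n - m) := by rw [← pow_add]; congr 1; omega
  have e2 : p ^ β = p ^ (β - (n - m)) * p ^ (n - m) := by rw [← pow_add]; congr 1; omega
  have h4 : (p ^ (α - (n - m)) * p ^ (β - (n - m))) * (p ^ (n - m) * p ^ (n - m)) ≤
      (p ^ (α - (n - m)) * p ^ (β - (n - m))) * (C1 ⊓ C2).index := by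
    calc (p ^ (α - (n - m)) * p ^ (β - (n - m))) * (p ^ (n - m) * p ^ (n - m))
        = p ^ α * p ^ β := by rw [e1, e2]; ring
      _ = Nat.card ↥(C1 ⊓ C2) * (C1 ⊓ C2).index := h2.symm
      _ ≤ _ := Nat.mul_le_mul_right _ h1
  have h5 : p ^ (n - m) * p ^ (n - m) ≤ (C1 ⊓ C2).index :=
    Nat.le_of_mul_le_mul_left h4 (mul_pos (pow_pos hp.pos _) (pow_pos hp.pos _))
  have h6 : p ^ (n - m) * p ^ (n - m) ≤ C1.index * p ^ (n - m) :=
    h5.trans (h3.trans (Nat.mul_le_mul_left _ hhU))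
  exact Nat.le_of_mul_le_mul_right h6 (pow_pos hp.pos _)

theorem le_index_centralizer (h : IsMC p a b α β ρ n r) (m i j : ℕ) (hm : m < n)
    (hi : p ^ m ∣ i) (hj : p ^ m ∣ j) (hnot : ¬ (p ^ (m + 1) ∣ i ∧ p ^ (m + 1) ∣ j)) :
    p ^ (n - m) ≤ (Subgroup.centralizer ({a ^ i * b ^ j} : Set G)).index := by
  have hp := h.hp
  have hsplit : p ^ n = p ^ (n - m) * p ^ m := by rw [← pow_add]; congr 1; omega
  by_cases hj' : p ^ (m + 1) ∣ j
  · have hi' : ¬ p ^ (m + 1) ∣ i := fun hc => hnot ⟨hc, hj'⟩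
    obtain ⟨i', hi'e, hi'p⟩ := mc_split_pow m i hi hi'
    apply h.lower_aux m i j hm.le (a ^ 0 * b ^ (p ^ m))
    · exact h.index_centralizer_le m 0 (p ^ m) hm.le (dvd_zero _) dvd_rfl
    · intro k l hc1 hc2
      rw [h.commute_iff] at hc2
      rw [zero_mul, Nat.ModEq.comm, Nat.modEq_zero_iff_dvd, mc_lte_dvd hp h.hodd r h.hr1 h.hr,
        show k * (r - 1) * p ^ m = (p ^ m * k) * (r - 1) by ring, h.dvd_mul_iff,
        mc_pow_dvd_pow_mul hp] at hc2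
      refine ⟨hc2, ?_⟩
      rw [h.commute_iff] at hc1
      have hz : p ^ α ∣ k * (r ^ j - 1) := by
        rw [mc_lte_dvd hp h.hodd r h.hr1 h.hr, show k * (r - 1) * j = (k * j) * (r - 1) by ring,
          h.dvd_mul_iff, hsplit]
        exact Nat.mul_dvd_mul hc2 hj
      have hz2 : p ^ α ∣ i * (r ^ l - 1) :=
        (Nat.modEq_zero_iff_dvd).1 (hc1.trans ((Nat.modEq_zero_iff_dvd).2 hz))
      rw [mc_lte_dvd hp h.hodd r h.hr1 h.hr, show i * (r - 1) * l = (i * l) * (r - 1) by ring,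
        h.dvd_mul_iff, hi'e] at hz2
      exact mc_key_cancel hp n m i' l hi'p hz2
  · obtain ⟨j', hj'e, hj'p⟩ := mc_split_pow m j hj hj'
    apply h.lower_aux m i j hm.le (a ^ (p ^ m) * b ^ 0)
    · exact h.index_centralizer_le m (p ^ m) 0 hm.le dvd_rfl (dvd_zero _)
    · intro k l hc1 hc2
      rw [h.commute_iff] at hc2
      rw [pow_zero, Nat.sub_self, mul_zero, Nat.modEq_zero_iff_dvd,
        mc_lte_dvd hp h.hodd r h.hr1 h.hr,
        show p ^ m * (r - 1) * l = (p ^ m * l) * (r - 1) by ring, h.dvd_mul_iff,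
        mc_pow_dvd_pow_mul hp] at hc2
      refine ⟨?_, hc2⟩
      rw [h.commute_iff] at hc1
      have hz : p ^ α ∣ i * (r ^ l - 1) := by
        rw [mc_lte_dvd hp h.hodd r h.hr1 h.hr, show i * (r - 1) * l = (l * i) * (r - 1) by ring,
          h.dvd_mul_iff, hsplit]
        exact Nat.mul_dvd_mul hc2 hi
      have hz2 : p ^ α ∣ k * (r ^ j - 1) :=
        (Nat.modEq_zero_iff_dvd).1 (hc1.symm.trans ((Nat.modEq_zero_iff_dvd).2 hz))
      rw [mc_lte_dvd hp h.hodd r h.hr1 h.hr, show k * (r - 1) * j = (j * k) * (r - 1) by ring,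
        h.dvd_mul_iff, hj'e] at hz2
      exact mc_key_cancel hp n m j' k hj'p hz2

theorem index_le_iff (h : IsMC p a b α β ρ n r) (s i j : ℕ) (hs : s ≤ n) :
    (Subgroup.centralizer ({a ^ i * b ^ j} : Set G)).index ≤ p ^ (n - s) ↔
      p ^ s ∣ i ∧ p ^ s ∣ j := by
  constructor
  · induction s with
    | zero => intro _; simp
    | succ s ih =>
      intro hle
      have hle' : (Subgroup.centralizer ({a ^ i * b ^ j} : Set G)).index ≤ p ^ (n - s) :=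
        hle.trans (Nat.pow_le_pow_right h.hp.pos (by omega))
      obtain ⟨hi, hj⟩ := ih (by omega) hle'
      by_contra hnot
      have h0 := h.le_index_centralizer s i j (by omega) hi hj hnot
      have h1 : p ^ (n - s) ≤ p ^ (n - (s + 1)) := h0.trans hle
      rw [Nat.pow_le_pow_iff_right h.hp.one_lt] at h1
      omega
  · rintro ⟨hi, hj⟩; exact h.index_centralizer_le s i j hs hi hj

end IsMC

end Cfsg.Agent.Lib.Helper4
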