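import Mathlib
import Cfsg.Agent.Lib.Helper4.Metacyclic4

set_option maxHeartbeats 1000000

namespace Cfsg.Agent.Lib.Helper4

/-- The set of `a ^ i * b ^ j` with `p ^ s` dividing both exponents. -/
def mcKset {G : Type*} [Group G] (p : ℕ) (a b : G) (s : ℕ) : Set G :=
  {g | ∃ i j : ℕ, g = a ^ i * b ^ j ∧ p ^ s ∣ i ∧ p ^ s ∣ j}

namespace IsMC

variable {G : Type*} [Group G] {p : ℕ} {a b : G} {α β ρ n r : ℕ}

theorem mcKset_mul (h : IsMC p a b α β ρ n r) (s : ℕ) {x y : G} (hx : x ∈ mcKset p a b s)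
    (hy : y ∈ mcKset p a b s) : x * y ∈ mcKset p a b s := by
  obtain ⟨i, j, rfl, hi, hj⟩ := hx
  obtain ⟨k, l, rfl, hk, hl⟩ := hy
  exact ⟨i + k * r ^ j, j + l, h.mul_formula i j k l, dvd_add hi (Dvd.dvd.mul_right hk _),
    dvd_add hj hl⟩

theorem mcKset_one (s : ℕ) : (1 : G) ∈ mcKset p a b s :=
  ⟨0, 0, by simp, dvd_zero _, dvd_zero _⟩

theorem mcKset_pow (h : IsMC p a b α β ρ n r) (s : ℕ) {x : G} (hx : x ∈ mcKset p a b s)
    (m : ℕ) : x ^ m ∈ mcKset p a b s := by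
  induction m with
  | zero => rw [pow_zero]; exact mcKset_one s
  | succ m ih => rw [pow_succ]; exact h.mcKset_mul s ih hx

/-- The subgroup of `a ^ i * b ^ j` with `p ^ s` dividing both exponents. -/
def Ksub (h : IsMC p a b α β ρ n r) (s : ℕ) : Subgroup G where
  carrier := mcKset p a b s
  mul_mem' := fun hx hy => h.mcKset_mul s hx hy
  one_mem' := mcKset_one s
  inv_mem' := by
    intro x hx
    haveI := h.finite
    have e : x⁻¹ = x ^ (orderOf x - 1) := by
      apply inv_eq_of_mul_eq_one_right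
      rw [← pow_succ', Nat.sub_add_cancel (orderOf_pos x), pow_orderOf_eq_one]
    rw [e]
    exact h.mcKset_pow s hx _

theorem mem_Ksub (h : IsMC p a b α β ρ n r) (s : ℕ) (x : G) :
    x ∈ h.Ksub s ↔ ∃ i j : ℕ, x = a ^ i * b ^ j ∧ p ^ s ∣ i ∧ p ^ s ∣ j := Iff.rfl

theorem mem_Ksub_iff_index (h : IsMC p a b α β ρ n r) (s : ℕ) (hs : s ≤ n) (g : G) :
    g ∈ h.Ksub s ↔ (Subgroup.centralizer ({g} : Set G)).index ≤ p ^ (n - s) := by
  constructor
  · rintro ⟨i, j, rfl, hi, hj⟩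
    exact h.index_centralizer_le s i j hs hi hj
  · intro hle
    obtain ⟨i, j, rfl⟩ := h.hgen g
    obtain ⟨hi, hj⟩ := (h.index_le_iff s i j hs).1 hle
    exact ⟨i, j, rfl, hi, hj⟩

theorem geom_dvd (h : IsMC p a b α β ρ n r) (J : ℕ) :
    p ∣ ∑ t ∈ Finset.range p, (r ^ J) ^ t := by
  haveI : Fact p.Prime := ⟨h.hp⟩
  rw [← ZMod.natCast_eq_zero_iff]
  push_cast
  have hr : (r : ZMod p) = 1 := by
    have h0 : ((r - 1 : ℕ) : ZMod p) = 0 := (ZMod.natCast_eq_zero_iff _ _).2 h.hr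
    rw [Nat.cast_sub h.hr1, Nat.cast_one, sub_eq_zero] at h0
    exact h0
  rw [hr]
  simp

theorem pow_formula (h : IsMC p a b α β ρ n r) (I J m : ℕ) :
    (a ^ I * b ^ J) ^ m = a ^ (I * ∑ t ∈ Finset.range m, (r ^ J) ^ t) * b ^ (J * m) := by
  induction m with
  | zero => simp
  | succ m ih =>
    rw [pow_succ, ih, h.mul_formula, Finset.sum_range_succ]
    have e1 : I * ∑ t ∈ Finset.range m, (r ^ J) ^ t + I * r ^ (J * m) =
        I * (∑ t ∈ Finset.range m, (r ^ J) ^ t + (r ^ J) ^ m) := by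
      rw [← pow_mul]; ring
    have e2 : J * m + J = J * (m + 1) := by ring
    rw [e1, e2]

theorem pow_p_mem (h : IsMC p a b α β ρ n r) (s : ℕ) (x : G) (hx : x ∈ h.Ksub s) :
    x ^ p ∈ h.Ksub (s + 1) := by
  obtain ⟨I, J, rfl, hI, hJ⟩ := hx
  rw [h.pow_formula]
  refine ⟨_, _, rfl, ?_, ?_⟩
  · rw [pow_succ]; exact Nat.mul_dvd_mul hI (h.geom_dvd J)
  · rw [pow_succ]; exact Nat.mul_dvd_mul hJ dvd_rfl

theorem pow_pow_mem (h : IsMC p a b α β ρ n r) (s : ℕ) (y : G) : y ^ (p ^ s) ∈ h.Ksub s := by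
  induction s with
  | zero =>
    obtain ⟨i, j, rfl⟩ := h.hgen y
    rw [pow_zero, pow_one]
    exact ⟨i, j, rfl, by simp, by simp⟩
  | succ s ih =>
    rw [pow_succ, pow_mul]
    exact h.pow_p_mem s _ ih

theorem agemo_eq (h : IsMC p a b α β ρ n r) (s : ℕ) :
    Subgroup.closure {x : G | ∃ y : G, y ^ p ^ s = x} = h.Ksub s := by
  apply le_antisymm
  · rw [Subgroup.closure_le]
    rintro x ⟨y, rfl⟩
    exact h.pow_pow_mem s y
  · rintro x ⟨i, j, rfl, ⟨i', rfl⟩, ⟨j', rfl⟩⟩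
    apply Subgroup.mul_mem
    · apply Subgroup.subset_closure
      exact ⟨a ^ i', by rw [← pow_mul, mul_comm]⟩
    · apply Subgroup.subset_closure
      exact ⟨b ^ j', by rw [← pow_mul, mul_comm]⟩

theorem Ksub_n_eq_center (h : IsMC p a b α β ρ n r) : h.Ksub n = Subgroup.center G := by
  ext g
  constructor
  · rintro ⟨i, j, rfl, hi, hj⟩
    exact (h.mem_center_iff i j).2 ⟨hi, hj⟩
  · intro hg
    obtain ⟨i, j, rfl⟩ := h.hgen g
    obtain ⟨hi, hj⟩ := (h.mem_center_iff i j).1 hg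
    exact ⟨i, j, rfl, hi, hj⟩

theorem card_Ksub (h : IsMC p a b α β ρ n r) (s : ℕ) (hs : s ≤ n) :
    Nat.card (h.Ksub s) = p ^ (α - s) * p ^ (β - s) := by
  haveI := h.normal
  have hsα : s ≤ α := by have := h.hn; omega
  have hsβ : s ≤ β := hs.trans h.n_le_β
  apply h.card_of_desc (h.Ksub s) s s hsα hsβ
  · intro x
    constructor
    · rintro ⟨k, l, hkl, hk, hl⟩
      exact h.pow_mem_of_eq s x k l hs hk hl hkl
    · intro hx
      exact ⟨x, 0, by simp, hx, dvd_zero _⟩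
  · rintro x y ⟨k, l, hkl, hk, hl⟩
    have h1 : (QuotientGroup.mk (a ^ x * b ^ y) : G ⧸ Subgroup.zpowers a) =
        QuotientGroup.mk (a ^ k * b ^ l) := by rw [hkl]
    rw [h.mk_a_pow, h.mk_a_pow, pow_eq_pow_iff_modEq, h.orderOf_mk_b] at h1
    rw [h1.dvd_iff (pow_dvd_pow p hsβ)]
    exact hl
  · exact ⟨0, 0, p ^ s, rfl, dvd_zero _, dvd_rfl⟩

theorem index_eq_pow (h : IsMC p a b α β ρ n r) (H : Subgroup G) : ∃ e, H.index = p ^ e := by
  haveI := h.finite
  have hd : H.index ∣ p ^ (α + β) := by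
    rw [pow_add, ← h.hcard]; exact Subgroup.index_dvd_card _
  obtain ⟨e, _, he⟩ := (Nat.dvd_prime_pow h.hp).1 hd
  exact ⟨e, he⟩

theorem card_eq_pow (h : IsMC p a b α β ρ n r) (H : Subgroup G) : ∃ e, Nat.card H = p ^ e := by
  haveI := h.finite
  have hd : Nat.card H ∣ p ^ (α + β) := by
    rw [pow_add, ← h.hcard]; exact Subgroup.card_subgroup_dvd_card _
  obtain ⟨e, _, he⟩ := (Nat.dvd_prime_pow h.hp).1 hd
  exact ⟨e, he⟩

theorem gen_of_not_dvd (h : IsMC p a b α β ρ n r) (i j : ℕ) (hnot : ¬ (p ∣ i ∧ p ∣ j)) :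
    ∃ hh : G, ∀ K : Subgroup G, a ^ i * b ^ j ∈ K → hh ∈ K → K = ⊤ := by
  haveI := h.finite
  have hp := h.hp
  have htop : ∀ K : Subgroup G, a ∈ K → b ∈ K → K = ⊤ := by
    intro K ha hb
    rw [Subgroup.eq_top_iff']
    intro x
    obtain ⟨k, l, rfl⟩ := h.hgen x
    exact K.mul_mem (K.pow_mem ha k) (K.pow_mem hb l)
  by_cases hj : p ∣ j
  · have hi : ¬ p ∣ i := fun hc => hnot ⟨hc, hj⟩
    refine ⟨b, fun K hg hb => htop K ?_ hb⟩
    have h1 : a ^ i ∈ K := by
      have e : a ^ i = (a ^ i * b ^ j) * (b ^ j)⁻¹ := by group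
      rw [e]
      exact K.mul_mem hg (K.inv_mem (K.pow_mem hb j))
    have hc : Nat.Coprime i (orderOf a) := by
      rw [h.ha]
      exact Nat.Coprime.pow_right α ((Nat.Prime.coprime_iff_not_dvd hp).2 hi).symm
    obtain ⟨m, hm⟩ := exists_pow_eq_self_of_coprime hc
    rw [← hm]
    exact K.pow_mem h1 m
  · refine ⟨a, fun K hg ha => htop K ha ?_⟩
    have h1 : b ^ j ∈ K := by
      have e : b ^ j = (a ^ i)⁻¹ * (a ^ i * b ^ j) := by group
      rw [e]
      exact K.mul_mem (K.inv_mem (K.pow_mem ha i)) hg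
    obtain ⟨e, he⟩ : ∃ e, orderOf b = p ^ e := by
      have hd : orderOf b ∣ p ^ (α + β) := by
        rw [pow_add, ← h.hcard]; exact orderOf_dvd_natCard b
      obtain ⟨e, _, he⟩ := (Nat.dvd_prime_pow hp).1 hd
      exact ⟨e, he⟩
    have hc : Nat.Coprime j (orderOf b) := by
      rw [he]
      exact Nat.Coprime.pow_right e ((Nat.Prime.coprime_iff_not_dvd hp).2 hj).symm
    obtain ⟨m, hm⟩ := exists_pow_eq_self_of_coprime hc
    rw [← hm]
    exact K.pow_mem h1 m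

end IsMC

theorem metacyclic_agemo {G : Type*} [Group G] [Finite G] {p : ℕ} [Fact p.Prime] (hp : p ≠ 2)
    (hG : IsPGroup p G) (hmc : Cfsg.IsMetacyclic G) (n : ℕ)
    (hGn : Nat.card ↥(commutator G) = p ^ n) (s : ℕ) (hs : s ≤ n) (g : G) :
    (g ∈ Subgroup.closure {x : G | ∃ y : G, y ^ p ^ s = x} ↔
        (Subgroup.centralizer ({g} : Set G)).index ≤ p ^ (n - s)) ∧
      Subgroup.closure {x : G | ∃ y : G, y ^ p ^ n = x} = Subgroup.center G := by
  obtain ⟨a, b, α, β, ρ, n', r, h⟩ := exists_isMC hp hG hmc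
  have hnn : n' = n := by
    have h1 := h.card_commutator
    rw [hGn] at h1
    exact (Nat.pow_right_injective h.hp.two_le h1).symm
  subst hnn
  rw [h.agemo_eq, h.agemo_eq, h.Ksub_n_eq_center]
  exact ⟨h.mem_Ksub_iff_index s hs g, rfl⟩

theorem metacyclic_class_count {G : Type*} [Group G] [Finite G] {p : ℕ} [Fact p.Prime]
    (hp : p ≠ 2) (hG : IsPGroup p G) (hmc : Cfsg.IsMetacyclic G) (n : ℕ)
    (hGn : Nat.card ↥(commutator G) = p ^ n) (i : ℕ) (hi : 1 ≤ i) (hin : i ≤ n) :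
    Nat.card {g : G // (Subgroup.centralizer ({g} : Set G)).index = p ^ i} =
      Nat.card ↥(Subgroup.center G) * (p ^ (2 * i) - p ^ (2 * i - 2)) := by
  obtain ⟨a, b, α, β, ρ, n', r, h⟩ := exists_isMC hp hG hmc
  have hnn : n' = n := by
    have h1 := h.card_commutator
    rw [hGn] at h1
    exact (Nat.pow_right_injective h.hp.two_le h1).symm
  subst hnn
  have hset : {g : G | (Subgroup.centralizer ({g} : Set G)).index = p ^ i} =
      (h.Ksub (n' - i) : Set G) \ (h.Ksub (n' - i + 1) : Set G) := by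
    ext g
    simp only [Set.mem_ofPred_eq, Set.mem_sdiff, SetLike.mem_coe]
    rw [h.mem_Ksub_iff_index (n' - i) (by omega), h.mem_Ksub_iff_index (n' - i + 1) (by omega)]
    have e1 : n' - (n' - i) = i := by omega
    have e2 : n' - (n' - i + 1) = i - 1 := by omega
    rw [e1, e2]
    obtain ⟨e, he⟩ := h.index_eq_pow (Subgroup.centralizer ({g} : Set G))
    rw [he, Nat.pow_le_pow_iff_right h.hp.one_lt, Nat.pow_le_pow_iff_right h.hp.one_lt]
    constructor
    · intro h1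
      have := Nat.pow_right_injective h.hp.two_le h1
      omega
    · intro h1
      congr 1
      omega
  have hsub : (h.Ksub (n' - i + 1) : Set G) ⊆ (h.Ksub (n' - i) : Set G) := by
    rintro x ⟨k, l, rfl, hk, hl⟩
    exact ⟨k, l, rfl, (pow_dvd_pow p (Nat.le_succ _)).trans hk,
      (pow_dvd_pow p (Nat.le_succ _)).trans hl⟩
  have hc1 : ((h.Ksub (n' - i) : Set G)).ncard = Nat.card (h.Ksub (n' - i)) := rfl
  have hc2 : ((h.Ksub (n' - i + 1) : Set G)).ncard = Nat.card (h.Ksub (n' - i + 1)) := rfl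
  have hcard : Nat.card {g : G // (Subgroup.centralizer ({g} : Set G)).index = p ^ i} =
      Set.ncard {g : G | (Subgroup.centralizer ({g} : Set G)).index = p ^ i} := rfl
  rw [hcard, hset, Set.ncard_sdiff hsub, hc1, hc2, h.card_Ksub _ (by omega),
    h.card_Ksub _ (by omega), h.card_center]
  have hnα : n' ≤ α := by have := h.hn; omega
  have hnβ := h.n_le_β
  obtain ⟨i', rfl⟩ : ∃ i', i = i' + 1 := ⟨i - 1, by omega⟩
  have x1 : α - (n' - (i' + 1)) = (α - n') + i' + 1 := by omega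
  have x2 : β - (n' - (i' + 1)) = (β - n') + i' + 1 := by omega
  have x3 : α - (n' - (i' + 1) + 1) = (α - n') + i' := by omega
  have x4 : β - (n' - (i' + 1) + 1) = (β - n') + i' := by omega
  have x5 : 2 * (i' + 1) - 2 = 2 * i' := by omega
  rw [x1, x2, x3, x4, x5, Nat.mul_sub]
  congr 1
  · ring
  · ring

theorem metacyclic_frattini_centralizer {G : Type*} [Group G] [Finite G] {p : ℕ}
    [Fact p.Prime] (hp : p ≠ 2) (hG : IsPGroup p G) (hmc : Cfsg.IsMetacyclic G)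
    (hna : ¬ IsMulCommutative G) (g : G) :
    g ∉ frattini G ↔ IsMulCommutative ↥(Subgroup.centralizer ({g} : Set G)) := by
  obtain ⟨a, b, α, β, ρ, n, r, h⟩ := exists_isMC hp hG hmc
  have hn1 : 1 ≤ n := by
    by_contra hcon
    have hn0 : n = 0 := by omega
    apply hna
    rw [← mc_isMulComm_top, h.abelian_iff, Subgroup.card_top, h.hcard, ← h.hn, hn0, add_zero,
      pow_add]
  obtain ⟨i, j, rfl⟩ := h.hgen g
  have hfr : a ^ i * b ^ j ∈ frattini G ↔ p ∣ i ∧ p ∣ j := by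
    constructor
    · intro hmem
      by_contra hnot
      obtain ⟨hh, hhK⟩ := h.gen_of_not_dvd i j hnot
      have h1 : Subgroup.zpowers hh ⊔ frattini G = ⊤ := by
        apply hhK
        · exact (le_sup_right : frattini G ≤ _) hmem
        · exact (le_sup_left : Subgroup.zpowers hh ≤ _) (Subgroup.mem_zpowers hh)
      have h2 : Subgroup.zpowers hh = ⊤ := frattini_nongenerating h1
      apply hna
      refine ⟨⟨fun x y => ?_⟩⟩
      have hx : x ∈ Subgroup.zpowers hh := by rw [h2]; exact Subgroup.mem_top x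
      have hy : y ∈ Subgroup.zpowers hh := by rw [h2]; exact Subgroup.mem_top y
      obtain ⟨u, rfl⟩ := Subgroup.mem_zpowers_iff.1 hx
      obtain ⟨v, rfl⟩ := Subgroup.mem_zpowers_iff.1 hy
      exact ((Commute.refl hh).zpow_zpow u v).eq
    · rintro ⟨⟨i', rfl⟩, ⟨j', rfl⟩⟩
      rw [pow_mul', pow_mul']
      exact Subgroup.mul_mem _ (mc_pow_mem_frattini hG _) (mc_pow_mem_frattini hG _)
  rw [h.abelian_iff, hfr]
  have hidx := h.index_le_iff 1 i j hn1
  rw [pow_one] at hidx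
  rw [← hidx]
  have hci := Subgroup.card_mul_index (Subgroup.centralizer ({a ^ i * b ^ j} : Set G))
  rw [h.hcard] at hci
  obtain ⟨e, he⟩ := h.index_eq_pow (Subgroup.centralizer ({a ^ i * b ^ j} : Set G))
  obtain ⟨c, hc⟩ := h.card_eq_pow (Subgroup.centralizer ({a ^ i * b ^ j} : Set G))
  rw [he, hc] at hci
  rw [he, hc]
  have hce : c + e = α + β := by
    rw [← pow_add, ← pow_add] at hci
    exact Nat.pow_right_injective h.hp.two_le hci
  rw [Nat.pow_le_pow_iff_right h.hp.one_lt, Nat.pow_le_pow_iff_right h.hp.one_lt]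
  have := h.hn
  omega

end Cfsg.Agent.Lib.Helper4
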