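import Mathlib
import Cfsg.Prelude.Def_BaumannBlocks
import Cfsg.Agent.Lib.Helper4.Metacyclic5

set_option maxHeartbeats 1000000

namespace Cfsg.Agent.Lib.Helper4

/-- The Chermak–Delgado measure `|H| * |C_G(H)|`. -/
noncomputable def mcCD {G : Type*} [Group G] (H : Subgroup G) : ℕ :=
  Nat.card H * Nat.card (Subgroup.centralizer (H : Set G))

theorem mc_card_mul_le {G : Type*} [Group G] [Finite G] (H K : Subgroup G) :
    Nat.card H * Nat.card K ≤ Nat.card ↥(H ⊔ K) * Nat.card ↥(H ⊓ K) := by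
  have h1 := Subgroup.relIndex_mul_relIndex ⊥ (H ⊓ K) H bot_le inf_le_left
  rw [Subgroup.relIndex_bot_left, Subgroup.relIndex_bot_left, Subgroup.inf_relIndex_left] at h1
  have h2 := Subgroup.relIndex_mul_relIndex ⊥ K (H ⊔ K) bot_le le_sup_right
  rw [Subgroup.relIndex_bot_left, Subgroup.relIndex_bot_left] at h2
  have h0 : K.relIndex (H ⊔ K) ≠ 0 := by
    unfold Subgroup.relIndex
    exact Subgroup.index_ne_zero_of_finite
  have h3 : K.relIndex H ≤ K.relIndex (H ⊔ K) := Subgroup.relIndex_le_of_le_right le_sup_left h0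
  calc Nat.card H * Nat.card K = (Nat.card ↥(H ⊓ K) * K.relIndex H) * Nat.card K := by rw [h1]
    _ ≤ (Nat.card ↥(H ⊓ K) * K.relIndex (H ⊔ K)) * Nat.card K :=
        Nat.mul_le_mul_right _ (Nat.mul_le_mul_left _ h3)
    _ = (Nat.card K * K.relIndex (H ⊔ K)) * Nat.card ↥(H ⊓ K) := by ring
    _ = Nat.card ↥(H ⊔ K) * Nat.card ↥(H ⊓ K) := by rw [h2]

theorem mc_centralizer_sup {G : Type*} [Group G] (H K : Subgroup G) :
    Subgroup.centralizer ((H ⊔ K : Subgroup G) : Set G) =
      Subgroup.centralizer (H : Set G) ⊓ Subgroup.centralizer (K : Set G) := by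
  apply le_antisymm
  · exact le_inf (Subgroup.centralizer_le (SetLike.coe_subset_coe.2 le_sup_left))
      (Subgroup.centralizer_le (SetLike.coe_subset_coe.2 le_sup_right))
  · intro x hx
    obtain ⟨hx1, hx2⟩ := Subgroup.mem_inf.1 hx
    have h1 : H ≤ Subgroup.centralizer (Subgroup.zpowers x : Set G) := by
      rw [Subgroup.le_centralizer_iff, Subgroup.zpowers_le]; exact hx1
    have h2 : K ≤ Subgroup.centralizer (Subgroup.zpowers x : Set G) := by
      rw [Subgroup.le_centralizer_iff, Subgroup.zpowers_le]; exact hx2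
    have h3 := sup_le h1 h2
    rw [Subgroup.le_centralizer_iff, Subgroup.zpowers_le] at h3
    exact h3

theorem mcCD_mul_le {G : Type*} [Group G] [Finite G] (H K : Subgroup G) :
    mcCD H * mcCD K ≤ mcCD (H ⊔ K) * mcCD (H ⊓ K) := by
  unfold mcCD
  have h1 := mc_card_mul_le H K
  have h2 := mc_card_mul_le (Subgroup.centralizer (H : Set G)) (Subgroup.centralizer (K : Set G))
  rw [← mc_centralizer_sup] at h2
  have h3 : Nat.card ↥(Subgroup.centralizer (H : Set G) ⊔ Subgroup.centralizer (K : Set G)) ≤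
      Nat.card ↥(Subgroup.centralizer ((H ⊓ K : Subgroup G) : Set G)) := by
    apply Subgroup.card_le_of_le
    exact sup_le (Subgroup.centralizer_le (SetLike.coe_subset_coe.2 inf_le_left))
      (Subgroup.centralizer_le (SetLike.coe_subset_coe.2 inf_le_right))
  calc Nat.card H * Nat.card (Subgroup.centralizer (H : Set G)) *
        (Nat.card K * Nat.card (Subgroup.centralizer (K : Set G)))
      = (Nat.card H * Nat.card K) * (Nat.card (Subgroup.centralizer (H : Set G)) *
          Nat.card (Subgroup.centralizer (K : Set G))) := by ring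
    _ ≤ (Nat.card ↥(H ⊔ K) * Nat.card ↥(H ⊓ K)) *
          (Nat.card ↥(Subgroup.centralizer (H : Set G) ⊔ Subgroup.centralizer (K : Set G)) *
            Nat.card ↥(Subgroup.centralizer ((H ⊔ K : Subgroup G) : Set G))) :=
        Nat.mul_le_mul h1 h2
    _ ≤ (Nat.card ↥(H ⊔ K) * Nat.card ↥(H ⊓ K)) *
          (Nat.card ↥(Subgroup.centralizer ((H ⊓ K : Subgroup G) : Set G)) *
            Nat.card ↥(Subgroup.centralizer ((H ⊔ K : Subgroup G) : Set G))) :=
        Nat.mul_le_mul_left _ (Nat.mul_le_mul_right _ h3)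
    _ = _ := by ring

theorem mcCD_pos {G : Type*} [Group G] [Finite G] (H : Subgroup G) : 0 < mcCD H := by
  unfold mcCD
  exact mul_pos Nat.card_pos Nat.card_pos

theorem mcCD_sup_eq {G : Type*} [Group G] [Finite G] (B : ℕ)
    (hB : ∀ H : Subgroup G, mcCD H ≤ B) (H K : Subgroup G) (hH : mcCD H = B) (hK : mcCD K = B) :
    mcCD (H ⊔ K) = B := by
  apply le_antisymm (hB _)
  have h1 := mcCD_mul_le H K
  rw [hH, hK] at h1
  have hpos : 0 < B := by rw [← hH]; exact mcCD_pos H
  exact Nat.le_of_mul_le_mul_right (h1.trans (Nat.mul_le_mul_left _ (hB _))) hpos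

theorem mcCD_centralizer_ge {G : Type*} [Group G] [Finite G] (H : Subgroup G) :
    mcCD H ≤ mcCD (Subgroup.centralizer (H : Set G)) := by
  unfold mcCD
  have h1 : H ≤ Subgroup.centralizer (Subgroup.centralizer (H : Set G) : Set G) := by
    rw [Subgroup.le_centralizer_iff]
  have h2 := Subgroup.card_le_of_le h1
  calc Nat.card H * Nat.card (Subgroup.centralizer (H : Set G))
      ≤ Nat.card (Subgroup.centralizer (Subgroup.centralizer (H : Set G) : Set G)) *
        Nat.card (Subgroup.centralizer (H : Set G)) := Nat.mul_le_mul_right _ h2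
    _ = _ := mul_comm _ _

theorem mc_card_center_subgroup {G : Type*} [Group G] (T : Subgroup G)
    (hT : Subgroup.centralizer (T : Set G) ≤ T) :
    Nat.card (Subgroup.center ↥T) = Nat.card (Subgroup.centralizer (T : Set G)) := by
  have e : (Subgroup.center ↥T).map T.subtype = Subgroup.centralizer (T : Set G) := by
    ext x
    rw [Subgroup.mem_map]
    constructor
    · rintro ⟨y, hy, rfl⟩
      rw [Subgroup.mem_center_iff] at hy
      rw [Subgroup.mem_centralizer_iff]
      intro z hz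
      have := hy ⟨z, hz⟩
      exact congrArg Subtype.val this
    · intro hx
      refine ⟨⟨x, hT hx⟩, ?_, rfl⟩
      rw [Subgroup.mem_center_iff]
      intro z
      apply Subtype.ext
      exact (Subgroup.mem_centralizer_iff.1 hx) z.1 z.2
  rw [← e, Subgroup.card_map_of_injective T.subtype_injective]

theorem mcCD_le_of_central_bound {G : Type*} [Group G] [Finite G] (B : ℕ)
    (hB : ∀ T : Subgroup G, Nat.card T * Nat.card (Subgroup.center ↥T) ≤ B) (H : Subgroup G) :
    mcCD H ≤ B := by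
  obtain ⟨T0, hT0⟩ := Finite.exists_max (fun H : Subgroup G => mcCD H)
  haveI : Nonempty {T : Subgroup G // mcCD T = mcCD T0} := ⟨⟨T0, rfl⟩⟩
  obtain ⟨⟨T, hT⟩, hTmax⟩ :=
    Finite.exists_max (fun T : {T : Subgroup G // mcCD T = mcCD T0} => Nat.card T.1)
  have hC : mcCD (Subgroup.centralizer (T : Set G)) = mcCD T0 := by
    apply le_antisymm (hT0 _)
    rw [← hT]
    exact mcCD_centralizer_ge T
  have hsup := mcCD_sup_eq (mcCD T0) hT0 T _ hT hC
  have hle := hTmax ⟨T ⊔ Subgroup.centralizer (T : Set G), hsup⟩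
  have hEq : T = T ⊔ Subgroup.centralizer (T : Set G) :=
    Subgroup.eq_of_le_of_card_ge le_sup_left hle
  have hCT : Subgroup.centralizer (T : Set G) ≤ T := le_sup_right.trans hEq.ge
  calc mcCD H ≤ mcCD T0 := hT0 H
    _ = mcCD T := hT.symm
    _ = Nat.card T * Nat.card (Subgroup.center ↥T) := by
        unfold mcCD; rw [mc_card_center_subgroup T hCT]
    _ ≤ B := hB T

theorem mc_geom_sum_mul (q m : ℕ) (hq : 1 ≤ q) :
    (∑ t ∈ Finset.range m, q ^ t) * (q - 1) + 1 = q ^ m := by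
  obtain ⟨q', rfl⟩ : ∃ q', q = q' + 1 := ⟨q - 1, by omega⟩
  rw [Nat.add_sub_cancel]
  induction m with
  | zero => simp
  | succ m ih =>
    rw [Finset.sum_range_succ, add_mul, pow_succ]
    have e : (∑ t ∈ Finset.range m, (q' + 1) ^ t) * q' + (q' + 1) ^ m * q' + 1 =
        ((∑ t ∈ Finset.range m, (q' + 1) ^ t) * q' + 1) + (q' + 1) ^ m * q' := by ring
    rw [e, ih]
    ring

theorem metacyclic_central_product_le {G : Type*} [Group G] [Finite G] {p : ℕ} [Fact p.Prime]
    (hp2 : p ≠ 2) (hG : IsPGroup p G) (hmc : Cfsg.IsMetacyclic G) {a b : G} {α β ρ n r : ℕ}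
    (h : IsMC p a b α β ρ n r) (R : Subgroup G) :
    Nat.card ↥R * Nat.card ↥(Subgroup.center ↥R) ≤ (p ^ (ρ + β)) ^ 2 := by
  have hp : p.Prime := Fact.out
  have hab := h.abelian_iff
  by_cases hR : IsMulCommutative ↥R
  · rw [mc_card_center_of_comm hR, ← sq]
    exact Nat.pow_le_pow_left ((hab R).1 hR) 2
  · obtain ⟨a', b', α', β', ρ', n', r', h'⟩ :=
      exists_isMC hp2 (hG.to_subgroup R) (mc_isMetacyclic_subgroup hmc R)
    have h1 := h'.index_commutator
    have h2 := h'.card_commutator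
    have h3 := h'.index_center
    have h4 := Subgroup.card_mul_index (commutator ↥R)
    have h5 := Subgroup.card_mul_index (Subgroup.center ↥R)
    rw [h1, h2] at h4
    rw [h3] at h5
    have hxy : ρ' + β' = ρ + β := by
      apply mc_index_comm_subgroup hG R (ρ' + β') (ρ + β) h'.abelian_iff hab _ hR
      rw [← h4]; exact Dvd.intro_left _ rfl
    rw [hxy] at h4
    have h6 : (p ^ n') ^ 2 * (Nat.card ↥R * Nat.card ↥(Subgroup.center ↥R)) =
        (p ^ n') ^ 2 * (p ^ (ρ + β)) ^ 2 := by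
      calc (p ^ n') ^ 2 * (Nat.card ↥R * Nat.card ↥(Subgroup.center ↥R))
          = Nat.card ↥R * (Nat.card ↥(Subgroup.center ↥R) * (p ^ n') ^ 2) := by ring
        _ = Nat.card ↥R * Nat.card ↥R := by rw [h5]
        _ = (p ^ n') ^ 2 * (p ^ (ρ + β)) ^ 2 := by rw [← h4]; ring
    exact (Nat.eq_of_mul_eq_mul_left (pow_pos (pow_pos hp.pos _) _) h6).le

namespace IsMC

variable {G : Type*} [Group G] {p : ℕ} {a b : G} {α β ρ n r : ℕ}

theorem exists_level (h : IsMC p a b α β ρ n r) (i j : ℕ) :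
    ∃ m ≤ n, p ^ m ∣ i ∧ p ^ m ∣ j ∧ (m < n → ¬ (p ^ (m + 1) ∣ i ∧ p ^ (m + 1) ∣ j)) := by
  classical
  let P : ℕ → Prop := fun m => p ^ m ∣ i ∧ p ^ m ∣ j
  have h0 : P 0 := by simp [P]
  have hspec : P (Nat.findGreatest P n) := Nat.findGreatest_spec (Nat.zero_le n) h0
  refine ⟨Nat.findGreatest P n, Nat.findGreatest_le n, hspec.1, hspec.2, ?_⟩
  intro hlt hc
  exact Nat.findGreatest_is_greatest (Nat.lt_succ_self _) hlt hc

theorem pow_mem_center_imp (h : IsMC p a b α β ρ n r) (m i j e : ℕ) (hm : m < n)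
    (hi : p ^ m ∣ i) (hj : p ^ m ∣ j) (hnot : ¬ (p ^ (m + 1) ∣ i ∧ p ^ (m + 1) ∣ j))
    (hz : (a ^ i * b ^ j) ^ (p ^ e) ∈ Subgroup.center G) : n ≤ m + e := by
  rw [h.pow_formula, h.mem_center_iff] at hz
  obtain ⟨hz1, hz2⟩ := hz
  have hp := h.hp
  have fin : p ^ (n - m) ∣ p ^ e → n ≤ m + e := by
    intro hd
    have := (Nat.pow_dvd_pow_iff_le_right hp.one_lt).1 hd
    omega
  by_cases hj' : p ^ (m + 1) ∣ j
  · have hi' : ¬ p ^ (m + 1) ∣ i := fun hc => hnot ⟨hc, hj'⟩
    obtain ⟨i', hi'e, hi'p⟩ := mc_split_pow m i hi hi'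
    obtain ⟨q, hq⟩ : ∃ q, q = r ^ j := ⟨_, rfl⟩
    rw [← hq] at hz1
    have hq1 : 1 ≤ q := by rw [hq]; exact Nat.one_le_pow _ _ h.hr1
    have hgs := mc_geom_sum_mul q (p ^ e) hq1
    obtain ⟨S, hS⟩ : ∃ S, S = ∑ t ∈ Finset.range (p ^ e), q ^ t := ⟨_, rfl⟩
    rw [← hS] at hz1 hgs
    rcases Nat.eq_or_lt_of_le hq1 with hq2 | hq2
    · have hS1 : S = p ^ e := by
        rw [hS, ← hq2]; simp
      rw [hS1, hi'e] at hz1
      exact fin (mc_key_cancel hp n m i' (p ^ e) hi'p hz1)
    · have hpq : p ∣ q - 1 := by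
        rw [hq]; exact h.hr.trans (Nat.sub_one_dvd_pow_sub_one r j)
      obtain ⟨w, u, hu, hwu⟩ :=
        Nat.exists_eq_pow_mul_and_not_dvd (n := q - 1) (by omega) p hp.ne_one
      have h1 : p ^ (n + w) ∣ i * (q ^ (p ^ e) - 1) := by
        have e1 : q ^ (p ^ e) - 1 = S * (q - 1) := by omega
        rw [e1, hwu, pow_add]
        have e2 : i * (S * (p ^ w * u)) = (i * S) * p ^ w * u := by ring
        rw [e2]
        exact Dvd.dvd.mul_right (Nat.mul_dvd_mul hz1 dvd_rfl) u
      rw [mc_lte_dvd hp h.hodd q hq1 hpq, hwu, pow_add] at h1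
      have h2 : p ^ w * p ^ n ∣ p ^ w * (i * p ^ e * u) := by
        have e3 : p ^ w * (i * p ^ e * u) = i * (p ^ w * u) * p ^ e := by ring
        rw [e3, mul_comm (p ^ w)]
        exact h1
      have h3 : p ^ n ∣ i * p ^ e * u := (Nat.mul_dvd_mul_iff_left (pow_pos hp.pos w)).1 h2
      have h4 : p ^ n ∣ i * p ^ e :=
        Nat.Coprime.dvd_of_dvd_mul_right
          (Nat.Coprime.pow_left n ((Nat.Prime.coprime_iff_not_dvd hp).2 hu)) h3
      rw [hi'e] at h4
      exact fin (mc_key_cancel hp n m i' (p ^ e) hi'p h4)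
  · obtain ⟨j', hj'e, hj'p⟩ := mc_split_pow m j hj hj'
    rw [hj'e] at hz2
    exact fin (mc_key_cancel hp n m j' (p ^ e) hj'p hz2)

theorem mcCD_center_sup_ge (h : IsMC p a b α β ρ n r) (g : G) :
    (p ^ (ρ + β)) ^ 2 ≤ mcCD (Subgroup.center G ⊔ Subgroup.zpowers g) := by
  haveI := h.finite
  have hp := h.hp
  obtain ⟨i, j, rfl⟩ := h.hgen g
  obtain ⟨m, hmn, hi, hj, hnot⟩ := h.exists_level i j
  obtain ⟨g, hg⟩ : ∃ g, g = a ^ i * b ^ j := ⟨_, rfl⟩
  rw [← hg]
  unfold mcCD
  rw [mc_centralizer_sup, Subgroup.centralizer_center, top_inf_eq, Subgroup.zpowers_eq_closure,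
    Subgroup.centralizer_closure]
  -- the centralizer
  have hidx : (Subgroup.centralizer ({g} : Set G)).index ≤ p ^ (n - m) := by
    rw [hg]; exact h.index_centralizer_le m i j hmn hi hj
  obtain ⟨e, he⟩ := h.index_eq_pow (Subgroup.centralizer ({g} : Set G))
  obtain ⟨c, hc⟩ := h.card_eq_pow (Subgroup.centralizer ({g} : Set G))
  have hci := Subgroup.card_mul_index (Subgroup.centralizer ({g} : Set G))
  rw [h.hcard, he, hc, ← pow_add, ← pow_add] at hci
  have hce : c + e = α + β := Nat.pow_right_injective hp.two_le hci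
  rw [he, Nat.pow_le_pow_iff_right hp.one_lt] at hidx
  -- the subgroup
  have hcard : Nat.card ↥(Subgroup.center G ⊔ Subgroup.closure {g}) =
      Nat.card (Subgroup.center G) *
        orderOf (QuotientGroup.mk g : G ⧸ Subgroup.center G) := by
    rw [mc_card_eq_inf_mul_map (Subgroup.center G), inf_eq_left.2 le_sup_left, Subgroup.map_sup,
      QuotientGroup.map_mk'_self, bot_sup_eq, ← Subgroup.zpowers_eq_closure,
      MonoidHom.map_zpowers, Nat.card_zpowers, QuotientGroup.mk'_apply]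
  obtain ⟨e', he'⟩ : ∃ e', orderOf (QuotientGroup.mk g : G ⧸ Subgroup.center G) = p ^ e' := by
    have hd : orderOf (QuotientGroup.mk g : G ⧸ Subgroup.center G) ∣ p ^ (α + β) := by
      rw [pow_add, ← h.hcard]
      exact (orderOf_dvd_natCard _).trans (Subgroup.card_quotient_dvd_card _)
    obtain ⟨e', _, he'⟩ := (Nat.dvd_prime_pow hp).1 hd
    exact ⟨e', he'⟩
  have hge : n ≤ m + e' := by
    rcases Nat.eq_or_lt_of_le hmn with hmn' | hmn'
    · omega
    · apply h.pow_mem_center_imp m i j e' hmn' hi hj (hnot hmn')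
      rw [← hg, ← QuotientGroup.eq_one_iff, QuotientGroup.mk_pow, ← he', pow_orderOf_eq_one]
  rw [hcard, he', hc, h.card_center, sq, ← pow_add, ← pow_add, ← pow_add, ← pow_add,
    Nat.pow_le_pow_iff_right hp.one_lt]
  have := h.hn
  have := h.n_le_β
  omega

end IsMC

theorem metacyclic_cd {G : Type*} [Group G] [Finite G] {p : ℕ} [Fact p.Prime]
    (hp2 : p ≠ 2) (hG : IsPGroup p G) (hmc : Cfsg.IsMetacyclic G) :
    ∃ B : ℕ, (∀ H : Subgroup G, mcCD H ≤ B) ∧
      (∀ R : Subgroup G, Subgroup.center G ≤ R → mcCD R = B) := by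
  obtain ⟨a, b, α, β, ρ, n, r, h⟩ := exists_isMC hp2 hG hmc
  have hB : ∀ H : Subgroup G, mcCD H ≤ (p ^ (ρ + β)) ^ 2 :=
    mcCD_le_of_central_bound _ (metacyclic_central_product_le hp2 hG hmc h)
  refine ⟨(p ^ (ρ + β)) ^ 2, hB, ?_⟩
  intro R hZR
  have hgen : ∀ g : G, mcCD (Subgroup.center G ⊔ Subgroup.zpowers g) = (p ^ (ρ + β)) ^ 2 :=
    fun g => le_antisymm (hB _) (h.mcCD_center_sup_ge g)
  have hZ : mcCD (Subgroup.center G) = (p ^ (ρ + β)) ^ 2 := by
    have := hgen 1
    rwa [Subgroup.zpowers_one_eq_bot, sup_bot_eq] at this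
  haveI : Nonempty {H : Subgroup G // Subgroup.center G ≤ H ∧ H ≤ R ∧
      mcCD H = (p ^ (ρ + β)) ^ 2} := ⟨⟨Subgroup.center G, le_refl _, hZR, hZ⟩⟩
  obtain ⟨⟨H, hH1, hH2, hH3⟩, hmax⟩ := Finite.exists_max
    (fun H : {H : Subgroup G // Subgroup.center G ≤ H ∧ H ≤ R ∧
      mcCD H = (p ^ (ρ + β)) ^ 2} => Nat.card H.1)
  have hHR : H = R := by
    by_contra hne
    obtain ⟨g, hgR, hgH⟩ := SetLike.exists_of_lt (lt_of_le_of_ne hH2 hne)
    have h1 : mcCD (H ⊔ (Subgroup.center G ⊔ Subgroup.zpowers g)) = (p ^ (ρ + β)) ^ 2 :=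
      mcCD_sup_eq _ hB _ _ hH3 (hgen g)
    have h2 : H ⊔ (Subgroup.center G ⊔ Subgroup.zpowers g) ≤ R :=
      sup_le hH2 (sup_le hZR ((Subgroup.zpowers_le).2 hgR))
    have h3 := hmax ⟨H ⊔ (Subgroup.center G ⊔ Subgroup.zpowers g),
      hH1.trans le_sup_left, h2, h1⟩
    have h4 : H = H ⊔ (Subgroup.center G ⊔ Subgroup.zpowers g) :=
      Subgroup.eq_of_le_of_card_ge le_sup_left h3
    apply hgH
    rw [h4]
    exact (le_sup_right : _ ≤ H ⊔ (Subgroup.center G ⊔ Subgroup.zpowers g))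
      ((le_sup_right : Subgroup.zpowers g ≤ Subgroup.center G ⊔ Subgroup.zpowers g)
        (Subgroup.mem_zpowers g))
  rw [← hHR]; exact hH3

theorem metacyclic_centralizer_large {G : Type*} [Group G] [Finite G] {p : ℕ} [Fact p.Prime]
    (hp2 : p ≠ 2) (hG : IsPGroup p G) (hmc : Cfsg.IsMetacyclic G) (R : Subgroup G) :
    Cfsg.IsCentralizerLarge R ↔ Subgroup.center G ≤ R := by
  obtain ⟨B, hB, hZ⟩ := metacyclic_cd hp2 hG hmc
  have hmax : Cfsg.maxCentralizerProduct G = B := by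
    unfold Cfsg.maxCentralizerProduct
    apply IsGreatest.csSup_eq
    constructor
    · exact ⟨⊤, hZ ⊤ le_top⟩
    · rintro k ⟨R, rfl⟩
      exact hB R
  unfold Cfsg.IsCentralizerLarge
  rw [hmax]
  constructor
  · intro hR
    by_contra hnot
    have h1 : R < R ⊔ Subgroup.center G := by
      apply lt_of_le_of_ne le_sup_left
      intro heq
      apply hnot
      rw [heq]; exact le_sup_right
    have h2 : Nat.card R < Nat.card ↥(R ⊔ Subgroup.center G) := by
      by_contra hc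
      exact h1.ne (Subgroup.eq_of_le_of_card_ge h1.le (not_lt.1 hc))
    have h3 := hB (R ⊔ Subgroup.center G)
    unfold mcCD at h3
    rw [mc_centralizer_sup, Subgroup.centralizer_center, inf_top_eq] at h3
    have h4 : Nat.card R * Nat.card (Subgroup.centralizer (R : Set G)) <
        Nat.card ↥(R ⊔ Subgroup.center G) * Nat.card (Subgroup.centralizer (R : Set G)) :=
      Nat.mul_lt_mul_of_pos_right h2 Nat.card_pos
    omega
  · intro hZR
    exact hZ R hZR

theorem metacyclic_abelian_double_centralizer {G : Type*} [Group G] [Finite G] {p : ℕ}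
    [Fact p.Prime] (hp2 : p ≠ 2) (hG : IsPGroup p G) (hmc : Cfsg.IsMetacyclic G)
    (K : Subgroup G) (hK : IsMulCommutative ↥K) (hZ : Subgroup.center G ≤ K) :
    K = Subgroup.centralizer (K : Set G) ⊓
      Subgroup.centralizer (Subgroup.centralizer (K : Set G) : Set G) := by
  obtain ⟨B, hB, hZB⟩ := metacyclic_cd hp2 hG hmc
  have h1 : K ≤ Subgroup.centralizer (Subgroup.centralizer (K : Set G) : Set G) := by
    rw [Subgroup.le_centralizer_iff]
  have h2 := hB (Subgroup.centralizer (K : Set G))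
  have h3 := hZB K hZ
  unfold mcCD at h2 h3
  rw [← h3, mul_comm] at h2
  have h4 : Nat.card (Subgroup.centralizer (Subgroup.centralizer (K : Set G) : Set G)) ≤
      Nat.card K := Nat.le_of_mul_le_mul_right h2 Nat.card_pos
  have h5 : K = Subgroup.centralizer (Subgroup.centralizer (K : Set G) : Set G) :=
    Subgroup.eq_of_le_of_card_ge h1 h4
  have h6 : K ≤ Subgroup.centralizer (K : Set G) :=
    Subgroup.le_centralizer_iff_isMulCommutative.2 hK
  rw [← h5]
  exact (inf_eq_right.2 h6).symm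

end Cfsg.Agent.Lib.Helper4
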