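import Mathlib
import Cfsg.Agent.S0065
import Cfsg.Agent.S0093
import Cfsg.Agent.Lib.Helper4.Hall

set_option autoImplicit false

namespace Cfsg.Agent.Lib.Helper4

section
variable {P : Type*} [Group P] [Finite P] {p : ℕ} [Fact p.Prime]

/-- A nontrivial normal subgroup of a `p`-group contains a central element of order `p`. -/
theorem exists_central_order_p (hP : IsPGroup p P) (K : Subgroup P) [K.Normal] (hK : K ≠ ⊥) :
    ∃ z, z ∈ K ∧ z ∈ Subgroup.center P ∧ z ≠ 1 ∧ z ^ p = 1 := by
  haveI : Group.IsNilpotent P := hP.isNilpotent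
  have := Cfsg.Agent.S0065.result K hK
  obtain ⟨⟨y, hy⟩, hy1⟩ := (Subgroup.ne_bot_iff_exists_ne_one).1 this
  have hy1' : y ≠ 1 := fun h => hy1 (Subtype.ext h)
  obtain ⟨n, hn1, hn2⟩ := Cfsg.Agent.S0093.exists_order_p hP y hy1'
  have hz : y ^ n ∈ K ⊓ Subgroup.center P := Subgroup.pow_mem _ hy n
  exact ⟨y ^ n, hz.1, hz.2, hn1, hn2⟩

/-- A normal subgroup of a `p`-group contains normal subgroups of the whole group of every
possible order. -/
theorem exists_normal_le_card_pow (hP : IsPGroup p P) (K : Subgroup P) [hKn : K.Normal] :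
    ∀ k : ℕ, p ^ k ≤ Nat.card K → ∃ A : Subgroup P, A ≤ K ∧ A.Normal ∧ Nat.card A = p ^ k := by
  have hp : p.Prime := Fact.out
  intro k
  induction k with
  | zero =>
    intro _
    exact ⟨⊥, bot_le, inferInstance, by simp⟩
  | succ k ih =>
    intro hk
    have hk' : p ^ k ≤ Nat.card K := le_trans (Nat.pow_le_pow_right hp.pos (Nat.le_succ k)) hk
    obtain ⟨A, hAK, hAn, hAcard⟩ := ih hk'
    haveI := hAn
    have hQ : IsPGroup p (P ⧸ A) := hP.to_quotient A
    haveI hKbar : (K.map (QuotientGroup.mk' A)).Normal :=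
      hKn.map _ (QuotientGroup.mk'_surjective A)
    have hne : K.map (QuotientGroup.mk' A) ≠ ⊥ := by
      intro hbot
      have hKA : K ≤ A := by
        intro x hx
        have : QuotientGroup.mk' A x ∈ K.map (QuotientGroup.mk' A) :=
          Subgroup.mem_map_of_mem _ hx
        rw [hbot, Subgroup.mem_bot] at this
        exact (QuotientGroup.eq_one_iff _).1 this
      have := Subgroup.card_le_of_le hKA
      rw [hAcard] at this
      have hlt : p ^ k < p ^ (k + 1) := Nat.pow_lt_pow_right hp.one_lt (Nat.lt_succ_self k)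
      omega
    obtain ⟨z, hzK, hzc, hz1, hzp⟩ := exists_central_order_p hQ (K.map (QuotientGroup.mk' A)) hne
    have hZn : (Subgroup.zpowers z).Normal := by
      constructor
      intro x hx g
      obtain ⟨i, rfl⟩ := Subgroup.mem_zpowers_iff.1 hx
      have hc : g * z ^ i * g⁻¹ = z ^ i := by
        have h1 : z ^ i ∈ Subgroup.center (P ⧸ A) := Subgroup.zpow_mem _ hzc i
        have h2 := Subgroup.mem_center_iff.1 h1 g
        rw [h2]; group
      rw [hc]; exact Subgroup.zpow_mem _ (Subgroup.mem_zpowers z) i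
    have hZcard : Nat.card (Subgroup.zpowers z) = p := by
      rw [Nat.card_zpowers]
      exact orderOf_eq_prime hzp hz1
    refine ⟨(Subgroup.zpowers z).comap (QuotientGroup.mk' A), ?_, inferInstance, ?_⟩
    · intro b hb
      rw [Subgroup.mem_comap] at hb
      have h1 : QuotientGroup.mk' A b ∈ K.map (QuotientGroup.mk' A) := by
        obtain ⟨i, hi⟩ := Subgroup.mem_zpowers_iff.1 hb
        rw [← hi]
        exact Subgroup.zpow_mem _ hzK i
      have h2 : b ∈ (K.map (QuotientGroup.mk' A)).comap (QuotientGroup.mk' A) := h1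
      rw [Subgroup.comap_map_eq, QuotientGroup.ker_mk', sup_eq_left.2 hAK] at h2
      exact h2
    · rw [card_comap_mk_quot, hZcard, hAcard, pow_succ, mul_comm]

end

end Cfsg.Agent.Lib.Helper4
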