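import Mathlib
import Cfsg.Agent.Lib.Helper4.PGroupNormal
import Cfsg.Agent.Lib.Helper4.Metacyclic
import Cfsg.Agent.Lib.Helper4.Metacyclic4
import Cfsg.Agent.Lib.Helper4.Metacyclic6

set_option autoImplicit false

namespace Cfsg.Agent.Lib.Helper4

section
variable {G : Type*} [Group G] [Finite G] {p : ℕ} [Fact p.Prime]

/-- A normal subgroup of order `p` of a `p`-group is central. -/
theorem mna_normal_order_p_le_center (hG : IsPGroup p G) (K : Subgroup G) [K.Normal]
    (hK : Nat.card K = p) : K ≤ Subgroup.center G := by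
  have hp : p.Prime := Fact.out
  have hne : K ≠ ⊥ := by
    intro h
    rw [h, Subgroup.card_bot] at hK
    exact hp.one_lt.ne hK
  obtain ⟨z, hzK, hzc, hz1, hzp⟩ := exists_central_order_p hG K hne
  have hcz : Nat.card (Subgroup.zpowers z) = p := by
    rw [Nat.card_zpowers]
    exact orderOf_eq_prime hzp hz1
  have hle : Subgroup.zpowers z ≤ K := (Subgroup.zpowers_le).2 hzK
  have heq : Subgroup.zpowers z = K :=
    Subgroup.eq_of_le_of_card_ge hle (by rw [hcz, hK])
  rw [← heq]
  exact (Subgroup.zpowers_le).2 hzc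

/-- The centralizer of a normal subgroup of order `p ^ a` in a `p`-group has index at most
`p ^ (a (a - 1) / 2)`. -/
theorem mna_index_centralizer_le (hG : IsPGroup p G) :
    ∀ (a : ℕ) (A : Subgroup G), A.Normal → Nat.card A = p ^ a →
      (Subgroup.centralizer (A : Set G)).index ≤ p ^ (a * (a - 1) / 2) := by
  have hp : p.Prime := Fact.out
  intro a
  induction a with
  | zero =>
    intro A _ hA
    have hAbot : A = ⊥ := by
      rw [pow_zero] at hA
      exact Subgroup.card_eq_one.1 hA
    rw [hAbot]
    have : Subgroup.centralizer (((⊥ : Subgroup G) : Subgroup G) : Set G) = ⊤ := by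
      rw [eq_top_iff]
      intro g _
      rw [Subgroup.mem_centralizer_iff]
      intro h hh
      have : h = 1 := Subgroup.mem_bot.1 hh
      rw [this]; simp
    rw [this]
    simp
  | succ a ih =>
    intro A hAn hA
    haveI := hAn
    obtain ⟨A₁, hA₁A, hA₁n, hA₁card⟩ := exists_normal_le_card_pow hG A a (by
      rw [hA]; exact Nat.pow_le_pow_right hp.pos (Nat.le_succ a))
    haveI := hA₁n
    have hlt : p ^ a < p ^ (a + 1) := Nat.pow_lt_pow_right hp.one_lt (Nat.lt_succ_self a)
    -- an element outside
    have hex : ∃ x, x ∈ A ∧ x ∉ A₁ := by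
      by_contra hcon
      have hle : A ≤ A₁ := by
        intro x hx
        by_contra hx1
        exact hcon ⟨x, hx, hx1⟩
      have := Subgroup.card_le_of_le hle
      omega
    obtain ⟨x, hxA, hxA₁⟩ := hex
    -- A = A₁ ⊔ zpowers x
    have hBle : A₁ ⊔ Subgroup.zpowers x ≤ A := sup_le hA₁A ((Subgroup.zpowers_le).2 hxA)
    have hBeq : A₁ ⊔ Subgroup.zpowers x = A := by
      apply Subgroup.eq_of_le_of_card_ge hBle
      have hd1 : Nat.card (A₁ ⊔ Subgroup.zpowers x : Subgroup G) ∣ p ^ (a + 1) := by
        rw [← hA]; exact Subgroup.card_dvd_of_le hBle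
      obtain ⟨k, hk, hkc⟩ := (Nat.dvd_prime_pow hp).1 hd1
      have hd2 : p ^ a ∣ Nat.card (A₁ ⊔ Subgroup.zpowers x : Subgroup G) := by
        rw [← hA₁card]; exact Subgroup.card_dvd_of_le le_sup_left
      rw [hkc] at hd2
      have hak : a ≤ k := (Nat.pow_dvd_pow_iff_le_right hp.one_lt).1 hd2
      have hne : k ≠ a := by
        intro hka
        rw [hka, ← hA₁card] at hkc
        have : A₁ = A₁ ⊔ Subgroup.zpowers x :=
          Subgroup.eq_of_le_of_card_ge le_sup_left (le_of_eq hkc)
        apply hxA₁
        rw [this]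
        exact (le_sup_right : Subgroup.zpowers x ≤ A₁ ⊔ Subgroup.zpowers x)
          (Subgroup.mem_zpowers x)
      have hk1 : k = a + 1 := by omega
      rw [hA, hkc, hk1]
    -- commutators with x land in A₁
    have hcomm : ∀ h : G, h * x * h⁻¹ * x⁻¹ ∈ A₁ := by
      intro h
      have hQ : IsPGroup p (G ⧸ A₁) := hG.to_quotient A₁
      haveI hAbar : (A.map (QuotientGroup.mk' A₁)).Normal :=
        hAn.map _ (QuotientGroup.mk'_surjective A₁)
      have hcard := mc_card_eq_inf_mul_map A₁ A
      rw [inf_eq_left.2 hA₁A, hA, hA₁card, pow_succ] at hcard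
      have hcb : Nat.card (A.map (QuotientGroup.mk' A₁)) = p :=
        (Nat.eq_of_mul_eq_mul_left (pow_pos hp.pos a) hcard).symm
      have hcen := mna_normal_order_p_le_center hQ _ hcb
      have hxm : QuotientGroup.mk' A₁ x ∈ A.map (QuotientGroup.mk' A₁) :=
        Subgroup.mem_map_of_mem _ hxA
      have hxc := Subgroup.mem_center_iff.1 (hcen hxm) (QuotientGroup.mk' A₁ h)
      rw [← QuotientGroup.eq_one_iff, ← QuotientGroup.mk'_apply]
      rw [map_mul, map_mul, map_mul, map_inv, map_inv, hxc]
      group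
    have h1 := mc_index_centralizer_le A₁ x hcomm
    have h2 := ih A₁ hA₁n hA₁card
    have hcz : Subgroup.centralizer ((Subgroup.zpowers x : Subgroup G) : Set G) =
        Subgroup.centralizer ({x} : Set G) := by
      rw [Subgroup.zpowers_eq_closure, Subgroup.centralizer_closure]
    have hC : Subgroup.centralizer (A : Set G) =
        Subgroup.centralizer (A₁ : Set G) ⊓ Subgroup.centralizer ({x} : Set G) := by
      rw [← hBeq, mc_centralizer_sup, hcz]
    rw [hC, Nat.triangle_succ, pow_add]
    calc (Subgroup.centralizer (A₁ : Set G) ⊓ Subgroup.centralizer ({x} : Set G)).index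
        ≤ (Subgroup.centralizer (A₁ : Set G)).index *
          (Subgroup.centralizer ({x} : Set G)).index := Subgroup.index_inf_le
      _ ≤ p ^ (a * (a - 1) / 2) * p ^ a := by
          rw [hA₁card] at h1
          exact Nat.mul_le_mul h2 h1

/-- A maximal normal abelian subgroup of a `p`-group is self-centralizing. -/
theorem mna_centralizer_eq (hG : IsPGroup p G) (A : Subgroup G) [hAn : A.Normal]
    (hA : IsMulCommutative A)
    (hmax : ∀ B : Subgroup G, B.Normal → IsMulCommutative B → A ≤ B → B = A) :
    Subgroup.centralizer (A : Set G) = A := by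
  have hp : p.Prime := Fact.out
  have hAC : A ≤ Subgroup.centralizer (A : Set G) :=
    (Subgroup.le_centralizer_iff_isMulCommutative).2 hA
  by_contra hne
  have hQ : IsPGroup p (G ⧸ A) := hG.to_quotient A
  haveI hCn : (Subgroup.centralizer (A : Set G)).Normal := Subgroup.normal_centralizer
  haveI hCbar : ((Subgroup.centralizer (A : Set G)).map (QuotientGroup.mk' A)).Normal :=
    hCn.map _ (QuotientGroup.mk'_surjective A)
  have hnb : (Subgroup.centralizer (A : Set G)).map (QuotientGroup.mk' A) ≠ ⊥ := by
    intro hbot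
    apply hne
    apply le_antisymm _ hAC
    intro x hx
    have : QuotientGroup.mk' A x ∈ (Subgroup.centralizer (A : Set G)).map (QuotientGroup.mk' A) :=
      Subgroup.mem_map_of_mem _ hx
    rw [hbot, Subgroup.mem_bot] at this
    exact (QuotientGroup.eq_one_iff _).1 this
  obtain ⟨zb, hzK, hzc, hz1, -⟩ := exists_central_order_p hQ _ hnb
  obtain ⟨z, hzC, rfl⟩ := Subgroup.mem_map.1 hzK
  -- B = A ⊔ zpowers z
  have hBcomap : A ⊔ Subgroup.zpowers z =
      (Subgroup.zpowers (QuotientGroup.mk' A z)).comap (QuotientGroup.mk' A) := by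
    rw [← MonoidHom.map_zpowers, Subgroup.comap_map_eq, QuotientGroup.ker_mk', sup_comm]
  have hZn : (Subgroup.zpowers (QuotientGroup.mk' A z)).Normal := by
    constructor
    intro y hy g
    obtain ⟨i, rfl⟩ := Subgroup.mem_zpowers_iff.1 hy
    have h1 : (QuotientGroup.mk' A z) ^ i ∈ Subgroup.center (G ⧸ A) := Subgroup.zpow_mem _ hzc i
    have h2 := Subgroup.mem_center_iff.1 h1 g
    have hc : g * (QuotientGroup.mk' A z) ^ i * g⁻¹ = (QuotientGroup.mk' A z) ^ i := by
      rw [h2]; group
    rw [hc]; exact Subgroup.zpow_mem _ (Subgroup.mem_zpowers _) i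
  have hBn : (A ⊔ Subgroup.zpowers z).Normal := by
    rw [hBcomap]; infer_instance
  have hzcomm : ∀ y ∈ A, y * z = z * y := fun y hy => Subgroup.mem_centralizer_iff.1 hzC y hy
  have hBab : IsMulCommutative (A ⊔ Subgroup.zpowers z : Subgroup G) := by
    rw [← Subgroup.le_centralizer_iff_isMulCommutative, mc_centralizer_sup]
    apply le_inf
    · apply sup_le hAC
      exact (Subgroup.zpowers_le).2 hzC
    · apply sup_le
      · rw [Subgroup.zpowers_eq_closure, Subgroup.centralizer_closure]
        intro y hy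
        rw [Subgroup.mem_centralizer_iff]
        intro w hw
        rw [Set.mem_singleton_iff] at hw
        rw [hw]
        exact (hzcomm y hy).symm
      · rw [Subgroup.le_centralizer_iff_isMulCommutative]
        infer_instance
  have hBA := hmax _ hBn hBab le_sup_left
  have hzA : z ∈ A := by
    rw [← hBA]
    exact (le_sup_right : Subgroup.zpowers z ≤ A ⊔ Subgroup.zpowers z) (Subgroup.mem_zpowers z)
  exact hz1 ((QuotientGroup.eq_one_iff _).2 hzA)

theorem mna_card_le (hG : IsPGroup p G) (A : Subgroup G) [hAn : A.Normal]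
    (hA : IsMulCommutative A)
    (hmax : ∀ B : Subgroup G, B.Normal → IsMulCommutative B → A ≤ B → B = A) (a : ℕ)
    (ha : Nat.card A = p ^ a) : Nat.card G ≤ p ^ (a * (a + 1) / 2) := by
  have hp : p.Prime := Fact.out
  have h1 := mna_index_centralizer_le hG a A hAn ha
  have h2 := mna_centralizer_eq hG A hA hmax
  rw [h2] at h1
  have h3 := Subgroup.card_mul_index A
  rw [ha] at h3
  have h4 : a * (a + 1) / 2 = a * (a - 1) / 2 + a := by
    have := Nat.triangle_succ a
    rw [Nat.add_sub_cancel] at this
    rw [← this, mul_comm]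
  rw [← h3, h4, pow_add, mul_comm]
  exact Nat.mul_le_mul_right _ h1

end

end Cfsg.Agent.Lib.Helper4
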