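import Mathlib
import Cfsg.Agent.Lib.Helper4.MaxNormAb

set_option autoImplicit false

namespace Cfsg.Agent.Lib.Helper4

section
variable {G : Type*} [Group G]

/-- Three subgroups lemma modulo a normal subgroup. -/
theorem hl_three_subgroups_le (K : Subgroup G) [K.Normal] (H₁ H₂ H₃ : Subgroup G)
    (h1 : ⁅⁅H₂, H₃⁆, H₁⁆ ≤ K) (h2 : ⁅⁅H₃, H₁⁆, H₂⁆ ≤ K) : ⁅⁅H₁, H₂⁆, H₃⁆ ≤ K := by
  have key : ∀ A B C : Subgroup G, ⁅⁅A, B⁆, C⁆ ≤ K ↔
      ⁅⁅A.map (QuotientGroup.mk' K), B.map (QuotientGroup.mk' K)⁆,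
        C.map (QuotientGroup.mk' K)⁆ = ⊥ := by
    intro A B C
    rw [← Subgroup.map_commutator, ← Subgroup.map_commutator, Subgroup.map_eq_bot_iff,
      QuotientGroup.ker_mk']
  rw [key] at h1 h2 ⊢
  exact Subgroup.commutator_commutator_eq_bot_of_rotate h1 h2

theorem hl_lcs_normal (N : Subgroup G) [N.Normal] : ∀ k, (N.lowerCentralSeries k).Normal
  | 0 => by simpa
  | k + 1 => by
    haveI := hl_lcs_normal N k
    rw [Subgroup.lowerCentralSeries_succ]; infer_instance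

variable [Finite G] {p : ℕ} [Fact p.Prime]

theorem hl_exists_normal_between (hG : IsPGroup p G) (B D : Subgroup G) [hB : B.Normal]
    [hD : D.Normal] (hDB : D ≤ B) (k : ℕ) (hk : p ^ k * Nat.card D ≤ Nat.card B) :
    ∃ A : Subgroup G, A.Normal ∧ D ≤ A ∧ A ≤ B ∧ Nat.card A = p ^ k * Nat.card D := by
  have hQ : IsPGroup p (G ⧸ D) := hG.to_quotient D
  haveI : (B.map (QuotientGroup.mk' D)).Normal := hB.map _ (QuotientGroup.mk'_surjective D)
  have hcard := mc_card_eq_inf_mul_map D B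
  rw [inf_eq_left.2 hDB] at hcard
  have hk' : p ^ k ≤ Nat.card (B.map (QuotientGroup.mk' D)) := by
    rw [hcard, mul_comm] at hk
    exact Nat.le_of_mul_le_mul_left hk Nat.card_pos
  obtain ⟨A, hAB, hAn, hAc⟩ := exists_normal_le_card_pow hQ _ k hk'
  haveI := hAn
  refine ⟨A.comap (QuotientGroup.mk' D), inferInstance, ?_, ?_, ?_⟩
  · intro x hx
    rw [Subgroup.mem_comap]
    have : QuotientGroup.mk' D x = 1 := (QuotientGroup.eq_one_iff x).2 hx
    rw [this]; exact A.one_mem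
  · intro x hx
    have h1 : QuotientGroup.mk' D x ∈ B.map (QuotientGroup.mk' D) := hAB hx
    have h2 : x ∈ (B.map (QuotientGroup.mk' D)).comap (QuotientGroup.mk' D) := h1
    rw [Subgroup.comap_map_eq, QuotientGroup.ker_mk', sup_eq_left.2 hDB] at h2
    exact h2
  · rw [card_comap_mk_quot, hAc]

theorem hl_comm_le_of_index_p (hG : IsPGroup p G) (B D : Subgroup G) [hB : B.Normal]
    [hD : D.Normal] (hDB : D ≤ B) (hc : Nat.card B = p * Nat.card D) :
    ⁅B, (⊤ : Subgroup G)⁆ ≤ D := by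
  have hQ : IsPGroup p (G ⧸ D) := hG.to_quotient D
  haveI : (B.map (QuotientGroup.mk' D)).Normal := hB.map _ (QuotientGroup.mk'_surjective D)
  have hcard := mc_card_eq_inf_mul_map D B
  rw [inf_eq_left.2 hDB, hc, mul_comm] at hcard
  have hcb : Nat.card (B.map (QuotientGroup.mk' D)) = p :=
    (Nat.eq_of_mul_eq_mul_left Nat.card_pos hcard).symm
  have hcen := mna_normal_order_p_le_center hQ _ hcb
  rw [Subgroup.commutator_le]
  intro b hb g _
  rw [← QuotientGroup.eq_one_iff, ← QuotientGroup.mk'_apply, map_commutatorElement,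
    commutatorElement_eq_one_iff_commute]
  have := Subgroup.mem_center_iff.1 (hcen (Subgroup.mem_map_of_mem _ hb)) (QuotientGroup.mk' D g)
  exact this.symm

theorem hl_comm_lcs_le (hG : IsPGroup p G) : ∀ (m : ℕ) (B D : Subgroup G), B.Normal → D.Normal →
    D ≤ B → Nat.card B = p ^ (m + 1) * Nat.card D →
    ⁅B, (⊤ : Subgroup G).lowerCentralSeries m⁆ ≤ D := by
  have hp : p.Prime := Fact.out
  intro m
  induction m with
  | zero =>
    intro B D hB hD hDB hc
    haveI := hB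
    haveI := hD
    rw [zero_add, pow_one] at hc
    exact hl_comm_le_of_index_p hG B D hDB hc
  | succ m ih =>
    intro B D hB hD hDB hc
    haveI := hB
    haveI := hD
    obtain ⟨B₁, hB₁n, hDB₁, hB₁B, hB₁c⟩ := hl_exists_normal_between hG B D hDB (m + 1) (by
      rw [hc]; exact Nat.mul_le_mul_right _ (Nat.pow_le_pow_right hp.pos (Nat.le_succ _)))
    obtain ⟨D₁, hD₁n, hDD₁, hD₁B, hD₁c⟩ := hl_exists_normal_between hG B D hDB 1 (by
      rw [hc]; exact Nat.mul_le_mul_right _ (Nat.pow_le_pow_right hp.pos (by omega)))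
    haveI := hB₁n
    haveI := hD₁n
    have e1 : ⁅B, (⊤ : Subgroup G)⁆ ≤ B₁ :=
      hl_comm_le_of_index_p hG B B₁ hB₁B (by rw [hc, hB₁c]; ring)
    have e2 : ⁅D₁, (⊤ : Subgroup G)⁆ ≤ D :=
      hl_comm_le_of_index_p hG D₁ D hDD₁ (by rw [hD₁c, pow_one])
    have e3 : ⁅B, (⊤ : Subgroup G).lowerCentralSeries m⁆ ≤ D₁ :=
      ih B D₁ hB hD₁n hD₁B (by rw [hc, hD₁c]; ring)
    have e4 : ⁅B₁, (⊤ : Subgroup G).lowerCentralSeries m⁆ ≤ D := ih B₁ D hB₁n hD hDB₁ hB₁c
    rw [Subgroup.lowerCentralSeries_succ, Subgroup.commutator_comm]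
    apply hl_three_subgroups_le D
    · rw [Subgroup.commutator_comm ⊤ B]
      exact le_trans (Subgroup.commutator_mono e1 le_rfl) e4
    · exact le_trans (Subgroup.commutator_mono e3 le_rfl) e2

theorem hl_main (hG : IsPGroup p G) (n : ℕ) (hn : 1 ≤ n) (N : Subgroup G) [N.Normal]
    (hN : N ≤ (⊤ : Subgroup G).lowerCentralSeries (n - 1)) (i : ℕ) (hi : 1 ≤ i)
    (hne : N.lowerCentralSeries i ≠ ⊥) :
    p ^ n ≤ (N.lowerCentralSeries i).relIndex (N.lowerCentralSeries (i - 1)) := by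
  have hp : p.Prime := Fact.out
  obtain ⟨j, rfl⟩ : ∃ j, i = j + 1 := ⟨i - 1, by omega⟩
  rw [Nat.add_sub_cancel]
  haveI hBn : (N.lowerCentralSeries j).Normal := hl_lcs_normal N j
  haveI hCn : (N.lowerCentralSeries (j + 1)).Normal := hl_lcs_normal N (j + 1)
  have hCB : N.lowerCentralSeries (j + 1) ≤ N.lowerCentralSeries j :=
    N.lowerCentralSeries_antitone (Nat.le_succ j)
  have hrel : (N.lowerCentralSeries (j + 1)).relIndex (N.lowerCentralSeries j) *
      Nat.card (N.lowerCentralSeries (j + 1)) = Nat.card (N.lowerCentralSeries j) := by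
    have := Subgroup.relIndex_mul_relIndex ⊥ (N.lowerCentralSeries (j + 1))
      (N.lowerCentralSeries j) bot_le hCB
    rw [Subgroup.relIndex_bot_left, Subgroup.relIndex_bot_left] at this
    rw [mul_comm]; exact this
  obtain ⟨m, hm⟩ : ∃ m, (N.lowerCentralSeries (j + 1)).relIndex (N.lowerCentralSeries j) =
      p ^ m := by
    have hd : (N.lowerCentralSeries (j + 1)).relIndex (N.lowerCentralSeries j) ∣
        Nat.card (N.lowerCentralSeries j) := ⟨_, hrel.symm⟩
    obtain ⟨b, hb⟩ := (hG.to_subgroup (N.lowerCentralSeries j)).exists_card_eq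
    rw [hb] at hd
    obtain ⟨m, _, hm⟩ := (Nat.dvd_prime_pow hp).1 hd
    exact ⟨m, hm⟩
  rw [hm]
  by_contra hlt
  have hmn : m < n := by
    by_contra h
    exact hlt (Nat.pow_le_pow_right hp.pos (by omega))
  obtain ⟨c, hc⟩ := (hG.to_subgroup (N.lowerCentralSeries (j + 1))).exists_card_eq
  have hc0 : c ≠ 0 := by
    intro h0
    rw [h0, pow_zero] at hc
    exact hne (Subgroup.card_eq_one.1 hc)
  obtain ⟨D, hDC, hDn, hDc⟩ := exists_normal_le_card_pow hG (N.lowerCentralSeries (j + 1)) (c - 1)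
    (by rw [hc]; exact Nat.pow_le_pow_right hp.pos (by omega))
  haveI := hDn
  have hBD : Nat.card (N.lowerCentralSeries j) = p ^ (m + 1) * Nat.card D := by
    rw [← hrel, hm, hc, hDc]
    obtain ⟨c', rfl⟩ : ∃ c', c = c' + 1 := ⟨c - 1, by omega⟩
    rw [Nat.add_sub_cancel]; ring
  have h1 := hl_comm_lcs_le hG m (N.lowerCentralSeries j) D hBn hDn (hDC.trans hCB) hBD
  have h2 : N ≤ (⊤ : Subgroup G).lowerCentralSeries m :=
    hN.trans ((⊤ : Subgroup G).lowerCentralSeries_antitone (by omega))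
  have h3 : N.lowerCentralSeries (j + 1) ≤ D := by
    rw [Subgroup.lowerCentralSeries_succ]
    exact (Subgroup.commutator_mono le_rfl h2).trans h1
  have h4 := Subgroup.card_le_of_le h3
  rw [hc, hDc] at h4
  have h5 : p ^ (c - 1) < p ^ c := Nat.pow_lt_pow_right hp.one_lt (by omega)
  omega

end

end Cfsg.Agent.Lib.Helper4
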