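import Mathlib
import Cfsg.Agent.Lib.Helper4.JordanNormal

set_option autoImplicit false

namespace Cfsg.Agent.Lib.Helper4

open MulAction

universe u v

/-- A regular normal subgroup of a 2-primitive group has exponent 2 or the degree is at most 3. -/
theorem jn_regular_two_prim {G : Type u} [Group G] {Ω : Type v} [MulAction G Ω] [Finite Ω]
    (h2 : IsMultiplyPreprimitive G Ω 2) (R : Subgroup G) [hRn : R.Normal] (b₀ : Ω)
    (hfree : ∀ r ∈ R, ∀ b : Ω, r • b = b → r = 1) :
    (∀ r ∈ R, r ^ 2 = 1) ∨ Nat.card Ω ≤ 3 := by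
  classical
  by_contra hcon
  rw [not_or] at hcon
  obtain ⟨hex, hcard⟩ := hcon
  have hx : ∃ x ∈ R, x ^ 2 ≠ 1 := by
    by_contra h
    apply hex
    intro r hr
    by_contra hr2
    exact h ⟨r, hr, hr2⟩
  obtain ⟨x, hxR, hx2⟩ := hx
  have hxiR : x⁻¹ ∈ R := R.inv_mem hxR
  haveI : IsMultiplyPretransitive G Ω 2 := h2.isMultiplyPretransitive
  haveI : IsPretransitive G Ω := isPretransitive_of_is_two_pretransitive
  haveI h2' : IsMultiplyPreprimitive G Ω (Nat.succ 1) := h2
  have hK1 : IsMultiplyPreprimitive (stabilizer G b₀) (SubMulAction.ofStabilizer G b₀) 1 :=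
    isMultiplyPreprimitive_ofStabilizer G Ω
  haveI hK : IsPreprimitive (stabilizer G b₀) (SubMulAction.ofStabilizer G b₀) :=
    (is_one_preprimitive_iff _ _).1 hK1
  have hinj : ∀ u ∈ R, ∀ w ∈ R, u • b₀ = w • b₀ → u = w := by
    intro u hu w hw huw
    have h1 : w⁻¹ * u = 1 := by
      apply hfree _ (R.mul_mem (R.inv_mem hw) hu) b₀
      rw [mul_smul, huw, inv_smul_smul]
    exact (inv_mul_eq_one.1 h1).symm
  have hx1 : x ≠ 1 := by
    intro h; apply hx2; rw [h, one_pow]
  have hxi1 : x⁻¹ ≠ 1 := fun h => hx1 (inv_eq_one.1 h)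
  have hxxi : x ≠ x⁻¹ := by
    intro h
    apply hx2
    rw [sq]
    nth_rewrite 1 [h]
    exact inv_mul_cancel x
  have hc1 : x • b₀ ≠ b₀ := fun h => hx1 (hfree x hxR b₀ h)
  have hc2 : x⁻¹ • b₀ ≠ b₀ := fun h => hxi1 (hfree x⁻¹ hxiR b₀ h)
  -- the block
  let B : Set (SubMulAction.ofStabilizer G b₀) :=
    {c | (c : Ω) = x • b₀ ∨ (c : Ω) = x⁻¹ • b₀}
  have hmemB : ∀ c : SubMulAction.ofStabilizer G b₀,
      c ∈ B ↔ ((c : Ω) = x • b₀ ∨ (c : Ω) = x⁻¹ • b₀) := fun c => Iff.rfl
  have hBblock : IsBlock (stabilizer G b₀) B := by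
    rw [isBlock_iff_smul_eq_of_mem]
    intro g a ha hga
    have hgb : (g : G) • b₀ = b₀ := g.2
    have hgib : (g : G)⁻¹ • b₀ = b₀ := by rw [inv_smul_eq_iff, hgb]
    obtain ⟨y, hy_def⟩ : ∃ y, y = (g : G) * x * (g : G)⁻¹ := ⟨_, rfl⟩
    have hyR : y ∈ R := by rw [hy_def]; exact hRn.conj_mem x hxR g
    have hyiR : y⁻¹ ∈ R := R.inv_mem hyR
    have hgx : (g : G) • (x • b₀) = y • b₀ := by
      rw [hy_def, mul_smul, mul_smul, hgib]
    have hgxi : (g : G) • (x⁻¹ • b₀) = y⁻¹ • b₀ := by
      rw [hy_def, mul_inv_rev, mul_inv_rev, inv_inv, mul_smul, mul_smul, hgib]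
    have hy : y = x ∨ y = x⁻¹ := by
      have hga' : ((g • a : SubMulAction.ofStabilizer G b₀) : Ω) = (g : G) • (a : Ω) := rfl
      rw [hmemB] at ha hga
      rw [hga'] at hga
      rcases ha with ha | ha
      · rw [ha, hgx] at hga
        rcases hga with h | h
        · exact Or.inl (hinj y hyR x hxR h)
        · exact Or.inr (hinj y hyR x⁻¹ hxiR h)
      · rw [ha, hgxi] at hga
        rcases hga with h | h
        · right
          have := hinj y⁻¹ hyiR x hxR h
          rw [← this, inv_inv]
        · left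
          have := hinj y⁻¹ hyiR x⁻¹ hxiR h
          exact inv_injective this
    ext c
    rw [Set.mem_smul_set_iff_inv_smul_mem, hmemB, hmemB]
    have hc' : ((g⁻¹ • c : SubMulAction.ofStabilizer G b₀) : Ω) = (g : G)⁻¹ • (c : Ω) := rfl
    rw [hc', inv_smul_eq_iff, inv_smul_eq_iff, hgx, hgxi]
    rcases hy with hy | hy
    · rw [hy]
    · rw [hy, inv_inv]; exact or_comm
  have htriv := hK.isTrivialBlock_of_isBlock hBblock
  rcases htriv with hsub | huniv
  · have m1 : (⟨x • b₀, (SubMulAction.mem_ofStabilizer_iff G b₀).2 hc1⟩ :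
        SubMulAction.ofStabilizer G b₀) ∈ B := Or.inl rfl
    have m2 : (⟨x⁻¹ • b₀, (SubMulAction.mem_ofStabilizer_iff G b₀).2 hc2⟩ :
        SubMulAction.ofStabilizer G b₀) ∈ B := Or.inr rfl
    have := hsub m1 m2
    have h3 : x • b₀ = x⁻¹ • b₀ := congrArg Subtype.val this
    exact hxxi (hinj x hxR x⁻¹ hxiR h3)
  · apply hcard
    haveI := Fintype.ofFinite Ω
    rw [Nat.card_eq_fintype_card, ← Finset.card_univ]
    have huniv' : (Finset.univ : Finset Ω) = {b₀, x • b₀, x⁻¹ • b₀} := by
      ext c
      simp only [Finset.mem_univ, Finset.mem_insert, Finset.mem_singleton, true_iff]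
      by_cases hc : c = b₀
      · exact Or.inl hc
      · right
        have hcB : (⟨c, (SubMulAction.mem_ofStabilizer_iff G b₀).2 hc⟩ :
            SubMulAction.ofStabilizer G b₀) ∈ B := by rw [huniv]; exact Set.mem_univ _
        exact hcB
    rw [huniv']
    exact Finset.card_le_three

/-- Auxiliary form of the theorem on normal subgroups of multiply primitive groups. -/
theorem jordan_prim_aux : ∀ (k : ℕ), 1 ≤ k → ∀ {G : Type u} {Ω : Type v} [Group G]
    [MulAction G Ω] [FaithfulSMul G Ω] [Finite Ω], IsMultiplyPreprimitive G Ω k →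
    k ≤ Nat.card Ω → ¬ IsMultiplyPretransitive G Ω (Nat.card Ω - 1) →
    ∀ (H : Subgroup G) [H.Normal], (∃ h ∈ H, h ≠ 1 ∧ ∃ a : Ω, h • a = a) → NT H Ω k := by
  intro k hk
  induction k, hk using Nat.le_induction with
  | base =>
    intro G Ω _ _ _ _ h1 hcard hnf H _ hH
    haveI : IsPreprimitive G Ω := (is_one_preprimitive_iff _ _).1 h1
    have hHne : H ≠ ⊥ := by
      obtain ⟨h, hhH, hh1, -⟩ := hH
      intro hbot
      rw [hbot, Subgroup.mem_bot] at hhH
      exact hh1 hhH
    have hfix : fixedPoints H Ω ≠ Set.univ := by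
      intro hfix
      obtain ⟨h, hhH, hh1, -⟩ := hH
      apply hh1
      apply FaithfulSMul.eq_of_smul_eq_smul (α := Ω)
      intro a
      have ha : a ∈ fixedPoints H Ω := by rw [hfix]; exact Set.mem_univ a
      rw [one_smul]
      exact ha ⟨h, hhH⟩
    haveI : IsPretransitive H Ω := IsQuasiPreprimitive.isPretransitive_of_normal hfix
    intro x y
    obtain ⟨g, hg⟩ := exists_smul_eq H (x 0) (y 0)
    refine ⟨g.1, g.2, fun i => ?_⟩
    have : i = 0 := Subsingleton.elim _ _
    rw [this]; exact hg
  | succ k hk ih =>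
    intro G Ω _ _ _ _ hk1 hcard hnf H hHn hH
    haveI hpt : IsMultiplyPretransitive G Ω (k + 1) := hk1.isMultiplyPretransitive
    have h2 : IsMultiplyPretransitive G Ω 2 :=
      isMultiplyPretransitive_of_le (n := k + 1) (by omega) hcard
    obtain ⟨h₀, hh₀H, hh₀1, a, hh₀a⟩ := hH
    have hHne : H ≠ ⊥ := by
      intro hbot
      rw [hbot, Subgroup.mem_bot] at hh₀H
      exact hh₀1 hh₀H
    have htr := jn_normal_transitive h2 H hHne
    haveI : IsPretransitive G Ω := isPretransitive_of_is_two_pretransitive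
    haveI hfa := jn_faithful_stabilizer (G := G) a
    haveI hk1' : IsMultiplyPreprimitive G Ω (Nat.succ k) := hk1
    have hka : IsMultiplyPreprimitive (stabilizer G a) (SubMulAction.ofStabilizer G a) k :=
      isMultiplyPreprimitive_ofStabilizer G Ω
    have hcarda' := SubMulAction.nat_card_ofStabilizer_add_one_eq G a
    have hcarda : k ≤ Nat.card (SubMulAction.ofStabilizer G a) := by omega
    have hnfa : ¬ IsMultiplyPretransitive (stabilizer G a) (SubMulAction.ofStabilizer G a)
        (Nat.card (SubMulAction.ofStabilizer G a) - 1) := by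
      intro hcon
      apply hnf
      have e : Nat.card Ω - 1 = (Nat.card (SubMulAction.ofStabilizer G a) - 1).succ := by omega
      rw [e]
      exact SubMulAction.ofStabilizer.isMultiplyPretransitive.2 hcon
    haveI hHan : (H.subgroupOf (stabilizer G a)).Normal := hHn.subgroupOf _
    by_cases hreg : ∃ h ∈ H, h ≠ 1 ∧ h • a = a ∧ ∃ b : Ω, b ≠ a ∧ h • b = b
    · -- nonregular stabilizer: induction
      obtain ⟨h, hhH, hh1, hha, b, hba, hhb⟩ := hreg
      have hnt := ih hka hcarda hnfa (H.subgroupOf (stabilizer G a))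
        ⟨⟨h, hha⟩, Subgroup.mem_subgroupOf.2 hhH, fun hc => hh1 (congrArg Subtype.val hc),
          ⟨b, (SubMulAction.mem_ofStabilizer_iff G a).2 hba⟩, Subtype.ext hhb⟩
      apply jn_nt_succ H k a htr
      intro x y hx hy
      let x' : Fin k ↪ SubMulAction.ofStabilizer G a :=
        ⟨fun i => ⟨x i, (SubMulAction.mem_ofStabilizer_iff G a).2 (hx i)⟩, by
          intro i j hij
          exact x.injective (congrArg Subtype.val hij)⟩
      let y' : Fin k ↪ SubMulAction.ofStabilizer G a :=
        ⟨fun i => ⟨y i, (SubMulAction.mem_ofStabilizer_iff G a).2 (hy i)⟩, by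
          intro i j hij
          exact y.injective (congrArg Subtype.val hij)⟩
      obtain ⟨g, hg, hgx⟩ := hnt x' y'
      exact ⟨g.1, Subgroup.mem_subgroupOf.1 hg, g.2, fun i => congrArg Subtype.val (hgx i)⟩
    · -- the stabilizer acts freely on the rest
      have hF : ∀ u ∈ H, u • a = a → ∀ b : Ω, b ≠ a → u • b = b → u = 1 := by
        intro u hu hua b hb hub
        by_contra hu1
        exact hreg ⟨u, hu, hu1, hua, b, hb, hub⟩
      -- the stabilizer is transitive on the rest
      have hcard2 : 2 ≤ Nat.card Ω := by omega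
      have hka1 : IsMultiplyPreprimitive (stabilizer G a) (SubMulAction.ofStabilizer G a) 1 := by
        apply isMultiplyPreprimitive_of_le _ _ hka hk
        rw [ENat.card_eq_coe_natCard, ENat.natCast_le_natCast]  
        exact hcarda
      haveI hprim : IsPreprimitive (stabilizer G a) (SubMulAction.ofStabilizer G a) :=
        (is_one_preprimitive_iff _ _).1 hka1
      have hfixa : fixedPoints (H.subgroupOf (stabilizer G a)) (SubMulAction.ofStabilizer G a) ≠
          Set.univ := by
        intro hfix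
        have hne : ∃ b : Ω, b ≠ a := by
          by_contra hcon
          have hall : ∀ b : Ω, b = a := fun b => by_contra (fun hb => hcon ⟨b, hb⟩)
          haveI : Subsingleton Ω := ⟨fun b c => by rw [hall b, hall c]⟩
          have := Finite.card_le_one_iff_subsingleton.2 this
          omega
        obtain ⟨b, hb⟩ := hne
        have hb' : (⟨b, (SubMulAction.mem_ofStabilizer_iff G a).2 hb⟩ :
            SubMulAction.ofStabilizer G a) ∈
            fixedPoints (H.subgroupOf (stabilizer G a)) (SubMulAction.ofStabilizer G a) := by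
          rw [hfix]; exact Set.mem_univ _
        have h1 := hb' ⟨⟨h₀, hh₀a⟩, Subgroup.mem_subgroupOf.2 hh₀H⟩
        have h2 : h₀ • b = b := congrArg Subtype.val h1
        exact hh₀1 (hF h₀ hh₀H hh₀a b hb h2)
      haveI : IsPretransitive (H.subgroupOf (stabilizer G a)) (SubMulAction.ofStabilizer G a) :=
        IsQuasiPreprimitive.isPretransitive_of_normal hfixa
      have hT : ∀ b c : Ω, b ≠ a → c ≠ a → ∃ u ∈ H, u • a = a ∧ u • b = c := by
        intro b c hb hc
        obtain ⟨g, hgb⟩ := exists_smul_eq (H.subgroupOf (stabilizer G a))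
          (⟨b, (SubMulAction.mem_ofStabilizer_iff G a).2 hb⟩ : SubMulAction.ofStabilizer G a)
          ⟨c, (SubMulAction.mem_ofStabilizer_iff G a).2 hc⟩
        exact ⟨g.1.1, Subgroup.mem_subgroupOf.1 g.2, g.1.2, congrArg Subtype.val hgb⟩
      rcases Nat.eq_or_lt_of_le hk with hk1e | hk2
      · -- k = 1
        subst hk1e
        apply jn_nt_succ H 1 a htr
        intro x y hx hy
        obtain ⟨u, huH, hua, hub⟩ := hT (x 0) (y 0) (hx 0) (hy 0)
        refine ⟨u, huH, hua, fun i => ?_⟩
        have : i = 0 := Subsingleton.elim _ _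
        rw [this]; exact hub
      · -- k ≥ 2: contradiction
        exfalso
        have hka2 : IsMultiplyPreprimitive (stabilizer G a) (SubMulAction.ofStabilizer G a) 2 := by
          apply isMultiplyPreprimitive_of_le _ _ hka hk2
          rw [ENat.card_eq_coe_natCard, ENat.natCast_le_natCast]
          exact hcarda
        obtain ⟨b₁, hb₁⟩ : ∃ b : Ω, b ≠ a := by
          by_contra hcon
          have hall : ∀ b : Ω, b = a := fun b => by_contra (fun hb => hcon ⟨b, hb⟩)
          haveI : Subsingleton Ω := ⟨fun b c => by rw [hall b, hall c]⟩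
          have := Finite.card_le_one_iff_subsingleton.2 this
          omega
        have hsmall : Nat.card Ω - 1 ≤ k + 1 → False := by
          intro hle
          apply hnf
          exact isMultiplyPretransitive_of_le (n := k + 1) hle hcard
        have hcase := jn_regular_two_prim hka2 (H.subgroupOf (stabilizer G a))
          (⟨b₁, (SubMulAction.mem_ofStabilizer_iff G a).2 hb₁⟩ : SubMulAction.ofStabilizer G a)
          (by
            intro r hr b hrb
            have h1 : (r : G) • (b : Ω) = (b : Ω) := congrArg Subtype.val hrb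
            have h2 := hF r.1 (Subgroup.mem_subgroupOf.1 hr) r.2 b.1
              ((SubMulAction.mem_ofStabilizer_iff G a).1 b.2) h1
            exact Subtype.ext h2)
        rcases hcase with hexp | hle3
        · by_cases h4 : 4 ≤ Nat.card Ω
          · apply jn_exceptional_contra (Ω := Ω) h4 H a htr hT
            · intro u hu hua
              have h1 := hexp ⟨u, hua⟩ (Subgroup.mem_subgroupOf.2 hu)
              exact congrArg Subtype.val h1
            · exact hF
          · exact hsmall (by omega)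
        · exact hsmall (by omega)

/-- Normal subgroups of multiply primitive groups. -/
theorem jordan_prim {α : Type*} [Fintype α] [DecidableEq α] (G : Subgroup (Equiv.Perm α))
    {k : ℕ} (hk : 1 ≤ k) (hkn : k ≤ Fintype.card α) (hG : IsMultiplyPreprimitive G α k)
    (htop : G ≠ ⊤) (H : Subgroup G) [H.Normal] (hH : H ≠ ⊥)
    (hnr : ∃ a : α, stabilizer H a ≠ ⊥) : IsMultiplyPretransitive H α k := by
  rw [← nt_iff]
  apply jordan_prim_aux k hk hG (by rw [Nat.card_eq_fintype_card]; exact hkn)
  · intro hcon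
    exact htop (Equiv.Perm.eq_top_of_isMultiplyPretransitive hcon)
  · obtain ⟨a, ha⟩ := hnr
    obtain ⟨h, hh1⟩ := (Subgroup.ne_bot_iff_exists_ne_one).1 ha
    refine ⟨h.1.1, h.1.2, ?_, a, ?_⟩
    · intro hc
      apply hh1
      apply Subtype.ext
      apply Subtype.ext
      exact hc
    · exact h.2

end Cfsg.Agent.Lib.Helper4
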