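import Mathlib.GroupTheory.PGroup
import Mathlib.GroupTheory.Sylow
import Mathlib.GroupTheory.GroupAction.ConjAct

set_option autoImplicit false

namespace Cfsg.Agent.Lib.Helper4

variable {P : Type*} [Group P]

/-- A nontrivial normal subgroup of a finite p-group meets the centre nontrivially. -/
theorem exists_ne_one_mem_center_of_normal [Finite P] {p : ℕ} [Fact p.Prime] (hP : IsPGroup p P)
    (N : Subgroup P) [hN : N.Normal] (hne : N ≠ ⊥) :
    ∃ x ∈ N, x ≠ 1 ∧ x ∈ Subgroup.center P := by
  have hfix := (hP.of_equiv ConjAct.toConjAct).exists_fixed_point_of_prime_dvd_card_of_fixed_point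
    (α := N)
  have hNp : IsPGroup p N := hP.to_subgroup N
  have hNnt : Nontrivial N := by
    rw [Subgroup.nontrivial_iff_ne_bot]; exact hne
  have dvd : p ∣ Nat.card N := by
    obtain ⟨n, hn0, hn⟩ := hNp.nontrivial_iff_card.mp hNnt
    exact hn.symm ▸ dvd_pow_self _ (ne_of_gt hn0)
  have h1 : (1 : N) ∈ MulAction.fixedPoints (ConjAct P) N := by
    intro g
    exact smul_one g
  obtain ⟨b, hb, hb1⟩ := hfix dvd h1
  refine ⟨b, b.2, ?_, ?_⟩
  · intro h
    apply hb1
    exact Subtype.ext h.symm
  · rw [Subgroup.mem_center_iff]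
    intro g
    have := hb (ConjAct.toConjAct g)
    have h2 : ((ConjAct.toConjAct g • b : N) : P) = (b : P) := congrArg Subtype.val this
    rw [ConjAct.Subgroup.val_conj_smul, ConjAct.toConjAct_smul] at h2
    calc g * (b : P) = (g * b * g⁻¹) * g := by group
      _ = b * g := by rw [h2]

end Cfsg.Agent.Lib.Helper4
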