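import Cfsg.Prelude.Def_ConjugacyFunctors
import Cfsg.Agent.Lib.Helper4.PGroupLemmas
import Mathlib

set_option autoImplicit false

namespace Cfsg.Agent.Lib.Helper4

open Cfsg
open scoped commutatorElement

/-- In a finite `p`-group `N` with normal subgroups `Z`, `C`, `C ≰ Z`, some element of `C` outside
`Z` is central modulo `Z`, together with all its powers. -/
theorem exists_central_mod {N : Type*} [Group N] [Finite N] {p : ℕ} [Fact p.Prime]
    (hN : IsPGroup p N) (Z C : Subgroup N) [hZ : Z.Normal] [hC : C.Normal] (hne : ¬ C ≤ Z) :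
    ∃ x ∈ C, x ∉ Z ∧ ∀ c ∈ Subgroup.zpowers x, ∀ n : N, c * n * c⁻¹ * n⁻¹ ∈ Z := by
  have hq : IsPGroup p (N ⧸ Z) := hN.to_quotient Z
  have hCn : (C.map (QuotientGroup.mk' Z)).Normal :=
    hC.map (QuotientGroup.mk' Z) (QuotientGroup.mk'_surjective Z)
  have hCne : C.map (QuotientGroup.mk' Z) ≠ ⊥ := by
    intro h
    rw [Subgroup.map_eq_bot_iff, QuotientGroup.ker_mk'] at h
    exact hne h
  obtain ⟨y, hyC, hy1, hycen⟩ := exists_ne_one_mem_center_of_normal hq _ hCne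
  obtain ⟨x, hxC, rfl⟩ := hyC
  refine ⟨x, hxC, ?_, ?_⟩
  · intro hxZ
    apply hy1
    exact (QuotientGroup.eq_one_iff x).2 hxZ
  · intro c hc n
    have hcen : (QuotientGroup.mk' Z) c ∈ Subgroup.center (N ⧸ Z) := by
      obtain ⟨k, rfl⟩ := Subgroup.mem_zpowers_iff.1 hc
      rw [map_zpow]
      exact Subgroup.zpow_mem _ hycen k
    rw [Subgroup.mem_center_iff] at hcen
    have h1 := hcen ((QuotientGroup.mk' Z) n)
    rw [← QuotientGroup.eq_one_iff]
    have h2 : ((c * n * c⁻¹ * n⁻¹ : N) : N ⧸ Z) =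
        (QuotientGroup.mk' Z) c * (QuotientGroup.mk' Z) n * ((QuotientGroup.mk' Z) c)⁻¹ *
          ((QuotientGroup.mk' Z) n)⁻¹ := by
      simp
    rw [h2, ← h1]
    group

variable {P : Type*} [Group P]

/-- If `C_P(B) ≰ B` in a finite `p`-group, there is `x ∈ C_P(B) \ B` all of whose powers
commute with `N_P(B)` modulo `Z(B)`. -/
theorem exists_centralizer_elt [Finite P] {p : ℕ} [Fact p.Prime] (hP : IsPGroup p P) (B : Subgroup P)
    (hne : ¬ Subgroup.centralizer (B : Set P) ≤ B) :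
    ∃ x ∈ Subgroup.centralizer (B : Set P), x ∉ B ∧ ∀ c ∈ Subgroup.zpowers x,
      ∀ n ∈ Subgroup.normalizer (B : Set P), c * n * c⁻¹ * n⁻¹ ∈ B ⊓ Subgroup.centralizer (B : Set P) := by
  set N : Subgroup P := Subgroup.normalizer (B : Set P) with hNdef
  set CB : Subgroup P := Subgroup.centralizer (B : Set P) with hCBdef
  have hCN : CB ≤ N := Subgroup.centralizer_le_normalizer _
  have hNp : IsPGroup p N := hP.to_subgroup N
  have hCn : (CB.subgroupOf N).Normal := Subgroup.normal_subgroupOf_centralizer_normalizer (B : Set P)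
  have hZn : ((B ⊓ CB).subgroupOf N).Normal := by
    rw [Subgroup.normal_subgroupOf_iff (inf_le_right.trans hCN)]
    intro z n hz hn
    refine ⟨?_, ?_⟩
    · exact (Subgroup.mem_normalizer_iff.1 hn z).1 hz.1
    · have := hCn.conj_mem ⟨z, hCN hz.2⟩ (by rw [Subgroup.mem_subgroupOf]; exact hz.2) ⟨n, hn⟩
      rw [Subgroup.mem_subgroupOf] at this
      simpa using this
  have hne' : ¬ CB.subgroupOf N ≤ (B ⊓ CB).subgroupOf N := by
    intro hle
    apply hne
    intro c hc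
    have : (⟨c, hCN hc⟩ : N) ∈ (B ⊓ CB).subgroupOf N := hle (by rw [Subgroup.mem_subgroupOf]; exact hc)
    rw [Subgroup.mem_subgroupOf] at this
    exact this.1
  obtain ⟨x, hxC, hxZ, hx⟩ := exists_central_mod hNp ((B ⊓ CB).subgroupOf N) (CB.subgroupOf N) hne'
  rw [Subgroup.mem_subgroupOf] at hxC hxZ
  refine ⟨(x : P), hxC, fun hxB => hxZ ⟨hxB, hxC⟩, ?_⟩
  intro c hc n hn
  obtain ⟨k, rfl⟩ := Subgroup.mem_zpowers_iff.1 hc
  have := hx (x ^ k) (Subgroup.zpow_mem_zpowers x k) ⟨n, hn⟩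
  rw [Subgroup.mem_subgroupOf] at this
  simpa using this

section Extend

/-- elements of `B ⊔ ⟨x⟩` for `x` centralizing `B`. -/
theorem mem_sup_zpowers {B : Subgroup P} {x : P} (hx : x ∈ Subgroup.centralizer (B : Set P)) {y : P}
    (hy : y ∈ B ⊔ Subgroup.zpowers x) : ∃ b ∈ B, ∃ c ∈ Subgroup.zpowers x, y = b * c := by
  have hcomm : ∀ c ∈ Subgroup.zpowers x, ∀ b ∈ B, b * c = c * b := by
    intro c hc b hb
    obtain ⟨k, rfl⟩ := Subgroup.mem_zpowers_iff.1 hc
    have := Subgroup.zpow_mem _ hx k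
    exact (Subgroup.mem_centralizer_iff.1 this) b hb
  let S : Subgroup P :=
    { carrier := {y | ∃ b ∈ B, ∃ c ∈ Subgroup.zpowers x, y = b * c}
      one_mem' := ⟨1, B.one_mem, 1, Subgroup.one_mem _, by simp⟩
      mul_mem' := by
        rintro _ _ ⟨b, hb, c, hc, rfl⟩ ⟨b', hb', c', hc', rfl⟩
        refine ⟨b * b', B.mul_mem hb hb', c * c', Subgroup.mul_mem _ hc hc', ?_⟩
        have := hcomm c hc b' hb'
        calc b * c * (b' * c') = b * (c * b') * c' := by group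
          _ = b * (b' * c) * c' := by rw [this]
          _ = b * b' * (c * c') := by group
      inv_mem' := by
        rintro _ ⟨b, hb, c, hc, rfl⟩
        refine ⟨b⁻¹, B.inv_mem hb, c⁻¹, Subgroup.inv_mem _ hc, ?_⟩
        have := hcomm c⁻¹ (Subgroup.inv_mem _ hc) b⁻¹ (B.inv_mem hb)
        rw [mul_inv_rev, this] }
  have hle : B ⊔ Subgroup.zpowers x ≤ S := by
    apply sup_le
    · intro b hb
      exact ⟨b, hb, 1, Subgroup.one_mem _, by simp⟩
    · intro c hc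
      exact ⟨1, B.one_mem, c, hc, by simp⟩
  exact hle hy

theorem zpowers_commute {B : Subgroup P} {x : P} (hx : x ∈ Subgroup.centralizer (B : Set P)) :
    ∀ c ∈ Subgroup.zpowers x, ∀ b ∈ B, b * c = c * b := by
  intro c hc b hb
  obtain ⟨k, rfl⟩ := Subgroup.mem_zpowers_iff.1 hc
  have := Subgroup.zpow_mem _ hx k
  exact (Subgroup.mem_centralizer_iff.1 this) b hb

theorem zpowers_comm (x : P) : ∀ c ∈ Subgroup.zpowers x, ∀ c' ∈ Subgroup.zpowers x, c * c' = c' * c := by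
  intro c hc c' hc'
  obtain ⟨k, rfl⟩ := Subgroup.mem_zpowers_iff.1 hc
  obtain ⟨k', rfl⟩ := Subgroup.mem_zpowers_iff.1 hc'
  rw [← zpow_add, ← zpow_add, add_comm]

theorem mem_centralizer_sup {B : Subgroup P} {x : P} (hx : x ∈ Subgroup.centralizer (B : Set P)) {z : P}
    (hzB : z ∈ Subgroup.centralizer (B : Set P)) (hzx : ∀ c ∈ Subgroup.zpowers x, c * z = z * c) :
    z ∈ Subgroup.centralizer ((B ⊔ Subgroup.zpowers x : Subgroup P) : Set P) := by
  rw [Subgroup.mem_centralizer_iff]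
  intro y hy
  obtain ⟨b, hb, c, hc, rfl⟩ := mem_sup_zpowers hx hy
  have h1 := (Subgroup.mem_centralizer_iff.1 hzB) b hb
  have h2 := hzx c hc
  calc b * c * z = b * (c * z) := by group
    _ = b * (z * c) := by rw [h2]
    _ = (b * z) * c := by group
    _ = (z * b) * c := by rw [h1]
    _ = z * (b * c) := by group

theorem center_le_center_sup {B : Subgroup P} {x : P} (hx : x ∈ Subgroup.centralizer (B : Set P)) :
    B ⊓ Subgroup.centralizer (B : Set P) ≤
      (B ⊔ Subgroup.zpowers x) ⊓ Subgroup.centralizer ((B ⊔ Subgroup.zpowers x : Subgroup P) : Set P) := by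
  rintro z ⟨hzB, hzC⟩
  refine ⟨(le_sup_left : B ≤ B ⊔ Subgroup.zpowers x) hzB, mem_centralizer_sup hx hzC ?_⟩
  intro c hc
  exact (zpowers_commute hx c hc z hzB).symm

theorem classTwo_sup {B : Subgroup P} {x : P} (hx : x ∈ Subgroup.centralizer (B : Set P))
    (hB : B ∈ classTwoSubgroups P) : B ⊔ Subgroup.zpowers x ∈ classTwoSubgroups P := by
  show ⁅B ⊔ Subgroup.zpowers x, B ⊔ Subgroup.zpowers x⁆ ≤
    Subgroup.centralizer ((B ⊔ Subgroup.zpowers x : Subgroup P) : Set P)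
  rw [Subgroup.commutator_le]
  intro y₁ hy₁ y₂ hy₂
  obtain ⟨b₁, hb₁, c₁, hc₁, rfl⟩ := mem_sup_zpowers hx hy₁
  obtain ⟨b₂, hb₂, c₂, hc₂, rfl⟩ := mem_sup_zpowers hx hy₂
  have e : ⁅b₁ * c₁, b₂ * c₂⁆ = ⁅b₁, b₂⁆ := by
    have k1 : Commute c₁ (b₂ * c₂) := by
      apply Commute.mul_right
      · exact (zpowers_commute hx c₁ hc₁ b₂ hb₂).symm
      · exact zpowers_comm x c₁ hc₁ c₂ hc₂
    have k2 : Commute b₁ c₂ := zpowers_commute hx c₂ hc₂ b₁ hb₁
    rw [commutatorElement_mul_left_eq_conj_mul, k1.commutator_eq,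
      commutatorElement_mul_right_eq_mul_conj, k2.commutator_eq]
    group
  rw [e]
  have hz : ⁅b₁, b₂⁆ ∈ ⁅B, B⁆ := Subgroup.commutator_mem_commutator hb₁ hb₂
  have hzC : ⁅b₁, b₂⁆ ∈ Subgroup.centralizer (B : Set P) := hB hz
  have hzB : ⁅b₁, b₂⁆ ∈ B := Subgroup.commutator_le_self B hz
  exact mem_centralizer_sup hx hzC (fun c hc => (zpowers_commute hx c hc _ hzB).symm)

theorem comm_sup_le {B : Subgroup P} {x : P} (hx : x ∈ Subgroup.centralizer (B : Set P)) (A : Subgroup P)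
    (hBA : ⁅B, A⁆ ≤ B ⊓ Subgroup.centralizer (B : Set P))
    (hxA : ∀ c ∈ Subgroup.zpowers x, ∀ a ∈ A, c * a * c⁻¹ * a⁻¹ ∈ B ⊓ Subgroup.centralizer (B : Set P)) :
    ⁅B ⊔ Subgroup.zpowers x, A⁆ ≤
      (B ⊔ Subgroup.zpowers x) ⊓ Subgroup.centralizer ((B ⊔ Subgroup.zpowers x : Subgroup P) : Set P) := by
  refine le_trans ?_ (center_le_center_sup hx)
  rw [Subgroup.commutator_le]
  intro y hy a ha
  obtain ⟨b, hb, c, hc, rfl⟩ := mem_sup_zpowers hx hy
  rw [commutatorElement_mul_left_eq_conj_mul]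
  have hz : ⁅c, a⁆ ∈ B ⊓ Subgroup.centralizer (B : Set P) := by
    rw [commutatorElement_def]; exact hxA c hc a ha
  have hz2 : b * ⁅c, a⁆ * b⁻¹ = ⁅c, a⁆ := by
    have := (Subgroup.mem_centralizer_iff.1 hz.2) b hb
    rw [this]; group
  rw [hz2]
  exact Subgroup.mul_mem _ hz (hBA (Subgroup.commutator_mem_commutator hb ha))

/-- A maximal subgroup of class at most two of a group contains its centralizer. -/
theorem classTwo_selfcent (B : Subgroup P) (hB : B ∈ classTwoSubgroups P)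
    (hmax : ∀ C ∈ classTwoSubgroups P, B ≤ C → C = B) : Subgroup.centralizer (B : Set P) ≤ B := by
  intro x hx
  have h1 := hmax _ (classTwo_sup hx hB) le_sup_left
  rw [← h1]
  exact (le_sup_right : Subgroup.zpowers x ≤ B ⊔ Subgroup.zpowers x) (Subgroup.mem_zpowers x)

theorem upper_selfcent [Finite P] {p : ℕ} [Fact p.Prime] (hP : IsPGroup p P) (Q B : Subgroup P)
    (hB : B ∈ kUpperStarFamily Q) (hmax : ∀ C ∈ kUpperStarFamily Q, B ≤ C → C = B) :
    Subgroup.centralizer (B : Set P) ≤ B := by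
  by_contra hne
  obtain ⟨x, hxC, hxB, hx⟩ := exists_centralizer_elt hP B hne
  obtain ⟨hB2, hBQ⟩ := hB
  have hQN : Q ≤ Subgroup.normalizer (B : Set P) :=
    Subgroup.le_normalizer_iff_commutator_le_left.2 (hBQ.trans inf_le_left)
  have hmem : B ⊔ Subgroup.zpowers x ∈ kUpperStarFamily Q :=
    ⟨classTwo_sup hxC hB2, comm_sup_le hxC Q hBQ (fun c hc q hq => hx c hc q (hQN hq))⟩
  have h1 := hmax _ hmem le_sup_left
  apply hxB
  rw [← h1]
  exact (le_sup_right : Subgroup.zpowers x ≤ B ⊔ Subgroup.zpowers x) (Subgroup.mem_zpowers x)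

theorem lower_selfcent [Finite P] {p : ℕ} [Fact p.Prime] (hP : IsPGroup p P) (Q B : Subgroup P)
    (hB : B ∈ kLowerStarFamily Q) (hmax : ∀ C ∈ kLowerStarFamily Q, B ≤ C → C = B) :
    Subgroup.centralizer (B : Set P) ≤ B := by
  by_contra hne
  obtain ⟨x, hxC, hxB, hx⟩ := exists_centralizer_elt hP B hne
  obtain ⟨hB2, hQN, hBA⟩ := hB
  have hQN' : Q ≤ Subgroup.normalizer ((B ⊔ Subgroup.zpowers x : Subgroup P) : Set P) := by
    rw [Subgroup.le_normalizer_iff]
    intro q hq y hy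
    obtain ⟨b, hb, c, hc, rfl⟩ := mem_sup_zpowers hxC hy
    have h1 : q * b * q⁻¹ ∈ B := (Subgroup.mem_normalizer_iff.1 (hQN hq) b).1 hb
    have h2 : c * q * c⁻¹ * q⁻¹ ∈ B := (hx c hc q (hQN hq)).1
    have h3 : q * c * q⁻¹ * c⁻¹ ∈ B := by
      have : q * c * q⁻¹ * c⁻¹ = (c * q * c⁻¹ * q⁻¹)⁻¹ := by group
      rw [this]; exact B.inv_mem h2
    have e : q * (b * c) * q⁻¹ = (q * b * q⁻¹) * (q * c * q⁻¹ * c⁻¹) * c := by group
    rw [e]
    exact Subgroup.mul_mem _ ((le_sup_left : B ≤ B ⊔ Subgroup.zpowers x) (B.mul_mem h1 h3))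
      ((le_sup_right : Subgroup.zpowers x ≤ B ⊔ Subgroup.zpowers x) hc)
  have hmem : B ⊔ Subgroup.zpowers x ∈ kLowerStarFamily Q := by
    refine ⟨classTwo_sup hxC hB2, hQN', ?_⟩
    intro A hA2 hAQ hBxA h1 h2
    have h1' : ⁅B, ⁅A, A⁆⁆ = ⊥ := by
      rw [eq_bot_iff, ← h1]
      exact Subgroup.commutator_mono le_sup_left le_rfl
    have h2' : ⁅⁅B ⊓ Subgroup.centralizer (B : Set P), A⁆, A⁆ = ⊥ := by
      rw [eq_bot_iff, ← h2]
      exact Subgroup.commutator_mono (Subgroup.commutator_mono (center_le_center_sup hxC) le_rfl) le_rfl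
    have h3 := hBA A hA2 hAQ (le_sup_left.trans hBxA) h1' h2'
    exact comm_sup_le hxC A h3 (fun c hc a ha => hx c hc a (hQN (hAQ ha)))
  have h1 := hmax _ hmem le_sup_left
  apply hxB
  rw [← h1]
  exact (le_sup_right : Subgroup.zpowers x ≤ B ⊔ Subgroup.zpowers x) (Subgroup.mem_zpowers x)

end Extend

end Cfsg.Agent.Lib.Helper4
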