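import Cfsg.Prelude.Def_ConjugacyFunctors

set_option autoImplicit false

namespace Cfsg.Agent.Lib.Helper4

open Cfsg

variable {P : Type*} [Group P]

theorem le_centralizer_of_isMulCommutative (A : Subgroup P) (hA : IsMulCommutative ↥A) :
    A ≤ Subgroup.centralizer (A : Set P) := by
  intro a ha
  rw [Subgroup.mem_centralizer_iff]
  intro b hb
  have := hA.is_comm.comm (⟨b, hb⟩ : A) ⟨a, ha⟩
  exact congrArg Subtype.val this

theorem commutator_self_eq_bot_of_isMulCommutative (A : Subgroup P) (hA : IsMulCommutative ↥A) :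
    ⁅A, A⁆ = ⊥ := by
  rw [Subgroup.commutator_eq_bot_iff_le_centralizer]
  exact le_centralizer_of_isMulCommutative A hA

theorem abelian_mem_classTwo (A : Subgroup P) (hA : IsMulCommutative ↥A) :
    A ∈ classTwoSubgroups P := by
  show ⁅A, A⁆ ≤ Subgroup.centralizer (A : Set P)
  rw [commutator_self_eq_bot_of_isMulCommutative A hA]
  exact bot_le

theorem abelian_normal_mem_upper (A : Subgroup P) [A.Normal] (hA : IsMulCommutative ↥A)
    (Q : Subgroup P) : A ∈ kUpperStarFamily Q := by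
  refine ⟨abelian_mem_classTwo A hA, ?_⟩
  exact le_inf (Subgroup.commutator_le_left A Q) ((Subgroup.commutator_le_left A Q).trans
    (le_centralizer_of_isMulCommutative A hA))

theorem abelian_normal_mem_lower (A : Subgroup P) [A.Normal] (hA : IsMulCommutative ↥A)
    (Q : Subgroup P) : A ∈ kLowerStarFamily Q := by
  refine ⟨abelian_mem_classTwo A hA, ?_, ?_⟩
  · rw [Subgroup.normalizer_eq_top]; exact le_top
  · intro B _ _ _ _ _
    exact le_inf (Subgroup.commutator_le_left A B) ((Subgroup.commutator_le_left A B).trans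
      (le_centralizer_of_isMulCommutative A hA))

theorem kUpperStarFamily_anti {Q Q' : Subgroup P} (h : Q ≤ Q') :
    kUpperStarFamily Q' ⊆ kUpperStarFamily Q := by
  rintro B ⟨h1, h2⟩
  exact ⟨h1, (Subgroup.commutator_mono le_rfl h).trans h2⟩

theorem kLowerStarFamily_anti {Q Q' : Subgroup P} (h : Q ≤ Q') :
    kLowerStarFamily Q' ⊆ kLowerStarFamily Q := by
  rintro B ⟨h1, h2, h3⟩
  exact ⟨h1, h.trans h2, fun A hA hAQ => h3 A hA (hAQ.trans h)⟩

theorem sSup_upper_anti {Q Q' : Subgroup P} (h : Q ≤ Q') :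
    sSup (kUpperStarFamily Q') ≤ sSup (kUpperStarFamily Q) :=
  sSup_le_sSup (kUpperStarFamily_anti h)

theorem sSup_lower_anti {Q Q' : Subgroup P} (h : Q ≤ Q') :
    sSup (kLowerStarFamily Q') ≤ sSup (kLowerStarFamily Q) :=
  sSup_le_sSup (kLowerStarFamily_anti h)

theorem kSeqOdd_succ (n : ℕ) :
    kSeqOdd P (n + 1) = sSup (kUpperStarFamily (sSup (kLowerStarFamily (kSeqOdd P n)))) := rfl

theorem kSeqOdd_zero : kSeqOdd P 0 = ⊤ := rfl

theorem kSeqOdd_succ_le (n : ℕ) : kSeqOdd P (n + 1) ≤ kSeqOdd P n := by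
  induction n with
  | zero => rw [kSeqOdd_zero]; exact le_top
  | succ n ih =>
    rw [kSeqOdd_succ (n + 1), kSeqOdd_succ n]
    exact sSup_upper_anti (sSup_lower_anti ih)

theorem kSeqEven_le_succ (n : ℕ) : kSeqEven P n ≤ kSeqEven P (n + 1) :=
  sSup_lower_anti (kSeqOdd_succ_le n)

theorem kSeqOdd_antitone : Antitone (kSeqOdd P) := antitone_nat_of_succ_le kSeqOdd_succ_le

theorem kSeqEven_monotone : Monotone (kSeqEven P) := monotone_nat_of_le_succ kSeqEven_le_succ

end Cfsg.Agent.Lib.Helper4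

namespace Cfsg.Agent.Lib.Helper4

open Cfsg

theorem kSeq_eventually_const {P : Type*} [Group P] [Finite P] :
    ∃ n : ℕ, ∀ m : ℕ, n ≤ m → kSeqEven P m = kInfLower P ∧ kSeqOdd P m = kInfUpper P := by
  obtain ⟨n₁, h₁⟩ := WellFoundedGT.monotone_chain_condition
    (⟨kSeqEven P, kSeqEven_monotone⟩ : ℕ →o Subgroup P)
  obtain ⟨n₂, h₂⟩ := WellFoundedLT.antitone_chain_condition (kSeqOdd_antitone (P := P))
  refine ⟨max n₁ n₂, fun m hm => ⟨?_, ?_⟩⟩
  · have hm1 : n₁ ≤ m := (le_max_left _ _).trans hm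
    apply le_antisymm
    · exact le_iSup (kSeqEven P) m
    · apply iSup_le
      intro k
      rcases le_total k m with hk | hk
      · exact kSeqEven_monotone hk
      · have e1 : kSeqEven P n₁ = kSeqEven P m := h₁ m hm1
        have e2 : kSeqEven P n₁ = kSeqEven P k := h₁ k (hm1.trans hk)
        rw [← e2, e1]
  · have hm2 : n₂ ≤ m := (le_max_right _ _).trans hm
    apply le_antisymm
    · apply le_iInf
      intro k
      rcases le_total k m with hk | hk
      · exact kSeqOdd_antitone hk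
      · have e1 : kSeqOdd P n₂ = kSeqOdd P m := h₂ m hm2
        have e2 : kSeqOdd P n₂ = kSeqOdd P k := h₂ k (hm2.trans hk)
        rw [← e1, e2]
    · exact iInf_le (kSeqOdd P) m

theorem kInf_eq_top_of_gen {P : Type*} [Group P]
    (hgen : ⨆ A ∈ {A : Subgroup P | A.Normal ∧ IsMulCommutative ↥A}, A = ⊤) :
    kInfLower P = ⊤ ∧ kInfUpper P = ⊤ := by
  have hE : ∀ n, kSeqEven P n = ⊤ := by
    intro n
    rw [eq_top_iff, ← hgen]
    apply iSup₂_le
    rintro A ⟨hAn, hAc⟩
    exact le_sSup (abelian_normal_mem_lower A hAc _)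
  have hO : ∀ n, kSeqOdd P n = ⊤ := by
    intro n
    cases n with
    | zero => rfl
    | succ n =>
      rw [eq_top_iff, ← hgen]
      apply iSup₂_le
      rintro A ⟨hAn, hAc⟩
      exact le_sSup (abelian_normal_mem_upper A hAc _)
  constructor
  · rw [eq_top_iff]
    exact (hE 0).ge.trans (le_iSup (kSeqEven P) 0)
  · rw [eq_top_iff]
    apply le_iInf
    intro n
    exact (hO n).ge

end Cfsg.Agent.Lib.Helper4
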