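import Cfsg.Prelude.Def_ConjugacyFunctors
import Mathlib

set_option autoImplicit false

namespace Cfsg.Agent.Lib.Helper4

open Cfsg

variable {H G : Type*} [Group H] [Group G] {f : H →* G}

theorem map_center_eq (hf : Function.Injective f) (B' : Subgroup H) :
    (B' ⊓ Subgroup.centralizer (B' : Set H)).map f =
      B'.map f ⊓ Subgroup.centralizer ((B'.map f : Subgroup G) : Set G) := by
  ext z
  constructor
  · rintro ⟨z', ⟨hz'B, hz'C⟩, rfl⟩
    refine ⟨Subgroup.mem_map_of_mem f hz'B, ?_⟩
    replace hz'C : z' ∈ Subgroup.centralizer (B' : Set H) := hz'C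
    show f z' ∈ Subgroup.centralizer ((B'.map f : Subgroup G) : Set G)
    rw [Subgroup.mem_centralizer_iff]
    rintro _ ⟨b', hb', rfl⟩
    rw [← map_mul, ← map_mul, (Subgroup.mem_centralizer_iff.1 hz'C) b' hb']
  · rintro ⟨⟨z', hz', rfl⟩, hzC⟩
    refine ⟨z', ⟨hz', ?_⟩, rfl⟩
    replace hzC : f z' ∈ Subgroup.centralizer ((B'.map f : Subgroup G) : Set G) := hzC
    show z' ∈ Subgroup.centralizer (B' : Set H)
    rw [Subgroup.mem_centralizer_iff]
    intro b' hb'
    apply hf
    rw [map_mul, map_mul]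
    exact (Subgroup.mem_centralizer_iff.1 hzC) (f b') (Subgroup.mem_map_of_mem f hb')

theorem classTwo_iff (B : Subgroup G) : B ∈ classTwoSubgroups G ↔ ⁅⁅B, B⁆, B⁆ = ⊥ :=
  Subgroup.commutator_eq_bot_iff_le_centralizer.symm

theorem classTwo_map_iff (hf : Function.Injective f) (B' : Subgroup H) :
    B'.map f ∈ classTwoSubgroups G ↔ B' ∈ classTwoSubgroups H := by
  rw [classTwo_iff, classTwo_iff, ← Subgroup.map_commutator, ← Subgroup.map_commutator,
    Subgroup.map_eq_bot_iff_of_injective _ hf]

theorem le_center_map_iff (hf : Function.Injective f) (X' B' : Subgroup H) :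
    X'.map f ≤ B'.map f ⊓ Subgroup.centralizer ((B'.map f : Subgroup G) : Set G) ↔
      X' ≤ B' ⊓ Subgroup.centralizer (B' : Set H) := by
  rw [← map_center_eq hf, Subgroup.map_le_map_iff_of_injective hf]

theorem le_normalizer_map_iff (hf : Function.Injective f) (R' B' : Subgroup H) :
    R'.map f ≤ Subgroup.normalizer ((B'.map f : Subgroup G) : Set G) ↔
      R' ≤ Subgroup.normalizer (B' : Set H) := by
  rw [Subgroup.le_normalizer_iff_commutator_le_left, Subgroup.le_normalizer_iff_commutator_le_left,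
    ← Subgroup.map_commutator, Subgroup.map_le_map_iff_of_injective hf]

theorem upper_map_iff (hf : Function.Injective f) (Q' B' : Subgroup H) :
    B'.map f ∈ kUpperStarFamily (Q'.map f) ↔ B' ∈ kUpperStarFamily Q' := by
  show (B'.map f ∈ classTwoSubgroups G ∧ ⁅B'.map f, Q'.map f⁆ ≤ _) ↔
    (B' ∈ classTwoSubgroups H ∧ ⁅B', Q'⁆ ≤ _)
  rw [classTwo_map_iff hf, ← Subgroup.map_commutator, le_center_map_iff hf]

theorem lower_map_iff (hf : Function.Injective f) (R' B' : Subgroup H) :
    B'.map f ∈ kLowerStarFamily (R'.map f) ↔ B' ∈ kLowerStarFamily R' := by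
  constructor
  · rintro ⟨h1, h2, h3⟩
    refine ⟨(classTwo_map_iff hf B').1 h1, (le_normalizer_map_iff hf R' B').1 h2, ?_⟩
    intro A' hA' hA'R hBA' hc1 hc2
    have := h3 (A'.map f) ((classTwo_map_iff hf A').2 hA') (Subgroup.map_mono hA'R)
      ((le_normalizer_map_iff hf B' A').2 hBA')
      (by rw [← Subgroup.map_commutator, ← Subgroup.map_commutator, hc1, Subgroup.map_bot])
      (by rw [← map_center_eq hf, ← Subgroup.map_commutator, ← Subgroup.map_commutator, hc2,
        Subgroup.map_bot])
    rw [← Subgroup.map_commutator, le_center_map_iff hf] at this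
    exact this
  · rintro ⟨h1, h2, h3⟩
    refine ⟨(classTwo_map_iff hf B').2 h1, (le_normalizer_map_iff hf R' B').2 h2, ?_⟩
    intro A hA hAR hBA hc1 hc2
    have hArange : A ≤ f.range := hAR.trans (Subgroup.map_le_range f R')
    obtain ⟨A', rfl⟩ : ∃ A' : Subgroup H, A = A'.map f := ⟨A.comap f, (Subgroup.map_comap_eq_self hArange).symm⟩
    rw [← Subgroup.map_commutator, le_center_map_iff hf]
    apply h3 A' ((classTwo_map_iff hf A').1 hA) ((Subgroup.map_le_map_iff_of_injective hf).1 hAR)
      ((le_normalizer_map_iff hf B' A').1 hBA)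
    · rw [← Subgroup.map_commutator, ← Subgroup.map_commutator,
        Subgroup.map_eq_bot_iff_of_injective _ hf] at hc1
      exact hc1
    · rw [← map_center_eq hf, ← Subgroup.map_commutator, ← Subgroup.map_commutator,
        Subgroup.map_eq_bot_iff_of_injective _ hf] at hc2
      exact hc2

end Cfsg.Agent.Lib.Helper4
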