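import Cfsg.Agent.Lib.Helper4.NormTrick

set_option autoImplicit false

namespace Cfsg.Agent.Lib.Helper4

/-- Group-theoretic form of the norm trick: `X` an abelian normal subgroup, `y₁, y₂` commuting
modulo `X`, such that each of `y₁`, `y₂ * y₁ ^ k` has `r`-th power in `X` and fixed points on
`X` inside `Zs`, where `y₂` centralizes `Zs`.  Then `X ^ r ≤ Zs`. -/
theorem norm_trick_group {N : Type*} [Group N] (X : Subgroup N) [hXn : X.Normal]
    (habel : ∀ c ∈ X, ∀ d ∈ X, c * d = d * c) (Zs : Subgroup N) (r : ℕ) (hr : r.Prime)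
    (y₁ y₂ : N) (hcomm : y₁ * y₂ * y₁⁻¹ * y₂⁻¹ ∈ X)
    (hfix : ∀ g : N, (g = y₁ ∨ ∃ k : ℕ, g = y₂ * y₁ ^ k) →
      (g ^ r ∈ X ∧ ∀ c ∈ X, c * g = g * c → c ∈ Zs))
    (hZ : ∀ z ∈ Zs, y₂ * z = z * y₂) : ∀ a ∈ X, a ^ r ∈ Zs := by
  classical
  intro x hx
  letI : CommGroup X := { (inferInstance : Group X) with
    mul_comm := fun c d => Subtype.ext (habel c c.2 d d.2) }
  let κ : N → AddMonoid.End (Additive X) := fun g =>
    MonoidHom.toAdditive ((MulAut.conjNormal g : MulAut X).toMonoidHom)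
  have κ_val : ∀ (g : N) (m : Additive X),
      ((Additive.toMul (κ g m) : X) : N) = g * ((Additive.toMul m : X) : N) * g⁻¹ := by
    intro g m
    exact MulAut.conjNormal_apply g (Additive.toMul m)
  have κ_ext : ∀ f h : AddMonoid.End (Additive X),
      (∀ m, ((Additive.toMul (f m) : X) : N) = ((Additive.toMul (h m) : X) : N)) → f = h := by
    intro f h hfh
    apply AddMonoidHom.ext
    intro m
    have := hfh m
    exact Additive.toMul.injective (Subtype.ext this)
  have κ_mul : ∀ g h : N, κ (g * h) = κ g * κ h := by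
    intro g h
    apply κ_ext
    intro m
    show _ = ((Additive.toMul (κ g (κ h m)) : X) : N)
    rw [κ_val, κ_val, κ_val]
    group
  have κ_one_of_mem : ∀ g ∈ X, κ g = 1 := by
    intro g hg
    apply κ_ext
    intro m
    show _ = ((Additive.toMul m : X) : N)
    rw [κ_val, habel g hg _ (Additive.toMul m : X).2]
    group
  have κ_pow : ∀ (g : N) (n : ℕ), κ g ^ n = κ (g ^ n) := by
    intro g n
    induction n with
    | zero => rw [pow_zero, pow_zero]; exact (κ_one_of_mem 1 (Subgroup.one_mem _)).symm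
    | succ n ih => rw [pow_succ, pow_succ, κ_mul, ih]
  have hs : κ y₁ ^ r = 1 := by
    rw [κ_pow]; exact κ_one_of_mem _ (hfix y₁ (Or.inl rfl)).1
  have hst : Commute (κ y₁) (κ y₂) := by
    show κ y₁ * κ y₂ = κ y₂ * κ y₁
    rw [← κ_mul, ← κ_mul]
    have e : y₁ * y₂ = (y₁ * y₂ * y₁⁻¹ * y₂⁻¹) * (y₂ * y₁) := by group
    rw [e, κ_mul, κ_one_of_mem _ hcomm, one_mul]
  let Zt : AddSubgroup (Additive X) :=
    { carrier := {m | ((Additive.toMul m : X) : N) ∈ Zs}
      zero_mem' := by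
        show ((Additive.toMul (0 : Additive X) : X) : N) ∈ Zs
        rw [toMul_zero, Subgroup.coe_one]
        exact Subgroup.one_mem _
      add_mem' := fun {a b} ha hb => by
        show ((Additive.toMul (a + b) : X) : N) ∈ Zs
        rw [toMul_add, Subgroup.coe_mul]
        exact Subgroup.mul_mem _ ha hb
      neg_mem' := fun {a} ha => by
        show ((Additive.toMul (-a) : X) : N) ∈ Zs
        rw [toMul_neg, Subgroup.coe_inv]
        exact Subgroup.inv_mem _ ha }
  have hZt : ∀ m, m ∈ Zt ↔ ((Additive.toMul m : X) : N) ∈ Zs := fun m => Iff.rfl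
  have hgen : ∀ g : N, (g = y₁ ∨ ∃ k : ℕ, g = y₂ * y₁ ^ k) →
      ∀ m, (∑ i ∈ Finset.range r, κ g ^ i) m ∈ Zt := by
    intro g hg m
    have hgp : κ g ^ r = 1 := by
      rw [κ_pow]; exact κ_one_of_mem _ (hfix g hg).1
    have h1 : (κ g - 1) * ∑ i ∈ Finset.range r, κ g ^ i = 0 := by
      rw [mul_geom_sum, hgp, sub_self]
    have h2 : κ g * ∑ i ∈ Finset.range r, κ g ^ i = ∑ i ∈ Finset.range r, κ g ^ i := by
      rw [sub_mul, one_mul, sub_eq_zero] at h1; exact h1
    have h3 : κ g ((∑ i ∈ Finset.range r, κ g ^ i) m) = (∑ i ∈ Finset.range r, κ g ^ i) m := by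
      conv_rhs => rw [← h2]
      rfl
    rw [hZt]
    have h4 := κ_val g ((∑ i ∈ Finset.range r, κ g ^ i) m)
    rw [h3] at h4
    apply (hfix g hg).2 _ (Additive.toMul ((∑ i ∈ Finset.range r, κ g ^ i) m)).2
    set c : N := ((Additive.toMul ((∑ i ∈ Finset.range r, κ g ^ i) m) : X) : N) with hc
    calc c * g = (g * c * g⁻¹) * g := by rw [← h4]
      _ = g * c := by group
  have h2 : ∀ k, ∀ m, (∑ i ∈ Finset.range r, (κ y₂ * κ y₁ ^ k) ^ i) m ∈ Zt := by
    intro k m
    have e : κ y₂ * κ y₁ ^ k = κ (y₂ * y₁ ^ k) := by rw [κ_pow, κ_mul]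
    rw [e]
    exact hgen _ (Or.inr ⟨k, rfl⟩) m
  have h3 : ∀ z ∈ Zt, κ y₂ z = z := by
    intro z hz
    rw [hZt] at hz
    apply Additive.toMul.injective
    apply Subtype.ext
    rw [κ_val, hZ _ hz]
    group
  have hfin := norm_trick r hr (κ y₁) (κ y₂) hst hs Zt (hgen y₁ (Or.inl rfl)) h2 h3
    (Additive.ofMul (⟨x, hx⟩ : X))
  rw [hZt] at hfin
  have e : ((Additive.toMul (r • Additive.ofMul (⟨x, hx⟩ : X)) : X) : N) = x ^ r := by
    rw [toMul_nsmul, toMul_ofMul, Subgroup.coe_pow]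
  rw [e] at hfin
  exact hfin

end Cfsg.Agent.Lib.Helper4
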