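import Cfsg.Agent.S4365
import Cfsg.Agent.Lib.Helper4.NormTrick2
import Cfsg.Agent.Lib.Helper2.Index

set_option autoImplicit false
set_option linter.unusedSectionVars false

namespace Cfsg.Agent.Lib.Helper4

open Cfsg.Agent.S4365

section basic
variable {G : Type*} [Group G]

/-- an element of `r`-power order -/
def IsRel (r : ℕ) (g : G) : Prop := ∃ k : ℕ, g ^ (r ^ k) = 1

theorem IsRel.zpow {r : ℕ} {g : G} (h : IsRel r g) (j : ℤ) : IsRel r (g ^ j) := by
  obtain ⟨k, hk⟩ := h
  refine ⟨k, ?_⟩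
  rw [← zpow_natCast, ← zpow_mul, mul_comm, zpow_mul, zpow_natCast, hk, one_zpow]

theorem IsRel.conj {r : ℕ} {g : G} (h : IsRel r g) (x : G) : IsRel r (x * g * x⁻¹) := by
  obtain ⟨k, hk⟩ := h
  refine ⟨k, ?_⟩
  rw [conj_pow, hk, mul_one, mul_inv_cancel]

theorem cz_le_of_mem_zpowers {g x : G} (hx : x ∈ Subgroup.zpowers g) : cz g ≤ cz x := by
  obtain ⟨j, rfl⟩ := Subgroup.mem_zpowers_iff.1 hx
  intro k hk
  rw [mem_cz] at hk ⊢
  exact (Commute.zpow_right (show Commute k g from hk) j)

theorem central_of_mem_zpowers {g x : G} (hx : x ∈ Subgroup.zpowers g)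
    (hg : g ∈ Subgroup.center G) : x ∈ Subgroup.center G := by
  obtain ⟨j, rfl⟩ := Subgroup.mem_zpowers_iff.1 hx
  exact Subgroup.zpow_mem _ hg j

/-- For commuting elements of coprime orders, each is a power of the product. -/
theorem mem_zpowers_mul_of_coprime {x y : G} (hxy : x * y = y * x)
    (hcop : (orderOf x).Coprime (orderOf y)) : x ∈ Subgroup.zpowers (x * y) := by
  have hb : (x * y) ^ (orderOf y) = x ^ (orderOf y) := by
    rw [(show Commute x y from hxy).mul_pow, pow_orderOf_eq_one, mul_one]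
  have hbez := Int.gcd_eq_gcd_ab (orderOf x) (orderOf y)
  rw [Int.gcd_natCast_natCast, hcop.gcd_eq_one] at hbez
  rw [Subgroup.mem_zpowers_iff]
  refine ⟨(orderOf y : ℤ) * Int.gcdB (orderOf x) (orderOf y), ?_⟩
  rw [zpow_mul, zpow_natCast, hb]
  have h1 : x = x ^ ((orderOf x : ℤ) * Int.gcdA (orderOf x) (orderOf y) +
      (orderOf y : ℤ) * Int.gcdB (orderOf x) (orderOf y)) := by
    rw [← hbez]; simp
  conv_rhs => rw [h1]
  rw [zpow_add, zpow_mul, zpow_natCast, pow_orderOf_eq_one, one_zpow, one_mul, zpow_mul,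
    zpow_natCast]

theorem orderOf_dvd_of_isRel {r : ℕ} {g : G} (h : IsRel r g) : ∃ k, orderOf g ∣ r ^ k := by
  obtain ⟨k, hk⟩ := h
  exact ⟨k, orderOf_dvd_of_pow_eq_one hk⟩

theorem coprime_orderOf_of_isRel {r s : ℕ} (hr : r.Prime) (hs : s.Prime) (hrs : r ≠ s) {x y : G}
    (hx : IsRel r x) (hy : IsRel s y) : (orderOf x).Coprime (orderOf y) := by
  obtain ⟨k, hk⟩ := orderOf_dvd_of_isRel hx
  obtain ⟨l, hl⟩ := orderOf_dvd_of_isRel hy
  have : (r ^ k).Coprime (s ^ l) :=
    Nat.Coprime.pow k l ((Nat.coprime_primes hr hs).2 hrs)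
  exact Nat.Coprime.coprime_dvd_left hk (Nat.Coprime.coprime_dvd_right hl this)

end basic

section fin
variable {G : Type*} [Group G] [Finite G]

/-- decomposition of an element into its `r`-part and `r'`-part. -/
theorem exists_r_decomp (r : ℕ) (hr : r.Prime) (g : G) :
    ∃ a ∈ Subgroup.zpowers g, ∃ b ∈ Subgroup.zpowers g, g = a * b ∧ IsRel r a ∧
      (orderOf b).Coprime r ∧ (r ∣ orderOf g → orderOf b < orderOf g) := by
  have ho : orderOf g ≠ 0 := (orderOf_pos g).ne'
  obtain ⟨e, m, hm, hom⟩ := Nat.exists_eq_pow_mul_and_not_dvd ho r hr.ne_one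
  have hcop0 : (r ^ e).Coprime m := Nat.Coprime.pow_left e ((Nat.Prime.coprime_iff_not_dvd hr).2 hm)
  obtain ⟨q, hq⟩ : ∃ q : ℕ, q = r ^ e := ⟨_, rfl⟩
  rw [← hq] at hcop0 hom
  have hbez := Nat.gcd_eq_gcd_ab q m
  rw [hcop0.gcd_eq_one] at hbez
  set u := Nat.gcdA q m
  set v := Nat.gcdB q m
  have hbm : (g ^ ((q : ℤ) * u)) ^ m = 1 := by
    rw [← zpow_natCast, ← zpow_mul]
    have : (q : ℤ) * u * (m : ℤ) = ((orderOf g : ℕ) : ℤ) * u := by
      rw [hom]; push_cast; ring
    rw [this, zpow_mul, zpow_natCast, pow_orderOf_eq_one, one_zpow]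
  have hdvd : orderOf (g ^ ((q : ℤ) * u)) ∣ m := orderOf_dvd_of_pow_eq_one hbm
  refine ⟨g ^ ((m : ℤ) * v), Subgroup.zpow_mem_zpowers g _, g ^ ((q : ℤ) * u),
    Subgroup.zpow_mem_zpowers g _, ?_, ?_, ?_, ?_⟩
  · rw [← zpow_add, add_comm, ← hbez]; simp
  · refine ⟨e, ?_⟩
    rw [← hq, ← zpow_natCast, ← zpow_mul]
    have : (m : ℤ) * v * (q : ℤ) = ((orderOf g : ℕ) : ℤ) * v := by
      rw [hom]; push_cast; ring
    rw [this, zpow_mul, zpow_natCast, pow_orderOf_eq_one, one_zpow]
  · exact Nat.Coprime.coprime_dvd_left hdvd ((Nat.Prime.coprime_iff_not_dvd hr).2 hm).symm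
  · intro hrd
    have hmpos : 0 < m := by
      rcases Nat.eq_zero_or_pos m with h0 | h0
      · rw [h0, mul_zero] at hom; exact absurd hom ho
      · exact h0
    have he : 1 ≤ e := by
      by_contra he0
      have : e = 0 := by omega
      rw [this, pow_zero] at hq
      rw [hq, one_mul] at hom
      rw [hom] at hrd
      exact hm hrd
    have hlt : m < orderOf g := by
      rw [hom]
      have : 2 ≤ q := by
        rw [hq]
        calc 2 ≤ r := hr.two_le
          _ = r ^ 1 := (pow_one r).symm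
          _ ≤ r ^ e := Nat.pow_le_pow_right hr.pos he
      nlinarith
    exact lt_of_le_of_lt (Nat.le_of_dvd hmpos hdvd) hlt

/-- a noncentral element has a noncentral power of prime power order. -/
theorem exists_noncentral_rel (g : G) (hg : g ∉ Subgroup.center G) :
    ∃ r : ℕ, r.Prime ∧ ∃ w ∈ Subgroup.zpowers g, w ∉ Subgroup.center G ∧ IsRel r w := by
  induction' hn : orderOf g using Nat.strong_induction_on with n ih generalizing g
  have hne : orderOf g ≠ 1 := by
    intro h1
    rw [orderOf_eq_one_iff] at h1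
    rw [h1] at hg
    exact hg (Subgroup.one_mem _)
  obtain ⟨r, hr, hrd⟩ := Nat.exists_prime_and_dvd hne
  obtain ⟨a, ha, b, hb, hab, hra, -, hlt⟩ := exists_r_decomp r hr g
  by_cases hac : a ∈ Subgroup.center G
  · have hbc : b ∉ Subgroup.center G := by
      intro hbc
      apply hg
      rw [hab]
      exact Subgroup.mul_mem _ hac hbc
    obtain ⟨r', hr', w, hw, hwc, hwr⟩ := ih (orderOf b) (hn ▸ hlt hrd) b hbc rfl
    exact ⟨r', hr', w, (Subgroup.zpowers_le.2 hb) hw, hwc, hwr⟩
  · exact ⟨r, hr, a, ha, hac, hra⟩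

variable {n : ℕ} (hd : ∀ g : G, (cz g).index = 1 ∨ (cz g).index = n)
include hd

/-- commuting noncentral elements of coprime orders have the same centralizer. -/
theorem cz_eq_of_commute_coprime {x y : G} (hx : x ∉ Subgroup.center G)
    (hxy : x * y = y * x) (hcop : (orderOf x).Coprime (orderOf y)) :
    cz x = cz (x * y) ∧ cz (x * y) ≤ cz y := by
  have h1 := mem_zpowers_mul_of_coprime hxy hcop
  have h2 : y ∈ Subgroup.zpowers (x * y) := by
    have := mem_zpowers_mul_of_coprime hxy.symm hcop.symm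
    rwa [← hxy] at this
  have hxyc : x * y ∉ Subgroup.center G := fun h => hx (central_of_mem_zpowers h1 h)
  exact ⟨(cz_eq_of_le hd hxyc hx (cz_le_of_mem_zpowers h1)).symm, cz_le_of_mem_zpowers h2⟩

/-- (S3): elements of the centralizer of coprime order are central in the centralizer. -/
theorem commute_of_coprime {w y : G} (hw : w ∉ Subgroup.center G) (hy : y ∈ cz w)
    (hcop : (orderOf w).Coprime (orderOf y)) : ∀ c ∈ cz w, c * y = y * c := by
  have hwy : w * y = y * w := (mem_cz.1 hy).symm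
  obtain ⟨h1, h2⟩ := cz_eq_of_commute_coprime hd hw hwy hcop
  intro c hc
  rw [h1] at hc
  exact mem_cz.1 (h2 hc)

/-- (B0) -/
theorem cz_abelian_of_two {r r' : ℕ} (hr : r.Prime) (hr' : r'.Prime) (hne : r ≠ r')
    {w t : G} (hw : w ∉ Subgroup.center G) (hwr : IsRel r w) (ht : t ∉ Subgroup.center G)
    (htr : IsRel r' t) (htw : t ∈ cz w) : ∀ c ∈ cz w, ∀ d ∈ cz w, c * d = d * c := by
  have hcop : (orderOf w).Coprime (orderOf t) := coprime_orderOf_of_isRel hr hr' hne hwr htr
  have hwt : w * t = t * w := (mem_cz.1 htw).symm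
  obtain ⟨h1, h2⟩ := cz_eq_of_commute_coprime hd hw hwt hcop
  have h3 : cz w = cz t := by
    rw [h1]
    have hwtc : w * t ∉ Subgroup.center G := by
      intro h
      exact hw (central_of_mem_zpowers (mem_zpowers_mul_of_coprime hwt hcop) h)
    exact cz_eq_of_le hd hwtc ht h2
  intro c hc d hd'
  obtain ⟨a, ha, b, hb, hab, hra, hbcop, -⟩ := exists_r_decomp r hr c
  have haC : a ∈ cz w := (Subgroup.zpowers_le.2 hc) ha
  have hbC : b ∈ cz w := (Subgroup.zpowers_le.2 hc) hb
  -- b has order coprime to r, hence to the order of w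
  have hb1 : (orderOf w).Coprime (orderOf b) := by
    obtain ⟨k, hk⟩ := orderOf_dvd_of_isRel hwr
    exact Nat.Coprime.coprime_dvd_left hk (Nat.Coprime.pow_left k hbcop.symm)
  have hbd : d * b = b * d := commute_of_coprime hd hw hbC hb1 d hd'
  -- a is an r-element, of order coprime to the order of t
  have ha1 : (orderOf t).Coprime (orderOf a) :=
    coprime_orderOf_of_isRel hr' hr hne.symm htr hra
  have had : d * a = a * d := by
    rw [h3] at haC hd'
    exact commute_of_coprime hd ht haC ha1 d hd'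
  rw [hab]
  calc a * b * d = a * (b * d) := by group
    _ = a * (d * b) := by rw [hbd]
    _ = a * d * b := by group
    _ = d * a * b := by rw [had]
    _ = d * (a * b) := by group

end fin


section fin2
variable {G : Type*} [Group G] [Finite G]

/-- the centralizer of a noncentral `r`-element has order divisible by `r * |Z(G)|`. -/
theorem card_center_mul_dvd {r : ℕ} (hr : r.Prime) {v : G} (hv : v ∉ Subgroup.center G)
    (hvr : IsRel r v) : Nat.card (Subgroup.center G) * r ∣ Nat.card (cz v) := by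
  set Z' : Subgroup (cz v) := (Subgroup.center G).subgroupOf (cz v) with hZ'
  have hcZ' : Nat.card Z' = Nat.card (Subgroup.center G) :=
    Nat.card_congr (Subgroup.subgroupOfEquivOfLe (center_le_cz v)).toEquiv
  have h4 := Subgroup.card_mul_index Z'
  rw [hcZ'] at h4
  rw [← h4]
  apply Nat.mul_dvd_mul_left
  rw [Subgroup.index_eq_card]
  obtain ⟨k, hk⟩ := hvr
  set vb : (cz v) ⧸ Z' := QuotientGroup.mk (⟨v, self_mem_cz v⟩ : cz v) with hvb
  have h1 : vb ^ (r ^ k) = 1 := by
    rw [hvb, ← QuotientGroup.mk_pow, QuotientGroup.eq_one_iff, hZ', Subgroup.mem_subgroupOf]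
    rw [Subgroup.coe_pow]
    show v ^ (r ^ k) ∈ Subgroup.center G
    rw [hk]; exact Subgroup.one_mem _
  have h2 : vb ≠ 1 := by
    rw [hvb, Ne, QuotientGroup.eq_one_iff, hZ', Subgroup.mem_subgroupOf]
    exact hv
  have h3 : orderOf vb ∣ r ^ k := orderOf_dvd_of_pow_eq_one h1
  obtain ⟨j, -, hj⟩ := (Nat.dvd_prime_pow hr).1 h3
  have hj0 : j ≠ 0 := by
    intro h0
    rw [h0, pow_zero, orderOf_eq_one_iff] at hj
    exact h2 hj
  have h5 : r ∣ orderOf vb := by rw [hj]; exact dvd_pow_self r hj0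
  exact dvd_trans h5 (orderOf_dvd_natCard vb)

variable {n : ℕ} (hd : ∀ g : G, (cz g).index = 1 ∨ (cz g).index = n)
include hd

theorem index_cz_eq {g : G} (hg : g ∉ Subgroup.center G) : (cz g).index = n := by
  rcases hd g with h1 | h1
  · exact absurd ((index_one_iff g).1 h1) hg
  · exact h1

theorem n_pos_of_noncentral {g : G} (hg : g ∉ Subgroup.center G) : 0 < n := by
  have h1 := Subgroup.card_mul_index (cz g)
  rw [index_cz_eq hd hg] at h1
  rcases Nat.eq_zero_or_pos n with h0 | h0
  · rw [h0, mul_zero] at h1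
    exact absurd h1.symm (Nat.card_pos (α := G)).ne'
  · exact h0

theorem card_cz_mul {g : G} (hg : g ∉ Subgroup.center G) : Nat.card (cz g) * n = Nat.card G := by
  have h1 := Subgroup.card_mul_index (cz g)
  rwa [index_cz_eq hd hg] at h1

theorem card_cz_eq {g h : G} (hg : g ∉ Subgroup.center G) (hh : h ∉ Subgroup.center G) :
    Nat.card (cz g) = Nat.card (cz h) :=
  Nat.eq_of_mul_eq_mul_right (n_pos_of_noncentral hd hg)
    ((card_cz_mul hd hg).trans (card_cz_mul hd hh).symm)

/-- (a): every noncentral centralizer contains a noncentral `r`-element, for every prime `r`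
admitting noncentral `r`-elements. -/
theorem exists_noncentral_rel_in_cz {r : ℕ} (hr : r.Prime) {w v : G}
    (hw : w ∉ Subgroup.center G) (hv : v ∉ Subgroup.center G) (hvr : IsRel r v) :
    ∃ t ∈ cz w, t ∉ Subgroup.center G ∧ IsRel r t := by
  by_contra hcon
  haveI : Fact r.Prime := ⟨hr⟩
  have h1 : Nat.card (Subgroup.center G) * r ∣ Nat.card (cz w) := by
    rw [card_cz_eq hd hw hv]; exact card_center_mul_dvd hr hv hvr
  set f := (Nat.card (Subgroup.center G)).factorization r with hf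
  have h2 : r ^ (f + 1) ∣ Nat.card (cz w) := by
    rw [pow_succ]
    exact dvd_trans (Nat.mul_dvd_mul_right (Nat.ordProj_dvd _ r) r) h1
  obtain ⟨K, hK⟩ := Sylow.exists_subgroup_card_pow_prime r h2
  have hle : K.map (cz w).subtype ≤ Subgroup.center G := by
    rintro _ ⟨k, hk, rfl⟩
    by_contra hkc
    apply hcon
    refine ⟨(k : G), k.2, hkc, f + 1, ?_⟩
    have h3 : (⟨k, hk⟩ : K) ^ Nat.card K = 1 := pow_card_eq_one'
    rw [hK] at h3
    have h4 := congrArg (fun x : K => ((x : cz w) : G)) h3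
    simpa using h4
  have h5 : r ^ (f + 1) ∣ Nat.card (Subgroup.center G) := by
    have := Subgroup.card_dvd_of_le hle
    rwa [Subgroup.card_map_of_injective (cz w).subtype_injective, hK] at this
  exact Nat.pow_succ_factorization_not_dvd Nat.card_pos.ne' hr h5

/-- (B): in the two-prime situation all noncentral centralizers are abelian. -/
theorem cz_abelian_all {p q : ℕ} (hp : p.Prime) (hq : q.Prime) (hpq : p ≠ q) {x y : G}
    (hx : x ∉ Subgroup.center G) (hxp : IsRel p x) (hy : y ∉ Subgroup.center G)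
    (hyq : IsRel q y) (g : G) (hg : g ∉ Subgroup.center G) :
    ∀ c ∈ cz g, ∀ d ∈ cz g, c * d = d * c := by
  obtain ⟨r, hr, w, hw, hwc, hwr⟩ := exists_noncentral_rel g hg
  have he : cz g = cz w := cz_eq_of_le hd hg hwc (cz_le_of_mem_zpowers hw)
  rw [he]
  by_cases hrp : r = p
  · subst hrp
    obtain ⟨t, ht, htc, htr⟩ := exists_noncentral_rel_in_cz hd hq hwc hy hyq
    exact cz_abelian_of_two hd hr hq hpq hwc hwr htc htr ht
  · obtain ⟨t, ht, htc, htr⟩ := exists_noncentral_rel_in_cz hd hp hwc hx hxp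
    exact cz_abelian_of_two hd hr hp hrp hwc hwr htc htr ht

/-- (TI) -/
theorem cz_eq_of_common
    (habel : ∀ g : G, g ∉ Subgroup.center G → ∀ c ∈ cz g, ∀ d ∈ cz g, c * d = d * c)
    {a b c : G} (ha : a ∉ Subgroup.center G) (hb : b ∉ Subgroup.center G)
    (hc : c ∉ Subgroup.center G) (hca : c ∈ cz a) (hcb : c ∈ cz b) : cz a = cz b := by
  have h1 : cz a = cz c := by
    apply cz_eq_of_le hd ha hc
    intro d hd'
    rw [mem_cz]
    exact habel a ha d hd' c hca
  have h2 : cz b = cz c := by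
    apply cz_eq_of_le hd hb hc
    intro d hd'
    rw [mem_cz]
    exact habel b hb d hd' c hcb
  rw [h1, h2]

end fin2


section pgroup
variable {R : Type*} [Group R] [Finite R]

/-- P1: a nonabelian finite `r`-group has an element of `Z₂ ∖ Z` with `r`-th power in `Z`. -/
theorem exists_second_center_elt (r : ℕ) [Fact r.Prime] (hR : IsPGroup r R)
    (hex : ∃ x₀ : R, x₀ ∉ Subgroup.center R) :
    ∃ u : R, u ∉ Subgroup.center R ∧ u ^ r ∈ Subgroup.center R ∧
      ∀ g : R, g * u * g⁻¹ * u⁻¹ ∈ Subgroup.center R := by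
  have hp : r.Prime := Fact.out
  haveI hQnt : Nontrivial (R ⧸ Subgroup.center R) := by
    obtain ⟨x₀, hx₀⟩ := hex
    refine ⟨⟨QuotientGroup.mk x₀, 1, ?_⟩⟩
    rw [Ne, QuotientGroup.eq_one_iff]; exact hx₀
  have hQp : IsPGroup r (R ⧸ Subgroup.center R) := hR.to_quotient _
  haveI hcn := hQp.center_nontrivial
  have hdvd : r ∣ Nat.card (Subgroup.center (R ⧸ Subgroup.center R)) := by
    rcases (hQp.to_subgroup (Subgroup.center (R ⧸ Subgroup.center R))).card_eq_or_dvd with h | h
    · exfalso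
      have := Finite.one_lt_card (α := Subgroup.center (R ⧸ Subgroup.center R))
      omega
    · exact h
  obtain ⟨ub, hub⟩ := exists_prime_orderOf_dvd_card' r hdvd
  obtain ⟨u, hu_eq⟩ := QuotientGroup.mk_surjective (ub : R ⧸ Subgroup.center R)
  have hord : orderOf (QuotientGroup.mk u : R ⧸ Subgroup.center R) = r := by
    rw [hu_eq, Subgroup.orderOf_coe]; exact hub
  have hu1 : u ∉ Subgroup.center R := by
    intro h
    have h1 : (QuotientGroup.mk u : R ⧸ Subgroup.center R) = 1 := (QuotientGroup.eq_one_iff _).2 h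
    rw [h1, orderOf_one] at hord
    exact hp.one_lt.ne hord
  have hup : (QuotientGroup.mk u : R ⧸ Subgroup.center R) ^ r = 1 := by
    rw [← hord]; exact pow_orderOf_eq_one _
  have hucent : ∀ q : R ⧸ Subgroup.center R, q * QuotientGroup.mk u = QuotientGroup.mk u * q := by
    intro q
    have := ub.2
    rw [← hu_eq, Subgroup.mem_center_iff] at this
    exact this q
  refine ⟨u, hu1, ?_, ?_⟩
  · rw [← QuotientGroup.eq_one_iff, QuotientGroup.mk_pow]; exact hup
  · intro g
    rw [← QuotientGroup.eq_one_iff]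
    simp only [QuotientGroup.mk_mul, QuotientGroup.mk_inv]
    rw [hucent (QuotientGroup.mk g)]
    group

/-- P2 -/
theorem pow_mem_cz_of_second_center (r : ℕ) (u : R)
    (hconj : ∀ g : R, g * u * g⁻¹ * u⁻¹ ∈ Subgroup.center R)
    (hur : u ^ r ∈ Subgroup.center R) (g : R) : g ^ r ∈ cz u := by
  rw [← zetaHom_ker u hconj, MonoidHom.mem_ker, map_pow]
  apply Subtype.ext
  rw [Subgroup.coe_pow]
  show (g * u * g⁻¹ * u⁻¹) ^ r = 1
  set z := g * u * g⁻¹ * u⁻¹ with hz
  have hzc : ∀ x : R, x * z = z * x := Subgroup.mem_center_iff.1 (hconj g)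
  have h1 : g * u * g⁻¹ = z * u := by rw [hz]; group
  have h2 : g * u ^ r * g⁻¹ = z ^ r * u ^ r := by
    rw [← conj_pow, h1, (show Commute z u from (hzc u).symm).mul_pow]
  have h3 : g * u ^ r * g⁻¹ = u ^ r := by
    have := (Subgroup.mem_center_iff.1 hur) g
    rw [this]; group
  rw [h3] at h2
  have h4 : 1 * u ^ r = z ^ r * u ^ r := by rw [one_mul]; exact h2
  exact (mul_right_cancel h4).symm

theorem comm_mem_cz_of_second_center (u : R)
    (hconj : ∀ g : R, g * u * g⁻¹ * u⁻¹ ∈ Subgroup.center R) (y₁ y₂ : R) :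
    y₁ * y₂ * y₁⁻¹ * y₂⁻¹ ∈ cz u := by
  rw [← zetaHom_ker u hconj, MonoidHom.mem_ker]
  have hzc : ∀ a b : Subgroup.center R, a * b = b * a :=
    fun a b => Subtype.ext ((Subgroup.mem_center_iff.1 b.2) a)
  rw [map_mul, map_mul, map_mul, map_inv, map_inv,
    hzc ((zetaHom u hconj) y₁) ((zetaHom u hconj) y₂)]
  group

/-- P3 -/
theorem exists_independent_pair (r : ℕ) [Fact r.Prime] (hR : IsPGroup r R) (K : Subgroup R)
    [K.Normal] (hexp : ∀ g : R, g ^ r ∈ K) (hidx : ¬ K.index ∣ r) :
    ∃ y₁ y₂ : R, y₁ ∉ K ∧ ∀ k : ℕ, y₂ * y₁ ^ k ∉ K := by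
  have hp : r.Prime := Fact.out
  have hQp : IsPGroup r (R ⧸ K) := hR.to_quotient K
  obtain ⟨a, ha⟩ := IsPGroup.iff_card.1 hQp
  have hcq : Nat.card (R ⧸ K) = K.index := (Subgroup.index_eq_card K).symm
  have ha2 : 2 ≤ a := by
    by_contra h
    apply hidx
    rw [← hcq, ha]
    have : a ≤ 1 := by omega
    calc r ^ a ∣ r ^ 1 := pow_dvd_pow r this
      _ = r := pow_one r
  have hKtop : K ≠ ⊤ := by
    intro h
    apply hidx
    rw [h, Subgroup.index_top]
    exact one_dvd r
  obtain ⟨y₁, hy₁⟩ : ∃ y, y ∉ K := by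
    by_contra h
    apply hKtop
    rw [Subgroup.eq_top_iff']
    intro z
    by_contra hz
    exact h ⟨z, hz⟩
  have hQexp : ∀ q : R ⧸ K, q ^ r = 1 := by
    intro q
    induction q using QuotientGroup.induction_on with
    | H y =>
      rw [← QuotientGroup.mk_pow, QuotientGroup.eq_one_iff]
      exact hexp y
  have hzp : Subgroup.zpowers (QuotientGroup.mk y₁ : R ⧸ K) ≠ ⊤ := by
    intro h
    have h1 : Nat.card (Subgroup.zpowers (QuotientGroup.mk y₁ : R ⧸ K)) = r ^ a := by
      rw [h, Subgroup.card_top, ha]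
    rw [Nat.card_zpowers] at h1
    have h2 : orderOf (QuotientGroup.mk y₁ : R ⧸ K) ∣ r :=
      orderOf_dvd_of_pow_eq_one (hQexp _)
    have h3 : r ^ a ≤ r := h1 ▸ Nat.le_of_dvd hp.pos h2
    have h4 : r ^ 2 ≤ r ^ a := Nat.pow_le_pow_right hp.pos ha2
    have h5 : r < r ^ 2 := by nlinarith [hp.one_lt]
    omega
  obtain ⟨q₂, hq₂⟩ : ∃ q, q ∉ Subgroup.zpowers (QuotientGroup.mk y₁ : R ⧸ K) := by
    by_contra h
    apply hzp
    rw [Subgroup.eq_top_iff']
    intro z
    by_contra hz
    exact h ⟨z, hz⟩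
  obtain ⟨y₂, rfl⟩ := QuotientGroup.mk_surjective q₂
  refine ⟨y₁, y₂, hy₁, ?_⟩
  intro k hk
  apply hq₂
  have h1 : (QuotientGroup.mk (y₂ * y₁ ^ k) : R ⧸ K) = 1 := (QuotientGroup.eq_one_iff _).2 hk
  rw [QuotientGroup.mk_mul, QuotientGroup.mk_pow] at h1
  have h2 : (QuotientGroup.mk y₂ : R ⧸ K) = (QuotientGroup.mk y₁ : R ⧸ K) ^ (-(k : ℤ)) := by
    rw [zpow_neg, zpow_natCast, eq_inv_iff_mul_eq_one]; exact h1
  rw [h2]
  exact Subgroup.zpow_mem_zpowers _ _

end pgroup


section main
variable {G : Type*} [Group G] [Finite G]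

theorem mem_of_pow_mem_of_coprime (H : Subgroup G) (t : G) (a b : ℕ) (hab : a.Coprime b)
    (ha : t ^ a ∈ H) (hb : t ^ b = 1) : t ∈ H := by
  have hbez := Nat.gcd_eq_gcd_ab a b
  rw [hab.gcd_eq_one] at hbez
  have h1 : t = t ^ ((a : ℤ) * Nat.gcdA a b + (b : ℤ) * Nat.gcdB a b) := by
    rw [← hbez]; simp
  rw [h1, zpow_add, zpow_mul, zpow_mul, zpow_natCast, zpow_natCast, hb, one_zpow, mul_one]
  exact Subgroup.zpow_mem _ ha _

/-- The two-prime situation: two class sizes, all noncentral centralizers abelian, and for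
every prime another prime with noncentral elements of that prime power order. -/
structure TwoPrime (G : Type*) [Group G] (n : ℕ) : Prop where
  hd : ∀ g : G, (cz g).index = 1 ∨ (cz g).index = n
  habel : ∀ g : G, g ∉ Subgroup.center G → ∀ c ∈ cz g, ∀ d ∈ cz g, c * d = d * c
  hrel : ∀ r : ℕ, ∃ r' : ℕ, r'.Prime ∧ r' ≠ r ∧ ∃ v : G, v ∉ Subgroup.center G ∧ IsRel r' v

variable {n : ℕ}

/-- (3): every prime divides `n` at most once. -/
theorem TwoPrime.not_sq_dvd (T : TwoPrime G n) (r : ℕ) [Fact r.Prime] (hrn : r ∣ n) :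
    ¬ r ^ 2 ∣ n := by
  classical
  intro hr2
  have hr : r.Prime := Fact.out
  obtain ⟨r', hr', hne, v, hv, hvr⟩ := T.hrel r
  obtain ⟨R⟩ : Nonempty (Sylow r G) := inferInstance
  set a := (Nat.card G).factorization r with ha
  have hRcard : Nat.card (R : Subgroup G) = r ^ a := Sylow.card_eq_multiplicity R
  have hF : ∀ g : G, g ∉ Subgroup.center G → ¬ ((R : Subgroup G) ≤ cz g) := by
    intro g hg hle
    have h1 : r ^ a ∣ Nat.card (cz g) := hRcard ▸ Subgroup.card_dvd_of_le hle
    have h2 : r ^ a * r ∣ Nat.card (cz g) * n := Nat.mul_dvd_mul h1 hrn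
    rw [card_cz_mul T.hd hg, ← pow_succ] at h2
    exact Nat.pow_succ_factorization_not_dvd Nat.card_pos.ne' hr h2
  have hcen : ∀ z : (R : Subgroup G), z ∈ Subgroup.center (R : Subgroup G) →
      (z : G) ∈ Subgroup.center G := by
    intro z hz
    by_contra hzc
    apply hF (z : G) hzc
    intro x hx
    rw [mem_cz]
    have := (Subgroup.mem_center_iff.1 hz) ⟨x, hx⟩
    exact congrArg Subtype.val this
  have hex : ∃ x₀ : (R : Subgroup G), x₀ ∉ Subgroup.center (R : Subgroup G) := by
    by_contra hno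
    apply hF v hv
    intro x hx
    apply center_le_cz v
    apply hcen ⟨x, hx⟩
    by_contra hx'
    exact hno ⟨⟨x, hx⟩, hx'⟩
  obtain ⟨u, hu1, hur, hconj⟩ := exists_second_center_elt r R.isPGroup' hex
  set uG : G := (u : G) with huGdef
  have huG : uG ∉ Subgroup.center G := by
    intro h
    apply hu1
    rw [Subgroup.mem_center_iff]
    intro x
    apply Subtype.ext
    exact (Subgroup.mem_center_iff.1 h) (x : G)
  set X := cz uG with hX
  have habelX := T.habel uG huG
  have hczu : ∀ g : (R : Subgroup G), g ∈ cz u ↔ (g : G) ∈ X := by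
    intro g
    rw [mem_cz, mem_cz]
    constructor
    · intro h; exact congrArg Subtype.val h
    · intro h; exact Subtype.ext h
  have hRX : (R : Subgroup G) ≤ Subgroup.normalizer (X : Set G) := by
    rw [Subgroup.le_normalizer_iff]
    intro g hg k hk
    have hz := hcen _ (hconj ((⟨g, hg⟩ : (R : Subgroup G))⁻¹))
    have hz' : g⁻¹ * uG * g * uG⁻¹ ∈ Subgroup.center G := by
      have e : (((⟨g, hg⟩ : (R : Subgroup G))⁻¹ * u * ((⟨g, hg⟩ : (R : Subgroup G))⁻¹)⁻¹ * u⁻¹ :
          (R : Subgroup G)) : G) = g⁻¹ * uG * g * uG⁻¹ := by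
        simp [huGdef]
      rw [← e]; exact hz
    set z : G := g⁻¹ * uG * g * uG⁻¹ with hzdef
    have h1 : g⁻¹ * uG * g = uG * z := by
      have hzc := (Subgroup.mem_center_iff.1 hz') uG
      rw [hzc, hzdef]; group
    have h2 : k ∈ cz (uG * z) := by rw [cz_mul_central _ _ hz']; exact hk
    rw [mem_cz] at h2
    rw [← h1] at h2
    show g * k * g⁻¹ ∈ cz uG
    rw [mem_cz]
    calc g * k * g⁻¹ * uG = g * (k * (g⁻¹ * uG * g)) * g⁻¹ := by group
      _ = g * (g⁻¹ * uG * g * k) * g⁻¹ := by rw [h2]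
      _ = uG * (g * k * g⁻¹) := by group
  haveI hKn : (cz u).Normal := by rw [← zetaHom_ker u hconj]; exact MonoidHom.normal_ker _
  have hidx : (cz u).index ∣ r := by
    by_contra hnd
    obtain ⟨y₁, y₂, hy₁, hy₂⟩ := exists_independent_pair r R.isPGroup' (cz u)
      (pow_mem_cz_of_second_center r u hconj hur) hnd
    set M := Subgroup.normalizer (X : Set G) with hM
    have hXM : X ≤ M := Subgroup.le_normalizer
    have key := norm_trick_group (X.subgroupOf M)
      (fun c hc d hd' => Subtype.ext (habelX c.1 (Subgroup.mem_subgroupOf.1 hc) d.1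
        (Subgroup.mem_subgroupOf.1 hd')))
      ((Subgroup.center G).subgroupOf M) r hr
      (⟨(y₁ : G), hRX y₁.2⟩ : M) (⟨(y₂ : G), hRX y₂.2⟩ : M)
      (by
        rw [Subgroup.mem_subgroupOf]
        have := (hczu _).1 (comm_mem_cz_of_second_center u hconj y₁ y₂)
        simpa using this)
      (by
        intro g' hg'
        have hgR : ∃ gR : (R : Subgroup G), (gR : G) = (g' : G) ∧ gR ∉ cz u := by
          rcases hg' with h | ⟨k, h⟩
          · exact ⟨y₁, by rw [h], hy₁⟩
          · refine ⟨y₂ * y₁ ^ k, ?_, hy₂ k⟩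
            rw [h]; simp
        obtain ⟨gR, hgR1, hgR2⟩ := hgR
        constructor
        · rw [Subgroup.mem_subgroupOf, Subgroup.coe_pow, ← hgR1]
          have := (hczu _).1 (pow_mem_cz_of_second_center r u hconj hur gR)
          simpa using this
        · intro c' hc' hcg
          rw [Subgroup.mem_subgroupOf] at hc' ⊢
          by_contra hcc
          have hcg' : (c' : G) * (gR : G) = (gR : G) * (c' : G) := by
            rw [hgR1]
            exact congrArg Subtype.val hcg
          have hgnc : (gR : G) ∉ Subgroup.center G := by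
            intro h
            exact hgR2 ((hczu gR).2 (center_le_cz uG h))
          have he : cz uG = cz (gR : G) :=
            cz_eq_of_common T.hd T.habel huG hgnc hcc hc' (mem_cz.2 hcg')
          apply hgR2
          rw [hczu, hX, he]
          exact self_mem_cz _)
      (by
        intro z' hz'
        rw [Subgroup.mem_subgroupOf] at hz'
        apply Subtype.ext
        exact (Subgroup.mem_center_iff.1 hz') _)
    obtain ⟨t, htX, htc, htr⟩ := exists_noncentral_rel_in_cz T.hd hr' huG hv hvr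
    have h1 := key (⟨t, hXM htX⟩ : M) (Subgroup.mem_subgroupOf.2 htX)
    rw [Subgroup.mem_subgroupOf, Subgroup.coe_pow] at h1
    obtain ⟨k, hk⟩ := htr
    apply htc
    apply mem_of_pow_mem_of_coprime (Subgroup.center G) t r (r' ^ k) _ h1 hk
    exact Nat.Coprime.pow_right k ((Nat.coprime_primes hr hr').2 hne.symm)
  -- arithmetic contradiction
  have h1 := Subgroup.card_mul_index (cz u)
  rw [hRcard] at h1
  obtain ⟨b, hb⟩ := IsPGroup.iff_card.1 (R.isPGroup'.to_subgroup (cz u))
  have hle : (cz u).map (R : Subgroup G).subtype ≤ X := by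
    rintro _ ⟨g, hg, rfl⟩
    exact (hczu g).1 hg
  have h2 : r ^ b ∣ Nat.card X := by
    have := Subgroup.card_dvd_of_le hle
    rwa [Subgroup.card_map_of_injective (R : Subgroup G).subtype_injective, hb] at this
  have h3 : r ^ (b + 2) ∣ Nat.card G := by
    rw [← card_cz_mul T.hd huG, pow_add]
    exact Nat.mul_dvd_mul h2 hr2
  have h4 : b + 2 ≤ a := (Nat.Prime.pow_dvd_iff_le_factorization hr Nat.card_pos.ne').1 h3
  have h5 : r ^ a ∣ r ^ (b + 1) := by
    rw [← h1, hb, pow_succ]
    exact Nat.mul_dvd_mul_left _ hidx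
  have h6 : a ≤ b + 1 := (Nat.pow_dvd_pow_iff_le_right hr.one_lt).1 h5
  omega

end main


section main2
variable {G : Type*} [Group G] [Finite G] {n : ℕ}

theorem TwoPrime.cz_eq_of_mem (T : TwoPrime G n) {g w : G} (hg : g ∉ Subgroup.center G)
    (hw : w ∉ Subgroup.center G) (hwg : w ∈ cz g) : cz g = cz w := by
  apply cz_eq_of_le T.hd hg hw
  intro d hd'
  rw [mem_cz]
  exact T.habel g hg d hd' w hwg

theorem conj_not_mem_center {w : G} (hw : w ∉ Subgroup.center G) (g : G) :
    g * w * g⁻¹ ∉ Subgroup.center G := by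
  intro h
  apply hw
  have h1 := (Subgroup.center G).normal_of_characteristic.conj_mem _ h g⁻¹
  have e : g⁻¹ * (g * w * g⁻¹) * g⁻¹⁻¹ = w := by group
  rwa [e] at h1

/-- (4): every noncentral centralizer is normal. -/
theorem TwoPrime.normalizer_eq_top (T : TwoPrime G n) (g : G) (hg : g ∉ Subgroup.center G) :
    Subgroup.normalizer (cz g : Set G) = ⊤ := by
  classical
  set A := cz g with hA
  set N := Subgroup.normalizer (A : Set G) with hN
  have hAN : A ≤ N := Subgroup.le_normalizer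
  have hG0 : Nat.card G ≠ 0 := Nat.card_pos.ne'
  have hN0 : Nat.card N ≠ 0 := Nat.card_pos.ne'
  have hA0 : Nat.card A ≠ 0 := Nat.card_pos.ne'
  have hn0 : n ≠ 0 := (n_pos_of_noncentral T.hd hg).ne'
  have hAn : Nat.card A * n = Nat.card G := card_cz_mul T.hd hg
  apply (Subgroup.card_eq_iff_eq_top N).1
  apply Nat.dvd_antisymm (Subgroup.card_subgroup_dvd_card N)
  rw [← Nat.factorization_prime_le_iff_dvd hG0 hN0]
  intro r hr
  haveI : Fact r.Prime := ⟨hr⟩
  apply (Nat.Prime.pow_dvd_iff_le_factorization hr hN0).1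
  set a := (Nat.card G).factorization r with ha
  by_cases hrn : r ∣ n
  · have hnsq := T.not_sq_dvd r hrn
    set b := (Nat.card A).factorization r with hb
    have hnf : n.factorization r = 1 := by
      have h1 : 1 ≤ n.factorization r :=
        (Nat.Prime.pow_dvd_iff_le_factorization hr hn0).1 (by rw [pow_one]; exact hrn)
      have h2 : ¬ 2 ≤ n.factorization r := fun h =>
        hnsq ((Nat.Prime.pow_dvd_iff_le_factorization hr hn0).2 h)
      omega
    have hab : a = b + 1 := by
      rw [ha, ← hAn, Nat.factorization_mul hA0 hn0, Finsupp.add_apply, hnf]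
    obtain ⟨K, hK⟩ := Sylow.exists_subgroup_card_pow_prime r (Nat.ordProj_dvd (Nat.card A) r)
    set Ar : Subgroup G := K.map A.subtype with hAr
    have hArA : Ar ≤ A := Subgroup.map_subtype_le K
    have hArcard : Nat.card Ar = r ^ b := by
      rw [hAr, Subgroup.card_map_of_injective A.subtype_injective, hK]
    have hArp : IsPGroup r Ar := IsPGroup.of_card hArcard
    obtain ⟨R, hAR⟩ := hArp.exists_le_sylow
    have hRcard : Nat.card (R : Subgroup G) = r ^ (b + 1) := by
      rw [← hab]; exact Sylow.card_eq_multiplicity R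
    -- Ar is normal in R
    have hnorm : ∀ g' ∈ (R : Subgroup G), ∀ k ∈ Ar, g' * k * g'⁻¹ ∈ Ar := by
      set H : Subgroup (R : Subgroup G) := Ar.subgroupOf (R : Subgroup G) with hH
      have hHcard : Nat.card H = r ^ b := by
        rw [← hArcard]
        exact Nat.card_congr (Subgroup.subgroupOfEquivOfLe hAR).toEquiv
      have h1 := Subgroup.card_mul_index H
      rw [hHcard, hRcard, pow_succ] at h1
      have hidx : H.index = r := Nat.eq_of_mul_eq_mul_left (pow_pos hr.pos b) h1
      haveI hHn : H.Normal := by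
        apply Subgroup.normal_of_index_eq_minFac_card
        rw [hidx, hRcard, hr.pow_minFac (Nat.succ_ne_zero b)]
      intro g' hg' k hk
      have := hHn.conj_mem ⟨k, hAR hk⟩ (Subgroup.mem_subgroupOf.2 hk) ⟨g', hg'⟩
      rw [hH, Subgroup.mem_subgroupOf] at this
      exact this
    -- a noncentral r-element exists
    have hexr : ∃ vr : G, vr ∉ Subgroup.center G ∧ IsRel r vr := by
      by_contra hno
      have hRc : (R : Subgroup G) ≤ Subgroup.center G := by
        intro x hx
        by_contra hxc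
        apply hno
        refine ⟨x, hxc, b + 1, ?_⟩
        have h3 : (⟨x, hx⟩ : (R : Subgroup G)) ^ Nat.card (R : Subgroup G) = 1 := pow_card_eq_one'
        rw [hRcard] at h3
        exact congrArg Subtype.val h3
      have h4 : r ^ (b + 1) ∣ Nat.card A := by
        rw [← hRcard]
        exact Subgroup.card_dvd_of_le (le_trans hRc (center_le_cz g))
      exact Nat.pow_succ_factorization_not_dvd hA0 hr h4
    obtain ⟨vr, hvr, hvrr⟩ := hexr
    obtain ⟨t, htA, htc, htr⟩ := exists_noncentral_rel_in_cz T.hd hr hg hvr hvrr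
    have hAt : A = cz t := T.cz_eq_of_mem hg htc htA
    -- a noncentral element of Ar
    have hexw : ∃ w ∈ Ar, w ∉ Subgroup.center G := by
      by_contra hno
      have hArc : Ar ≤ Subgroup.center G := by
        intro x hx
        by_contra hxc
        exact hno ⟨x, hx, hxc⟩
      have h5 : r ^ b ∣ Nat.card (Subgroup.center G) := by
        rw [← hArcard]; exact Subgroup.card_dvd_of_le hArc
      have h6 : r ^ (b + 1) ∣ Nat.card A := by
        rw [pow_succ, hAt]
        exact dvd_trans (Nat.mul_dvd_mul_right h5 r) (card_center_mul_dvd hr htc htr)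
      exact Nat.pow_succ_factorization_not_dvd hA0 hr h6
    obtain ⟨w, hwAr, hwc⟩ := hexw
    have hRN : (R : Subgroup G) ≤ N := by
      rw [hN, Subgroup.le_normalizer_iff]
      intro g' hg' k hk
      have hw' : g' * w * g'⁻¹ ∈ A := hArA (hnorm g' hg' w hwAr)
      have hw'c : g' * w * g'⁻¹ ∉ Subgroup.center G := conj_not_mem_center hwc g'
      have e1 : A = cz w := T.cz_eq_of_mem hg hwc (hArA hwAr)
      have e2 : A = cz (g' * w * g'⁻¹) := T.cz_eq_of_mem hg hw'c hw'
      rw [e2, mem_cz]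
      rw [e1, mem_cz] at hk
      calc g' * k * g'⁻¹ * (g' * w * g'⁻¹) = g' * (k * w) * g'⁻¹ := by group
        _ = g' * (w * k) * g'⁻¹ := by rw [hk]
        _ = g' * w * g'⁻¹ * (g' * k * g'⁻¹) := by group
    rw [hab, ← hRcard]
    exact Subgroup.card_dvd_of_le hRN
  · have hcop : (r ^ a).Coprime n :=
      Nat.Coprime.pow_left a ((Nat.Prime.coprime_iff_not_dvd hr).2 hrn)
    have h1 : r ^ a ∣ Nat.card A * n := by rw [hAn]; exact Nat.ordProj_dvd _ r
    have h2 : r ^ a ∣ Nat.card A := hcop.dvd_of_dvd_mul_right h1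
    exact dvd_trans h2 (Subgroup.card_dvd_of_le hAN)

/-- (5): the two-prime situation is contradictory. -/
theorem TwoPrime.false (T : TwoPrime G n) : False := by
  obtain ⟨p, hp, -, x, hx, hxp⟩ := T.hrel 0
  obtain ⟨q, hq, hqp, y, hy, hyq⟩ := T.hrel p
  have hcomm : ∀ a b : G, a * b * a⁻¹ * b⁻¹ ∈ Subgroup.center G := by
    intro a b
    by_cases ha : a ∈ Subgroup.center G
    · have h1 : b * a = a * b := (Subgroup.mem_center_iff.1 ha) b
      have : a * b * a⁻¹ * b⁻¹ = 1 := by rw [← h1]; group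
      rw [this]; exact Subgroup.one_mem _
    by_cases hb : b ∈ Subgroup.center G
    · have h1 : a * b = b * a := (Subgroup.mem_center_iff.1 hb) a
      have : a * b * a⁻¹ * b⁻¹ = 1 := by rw [h1]; group
      rw [this]; exact Subgroup.one_mem _
    haveI hAn : (cz a).Normal := Subgroup.normalizer_eq_top_iff.1 (T.normalizer_eq_top a ha)
    haveI hBn : (cz b).Normal := Subgroup.normalizer_eq_top_iff.1 (T.normalizer_eq_top b hb)
    have hcA : a * b * a⁻¹ * b⁻¹ ∈ cz a := by
      have h1 : b * a⁻¹ * b⁻¹ ∈ cz a := hAn.conj_mem _ ((cz a).inv_mem (self_mem_cz a)) b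
      have e : a * b * a⁻¹ * b⁻¹ = a * (b * a⁻¹ * b⁻¹) := by group
      rw [e]; exact (cz a).mul_mem (self_mem_cz a) h1
    have hcB : a * b * a⁻¹ * b⁻¹ ∈ cz b := by
      have h1 : a * b * a⁻¹ ∈ cz b := hBn.conj_mem _ (self_mem_cz b) a
      exact (cz b).mul_mem h1 ((cz b).inv_mem (self_mem_cz b))
    by_contra hc
    have he : cz a = cz b := cz_eq_of_common T.hd T.habel ha hb hc hcA hcB
    have h1 : b ∈ cz a := he ▸ self_mem_cz b
    rw [mem_cz] at h1
    apply hc
    have : a * b * a⁻¹ * b⁻¹ = 1 := by rw [← h1]; group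
    rw [this]; exact Subgroup.one_mem _
  -- n is a power of each prime with a noncentral element
  have hpow : ∀ (r : ℕ) [Fact r.Prime] (z : G), z ∉ Subgroup.center G → IsRel r z →
      ∃ i : ℕ, n = r ^ i := by
    intro r _ z hz hzr
    obtain ⟨k, hk⟩ := hzr
    have hconj : ∀ g : G, g * z * g⁻¹ * z⁻¹ ∈ Subgroup.center G := fun g => hcomm g z
    haveI hKn : (cz z).Normal := by rw [← zetaHom_ker z hconj]; exact MonoidHom.normal_ker _
    have hQp : IsPGroup r (G ⧸ cz z) := by
      intro qq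
      induction qq using QuotientGroup.induction_on with
      | H g' =>
        refine ⟨k, ?_⟩
        rw [← QuotientGroup.mk_pow, QuotientGroup.eq_one_iff]
        apply pow_mem_cz_of_second_center (r ^ k) z hconj
        rw [hk]; exact Subgroup.one_mem _
    obtain ⟨i, hi⟩ := IsPGroup.iff_card.1 hQp
    refine ⟨i, ?_⟩
    rw [← hi, ← Subgroup.index_eq_card, index_cz_eq T.hd hz]
  haveI : Fact p.Prime := ⟨hp⟩
  haveI : Fact q.Prime := ⟨hq⟩
  obtain ⟨i, hi⟩ := hpow p x hx hxp
  obtain ⟨j, hj⟩ := hpow q y hy hyq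
  have hn1 : n ≠ 1 := by
    intro h1
    have := index_cz_eq T.hd hx
    rw [h1] at this
    exact hx ((index_one_iff x).1 this)
  have hi0 : i ≠ 0 := by
    intro h0
    rw [h0, pow_zero] at hi
    exact hn1 hi
  have hdvd : p ∣ q ^ j := by
    rw [← hj, hi]; exact dvd_pow_self p hi0
  have := (Nat.prime_dvd_prime_iff_eq hp hq).1 (hp.dvd_of_dvd_pow hdvd)
  exact hqp this.symm

end main2

end Cfsg.Agent.Lib.Helper4
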