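import Mathlib
import Cfsg.Prelude.Def_Transfer
import Cfsg.Prelude.Def_Solvable
import Cfsg.Agent.Lib.Helper4.TwoClass
import Cfsg.Agent.Lib.Helper4.ConjSub
import Cfsg.Agent.Lib.Helper2.Coatom
import Cfsg.Agent.Lib.Helper1.PGroupMax
import Cfsg.Agent.Lib.Helper8.CharFrobThm

/-! Groups in which the centralizer of every noncentral element is maximal. -/

set_option autoImplicit false
set_option linter.unusedSectionVars false

namespace Cfsg.Agent.Lib.Helper4

open Cfsg.Agent.S4365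
open scoped commutatorElement

section general
variable {G : Type*} [Group G]

/-- the quotient map modulo the center -/
abbrev qz : G →* G ⧸ Subgroup.center G := QuotientGroup.mk' (Subgroup.center G)

theorem qz_surjective : Function.Surjective (qz (G := G)) := QuotientGroup.mk'_surjective _

theorem qz_eq_one_iff (u : G) : qz u = 1 ↔ u ∈ Subgroup.center G := QuotientGroup.eq_one_iff u

theorem mem_map_qz_iff {M : Subgroup G} (hZM : Subgroup.center G ≤ M) (u : G) :
    qz u ∈ M.map qz ↔ u ∈ M := by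
  constructor
  · rintro ⟨m, hm, hmu⟩
    have h1 : m⁻¹ * u ∈ Subgroup.center G := QuotientGroup.eq.1 hmu
    have h2 : u = m * (m⁻¹ * u) := by group
    rw [h2]; exact M.mul_mem hm (hZM h1)
  · exact fun hu => Subgroup.mem_map_of_mem _ hu

theorem comap_map_qz {M : Subgroup G} (hZM : Subgroup.center G ≤ M) : (M.map qz).comap qz = M := by
  ext u
  rw [Subgroup.mem_comap]
  exact mem_map_qz_iff hZM u

theorem cz_conj (g x : G) : cz (g * x * g⁻¹) = cj g (cz x) := by
  ext u
  rw [mem_cj_iff, mem_cz, mem_cz]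
  constructor
  · intro hu
    calc g⁻¹ * u * g * x = g⁻¹ * (u * (g * x * g⁻¹)) * g := by group
      _ = g⁻¹ * (g * x * g⁻¹ * u) * g := by rw [hu]
      _ = x * (g⁻¹ * u * g) := by group
  · intro hu
    calc u * (g * x * g⁻¹) = g * (g⁻¹ * u * g * x) * g⁻¹ := by group
      _ = g * (x * (g⁻¹ * u * g)) * g⁻¹ := by rw [hu]
      _ = g * x * g⁻¹ * u := by group

theorem conj_not_mem_center' {x : G} (hx : x ∉ Subgroup.center G) (g : G) :
    g * x * g⁻¹ ∉ Subgroup.center G := by
  intro hc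
  apply hx
  have h1 := (inferInstance : (Subgroup.center G).Normal).conj_mem _ hc g⁻¹
  have e : g⁻¹ * (g * x * g⁻¹) * g⁻¹⁻¹ = x := by group
  rwa [e] at h1

theorem mem_cj_qz_iff {M : Subgroup G} (hZM : Subgroup.center G ≤ M) (g u : G) :
    qz u ∈ cj (qz g) (M.map qz) ↔ u ∈ cj g M := by
  rw [mem_cj_iff, mem_cj_iff]
  have e : (qz g)⁻¹ * qz u * qz g = qz (g⁻¹ * u * g) := by simp
  rw [e]
  exact mem_map_qz_iff hZM _

theorem exists_not_mem_center (hna : ¬ IsMulCommutative G) : ∃ x : G, x ∉ Subgroup.center G := by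
  by_contra hcon
  apply hna
  refine ⟨⟨fun a b => ?_⟩⟩
  have hb : b ∈ Subgroup.center G := by
    by_contra hb; exact hcon ⟨b, hb⟩
  exact (Subgroup.mem_center_iff.1 hb a)

theorem commutator_le_of_prime_index' (N : Subgroup G) [N.Normal] (hp : N.index.Prime) :
    commutator G ≤ N := by
  haveI : Fact N.index.Prime := ⟨hp⟩
  haveI : IsCyclic (G ⧸ N) := isCyclic_of_prime_card (Subgroup.index_eq_card N).symm
  exact Subgroup.Normal.quotient_commutative_iff_commutator_le.1 inferInstance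

theorem normalizer_eq_of_coatom_not_normal {M : Subgroup G} (hM : IsCoatom M) (hn : ¬ M.Normal) :
    Subgroup.normalizer (M : Set G) = M := by
  rcases hM.le_iff.1 (Subgroup.le_normalizer : M ≤ Subgroup.normalizer (M : Set G)) with h1 | h1
  · exact absurd (Subgroup.normalizer_eq_top_iff.1 h1) hn
  · exact h1

theorem mem_normalizer_of_cj_eq' {g : G} {M : Subgroup G} (h : cj g M = M) :
    g ∈ Subgroup.normalizer (M : Set G) := by
  rw [Subgroup.mem_normalizer_iff]
  intro x
  constructor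
  · intro hx
    have := conj_mem_cj g M hx
    rwa [h] at this
  · intro hx
    rw [← h, mem_cj_iff] at hx
    have h3 : g⁻¹ * (g * x * g⁻¹) * g = x := by group
    rwa [h3] at hx

/-- class two power computation -/
theorem pow_central_of_class_two {x : G} {p : ℕ}
    (hc : ∀ a b : G, ⁅a, b⁆ ∈ Subgroup.center G)
    (hp : ∀ y : G, y ^ p ∈ cz x) : x ^ p ∈ Subgroup.center G := by
  rw [Subgroup.mem_center_iff]
  intro y
  obtain ⟨c, hcdef⟩ : ∃ c, c = ⁅x, y⁆ := ⟨_, rfl⟩
  have hcZ : c ∈ Subgroup.center G := hcdef ▸ hc x y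
  have hcz : ∀ g : G, g * c = c * g := Subgroup.mem_center_iff.1 hcZ
  have hxy : x * y = c * y * x := by
    rw [hcdef, commutatorElement_def]; group
  have hA : ∀ n : ℕ, x * y ^ n = c ^ n * y ^ n * x := by
    intro n
    induction n with
    | zero => simp
    | succ n ih =>
      calc x * y ^ (n + 1) = (x * y ^ n) * y := by rw [pow_succ, mul_assoc]
        _ = c ^ n * y ^ n * x * y := by rw [ih]
        _ = c ^ n * y ^ n * (x * y) := by rw [mul_assoc]
        _ = c ^ n * y ^ n * (c * y * x) := by rw [hxy]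
        _ = c ^ n * (y ^ n * c) * (y * x) := by simp only [mul_assoc]
        _ = c ^ n * (c * y ^ n) * (y * x) := by rw [hcz (y ^ n)]
        _ = c ^ (n + 1) * y ^ (n + 1) * x := by
          rw [pow_succ, pow_succ]; simp only [mul_assoc]
  have hB : ∀ n : ℕ, x ^ n * y = c ^ n * y * x ^ n := by
    intro n
    induction n with
    | zero => simp
    | succ n ih =>
      have hczn : ∀ g : G, g * c ^ n = c ^ n * g :=
        Subgroup.mem_center_iff.1 (Subgroup.pow_mem _ hcZ n)
      calc x ^ (n + 1) * y = x * (x ^ n * y) := by rw [pow_succ', mul_assoc]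
        _ = x * (c ^ n * y * x ^ n) := by rw [ih]
        _ = (x * c ^ n) * (y * x ^ n) := by simp only [mul_assoc]
        _ = (c ^ n * x) * (y * x ^ n) := by rw [hczn x]
        _ = c ^ n * (x * y) * x ^ n := by simp only [mul_assoc]
        _ = c ^ n * (c * y * x) * x ^ n := by rw [hxy]
        _ = c ^ (n + 1) * y * x ^ (n + 1) := by
          rw [pow_succ, pow_succ']; simp only [mul_assoc]
  have h1 : y ^ p * x = x * y ^ p := mem_cz.1 (hp y)
  have h2 : c ^ p = 1 := by
    have h3 := hA p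
    rw [← h1] at h3
    -- y^p * x = c^p * y^p * x
    have h4 : 1 * (y ^ p * x) = c ^ p * (y ^ p * x) := by
      rw [one_mul, ← mul_assoc]; exact h3
    exact (mul_right_cancel h4).symm
  have h5 := hB p
  rw [h2, one_mul] at h5
  exact h5.symm

theorem center_eq_bot_of_frobenius (H : Subgroup G) (hH : Cfsg.IsFrobeniusComplement H) :
    Subgroup.center G = ⊥ := by
  obtain ⟨hbot, htop, hTI⟩ := hH
  rw [eq_bot_iff]
  intro z hz
  rw [Subgroup.mem_bot]
  have hzc : ∀ g : G, g * z = z * g := Subgroup.mem_center_iff.1 hz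
  by_cases hzH : z ∈ H
  · obtain ⟨g, hg⟩ : ∃ g : G, g ∉ H := by
      by_contra hcon
      apply htop
      rw [Subgroup.eq_top_iff']
      intro g
      by_contra hg
      exact hcon ⟨g, hg⟩
    have h1 := hTI g hg
    have h2' : z ∈ cj g H := by
      rw [mem_cj_iff]
      have : g⁻¹ * z * g = z := by
        rw [mul_assoc, ← hzc g]; group
      rw [this]; exact hzH
    have h2 : z ∈ H ⊓ cj g H := ⟨hzH, h2'⟩
    have h3 : H ⊓ cj g H = ⊥ := h1
    rw [h3, Subgroup.mem_bot] at h2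
    exact h2
  · exfalso
    have h1 : H ⊓ cj z H = ⊥ := hTI z hzH
    apply hbot
    rw [eq_bot_iff, ← h1]
    intro u hu
    have hu' : u ∈ cj z H := by
      rw [mem_cj_iff]
      have : z⁻¹ * u * z = u := by
        rw [mul_assoc, hzc u]; group
      rw [this]; exact hu
    exact ⟨hu, hu'⟩

end general

section finite
variable {G : Type*} [Group G] [Finite G]

theorem prime_index_of_normal_coatom {M : Subgroup G} [M.Normal] (hM : IsCoatom M) :
    M.index.Prime := by
  have hne : M.index ≠ 1 := fun h1 => hM.1 (Subgroup.index_eq_one.1 h1)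
  obtain ⟨p, hp, hpd⟩ := Nat.exists_prime_and_dvd hne
  haveI : Fact p.Prime := ⟨hp⟩
  rw [Subgroup.index_eq_card] at hpd
  obtain ⟨g, hg⟩ := exists_prime_orderOf_dvd_card' p hpd
  have hπ : Function.Surjective (QuotientGroup.mk' M) := QuotientGroup.mk'_surjective M
  have hle : M ≤ (Subgroup.zpowers g).comap (QuotientGroup.mk' M) := by
    intro m hm
    rw [Subgroup.mem_comap]
    have : (QuotientGroup.mk' M) m = 1 := (QuotientGroup.eq_one_iff m).2 hm
    rw [this]; exact Subgroup.one_mem _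
  rcases hM.le_iff.1 hle with h1 | h1
  · have h2 : Subgroup.zpowers g = ⊤ := by
      rw [← Subgroup.map_comap_eq_self_of_surjective hπ (Subgroup.zpowers g), h1,
        Subgroup.map_top_of_surjective _ hπ]
    have h3 : Nat.card (G ⧸ M) = p := by
      rw [← hg, ← Nat.card_zpowers, h2, Subgroup.card_top]
    rw [Subgroup.index_eq_card, h3]; exact hp
  · exfalso
    obtain ⟨g0, rfl⟩ := hπ g
    have h2 : g0 ∈ (Subgroup.zpowers ((QuotientGroup.mk' M) g0)).comap (QuotientGroup.mk' M) :=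
      Subgroup.mem_zpowers _
    rw [h1] at h2
    have h4 : (QuotientGroup.mk' M) g0 = 1 := (QuotientGroup.eq_one_iff g0).2 h2
    rw [h4, orderOf_one] at hg
    exact hp.one_lt.ne hg

theorem mem_of_cj_le {M : Subgroup G} (hN : Subgroup.normalizer (M : Set G) = M) {g : G}
    (hle : cj g M ≤ M) : g ∈ M := by
  have hcard : Nat.card (cj g M) = Nat.card M :=
    Subgroup.card_map_of_injective (conj_injective g)
  have heq : cj g M = M := Subgroup.eq_of_le_of_card_ge hle (le_of_eq hcard.symm)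
  have := mem_normalizer_of_cj_eq' heq
  rwa [hN] at this

theorem sq_dvd_index_center {H : Type*} [Group H] [Finite H] {r : ℕ} (hr : r.Prime)
    (hna : ¬ ∀ a b : H, a * b = b * a)
    (hrel : ∀ m : H, ∃ k : ℕ, m ^ (r ^ k) ∈ Subgroup.center H) :
    r ^ 2 ∣ (Subgroup.center H).index := by
  haveI : Fact r.Prime := ⟨hr⟩
  have hP : IsPGroup r (H ⧸ Subgroup.center H) := by
    intro u
    obtain ⟨m, rfl⟩ := QuotientGroup.mk_surjective u
    obtain ⟨k, hk⟩ := hrel m
    refine ⟨k, ?_⟩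
    rw [← QuotientGroup.mk_pow]
    exact (QuotientGroup.eq_one_iff _).2 hk
  obtain ⟨j, hj⟩ := IsPGroup.iff_card.1 hP
  rw [Subgroup.index_eq_card, hj]
  apply pow_dvd_pow
  by_contra hlt
  have hj1 : j = 0 ∨ j = 1 := by omega
  apply hna
  haveI : IsCyclic (H ⧸ Subgroup.center H) := by
    rcases hj1 with rfl | rfl
    · rw [pow_zero] at hj
      haveI : Subsingleton (H ⧸ Subgroup.center H) := (Nat.card_eq_one_iff_unique.1 hj).1
      exact isCyclic_of_subsingleton
    · rw [pow_one] at hj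
      exact isCyclic_of_prime_card hj
  exact (MonoidHom.isMulCommutative_of_isCyclic_of_ker_le_center
    (QuotientGroup.mk' (Subgroup.center H)) (by rw [QuotientGroup.ker_mk'])).is_comm.comm

end finite

section counting

theorem sum_Icc_inv_sq (K : ℕ) (hK : 2 ≤ K) :
    ∑ m ∈ Finset.Icc 2 K, (1 : ℚ) / ((m : ℚ) ^ 2) ≤ 3 / 4 - 1 / (K : ℚ) := by
  induction K, hK using Nat.le_induction with
  | base => norm_num [Finset.Icc_self]
  | succ n hn ih =>
    rw [Finset.sum_Icc_succ_top (by omega : 2 ≤ n + 1)]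
    have hn0 : (0 : ℚ) < (n : ℚ) := by exact_mod_cast (by omega : 0 < n)
    have key : (1 : ℚ) / (((n + 1 : ℕ) : ℚ) ^ 2) ≤ 1 / (n : ℚ) - 1 / ((n + 1 : ℕ) : ℚ) := by
      push_cast
      have hn1 : (0 : ℚ) < (n : ℚ) + 1 := by linarith
      rw [div_sub_div _ _ hn0.ne' hn1.ne', div_le_div_iff₀ (by positivity) (by positivity)]
      nlinarith
    linarith

theorem sum_inv_sq_le (S : Finset ℕ) (hS : ∀ r ∈ S, 2 ≤ r) :
    ∑ r ∈ S, (1 : ℚ) / ((r : ℚ) ^ 2) ≤ 3 / 4 := by
  obtain ⟨K, hK⟩ : ∃ K, K = S.sup id + 2 := ⟨_, rfl⟩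
  have hsub : S ⊆ Finset.Icc 2 K := by
    intro r hr
    rw [Finset.mem_Icc]
    refine ⟨hS r hr, ?_⟩
    have : r ≤ S.sup id := Finset.le_sup (f := id) hr
    omega
  have h1 : ∑ r ∈ S, (1 : ℚ) / ((r : ℚ) ^ 2) ≤ ∑ r ∈ Finset.Icc 2 K, (1 : ℚ) / ((r : ℚ) ^ 2) :=
    Finset.sum_le_sum_of_subset_of_nonneg hsub (fun _ _ _ => by positivity)
  have h2 := sum_Icc_inv_sq K (by omega)
  have h3 : (0 : ℚ) ≤ 1 / (K : ℚ) := by positivity
  linarith

theorem counting_contra (S : Finset ℕ) (hS : ∀ r ∈ S, 2 ≤ r) (t : ℕ → ℕ) (g : ℕ)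
    (ht : ∀ r ∈ S, t r * r ^ 2 ≤ g) : 4 * ∑ r ∈ S, t r ≤ 3 * g := by
  have h1 : ∀ r ∈ S, (t r : ℚ) ≤ (g : ℚ) * (1 / (r : ℚ) ^ 2) := by
    intro r hr
    have hr2 := hS r hr
    have hr0 : (0 : ℚ) < (r : ℚ) := by exact_mod_cast (by omega : 0 < r)
    have hpos : (0 : ℚ) < (r : ℚ) ^ 2 := by positivity
    rw [mul_one_div, le_div_iff₀ hpos]
    exact_mod_cast ht r hr
  have h2 : (∑ r ∈ S, (t r : ℚ)) ≤ (g : ℚ) * (3 / 4) := by
    calc ∑ r ∈ S, (t r : ℚ) ≤ ∑ r ∈ S, (g : ℚ) * (1 / (r : ℚ) ^ 2) := Finset.sum_le_sum h1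
      _ = (g : ℚ) * ∑ r ∈ S, 1 / (r : ℚ) ^ 2 := by rw [Finset.mul_sum]
      _ ≤ (g : ℚ) * (3 / 4) :=
        mul_le_mul_of_nonneg_left (sum_inv_sq_le S hS) (by positivity)
  have h3 : ((4 * ∑ r ∈ S, t r : ℕ) : ℚ) ≤ ((3 * g : ℕ) : ℚ) := by
    push_cast
    linarith
  exact_mod_cast h3

end counting

section generic2
variable {G : Type*} [Group G]

/-- noncentral elements whose centralizer maps onto a Sylow `r`-subgroup of `G/Z(G)` -/
def mcT (G : Type*) [Group G] (r : ℕ) : Set G :=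
  {y : G | y ∉ Subgroup.center G ∧ ∃ P : Sylow r (G ⧸ Subgroup.center G),
    (P : Subgroup (G ⧸ Subgroup.center G)) = (cz y).map qz}

/-- the center of the centralizer, as a subgroup of `G` -/
def mcB (y : G) : Subgroup G := (Subgroup.center ↥(cz y)).map (cz y).subtype

theorem mem_mcB_iff (y b : G) : b ∈ mcB y ↔ b ∈ cz y ∧ ∀ m ∈ cz y, m * b = b * m := by
  constructor
  · rintro ⟨⟨b', hb'⟩, hbc, rfl⟩
    refine ⟨hb', fun m hm => ?_⟩
    have := (Subgroup.mem_center_iff.1 hbc) ⟨m, hm⟩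
    exact congrArg Subtype.val this
  · rintro ⟨hb, hcomm⟩
    refine ⟨⟨b, hb⟩, Subgroup.mem_center_iff.2 ?_, rfl⟩
    intro m
    exact Subtype.ext (hcomm m.1 m.2)

theorem center_le_mcB (y : G) : Subgroup.center G ≤ mcB y := by
  intro z hz
  rw [mem_mcB_iff]
  exact ⟨center_le_cz y hz, fun m _ => (Subgroup.mem_center_iff.1 hz) m⟩

theorem mem_frobeniusKernel_iff (H : Subgroup G) (u : G) :
    u ∈ Cfsg.frobeniusKernel H ↔ u = 1 ∨ ∀ g : G, u ∉ cj g H := Iff.rfl

variable [Finite G]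

theorem sylow_of_coatom_pgroup {r : ℕ} [Fact r.Prime]
    (hnp : ¬ IsPGroup r G) {M : Subgroup G} (hM : IsCoatom M) (hP : IsPGroup r M) :
    ∃ P : Sylow r G, (P : Subgroup G) = M := by
  obtain ⟨P, hMP⟩ := hP.exists_le_sylow
  refine ⟨P, ?_⟩
  rcases hM.le_iff.1 hMP with h1 | h1
  · exfalso
    apply hnp
    intro g
    obtain ⟨k, hk⟩ := P.2 ⟨g, by rw [h1]; exact Subgroup.mem_top g⟩
    refine ⟨k, ?_⟩
    have := congrArg Subtype.val hk
    simpa using this
  · exact h1

theorem mc_card_mcB {y : G} {r : ℕ} (hr : r.Prime)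
    (hna : ¬ ∀ c ∈ cz y, ∀ d ∈ cz y, c * d = d * c) (hP : IsPGroup r ((cz y).map qz)) :
    Nat.card (mcB y) * r ^ 2 ≤ Nat.card (cz y) := by
  have hna' : ¬ ∀ a b : ↥(cz y), a * b = b * a := by
    intro hcon
    apply hna
    intro c hc d hd
    exact congrArg Subtype.val (hcon ⟨c, hc⟩ ⟨d, hd⟩)
  have hrel : ∀ m : ↥(cz y), ∃ k : ℕ, m ^ (r ^ k) ∈ Subgroup.center ↥(cz y) := by
    intro m
    obtain ⟨k, hk⟩ := hP ⟨qz m.1, Subgroup.mem_map_of_mem qz m.2⟩
    refine ⟨k, ?_⟩
    have h1 : (qz m.1) ^ (r ^ k) = 1 := by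
      have := congrArg Subtype.val hk
      simpa using this
    rw [← map_pow] at h1
    have h2 : (m.1) ^ (r ^ k) ∈ Subgroup.center G := (qz_eq_one_iff _).1 h1
    rw [Subgroup.mem_center_iff]
    intro g
    apply Subtype.ext
    have := (Subgroup.mem_center_iff.1 h2) g.1
    simpa using this
  have hdvd := sq_dvd_index_center hr hna' hrel
  have hcard : Nat.card (mcB y) = Nat.card (Subgroup.center ↥(cz y)) :=
    Subgroup.card_map_of_injective (Subgroup.subtype_injective _)
  have hmul := Subgroup.card_mul_index (Subgroup.center ↥(cz y))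
  rw [hcard, ← hmul]
  apply Nat.mul_le_mul_left
  apply Nat.le_of_dvd _ hdvd
  exact Nat.pos_of_ne_zero (Subgroup.index_ne_zero_of_finite)

theorem mc_cover (hsyl : ∀ y : G, y ∉ Subgroup.center G → ∃ r : ℕ, r.Prime ∧
      ∃ P : Sylow r (G ⧸ Subgroup.center G),
        (P : Subgroup (G ⧸ Subgroup.center G)) = (cz y).map qz) :
    ((Subgroup.center G : Set G))ᶜ ⊆ ⋃ r ∈ (Nat.card G).primeFactors, mcT G r := by
  intro y hy
  have hyZ : y ∉ Subgroup.center G := hy
  obtain ⟨r, hr, P, hP⟩ := hsyl y hyZ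
  haveI : Fact r.Prime := ⟨hr⟩
  obtain ⟨k, hk⟩ := IsPGroup.iff_card.1 P.2
  have hk0 : k ≠ 0 := by
    rintro rfl
    rw [pow_zero] at hk
    have hbot : (P : Subgroup (G ⧸ Subgroup.center G)) = ⊥ := Subgroup.card_eq_one.1 hk
    have h1 : qz y ∈ (cz y).map qz := Subgroup.mem_map_of_mem qz (self_mem_cz y)
    rw [← hP, hbot, Subgroup.mem_bot] at h1
    exact hyZ ((qz_eq_one_iff y).1 h1)
  have hdvd : r ∣ Nat.card G := by
    have h1 : r ∣ Nat.card (P : Subgroup (G ⧸ Subgroup.center G)) := by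
      rw [hk]; exact dvd_pow_self r hk0
    exact h1.trans ((Subgroup.card_subgroup_dvd_card _).trans
      (Subgroup.card_quotient_dvd_card (Subgroup.center G)))
  exact Set.mem_iUnion₂.2 ⟨r, Nat.mem_primeFactors.2 ⟨hr, hdvd, Nat.card_pos.ne'⟩, hyZ, P, hP⟩

end generic2

section abstractFrob

theorem frob_min_structure {Q : Type*} [Group Q] [Finite Q] (K M : Subgroup Q) [hKn : K.Normal]
    (hKab : ∀ a ∈ K, ∀ b ∈ K, a * b = b * a) (hinf : K ⊓ M = ⊥)
    (hM : IsCoatom M) (hq : K.index.Prime) (hZ : Subgroup.center Q = ⊥) (hKne : K ≠ ⊥) :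
    ¬ IsMulCommutative Q ∧ (∀ H : Subgroup Q, H ≠ ⊤ → IsMulCommutative ↥H) ∧
      ∃ p q a : ℕ, p.Prime ∧ q.Prime ∧ p ≠ q ∧ Nat.card Q = p ^ a * q ∧
        ∀ P : Subgroup Q, Nat.card ↥P = p ^ a → P.Normal := by
  classical
  -- K is a coatom
  have hKco : IsCoatom K := by
    constructor
    · intro htop
      rw [htop, Subgroup.index_top] at hq
      exact Nat.not_prime_one hq
    · intro H hH
      have h1 : K.relIndex H * H.index = K.index := Subgroup.relIndex_mul_index hH.le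
      rcases (Nat.dvd_prime hq).1 (Dvd.intro_left _ h1) with h2 | h2
      · exact Subgroup.index_eq_one.1 h2
      · exfalso
        rw [h2] at h1
        have h3 : K.relIndex H = 1 := by
          have : K.relIndex H * K.index = 1 * K.index := by rw [h1, one_mul]
          exact Nat.eq_of_mul_eq_mul_right hq.pos this
        exact (not_le_of_gt hH) (Subgroup.relIndex_eq_one.1 h3)
  -- splitting lemma
  have hsplit : ∀ L : Subgroup Q, L.Normal → L ≤ K → L ≠ ⊥ → K ≤ L := by
    intro L hLn hLK hLne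
    haveI := hLn
    have hML : M ⊔ L = ⊤ := by
      rcases hM.le_iff.1 (le_sup_left : M ≤ M ⊔ L) with h1 | h1
      · exact h1
      · exfalso
        apply hLne
        have hLM : L ≤ M := by rw [← h1]; exact le_sup_right
        rw [eq_bot_iff, ← hinf]
        exact le_inf hLK hLM
    intro k hk
    have hk' : k ∈ ((M ⊔ L : Subgroup Q) : Set Q) := by rw [hML]; exact Subgroup.mem_top k
    rw [Subgroup.mul_normal] at hk'
    obtain ⟨m, hm, l, hl, hml⟩ := Set.mem_mul.1 hk'
    have hmK : m ∈ K := by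
      have : m = k * l⁻¹ := by rw [← hml]; group
      rw [this]; exact K.mul_mem hk (K.inv_mem (hLK hl))
    have hm1 : m = 1 := by
      have : m ∈ K ⊓ M := ⟨hmK, hm⟩
      rwa [hinf, Subgroup.mem_bot] at this
    rw [← hml, hm1, one_mul]; exact hl
  have hKcard : Nat.card K ≠ 1 := fun h1 => hKne (Subgroup.card_eq_one.1 h1)
  obtain ⟨p, hp, hpd⟩ := Nat.exists_prime_and_dvd hKcard
  haveI : Fact p.Prime := ⟨hp⟩
  obtain ⟨k0, hk0⟩ := exists_prime_orderOf_dvd_card' p hpd
  let T : Subgroup Q :=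
    { carrier := {t | t ∈ K ∧ t ^ p = 1}
      mul_mem' := by
        rintro a b ⟨ha, ha'⟩ ⟨hb, hb'⟩
        refine ⟨K.mul_mem ha hb, ?_⟩
        rw [(show Commute a b from hKab a ha b hb).mul_pow, ha', hb', one_mul]
      one_mem' := ⟨K.one_mem, one_pow p⟩
      inv_mem' := by
        rintro a ⟨ha, ha'⟩
        exact ⟨K.inv_mem ha, by rw [inv_pow, ha', inv_one]⟩ }
  have hTmem : ∀ t : Q, t ∈ T ↔ t ∈ K ∧ t ^ p = 1 := fun t => Iff.rfl
  have hTn : T.Normal := by
    refine ⟨fun t ht g => (hTmem _).2 ⟨hKn.conj_mem t ((hTmem t).1 ht).1 g, ?_⟩⟩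
    rw [conj_pow, ((hTmem t).1 ht).2, mul_one, mul_inv_cancel]
  have hTK : T ≤ K := fun t ht => ((hTmem t).1 ht).1
  have hTne : T ≠ ⊥ := by
    intro hbot
    have hk0T : (k0 : Q) ∈ T := by
      refine (hTmem _).2 ⟨k0.2, ?_⟩
      have h1 : k0 ^ p = 1 := by rw [← hk0]; exact pow_orderOf_eq_one k0
      have h2 := congrArg Subtype.val h1
      simpa using h2
    rw [hbot, Subgroup.mem_bot] at hk0T
    have : k0 = 1 := Subtype.ext hk0T
    rw [this, orderOf_one] at hk0
    exact hp.one_lt.ne hk0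
  have hKT : K ≤ T := hsplit T hTn hTK hTne
  have hexp : ∀ k ∈ K, k ^ p = 1 := fun k hk => ((hTmem k).1 (hKT hk)).2
  have hKp : IsPGroup p K := by
    intro k
    refine ⟨1, ?_⟩
    rw [pow_one]
    exact Subtype.ext (by simpa using hexp k.1 k.2)
  obtain ⟨a, ha⟩ := IsPGroup.iff_card.1 hKp
  have hcard : Nat.card Q = p ^ a * K.index := by
    rw [← ha]; exact (Subgroup.card_mul_index K).symm
  have hpq : p ≠ K.index := by
    intro hpq
    have hQ : IsPGroup p Q := by
      apply IsPGroup.of_card (n := a + 1)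
      rw [hcard, ← hpq, pow_succ]
    haveI : Nontrivial Q := by
      obtain ⟨k, hk⟩ := (Subgroup.ne_bot_iff_exists_ne_one).1 hKne
      exact ⟨⟨k.1, 1, fun h => hk (Subtype.ext h)⟩⟩
    haveI := hQ.center_nontrivial
    obtain ⟨⟨z, hz⟩, hz1⟩ := exists_ne (1 : Subgroup.center Q)
    apply hz1
    have hz' := hz
    rw [hZ, Subgroup.mem_bot] at hz'
    exact Subtype.ext hz'
  refine ⟨?_, ?_, p, K.index, a, hp, hq, hpq, hcard, ?_⟩
  · intro hcomm
    apply hKne
    rw [eq_bot_iff, ← hZ]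
    intro k _
    rw [Subgroup.mem_center_iff]
    intro g
    exact hcomm.is_comm.comm g k
  · intro H hH
    by_cases hHK : H ≤ K
    · exact ⟨⟨fun a b => Subtype.ext (hKab a.1 (hHK a.2) b.1 (hHK b.2))⟩⟩
    · have hHKtop : H ⊔ K = ⊤ := by
        rcases hKco.le_iff.1 (le_sup_right : K ≤ H ⊔ K) with h1 | h1
        · exact h1
        · exact absurd (by rw [← h1]; exact le_sup_left) hHK
      have hLn : (H ⊓ K).Normal := by
        refine ⟨fun l hl g => ?_⟩
        have hg : g ∈ ((H ⊔ K : Subgroup Q) : Set Q) := by rw [hHKtop]; exact Subgroup.mem_top g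
        rw [Subgroup.mul_normal] at hg
        obtain ⟨u, hu, k, hk, huk⟩ := Set.mem_mul.1 hg
        have e : g * l * g⁻¹ = u * l * u⁻¹ := by
          rw [← huk]
          have hkl : k * l = l * k := hKab k hk l hl.2
          calc u * k * l * (u * k)⁻¹ = u * (k * l) * k⁻¹ * u⁻¹ := by group
            _ = u * (l * k) * k⁻¹ * u⁻¹ := by rw [hkl]
            _ = u * l * u⁻¹ := by group
        refine ⟨?_, hKn.conj_mem l hl.2 g⟩
        rw [e]
        exact H.mul_mem (H.mul_mem hu hl.1) (H.inv_mem hu)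
      by_cases hLbot : H ⊓ K = ⊥
      · have hcomK : commutator Q ≤ K := commutator_le_of_prime_index' K hq
        refine ⟨⟨fun a b => Subtype.ext ?_⟩⟩
        have h1 : ⁅(a : Q), (b : Q)⁆ ∈ H ⊓ K := by
          refine ⟨?_, hcomK ?_⟩
          · rw [commutatorElement_def]
            exact H.mul_mem (H.mul_mem (H.mul_mem a.2 b.2) (H.inv_mem a.2)) (H.inv_mem b.2)
          · rw [commutator_def]
            exact Subgroup.commutator_mem_commutator (Subgroup.mem_top _) (Subgroup.mem_top _)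
        rw [hLbot, Subgroup.mem_bot] at h1
        exact (commutatorElement_eq_one_iff_mul_comm.1 h1)
      · exfalso
        have hKL : K ≤ H ⊓ K := hsplit _ hLn inf_le_right hLbot
        have hKH : K ≤ H := hKL.trans inf_le_left
        have : H = ⊤ := by
          rcases hKco.le_iff.1 hKH with h1 | h1
          · exact h1
          · exact absurd (le_of_eq h1) hHK
        exact hH this
  · intro P hP
    have hPK : P ≤ K := by
      intro g hg
      have h1 : orderOf ((QuotientGroup.mk' K) g) ∣ p ^ a := by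
        rw [← hP]
        exact (orderOf_map_dvd _ g).trans (Subgroup.orderOf_dvd_natCard P hg)
      have h2 : orderOf ((QuotientGroup.mk' K) g) ∣ K.index := by
        rw [Subgroup.index_eq_card]
        exact orderOf_dvd_natCard _
      have hcop : (p ^ a).Coprime K.index :=
        Nat.Coprime.pow_left a ((Nat.coprime_primes hp hq).2 hpq)
      have h3 : orderOf ((QuotientGroup.mk' K) g) = 1 := Nat.eq_one_of_dvd_coprimes hcop h1 h2
      rw [orderOf_eq_one_iff] at h3
      exact (QuotientGroup.eq_one_iff g).1 h3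
    have : P = K := Subgroup.eq_of_le_of_card_ge hPK (by rw [hP, ha])
    rw [this]; exact hKn

end abstractFrob

section maxcent
variable {G : Type*} [Group G] [Finite G]
variable (h : ∀ x : G, x ∉ Subgroup.center G → IsCoatom (cz x))
include h

theorem mc_cz_eq_of_le {x y : G} (hx : x ∉ Subgroup.center G) (hy : y ∉ Subgroup.center G)
    (hle : cz x ≤ cz y) : cz x = cz y := by
  rcases (h x hx).le_iff.1 hle with h1 | h1
  · exact absurd h1 (h y hy).1
  · exact h1.symm

theorem mc_cz_eq_of_commute_coprime {x y : G} (hx : x ∉ Subgroup.center G)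
    (hy : y ∉ Subgroup.center G) (hxy : x * y = y * x)
    (hcop : (orderOf x).Coprime (orderOf y)) : cz x = cz y := by
  have h1 := mem_zpowers_mul_of_coprime hxy hcop
  have h2 : y ∈ Subgroup.zpowers (x * y) := by
    have := mem_zpowers_mul_of_coprime hxy.symm hcop.symm
    rwa [← hxy] at this
  have hxyc : x * y ∉ Subgroup.center G := fun hc => hx (central_of_mem_zpowers h1 hc)
  have e1 : cz (x * y) = cz x := mc_cz_eq_of_le h hxyc hx (cz_le_of_mem_zpowers h1)
  have e2 : cz (x * y) = cz y := mc_cz_eq_of_le h hxyc hy (cz_le_of_mem_zpowers h2)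
  exact e1.symm.trans e2

theorem mc_exists_rel {y : G} (hy : y ∉ Subgroup.center G) :
    ∃ r : ℕ, r.Prime ∧ ∃ w : G, w ∉ Subgroup.center G ∧ IsRel r w ∧ cz w = cz y := by
  obtain ⟨r, hr, w, hw, hwc, hwr⟩ := exists_noncentral_rel y hy
  exact ⟨r, hr, w, hwc, hwr, (mc_cz_eq_of_le h hy hwc (cz_le_of_mem_zpowers hw)).symm⟩

/-- If `x` is a noncentral `q`-element and `cz x` contains a noncentral `r`-element with `r ≠ q`,
then `cz x` is abelian. -/
theorem mc_no_other_prime {q r : ℕ} (hq : q.Prime) (hr : r.Prime) (hne : q ≠ r) {x t : G}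
    (hx : x ∉ Subgroup.center G) (hxq : IsRel q x) (ht : t ∉ Subgroup.center G) (htr : IsRel r t)
    (htx : t ∈ cz x) : ∀ c ∈ cz x, ∀ d ∈ cz x, c * d = d * c := by
  have hcop : (orderOf x).Coprime (orderOf t) := coprime_orderOf_of_isRel hq hr hne hxq htr
  have hxt : x * t = t * x := (mem_cz.1 htx).symm
  have h3 : cz x = cz t := mc_cz_eq_of_commute_coprime h hx ht hxt hcop
  intro c hc d hd'
  obtain ⟨a, ha, b, hb, hab, hra, hbcop, -⟩ := exists_r_decomp q hq c
  have haC : a ∈ cz x := (Subgroup.zpowers_le.2 hc) ha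
  have hbC : b ∈ cz x := (Subgroup.zpowers_le.2 hc) hb
  have hbd : d * b = b * d := by
    by_cases hbz : b ∈ Subgroup.center G
    · exact ((Subgroup.mem_center_iff.1 hbz) d)
    · have hb1 : (orderOf x).Coprime (orderOf b) := by
        obtain ⟨k, hk⟩ := orderOf_dvd_of_isRel hxq
        exact Nat.Coprime.coprime_dvd_left hk (Nat.Coprime.pow_left k hbcop.symm)
      have hxb : x * b = b * x := (mem_cz.1 hbC).symm
      have e := mc_cz_eq_of_commute_coprime h hx hbz hxb hb1
      rw [e] at hd'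
      exact mem_cz.1 hd'
  have had : d * a = a * d := by
    by_cases haz : a ∈ Subgroup.center G
    · exact ((Subgroup.mem_center_iff.1 haz) d)
    · have ha1 : (orderOf t).Coprime (orderOf a) :=
        coprime_orderOf_of_isRel hr hq hne.symm htr hra
      have hta : t * a = a * t := by
        rw [h3] at haC
        exact (mem_cz.1 haC).symm
      have e := mc_cz_eq_of_commute_coprime h ht haz hta ha1
      rw [h3, e] at hd'
      exact mem_cz.1 hd'
  rw [hab]
  calc a * b * d = a * (b * d) := by group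
    _ = a * (d * b) := by rw [hbd]
    _ = a * d * b := by group
    _ = d * a * b := by rw [had]
    _ = d * (a * b) := by group

theorem mc_pow_mem_center {q : ℕ} (hq : q.Prime) {x : G}
    (hx : x ∉ Subgroup.center G) (hxq : IsRel q x)
    (hna : ¬ ∀ c ∈ cz x, ∀ d ∈ cz x, c * d = d * c) :
    ∀ m ∈ cz x, ∃ k : ℕ, m ^ (q ^ k) ∈ Subgroup.center G := by
  intro m hm
  obtain ⟨a, ha, b, hb, hab, hra, hbcop, -⟩ := exists_r_decomp q hq m
  have hbC : b ∈ cz x := (Subgroup.zpowers_le.2 hm) hb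
  have hbz : b ∈ Subgroup.center G := by
    by_contra hbz
    obtain ⟨r, hr, w, hw, hwc, hwr⟩ := exists_noncentral_rel b hbz
    have hwC : w ∈ cz x := (Subgroup.zpowers_le.2 hbC) hw
    by_cases hqr : q = r
    · subst hqr
      obtain ⟨k, hk⟩ := orderOf_dvd_of_isRel hwr
      have hdvd : orderOf w ∣ orderOf b := orderOf_dvd_of_mem_zpowers hw
      have hc : (orderOf w).Coprime (q ^ k) :=
        Nat.Coprime.coprime_dvd_left hdvd (Nat.Coprime.pow_right k hbcop)
      have h1 : orderOf w = 1 := hc.eq_one_of_dvd hk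
      rw [orderOf_eq_one_iff] at h1
      exact hwc (h1 ▸ Subgroup.one_mem _)
    · exact hna (mc_no_other_prime h hq hr hqr hx hxq hwc hwr hwC)
  obtain ⟨k, hk⟩ := hra
  refine ⟨k, ?_⟩
  have hcomm : Commute a b := ((Subgroup.mem_center_iff.1 hbz) a)
  rw [hab, hcomm.mul_pow, hk, one_mul]
  exact Subgroup.pow_mem _ hbz _

theorem mc_caseA (hna : ¬ IsMulCommutative G)
    (hn : ∀ x : G, x ∉ Subgroup.center G → (cz x).Normal) :
    ∃ p : ℕ, p.Prime ∧ Cfsg.IsElementaryAbelian p (⊤ : Subgroup (G ⧸ Subgroup.center G)) := by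
  have hpi : ∀ x : G, x ∉ Subgroup.center G → (cz x).index.Prime := fun x hx => by
    haveI := hn x hx
    exact prime_index_of_normal_coatom (h x hx)
  have hcc : ∀ a b : G, ⁅a, b⁆ ∈ Subgroup.center G := by
    intro a b
    rw [Subgroup.mem_center_iff]
    intro y
    by_cases hy : y ∈ Subgroup.center G
    · exact ((Subgroup.mem_center_iff.1 hy) ⁅a, b⁆).symm
    · haveI := hn y hy
      have h1 : commutator G ≤ cz y := commutator_le_of_prime_index' (cz y) (hpi y hy)
      have h2 : ⁅a, b⁆ ∈ cz y := h1 (by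
        rw [commutator_def]
        exact Subgroup.commutator_mem_commutator (Subgroup.mem_top a) (Subgroup.mem_top b))
      exact (mem_cz.1 h2).symm
  have hpow : ∀ x : G, x ∉ Subgroup.center G → x ^ (cz x).index ∈ Subgroup.center G := by
    intro x hx
    haveI := hn x hx
    exact pow_central_of_class_two hcc (fun y => Subgroup.pow_index_mem (cz x) y)
  have hqcomm : ∀ u v : G ⧸ Subgroup.center G, u * v = v * u := by
    intro u v
    obtain ⟨a, rfl⟩ := QuotientGroup.mk_surjective u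
    obtain ⟨b, rfl⟩ := QuotientGroup.mk_surjective v
    rw [← QuotientGroup.mk_mul, ← QuotientGroup.mk_mul, QuotientGroup.eq]
    have h1 := hcc b⁻¹ a⁻¹
    rw [commutatorElement_def] at h1
    have e : (a * b)⁻¹ * (b * a) = b⁻¹ * a⁻¹ * b⁻¹⁻¹ * a⁻¹⁻¹ := by group
    rw [e]; exact h1
  have hprime : ∀ u : G ⧸ Subgroup.center G, u ≠ 1 → (orderOf u).Prime := by
    intro u hu
    obtain ⟨x, rfl⟩ := QuotientGroup.mk_surjective u
    have hx : x ∉ Subgroup.center G := fun hx => hu ((QuotientGroup.eq_one_iff x).2 hx)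
    have hp := hpi x hx
    haveI : Fact (cz x).index.Prime := ⟨hp⟩
    have h1 : (x : G ⧸ Subgroup.center G) ^ (cz x).index = 1 := by
      rw [← QuotientGroup.mk_pow]; exact (QuotientGroup.eq_one_iff _).2 (hpow x hx)
    rw [orderOf_eq_prime h1 hu]; exact hp
  obtain ⟨x0, hx0⟩ := exists_not_mem_center hna
  have hu0 : (x0 : G ⧸ Subgroup.center G) ≠ 1 := fun h1 => hx0 ((QuotientGroup.eq_one_iff x0).1 h1)
  have hp := hprime _ hu0
  refine ⟨orderOf (x0 : G ⧸ Subgroup.center G), hp,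
    ⟨⟨fun a b => Subtype.ext (hqcomm a.1 b.1)⟩⟩, ?_⟩
  intro a _
  by_cases ha : a = 1
  · rw [ha, one_pow]
  · have hq := hprime a ha
    by_cases hpq : orderOf a = orderOf (x0 : G ⧸ Subgroup.center G)
    · rw [← hpq]; exact pow_orderOf_eq_one a
    · exfalso
      have hcop : (orderOf (x0 : G ⧸ Subgroup.center G)).Coprime (orderOf a) :=
        (Nat.coprime_primes hp hq).2 (Ne.symm hpq)
      have hmul : orderOf ((x0 : G ⧸ Subgroup.center G) * a) =
          orderOf (x0 : G ⧸ Subgroup.center G) * orderOf a :=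
        (show Commute (x0 : G ⧸ Subgroup.center G) a from hqcomm _ a).orderOf_mul_eq_mul_orderOf_of_coprime hcop
      have hne1 : (x0 : G ⧸ Subgroup.center G) * a ≠ 1 := by
        intro h1
        rw [h1, orderOf_one] at hmul
        have := hp.two_le
        have := hq.two_le
        nlinarith
      have h2 := hprime _ hne1
      rw [hmul] at h2
      exact Nat.not_prime_mul hp.one_lt.ne' hq.one_lt.ne' h2

theorem mc_caseB1 {x : G} (hx : x ∉ Subgroup.center G) (hnn : ¬ (cz x).Normal)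
    (hab : ∀ c ∈ cz x, ∀ d ∈ cz x, c * d = d * c) :
    ¬ IsMulCommutative (G ⧸ Subgroup.center G) ∧
      (∀ H : Subgroup (G ⧸ Subgroup.center G), H ≠ ⊤ → IsMulCommutative ↥H) ∧
      ∃ p q a : ℕ, p.Prime ∧ q.Prime ∧ p ≠ q ∧ Nat.card (G ⧸ Subgroup.center G) = p ^ a * q ∧
        ∀ P : Subgroup (G ⧸ Subgroup.center G), Nat.card ↥P = p ^ a → P.Normal := by
  have hZM : Subgroup.center G ≤ cz x := center_le_cz x
  have hMco : IsCoatom (cz x) := h x hx
  have hNM : Subgroup.normalizer ((cz x : Subgroup G) : Set G) = cz x :=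
    normalizer_eq_of_coatom_not_normal hMco hnn
  have hMbco : IsCoatom ((cz x).map qz) := Cfsg.Agent.Lib.Helper2.isCoatom_map_mk' _ hMco hZM
  have hconj : ∀ g c : G, c ∉ Subgroup.center G → c ∈ cj g (cz x) → cz c = cj g (cz x) := by
    intro g c hc hcg
    have hgx : g * x * g⁻¹ ∉ Subgroup.center G := conj_not_mem_center' hx g
    have e : cz (g * x * g⁻¹) = cj g (cz x) := cz_conj g x
    rw [← e]
    symm
    apply mc_cz_eq_of_le h hgx hc
    rw [e]
    intro u hu
    rw [mem_cj_iff] at hu hcg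
    have h1 := hab _ hu _ hcg
    rw [mem_cz]
    have h2 : g⁻¹ * (u * c) * g = g⁻¹ * (c * u) * g := by
      calc g⁻¹ * (u * c) * g = (g⁻¹ * u * g) * (g⁻¹ * c * g) := by group
        _ = (g⁻¹ * c * g) * (g⁻¹ * u * g) := h1
        _ = g⁻¹ * (c * u) * g := by group
    exact mul_left_cancel (mul_right_cancel h2)
  have hfrob : Cfsg.IsFrobeniusComplement ((cz x).map qz) := by
    refine ⟨?_, hMbco.1, ?_⟩
    · intro hbot
      have h1 : qz x ∈ (cz x).map qz := Subgroup.mem_map_of_mem qz (self_mem_cz x)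
      rw [hbot, Subgroup.mem_bot] at h1
      exact hx ((qz_eq_one_iff x).1 h1)
    · intro gb hgb
      obtain ⟨g, rfl⟩ := qz_surjective gb
      have hg : g ∉ cz x := fun hg => hgb (Subgroup.mem_map_of_mem qz hg)
      rw [eq_bot_iff]
      intro ub hub
      have hub1 : ub ∈ (cz x).map qz := (Subgroup.mem_inf.1 hub).1
      have hub2 : ub ∈ cj (qz g) ((cz x).map qz) := (Subgroup.mem_inf.1 hub).2
      obtain ⟨b, rfl⟩ := qz_surjective ub
      rw [Subgroup.mem_bot]
      by_contra hne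
      have hbZ : b ∉ Subgroup.center G := fun hb => hne ((qz_eq_one_iff b).2 hb)
      have hbM : b ∈ cz x := (mem_map_qz_iff hZM b).1 hub1
      have hbg : b ∈ cj g (cz x) := (mem_cj_qz_iff hZM g b).1 hub2
      have e1 : cz b = cj 1 (cz x) := hconj 1 b hbZ (by rw [cj_one]; exact hbM)
      have e2 : cz b = cj g (cz x) := hconj g b hbZ hbg
      rw [cj_one] at e1
      have hle : cj g (cz x) ≤ cz x := by rw [← e2, e1]
      exact hg (mem_of_cj_le hNM hle)
  obtain ⟨Kb, hKset, hKn, hKc⟩ := Cfsg.Agent.Lib.Helper8.frobenius_kernel_thm _ hfrob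
  haveI := hKn
  have hcompl := hKc.isCompl
  have hinf : Kb ⊓ (cz x).map qz = ⊥ := hcompl.inf_eq_bot
  have hsup : Kb ⊔ (cz x).map qz = ⊤ := hcompl.sup_eq_top
  have hKbne : Kb ≠ ⊥ := by
    intro hb
    rw [hb, bot_sup_eq] at hsup
    exact hMbco.1 hsup
  have hKbtop : Kb ≠ ⊤ := by
    intro ht
    rw [ht, top_inf_eq] at hinf
    exact hfrob.1 hinf
  have hKmem : ∀ u : G ⧸ Subgroup.center G,
      u ∈ Kb ↔ u ∈ Cfsg.frobeniusKernel ((cz x).map qz) := by
    intro u
    rw [← hKset]; rfl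
  have hKcz : ∀ y : G, qz y ∈ Kb → y ∉ Subgroup.center G → cz y = Kb.comap qz := by
    intro y hyK hyZ
    have hle : cz y ≤ Kb.comap qz := by
      intro c hc
      rw [Subgroup.mem_comap, hKmem, mem_frobeniusKernel_iff]
      by_cases hcZ : c ∈ Subgroup.center G
      · exact Or.inl ((qz_eq_one_iff c).2 hcZ)
      · refine Or.inr ?_
        intro gb hmem
        obtain ⟨g, rfl⟩ := qz_surjective gb
        have hcg : c ∈ cj g (cz x) := (mem_cj_qz_iff hZM g c).1 hmem
        have e := hconj g c hcZ hcg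
        have hyc : y ∈ cz c := mem_cz.2 (mem_cz.1 hc).symm
        rw [e] at hyc
        have hy2 : qz y ∈ cj (qz g) ((cz x).map qz) := (mem_cj_qz_iff hZM g y).2 hyc
        rcases (mem_frobeniusKernel_iff _ _).1 ((hKmem _).1 hyK) with h1 | h1
        · exact hyZ ((qz_eq_one_iff y).1 h1)
        · exact h1 (qz g) hy2
    rcases (h y hyZ).le_iff.1 hle with h1 | h1
    · exfalso
      apply hKbtop
      rw [Subgroup.eq_top_iff']
      intro u
      obtain ⟨u0, rfl⟩ := qz_surjective u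
      have h2 : u0 ∈ Kb.comap qz := by rw [h1]; exact Subgroup.mem_top _
      exact h2
    · exact h1.symm
  obtain ⟨⟨y0b, hy0K⟩, hy0ne⟩ := (Subgroup.ne_bot_iff_exists_ne_one).1 hKbne
  obtain ⟨y0, rfl⟩ := qz_surjective y0b
  have hy0Z : y0 ∉ Subgroup.center G := by
    intro hz
    apply hy0ne
    exact Subtype.ext ((qz_eq_one_iff y0).2 hz)
  have hK0 : cz y0 = Kb.comap qz := hKcz y0 hy0K hy0Z
  have hKab : ∀ a ∈ Kb, ∀ b ∈ Kb, a * b = b * a := by
    intro a ha b hb
    obtain ⟨a0, rfl⟩ := qz_surjective a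
    obtain ⟨b0, rfl⟩ := qz_surjective b
    have hcomm : a0 * b0 = b0 * a0 := by
      by_cases haZ : a0 ∈ Subgroup.center G
      · exact ((Subgroup.mem_center_iff.1 haZ) b0).symm
      · have e := hKcz a0 ha haZ
        have hb' : b0 ∈ cz a0 := by rw [e]; exact hb
        exact (mem_cz.1 hb').symm
    rw [← map_mul, ← map_mul, hcomm]
  have hidx : Kb.index.Prime := by
    have h1 : (Kb.comap qz).index = Kb.index :=
      Subgroup.index_comap_of_surjective Kb qz_surjective
    rw [← h1]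
    have hco : IsCoatom (Kb.comap qz) := by rw [← hK0]; exact h y0 hy0Z
    exact prime_index_of_normal_coatom hco
  exact frob_min_structure Kb ((cz x).map qz) hKab hinf hMbco hidx
    (center_eq_bot_of_frobenius _ hfrob) hKbne

theorem mc_not_pgroup {x : G} (hx : x ∉ Subgroup.center G) (hnn : ¬ (cz x).Normal)
    (r : ℕ) (hr : r.Prime) : ¬ IsPGroup r (G ⧸ Subgroup.center G) := by
  intro hP
  haveI : Fact r.Prime := ⟨hr⟩
  have hZM : Subgroup.center G ≤ cz x := center_le_cz x
  have hMbco : IsCoatom ((cz x).map qz) :=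
    Cfsg.Agent.Lib.Helper2.isCoatom_map_mk' _ (h x hx) hZM
  have hn : ((cz x).map qz).Normal :=
    Cfsg.Agent.Lib.Helper1.coatom_normal_of_isPGroup hP hMbco
  apply hnn
  rw [← comap_map_qz hZM]
  exact hn.comap qz

theorem mc_isPGroup_of_nonabelian {y : G} (hy : y ∉ Subgroup.center G)
    (hna : ¬ ∀ c ∈ cz y, ∀ d ∈ cz y, c * d = d * c) :
    ∃ r : ℕ, r.Prime ∧ IsPGroup r ((cz y).map qz) := by
  obtain ⟨r, hr, w, hwc, hwr, hw⟩ := mc_exists_rel h hy
  refine ⟨r, hr, ?_⟩
  have hna' : ¬ ∀ c ∈ cz w, ∀ d ∈ cz w, c * d = d * c := by rw [hw]; exact hna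
  have hpow := mc_pow_mem_center h hr hwc hwr hna'
  rintro ⟨u, hu⟩
  obtain ⟨m, hm, rfl⟩ := hu
  rw [← hw] at hm
  obtain ⟨k, hk⟩ := hpow m hm
  refine ⟨k, ?_⟩
  apply Subtype.ext
  show (qz m) ^ (r ^ k) = 1
  rw [← map_pow]
  exact (qz_eq_one_iff _).2 hk

theorem mc_no_normal {x : G} (hx : x ∉ Subgroup.center G) (hnn : ¬ (cz x).Normal)
    (hnax : ¬ ∀ c ∈ cz x, ∀ d ∈ cz x, c * d = d * c)
    {y : G} (hy : y ∉ Subgroup.center G) (hyn : (cz y).Normal) : False := by
  haveI := hyn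
  have hZM : Subgroup.center G ≤ cz x := center_le_cz x
  have hZM' : Subgroup.center G ≤ cz y := center_le_cz y
  have hMbco : IsCoatom ((cz x).map qz) :=
    Cfsg.Agent.Lib.Helper2.isCoatom_map_mk' _ (h x hx) hZM
  have hD : cz x ⊓ cz y ≤ Subgroup.center G := by
    by_cases hay : ∀ c ∈ cz y, ∀ d ∈ cz y, c * d = d * c
    · have hxy : x ∉ cz y := by
        intro hxy
        have hle : cz y ≤ cz x := by
          intro m hm
          rw [mem_cz]
          exact hay m hm x hxy
        have e := mc_cz_eq_of_le h hy hx hle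
        exact hnn (e ▸ hyn)
      intro d hd
      by_contra hdZ
      have hle : cz y ≤ cz d := by
        intro m hm
        rw [mem_cz]
        exact hay m hm d (Subgroup.mem_inf.1 hd).2
      have e := mc_cz_eq_of_le h hy hdZ hle
      apply hxy
      rw [e, mem_cz]
      exact (mem_cz.1 (Subgroup.mem_inf.1 hd).1).symm
    · obtain ⟨q, hq, hPq⟩ := mc_isPGroup_of_nonabelian h hx hnax
      obtain ⟨s, hs, hPs⟩ := mc_isPGroup_of_nonabelian h hy hay
      haveI : Fact q.Prime := ⟨hq⟩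
      haveI : Fact s.Prime := ⟨hs⟩
      by_cases hsq : s = q
      · exfalso
        subst hsq
        haveI : ((cz y).map qz).Normal := hyn.map qz qz_surjective
        have hsup : IsPGroup s ((cz x).map qz ⊔ (cz y).map qz : Subgroup _) :=
          IsPGroup.to_sup_of_normal_right hPq hPs
        rcases hMbco.le_iff.1
          (le_sup_left : (cz x).map qz ≤ (cz x).map qz ⊔ (cz y).map qz) with h1 | h1
        · apply mc_not_pgroup h hx hnn s hs
          intro g
          obtain ⟨k, hk⟩ := hsup ⟨g, by rw [h1]; exact Subgroup.mem_top g⟩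
          refine ⟨k, ?_⟩
          have := congrArg Subtype.val hk
          simpa using this
        · have hle : (cz y).map qz ≤ (cz x).map qz := by rw [← h1]; exact le_sup_right
          have hle' : cz y ≤ cz x := by
            rw [← comap_map_qz hZM, ← comap_map_qz hZM']
            exact Subgroup.comap_mono hle
          have e := mc_cz_eq_of_le h hy hx hle'
          exact hnn (e ▸ hyn)
      · intro d hd
        have hdis : Disjoint ((cz x).map qz) ((cz y).map qz) :=
          IsPGroup.disjoint_of_ne q s (Ne.symm hsq) _ _ hPq hPs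
        have h1 : qz d ∈ (cz x).map qz ⊓ (cz y).map qz :=
          Subgroup.mem_inf.2 ⟨Subgroup.mem_map_of_mem qz (Subgroup.mem_inf.1 hd).1,
            Subgroup.mem_map_of_mem qz (Subgroup.mem_inf.1 hd).2⟩
        rw [hdis.eq_bot, Subgroup.mem_bot] at h1
        exact (qz_eq_one_iff d).1 h1
  apply hnax
  haveI : IsCyclic (G ⧸ cz y) := by
    have hp := prime_index_of_normal_coatom (h y hy)
    haveI : Fact (cz y).index.Prime := ⟨hp⟩
    exact isCyclic_of_prime_card (Subgroup.index_eq_card (cz y)).symm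
  have hcomm := MonoidHom.isMulCommutative_of_isCyclic_of_ker_le_center
    ((QuotientGroup.mk' (cz y)).comp (cz x).subtype) (by
      intro m hm
      rw [MonoidHom.mem_ker, MonoidHom.comp_apply, QuotientGroup.mk'_apply,
        QuotientGroup.eq_one_iff] at hm
      have hmZ : (m : G) ∈ Subgroup.center G := hD (Subgroup.mem_inf.2 ⟨m.2, hm⟩)
      rw [Subgroup.mem_center_iff]
      intro g
      exact Subtype.ext ((Subgroup.mem_center_iff.1 hmZ) g.1))
  intro c hc d hd
  have h1 := hcomm.is_comm.comm (⟨c, hc⟩ : cz x) ⟨d, hd⟩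
  exact congrArg Subtype.val h1

theorem mc_T_bound
    (hall : ∀ y : G, y ∉ Subgroup.center G → ¬ ∀ c ∈ cz y, ∀ d ∈ cz y, c * d = d * c)
    (r : ℕ) (hr : r.Prime) : (mcT G r).ncard * r ^ 2 ≤ Nat.card G := by
  haveI : Fact r.Prime := ⟨hr⟩
  by_cases hT : (mcT G r) = ∅
  · rw [hT, Set.ncard_empty, zero_mul]; exact Nat.zero_le _
  obtain ⟨y0, hy0Z, P0, hP0⟩ := Set.nonempty_iff_ne_empty.2 hT
  have hZM : Subgroup.center G ≤ cz y0 := center_le_cz y0
  have hconj : ∀ y : G, ∃ g : G, y ∈ mcT G r → cz y = cj g (cz y0) := by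
    intro y
    by_cases hy : y ∈ mcT G r
    · obtain ⟨hyZ, P, hP⟩ := hy
      obtain ⟨gb, hgb⟩ := MulAction.exists_smul_eq (G ⧸ Subgroup.center G) P0 P
      obtain ⟨g, rfl⟩ := qz_surjective gb
      refine ⟨g, fun _ => ?_⟩
      have hZy : Subgroup.center G ≤ cz y := center_le_cz y
      ext u
      rw [← mem_map_qz_iff hZy u, ← hP, ← hgb, sylow_smul_eq_cj, hP0]
      exact mem_cj_qz_iff hZM g u
    · exact ⟨1, fun hy' => absurd hy' hy⟩
  choose gy hgy using hconj
  have hP0' : IsPGroup r ((cz y0).map qz) := hP0 ▸ P0.2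
  have hB := mc_card_mcB hr (hall y0 hy0Z) hP0'
  let f : G → (G ⧸ cz y0) × G := fun y => ((gy y : G ⧸ cz y0), (gy y)⁻¹ * y * gy y)
  have hmaps : ∀ y ∈ mcT G r,
      f y ∈ (Set.univ : Set (G ⧸ cz y0)) ×ˢ ((mcB y0 : Subgroup G) : Set G) := by
    intro y hy
    refine ⟨Set.mem_univ _, ?_⟩
    show (gy y)⁻¹ * y * gy y ∈ mcB y0
    rw [mem_mcB_iff]
    have e := hgy y hy
    have hyy : y ∈ cj (gy y) (cz y0) := by rw [← e]; exact self_mem_cz y
    refine ⟨(mem_cj_iff _ _ _).1 hyy, fun m hm => ?_⟩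
    have h1 : gy y * m * (gy y)⁻¹ ∈ cz y := by rw [e]; exact conj_mem_cj _ _ hm
    have h2 := mem_cz.1 h1
    calc m * ((gy y)⁻¹ * y * gy y)
        = (gy y)⁻¹ * (gy y * m * (gy y)⁻¹ * y) * gy y := by group
      _ = (gy y)⁻¹ * (y * (gy y * m * (gy y)⁻¹)) * gy y := by rw [h2]
      _ = (gy y)⁻¹ * y * gy y * m := by group
  have hinj : Set.InjOn f (mcT G r) := by
    intro y hy y' hy' hff
    have h1 : ((gy y : G) : G ⧸ cz y0) = (gy y' : G) := congrArg Prod.fst hff
    have h2 : (gy y)⁻¹ * y * gy y = (gy y')⁻¹ * y' * gy y' := congrArg Prod.snd hff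
    have hm : (gy y)⁻¹ * gy y' ∈ cz y0 := QuotientGroup.eq.1 h1
    have hb : (gy y)⁻¹ * y * gy y ∈ mcB y0 := (hmaps y hy).2
    have hcomm := ((mem_mcB_iff _ _).1 hb).2 _ hm
    have e1 : gy y' * ((gy y)⁻¹ * y * gy y) * (gy y')⁻¹ = y' := by rw [h2]; group
    calc y = gy y * ((gy y)⁻¹ * y * gy y) * (gy y)⁻¹ := by group
      _ = gy y * (((gy y)⁻¹ * gy y') * ((gy y)⁻¹ * y * gy y) * ((gy y)⁻¹ * gy y')⁻¹) *
            (gy y)⁻¹ := by rw [hcomm]; group
      _ = gy y' * ((gy y)⁻¹ * y * gy y) * (gy y')⁻¹ := by group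
      _ = y' := e1
  have hle := Set.ncard_le_ncard_of_injOn f hmaps hinj (Set.toFinite _)
  rw [Set.ncard_prod, Set.ncard_univ] at hle
  have hBc : ((mcB y0 : Subgroup G) : Set G).ncard = Nat.card (mcB y0) :=
    (Nat.card_coe_set_eq _).symm
  rw [hBc] at hle
  calc (mcT G r).ncard * r ^ 2
      ≤ Nat.card (G ⧸ cz y0) * Nat.card (mcB y0) * r ^ 2 := Nat.mul_le_mul_right _ hle
    _ = Nat.card (G ⧸ cz y0) * (Nat.card (mcB y0) * r ^ 2) := by ring
    _ ≤ Nat.card (G ⧸ cz y0) * Nat.card (cz y0) := Nat.mul_le_mul_left _ hB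
    _ = Nat.card G := (Subgroup.card_eq_card_quotient_mul_card_subgroup (cz y0)).symm

theorem mc_caseB2 {x : G} (hx : x ∉ Subgroup.center G) (hnn : ¬ (cz x).Normal)
    (hnab : ∀ y : G, y ∉ Subgroup.center G → ¬ (cz y).Normal →
      ¬ ∀ c ∈ cz y, ∀ d ∈ cz y, c * d = d * c) : False := by
  have hnax := hnab x hx hnn
  have hall_nn : ∀ y : G, y ∉ Subgroup.center G → ¬ (cz y).Normal :=
    fun y hy hyn => mc_no_normal h hx hnn hnax hy hyn
  have hall : ∀ y : G, y ∉ Subgroup.center G → ¬ ∀ c ∈ cz y, ∀ d ∈ cz y, c * d = d * c :=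
    fun y hy => hnab y hy (hall_nn y hy)
  have hsyl : ∀ y : G, y ∉ Subgroup.center G → ∃ r : ℕ, r.Prime ∧
      ∃ P : Sylow r (G ⧸ Subgroup.center G),
        (P : Subgroup (G ⧸ Subgroup.center G)) = (cz y).map qz := by
    intro y hy
    obtain ⟨r, hr, hP⟩ := mc_isPGroup_of_nonabelian h hy (hall y hy)
    haveI : Fact r.Prime := ⟨hr⟩
    have hco : IsCoatom ((cz y).map qz) :=
      Cfsg.Agent.Lib.Helper2.isCoatom_map_mk' _ (h y hy) (center_le_cz y)
    exact ⟨r, hr, sylow_of_coatom_pgroup (mc_not_pgroup h hx hnn r hr) hco hP⟩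
  have hcover := mc_cover hsyl
  have hbound : ∀ r ∈ (Nat.card G).primeFactors, (mcT G r).ncard * r ^ 2 ≤ Nat.card G :=
    fun r hr => mc_T_bound h hall r (Nat.prime_of_mem_primeFactors hr)
  have h1 : ((Subgroup.center G : Set G))ᶜ.ncard ≤
      ∑ r ∈ (Nat.card G).primeFactors, (mcT G r).ncard :=
    (Set.ncard_le_ncard hcover (Set.toFinite _)).trans (Finset.set_ncard_biUnion_le _ _)
  have h2 : 4 * ∑ r ∈ (Nat.card G).primeFactors, (mcT G r).ncard ≤ 3 * Nat.card G :=
    counting_contra _ (fun r hr => (Nat.prime_of_mem_primeFactors hr).two_le) _ _ hbound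
  have h3 : ((Subgroup.center G : Set G)).ncard + ((Subgroup.center G : Set G))ᶜ.ncard =
      Nat.card G := Set.ncard_add_ncard_compl _
  have h4 : ((Subgroup.center G : Set G)).ncard = Nat.card (Subgroup.center G) :=
    (Nat.card_coe_set_eq _).symm
  obtain ⟨r, hr, P, hP⟩ := hsyl x hx
  have hPx : IsPGroup r ((cz x).map qz) := hP ▸ P.2
  have hB := mc_card_mcB hr hnax hPx
  have hZB : Nat.card (Subgroup.center G) ≤ Nat.card (mcB x) :=
    Subgroup.card_le_of_le (center_le_mcB x)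
  have hidx : 2 ≤ (cz x).index := by
    have h0 : (cz x).index ≠ 0 := Subgroup.index_ne_zero_of_finite
    have h1 : (cz x).index ≠ 1 := fun h1 => (h x hx).1 (Subgroup.index_eq_one.1 h1)
    omega
  have hG := Subgroup.card_mul_index (cz x)
  have hr2 : 4 ≤ r ^ 2 := by have := hr.two_le; nlinarith
  have hZpos : 0 < Nat.card (Subgroup.center G) := Nat.card_pos
  have h5 : Nat.card (cz x) * 2 ≤ Nat.card G := by
    rw [← hG]; exact Nat.mul_le_mul_left _ hidx
  have h6 : Nat.card (mcB x) * 4 ≤ Nat.card (cz x) :=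
    (Nat.mul_le_mul_left _ hr2).trans hB
  omega

theorem mc_main (hna : ¬ IsMulCommutative G) :
    (∃ p : ℕ, p.Prime ∧ Cfsg.IsElementaryAbelian p (⊤ : Subgroup (G ⧸ Subgroup.center G))) ∨
    (¬ IsMulCommutative (G ⧸ Subgroup.center G) ∧
      (∀ H : Subgroup (G ⧸ Subgroup.center G), H ≠ ⊤ → IsMulCommutative ↥H) ∧
      ∃ p q a : ℕ, p.Prime ∧ q.Prime ∧ p ≠ q ∧ Nat.card (G ⧸ Subgroup.center G) = p ^ a * q ∧
        ∀ P : Subgroup (G ⧸ Subgroup.center G), Nat.card ↥P = p ^ a → P.Normal) := by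
  by_cases hA : ∀ x : G, x ∉ Subgroup.center G → (cz x).Normal
  · exact Or.inl (mc_caseA h hna hA)
  · right
    by_cases hB1 : ∃ x : G, x ∉ Subgroup.center G ∧ ¬ (cz x).Normal ∧
        ∀ c ∈ cz x, ∀ d ∈ cz x, c * d = d * c
    · obtain ⟨x, hx, hnn, hab⟩ := hB1
      exact mc_caseB1 h hx hnn hab
    · exfalso
      obtain ⟨x, hx⟩ := not_forall.1 hA
      obtain ⟨hxZ, hnn⟩ := Classical.not_imp.1 hx
      exact mc_caseB2 h hxZ hnn (fun y hy hyn hab => hB1 ⟨y, hy, hyn, hab⟩)

end maxcent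

end Cfsg.Agent.Lib.Helper4
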