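import Mathlib
import Cfsg.Prelude.Def_Solvable
import Cfsg.Agent.Lib.Helper4.FrobNorm
import Cfsg.Agent.Lib.Helper4.FrobComp
import Cfsg.Agent.S0035
import Cfsg.Agent.S0039
import Cfsg.Agent.S0040

/-! Structure of 2-Frobenius groups. -/

set_option autoImplicit false
set_option linter.unusedSectionVars false

namespace Cfsg.Agent.Lib.Helper4

section pkg
variable {X : Type*} [Group X] [Finite X]

theorem frob_pkg (C N : Subgroup X) [hNn : N.Normal] (hC : Cfsg.IsFrobeniusComplement C)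
    (hker : Cfsg.frobeniusKernel C = (N : Set X)) :
    Subgroup.IsComplement' N C ∧ N ≠ ⊥ ∧
      (∀ c ∈ C, c ≠ 1 → N ⊓ Subgroup.centralizer {c} = ⊥) ∧
      (Nat.card C).Coprime (Nat.card N) ∧ Group.IsNilpotent N := by
  obtain ⟨N', hset, -, hc⟩ := Cfsg.Agent.S0035.result C hC
  have hN' : N' = N := SetLike.coe_injective (hset.trans hker)
  subst hN'
  have hN : N' ≠ ⊥ := by
    intro hbot
    rw [hbot, Subgroup.isComplement'_bot_left] at hc
    exact hC.2.1 hc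
  have hfpf := (Cfsg.Agent.S0039.result N' C hc hN hC.1).1 hC
  refine ⟨hc, hN, hfpf, frobcomp_coprime N' C hc hN hfpf, ?_⟩
  obtain ⟨N'', hset'', -, hnil⟩ := Cfsg.Agent.S0042.result C hC
  have hN'' : N'' = N' := SetLike.coe_injective (hset''.trans hker)
  subst hN''
  exact hnil

/-- an element outside the kernel commutes with no nontrivial element of the kernel -/
theorem frob_commute_trivial (C N : Subgroup X) [hNn : N.Normal]
    (hker : Cfsg.frobeniusKernel C = (N : Set X))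
    (hfpf : ∀ c ∈ C, c ≠ 1 → N ⊓ Subgroup.centralizer {c} = ⊥)
    {x y : X} (hx : x ∉ N) (hy : y ∈ N) (hxy : x * y = y * x) : y = 1 := by
  have h1 : x ∉ Cfsg.frobeniusKernel C := by rw [hker]; exact hx
  rw [frobKer_mem_iff] at h1
  have hx1 : x ≠ 1 := fun h => h1 (Or.inl h)
  have hex : ∃ d : X, x ∈ cj d C := by
    by_contra hcon
    exact h1 (Or.inr (fun d hd => hcon ⟨d, hd⟩))
  obtain ⟨d, hd⟩ := hex
  rw [mem_cj_iff] at hd
  have hx'1 : d⁻¹ * x * d ≠ 1 := by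
    intro h
    apply hx1
    have e : x = d * (d⁻¹ * x * d) * d⁻¹ := by group
    rw [e, h]; group
  have hy' : d⁻¹ * y * d ∈ N := by
    have := hNn.conj_mem y hy d⁻¹
    simpa using this
  have hcomm : d⁻¹ * y * d * (d⁻¹ * x * d) = d⁻¹ * x * d * (d⁻¹ * y * d) := by
    calc d⁻¹ * y * d * (d⁻¹ * x * d) = d⁻¹ * (y * x) * d := by group
      _ = d⁻¹ * (x * y) * d := by rw [hxy]
      _ = d⁻¹ * x * d * (d⁻¹ * y * d) := by group
  have h2 : d⁻¹ * y * d ∈ N ⊓ Subgroup.centralizer {d⁻¹ * x * d} :=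
    Subgroup.mem_inf.2 ⟨hy', Subgroup.mem_centralizer_singleton_iff.2 hcomm⟩
  rw [hfpf _ hd hx'1, Subgroup.mem_bot] at h2
  have e : y = d * (d⁻¹ * y * d) * d⁻¹ := by group
  rw [e, h2]; group

/-- a fixed point free involution inverts -/
theorem fpf_involution_inverts (N : Subgroup X) [hNn : N.Normal] {t : X} (ht : t ^ 2 = 1)
    (hfpf : N ⊓ Subgroup.centralizer {t} = ⊥) : ∀ n ∈ N, t * n * t⁻¹ = n⁻¹ := by
  have htinv : t⁻¹ = t := by
    have : t * t = 1 := by rw [← pow_two]; exact ht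
    exact inv_eq_of_mul_eq_one_left this
  let ψ : ↥N → ↥N := fun x => ⟨(x : X)⁻¹ * (t * x * t⁻¹),
    N.mul_mem (N.inv_mem x.2) (hNn.conj_mem x x.2 t)⟩
  have hψinj : Function.Injective ψ := by
    intro x y hxy
    have h1 : (x : X)⁻¹ * (t * x * t⁻¹) = (y : X)⁻¹ * (t * y * t⁻¹) := congrArg Subtype.val hxy
    have h2 : (y : X) * (x : X)⁻¹ * t = t * ((y : X) * (x : X)⁻¹) := by
      have e1 : (y : X) * (x : X)⁻¹ * t = (y : X) * ((x : X)⁻¹ * (t * x * t⁻¹)) * t * (x : X)⁻¹ := by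
        group
      rw [e1, h1]; group
    have h3 : (y : X) * (x : X)⁻¹ ∈ N ⊓ Subgroup.centralizer {t} :=
      Subgroup.mem_inf.2 ⟨N.mul_mem y.2 (N.inv_mem x.2), Subgroup.mem_centralizer_singleton_iff.2 h2⟩
    rw [hfpf, Subgroup.mem_bot] at h3
    apply Subtype.ext
    have e : (x : X) = ((y : X) * (x : X)⁻¹)⁻¹ * (y : X) := by group
    rw [e, h3]; group
  have hψsurj : Function.Surjective ψ := (Finite.injective_iff_bijective.1 hψinj).2
  intro n hn
  obtain ⟨x, hx⟩ := hψsurj ⟨n, hn⟩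
  have hx' : (x : X)⁻¹ * (t * x * t⁻¹) = n := congrArg Subtype.val hx
  rw [← hx']
  rw [htinv]
  have htt : t * t = 1 := by rw [← pow_two]; exact ht
  have k1 : t * ((x : X)⁻¹ * (t * x * t)) * t = t * (x : X)⁻¹ * t * x * (t * t) := by group
  have k2 : ((x : X)⁻¹ * (t * x * t))⁻¹ = t⁻¹ * (x : X)⁻¹ * t⁻¹ * x := by group
  rw [k1, k2, htt, mul_one, htinv]

theorem frob_unique_involution (C N : Subgroup X) [hNn : N.Normal] (hN : N ≠ ⊥)
    (hfpf : ∀ c ∈ C, c ≠ 1 → N ⊓ Subgroup.centralizer {c} = ⊥)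
    {t s : X} (htC : t ∈ C) (hsC : s ∈ C) (ht : orderOf t = 2) (hs : orderOf s = 2) : t = s := by
  have ht1 : t ≠ 1 := by
    intro h; rw [h, orderOf_one] at ht; omega
  have hs1 : s ≠ 1 := by
    intro h; rw [h, orderOf_one] at hs; omega
  have ht2 : t ^ 2 = 1 := by rw [← ht]; exact pow_orderOf_eq_one t
  have hs2 : s ^ 2 = 1 := by rw [← hs]; exact pow_orderOf_eq_one s
  have hti := fpf_involution_inverts N ht2 (hfpf t htC ht1)
  have hsi := fpf_involution_inverts N hs2 (hfpf s hsC hs1)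
  by_contra hne
  have hts1 : t * s ≠ 1 := by
    intro h
    apply hne
    have hsinv : s⁻¹ = s := by
      have : s * s = 1 := by rw [← pow_two]; exact hs2
      exact inv_eq_of_mul_eq_one_left this
    rw [← hsinv]; exact eq_inv_of_mul_eq_one_left h
  have h1 := hfpf (t * s) (C.mul_mem htC hsC) hts1
  apply hN
  rw [eq_bot_iff, ← h1]
  intro n hn
  refine Subgroup.mem_inf.2 ⟨hn, Subgroup.mem_centralizer_singleton_iff.2 ?_⟩
  have h2 := hsi n hn
  have h3 := hti n⁻¹ (N.inv_mem hn)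
  rw [inv_inv] at h3
  calc n * (t * s) = (t * (s * n * s⁻¹) * t⁻¹)⁻¹⁻¹ * (t * s) := by
        rw [h2, h3]; group
    _ = t * s * n := by group

end pkg


section helpers

theorem comm_of_isCyclic' {X : Type*} [Group X] [hX : IsCyclic X] (a b : X) : a * b = b * a := by
  obtain ⟨g, hg⟩ := hX.exists_generator
  obtain ⟨i, rfl⟩ := Subgroup.mem_zpowers_iff.1 (hg a)
  obtain ⟨j, rfl⟩ := Subgroup.mem_zpowers_iff.1 (hg b)
  rw [← zpow_add, ← zpow_add, add_comm]

theorem exists_orderOf_of_isCyclic {X : Type*} [Group X] [Finite X] [hX : IsCyclic X] {d : ℕ}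
    (hd : d ∣ Nat.card X) : ∃ x : X, orderOf x = d := by
  obtain ⟨g, hg⟩ := IsCyclic.exists_ofOrder_eq_natCard (α := X)
  have hcard : Nat.card X ≠ 0 := Nat.card_pos.ne'
  have hd0 : d ≠ 0 := fun h => by rw [h, zero_dvd_iff] at hd; exact hcard hd
  refine ⟨g ^ (Nat.card X / d), ?_⟩
  have hk0 : Nat.card X / d ≠ 0 :=
    (Nat.div_pos (Nat.le_of_dvd (Nat.pos_of_ne_zero hcard) hd) (Nat.pos_of_ne_zero hd0)).ne'
  rw [orderOf_pow_of_dvd hk0 (by rw [hg]; exact Nat.div_dvd_of_dvd hd), hg,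
    Nat.div_div_self hd hcard]

theorem exists_orderOf_of_surjective {X Y : Type*} [Group X] [Finite X] [Group Y] (f : X →* Y)
    (hf : Function.Surjective f) (y : Y) : ∃ x : X, orderOf x = orderOf y := by
  obtain ⟨g, rfl⟩ := hf y
  have hdvd : orderOf (f g) ∣ orderOf g := orderOf_map_dvd f g
  have hpos : 0 < orderOf g := orderOf_pos g
  have hd0 : orderOf (f g) ≠ 0 := fun h => by rw [h, zero_dvd_iff] at hdvd; exact hpos.ne' hdvd
  refine ⟨g ^ (orderOf g / orderOf (f g)), ?_⟩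
  have hk0 : orderOf g / orderOf (f g) ≠ 0 :=
    (Nat.div_pos (Nat.le_of_dvd hpos hdvd) (Nat.pos_of_ne_zero hd0)).ne'
  rw [orderOf_pow_of_dvd hk0 (Nat.div_dvd_of_dvd hdvd), Nat.div_div_self hdvd hpos.ne']

theorem exists_orderOf_mul_of_nilpotent {X : Type*} [Group X] [Finite X]
    (hnil : Group.IsNilpotent X) {p q : ℕ} (hp : p.Prime) (hq : q.Prime) (hpq : p ≠ q)
    (hpX : p ∣ Nat.card X) (hqX : q ∣ Nat.card X) : ∃ x : X, orderOf x = p * q := by
  haveI : Fact p.Prime := ⟨hp⟩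
  haveI : Fact q.Prime := ⟨hq⟩
  have hnormal := ((Group.isNilpotent_of_finite_tfae (G := X)).out 0 3).1 hnil
  obtain ⟨P⟩ : Nonempty (Sylow p X) := inferInstance
  obtain ⟨Q⟩ : Nonempty (Sylow q X) := inferInstance
  have hPn : (P : Subgroup X).Normal := hnormal p inferInstance P
  have hQn : (Q : Subgroup X).Normal := hnormal q inferInstance Q
  obtain ⟨a, ha⟩ := exists_prime_orderOf_dvd_card' p (P.dvd_card_of_dvd_card hpX)
  obtain ⟨b, hb⟩ := exists_prime_orderOf_dvd_card' q (Q.dvd_card_of_dvd_card hqX)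
  have hdisj : Disjoint (P : Subgroup X) (Q : Subgroup X) :=
    IsPGroup.disjoint_of_ne p q hpq _ _ P.2 Q.2
  have hcomm : Commute (a : X) (b : X) :=
    Subgroup.commute_of_normal_of_disjoint _ _ hPn hQn hdisj _ _ a.2 b.2
  refine ⟨(a : X) * (b : X), ?_⟩
  have hoa : orderOf (a : X) = p := by rw [Subgroup.orderOf_coe]; exact ha
  have hob : orderOf (b : X) = q := by rw [Subgroup.orderOf_coe]; exact hb
  rw [hcomm.orderOf_mul_eq_mul_orderOf_of_coprime, hoa, hob]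
  rw [hoa, hob]
  exact (Nat.coprime_primes hp hq).2 hpq

end helpers

section middle

theorem two_frob_middle {X Y : Type*} [Group X] [Finite X] [Group Y] [Finite Y]
    (N₁ C₁ : Subgroup Y) [N₁.Normal] (hc₁ : Subgroup.IsComplement' N₁ C₁) (hN₁ : N₁ ≠ ⊥)
    (hfpf₁ : ∀ c ∈ C₁, c ≠ 1 → N₁ ⊓ Subgroup.centralizer {c} = ⊥)
    (N₂ C₂ : Subgroup X) [hN₂n : N₂.Normal] (hc₂ : Subgroup.IsComplement' N₂ C₂) (hN₂ : N₂ ≠ ⊥)
    (hfpf₂ : ∀ c ∈ C₂, c ≠ 1 → N₂ ⊓ Subgroup.centralizer {c} = ⊥)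
    (hC₂ : C₂ ≠ ⊥) (hnil₂ : Group.IsNilpotent N₂) (e : ↥C₁ ≃* ↥N₂) :
    Odd (Nat.card N₂) ∧ IsCyclic C₁ ∧ IsCyclic C₂ := by
  classical
  have hcardeq : Nat.card C₁ = Nat.card N₂ := Nat.card_congr e.toEquiv
  have hodd : Odd (Nat.card N₂) := by
    rw [← Nat.not_even_iff_odd]
    intro heven
    have h2 : 2 ∣ Nat.card C₁ := by rw [hcardeq]; exact heven.two_dvd
    haveI : Fact (Nat.Prime 2) := ⟨Nat.prime_two⟩
    obtain ⟨t, ht⟩ := exists_prime_orderOf_dvd_card' 2 h2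
    obtain ⟨⟨c, hcC⟩, hc1'⟩ := (Subgroup.ne_bot_iff_exists_ne_one).1 hC₂
    have hc1 : c ≠ 1 := fun h => hc1' (Subtype.ext h)
    obtain ⟨n, hndef⟩ : ∃ n : ↥N₂, n = e t := ⟨_, rfl⟩
    have hn_ord : orderOf (n : X) = 2 := by
      rw [Subgroup.orderOf_coe, hndef, MulEquiv.orderOf_eq, ht]
    have hn'N : c * (n : X) * c⁻¹ ∈ N₂ := hN₂n.conj_mem _ n.2 c
    obtain ⟨s, hsdef⟩ : ∃ s : ↥C₁, s = e.symm ⟨c * (n : X) * c⁻¹, hn'N⟩ := ⟨_, rfl⟩
    have hs : orderOf s = 2 := by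
      rw [hsdef, MulEquiv.orderOf_eq, ← Subgroup.orderOf_coe]
      show orderOf (c * (n : X) * c⁻¹) = 2
      rw [← hn_ord]
      exact MulEquiv.orderOf_eq (MulAut.conj c) (n : X)
    have hts : ((t : ↥C₁) : Y) = ((s : ↥C₁) : Y) :=
      frob_unique_involution C₁ N₁ hN₁ hfpf₁ t.2 s.2
        (by rw [Subgroup.orderOf_coe]; exact ht) (by rw [Subgroup.orderOf_coe]; exact hs)
    have hts' : t = s := Subtype.ext hts
    have h3 : n = ⟨c * (n : X) * c⁻¹, hn'N⟩ := by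
      have h6 : e s = ⟨c * (n : X) * c⁻¹, hn'N⟩ := by rw [hsdef]; exact e.apply_symm_apply _
      rw [← h6, ← hts']; exact hndef
    have h4 : (n : X) = c * (n : X) * c⁻¹ := congrArg Subtype.val h3
    have h5 : (n : X) ∈ N₂ ⊓ Subgroup.centralizer {c} := by
      refine Subgroup.mem_inf.2 ⟨n.2, Subgroup.mem_centralizer_singleton_iff.2 ?_⟩
      calc (n : X) * c = c * (n : X) * c⁻¹ * c := by rw [← h4]
        _ = c * n := by group
    rw [hfpf₂ c hcC hc1, Subgroup.mem_bot] at h5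
    rw [h5, orderOf_one] at hn_ord
    omega
  have hoddC₁ : Odd (Nat.card C₁) := by rw [hcardeq]; exact hodd
  have hnilC₁ : Group.IsNilpotent ↥C₁ := by
    haveI := hnil₂
    exact Group.nilpotent_of_mulEquiv e.symm
  have hsylcyc : ∀ (p : ℕ) [Fact p.Prime] (P : Sylow p ↥C₁), IsCyclic ↥(P : Subgroup ↥C₁) := by
    intro p _ P
    rcases Cfsg.Agent.S0040.result N₁ C₁ hc₁ hN₁ hfpf₁ p P with h | ⟨k, ⟨ψ⟩⟩
    · exact h
    · exfalso
      haveI : NeZero (2 ^ k) := ⟨pow_ne_zero k two_ne_zero⟩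
      have h1 : Nat.card ↥(P : Subgroup ↥C₁) = 4 * 2 ^ k := by
        rw [Nat.card_congr ψ.toEquiv, Nat.card_eq_fintype_card, QuaternionGroup.card]
      have h2 : 2 ∣ Nat.card ↥C₁ := by
        have h3 : Nat.card ↥(P : Subgroup ↥C₁) ∣ Nat.card ↥C₁ := Subgroup.card_subgroup_dvd_card _
        exact (Dvd.intro (2 * 2 ^ k) (by rw [h1]; ring)).trans h3
      exact (Nat.not_even_iff_odd.2 hoddC₁) (even_iff_two_dvd.2 h2)
  have hcommC₁ : ∀ a b : ↥C₁, a * b = b * a := by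
    obtain ⟨φ⟩ := ((Group.isNilpotent_of_finite_tfae (G := ↥C₁)).out 0 4).1 hnilC₁
    intro a b
    obtain ⟨x, rfl⟩ := φ.surjective a
    obtain ⟨y, rfl⟩ := φ.surjective b
    rw [← map_mul, ← map_mul]
    congr 1
    funext p P
    haveI : Fact (p : ℕ).Prime := ⟨Nat.prime_of_mem_primeFactors p.2⟩
    haveI := hsylcyc p P
    exact comm_of_isCyclic' (x p P) (y p P)
  have hcycC₁ : IsCyclic ↥C₁ := by
    apply frobcomp_abelian_cyclic N₁ C₁ hc₁ hN₁ hfpf₁ C₁ le_rfl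
    intro a ha
    rw [Subgroup.mem_centralizer_iff]
    intro b hb
    exact congrArg Subtype.val (hcommC₁ ⟨b, hb⟩ ⟨a, ha⟩)
  have hcycN₂ : IsCyclic ↥N₂ := by
    haveI := hcycC₁
    exact isCyclic_of_surjective e e.surjective
  obtain ⟨⟨z, hzN⟩, hzgen⟩ := hcycN₂.exists_generator
  have hzpow : ∀ n ∈ N₂, ∃ i : ℤ, z ^ i = n := by
    intro n hn
    obtain ⟨i, hi⟩ := Subgroup.mem_zpowers_iff.1 (hzgen ⟨n, hn⟩)
    refine ⟨i, ?_⟩
    have := congrArg Subtype.val hi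
    simpa using this
  have hz1 : z ≠ 1 := by
    intro hz
    apply hN₂
    rw [eq_bot_iff]
    intro n hn
    obtain ⟨i, hi⟩ := hzpow n hn
    rw [Subgroup.mem_bot, ← hi, hz, one_zpow]
  have hcommC₂ : ∀ a ∈ C₂, ∀ b ∈ C₂, a * b = b * a := by
    intro a ha b hb
    obtain ⟨i, hi⟩ := hzpow (a * z * a⁻¹) (hN₂n.conj_mem z hzN a)
    obtain ⟨j, hj⟩ := hzpow (b * z * b⁻¹) (hN₂n.conj_mem z hzN b)
    have hab : (a * b) * z * (a * b)⁻¹ = z ^ (i * j) := by
      calc (a * b) * z * (a * b)⁻¹ = a * (b * z * b⁻¹) * a⁻¹ := by group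
        _ = a * z ^ j * a⁻¹ := by rw [hj]
        _ = (a * z * a⁻¹) ^ j := (conj_zpow).symm
        _ = (z ^ i) ^ j := by rw [hi]
        _ = z ^ (i * j) := (zpow_mul z i j).symm
    have hba : (b * a) * z * (b * a)⁻¹ = z ^ (i * j) := by
      calc (b * a) * z * (b * a)⁻¹ = b * (a * z * a⁻¹) * b⁻¹ := by group
        _ = b * z ^ i * b⁻¹ := by rw [hi]
        _ = (b * z * b⁻¹) ^ i := (conj_zpow).symm
        _ = (z ^ j) ^ i := by rw [hj]
        _ = z ^ (i * j) := by rw [← zpow_mul, mul_comm j i]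
    by_contra hne
    have hw1 : (b * a)⁻¹ * (a * b) ≠ 1 := by
      intro h
      apply hne
      rw [inv_mul_eq_one] at h
      exact h.symm
    have hwC : (b * a)⁻¹ * (a * b) ∈ C₂ :=
      C₂.mul_mem (C₂.inv_mem (C₂.mul_mem hb ha)) (C₂.mul_mem ha hb)
    have hz_mem : z ∈ N₂ ⊓ Subgroup.centralizer {(b * a)⁻¹ * (a * b)} := by
      refine Subgroup.mem_inf.2 ⟨hzN, Subgroup.mem_centralizer_singleton_iff.2 ?_⟩
      have h1 : (a * b) * z * (a * b)⁻¹ = (b * a) * z * (b * a)⁻¹ := hab.trans hba.symm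
      calc z * ((b * a)⁻¹ * (a * b)) = (b * a)⁻¹ * ((b * a) * z * (b * a)⁻¹) * (a * b) := by group
        _ = (b * a)⁻¹ * ((a * b) * z * (a * b)⁻¹) * (a * b) := by rw [h1]
        _ = (b * a)⁻¹ * (a * b) * z := by group
    rw [hfpf₂ _ hwC hw1, Subgroup.mem_bot] at hz_mem
    exact hz1 hz_mem
  have hcycC₂ : IsCyclic ↥C₂ := by
    apply frobcomp_abelian_cyclic N₂ C₂ hc₂ hN₂ hfpf₂ C₂ le_rfl
    intro a ha
    rw [Subgroup.mem_centralizer_iff]
    intro b hb
    exact hcommC₂ b hb a ha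
  exact ⟨hodd, hcycC₁, hcycC₂⟩

end middle


section main

theorem two_frob_main {G : Type*} [Group G] [Finite G] (H K : Subgroup G) [hHn : H.Normal]
    [hKn : K.Normal] (hlt : H < K)
    (hK : ∃ C : Subgroup ↥K, Cfsg.IsFrobeniusComplement C ∧
      Cfsg.frobeniusKernel C = (H.subgroupOf K : Set ↥K))
    (hGH : ∃ C : Subgroup (G ⧸ H), Cfsg.IsFrobeniusComplement C ∧
      Cfsg.frobeniusKernel C = (K.map (QuotientGroup.mk' H) : Set (G ⧸ H))) :
    Group.IsSolvable G ∧ Odd (Nat.card (↥K ⧸ H.subgroupOf K)) ∧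
      Nat.Coprime (Nat.card (↥K ⧸ H.subgroupOf K)) (Nat.card ↥H * Nat.card (G ⧸ K)) ∧
      IsCyclic (G ⧸ K) ∧
      ∀ p q : ℕ, p.Prime → q.Prime → p ≠ q → p ∣ Nat.card G → q ∣ Nat.card G →
        ((∃ g : G, orderOf g = p * q) ↔
          (p ∣ Nat.card (↥K ⧸ H.subgroupOf K) ↔ q ∣ Nat.card (↥K ⧸ H.subgroupOf K))) := by
  classical
  obtain ⟨C₁, hC₁, hker₁⟩ := hK
  obtain ⟨C₂, hC₂, hker₂⟩ := hGH
  have hHK : H ≤ K := hlt.le
  obtain ⟨m, hmdef⟩ : ∃ m : ℕ, m = Nat.card (↥K ⧸ H.subgroupOf K) := ⟨_, rfl⟩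
  rw [← hmdef]
  obtain ⟨π, hπdef⟩ : ∃ π : G →* G ⧸ H, π = QuotientGroup.mk' H := ⟨_, rfl⟩
  rw [← hπdef] at hker₂
  have hπsurj : Function.Surjective π := by rw [hπdef]; exact QuotientGroup.mk'_surjective H
  have hπ1 : ∀ x : G, π x = 1 ↔ x ∈ H := fun x => by
    rw [hπdef]; exact QuotientGroup.eq_one_iff x
  obtain ⟨N₁, hN₁def⟩ : ∃ N₁ : Subgroup ↥K, N₁ = H.subgroupOf K := ⟨_, rfl⟩
  obtain ⟨N₂, hN₂def⟩ : ∃ N₂ : Subgroup (G ⧸ H), N₂ = K.map π := ⟨_, rfl⟩
  rw [← hN₁def] at hker₁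
  rw [← hN₂def] at hker₂
  haveI hN₁n : N₁.Normal := by rw [hN₁def]; infer_instance
  haveI hN₂n : N₂.Normal := by rw [hN₂def]; exact Subgroup.Normal.map hKn π hπsurj
  obtain ⟨hc₁, hN₁ne, hfpf₁, hcop₁, hnil₁⟩ := frob_pkg C₁ N₁ hC₁ hker₁
  obtain ⟨hc₂, hN₂ne, hfpf₂, hcop₂, hnil₂⟩ := frob_pkg C₂ N₂ hC₂ hker₂
  have hN₁mem : ∀ x : ↥K, x ∈ N₁ ↔ (x : G) ∈ H := fun x => by
    rw [hN₁def]; exact Subgroup.mem_subgroupOf
  have hN₂mem : ∀ g : G, π g ∈ N₂ ↔ g ∈ K := by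
    intro g
    rw [hN₂def]
    constructor
    · rintro ⟨k, hk, hkg⟩
      have h1 : π (k⁻¹ * g) = 1 := by rw [map_mul, map_inv, hkg, inv_mul_cancel]
      rw [hπ1] at h1
      have h2 : g = k * (k⁻¹ * g) := by group
      rw [h2]; exact K.mul_mem hk (hHK h1)
    · intro hg; exact Subgroup.mem_map_of_mem π hg
  -- the isomorphism C₁ ≃ N₂
  let φ : ↥C₁ →* ↥N₂ := ((π.comp K.subtype).comp C₁.subtype).codRestrict N₂
    (fun c => (hN₂mem _).2 (c : ↥K).2)
  have hφval : ∀ c : ↥C₁, ((φ c : ↥N₂) : G ⧸ H) = π ((c : ↥K) : G) := fun c => rfl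
  have hφinj : Function.Injective φ := by
    rw [injective_iff_map_eq_one]
    intro c hc
    have h1 : π ((c : ↥K) : G) = 1 := by rw [← hφval, hc]; rfl
    rw [hπ1, ← hN₁mem] at h1
    have h2 : (c : ↥K) ∈ N₁ ⊓ C₁ := ⟨h1, c.2⟩
    rw [hc₁.isCompl.inf_eq_bot, Subgroup.mem_bot] at h2
    exact Subtype.ext h2
  have hφsurj : Function.Surjective φ := by
    rintro ⟨y, hy⟩
    have hy' := hy
    rw [hN₂def] at hy'
    obtain ⟨k, hk, rfl⟩ := hy'
    obtain ⟨⟨n, c⟩, hnc⟩ := hc₁.2 ⟨k, hk⟩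
    refine ⟨c, Subtype.ext ?_⟩
    rw [hφval]
    have h1 : k = ((n : ↥K) : G) * ((c : ↥K) : G) := by
      have := congrArg Subtype.val hnc
      simpa using this.symm
    have hnH : π ((n : ↥K) : G) = 1 := by rw [hπ1, ← hN₁mem]; exact n.2
    show π ((c : ↥K) : G) = π k
    rw [h1, map_mul, hnH, one_mul]
  obtain ⟨e, -⟩ : ∃ e : ↥C₁ ≃* ↥N₂, True := ⟨MulEquiv.ofBijective φ ⟨hφinj, hφsurj⟩, trivial⟩
  obtain ⟨hodd, hcycC₁, hcycC₂⟩ :=
    two_frob_middle N₁ C₁ hc₁ hN₁ne hfpf₁ N₂ C₂ hc₂ hN₂ne hfpf₂ hC₂.1 hnil₂ e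
  have hcycN₂ : IsCyclic ↥N₂ := by
    haveI := hcycC₁
    exact isCyclic_of_surjective e e.surjective
  -- cardinalities
  have hmC₁ : Nat.card C₁ = m := by
    rw [hmdef, ← Subgroup.index_eq_card, ← hN₁def]
    exact hc₁.symm.index_eq_card.symm
  have hmN₂ : Nat.card N₂ = m := by rw [← hmC₁]; exact (Nat.card_congr e.toEquiv).symm
  have hcardN₁ : Nat.card N₁ = Nat.card H := by rw [hN₁def]; exact card_subgroupOf_of_le hHK
  have hcardK : Nat.card K = Nat.card H * m := by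
    have h1 : Nat.card N₁ * Nat.card C₁ = Nat.card K := hc₁.card_mul_card
    rw [← h1, hcardN₁, hmC₁]
  -- the quotient G ⧸ K
  obtain ⟨θ, hθπ⟩ : ∃ θ : G ⧸ H →* G ⧸ K, ∀ g : G, θ (π g) = QuotientGroup.mk' K g := by
    refine ⟨QuotientGroup.map H K (MonoidHom.id G) (fun x hx => hHK hx), ?_⟩
    intro g; rw [hπdef]; rfl
  have hθ1 : ∀ x : G ⧸ H, θ x = 1 ↔ x ∈ N₂ := by
    intro x
    obtain ⟨g, rfl⟩ := hπsurj x
    rw [hθπ, hN₂mem, QuotientGroup.mk'_apply, QuotientGroup.eq_one_iff]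
  have hθsurj : Function.Surjective θ := by
    intro y
    obtain ⟨g, rfl⟩ := QuotientGroup.mk'_surjective K y
    exact ⟨π g, hθπ g⟩
  let ψ : ↥C₂ →* G ⧸ K := θ.comp C₂.subtype
  have hψval : ∀ c : ↥C₂, ψ c = θ (c : G ⧸ H) := fun c => rfl
  have hψinj : Function.Injective ψ := by
    rw [injective_iff_map_eq_one]
    intro c hc
    rw [hψval, hθ1] at hc
    have h2 : (c : G ⧸ H) ∈ N₂ ⊓ C₂ := ⟨hc, c.2⟩
    rw [hc₂.isCompl.inf_eq_bot, Subgroup.mem_bot] at h2
    exact Subtype.ext h2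
  have hψsurj : Function.Surjective ψ := by
    intro y
    obtain ⟨x, rfl⟩ := hθsurj y
    obtain ⟨⟨n, c⟩, hnc⟩ := hc₂.2 x
    refine ⟨c, ?_⟩
    rw [hψval]
    have h1 : x = (n : G ⧸ H) * (c : G ⧸ H) := hnc.symm
    have hn1 : θ (n : G ⧸ H) = 1 := (hθ1 _).2 n.2
    rw [h1, map_mul, hn1, one_mul]
  obtain ⟨e₂, -⟩ : ∃ e₂ : ↥C₂ ≃* G ⧸ K, True :=
    ⟨MulEquiv.ofBijective ψ ⟨hψinj, hψsurj⟩, trivial⟩
  have hcardC₂ : Nat.card C₂ = Nat.card (G ⧸ K) := Nat.card_congr e₂.toEquiv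
  have hcycGK : IsCyclic (G ⧸ K) := by
    haveI := hcycC₂
    exact isCyclic_of_surjective e₂ e₂.surjective
  have hmH : m.Coprime (Nat.card H) := by rw [← hmC₁, ← hcardN₁]; exact hcop₁
  have hmK : m.Coprime (Nat.card (G ⧸ K)) := by rw [← hmN₂, ← hcardC₂]; exact hcop₂.symm
  have hcardG : Nat.card G = Nat.card H * m * Nat.card (G ⧸ K) := by
    rw [← hcardK, ← Subgroup.index_eq_card]; exact (Subgroup.card_mul_index K).symm
  -- nilpotency / solvability
  have hnilH : Group.IsNilpotent ↥H := by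
    haveI : Group.IsNilpotent ↥(H.subgroupOf K) := by rw [← hN₁def]; exact hnil₁
    exact Group.nilpotent_of_mulEquiv (Subgroup.subgroupOfEquivOfLe hHK)
  have hsolH : Group.IsSolvable ↥H := by
    haveI := hnilH
    infer_instance
  have hsolGK : Group.IsSolvable (G ⧸ K) := by
    haveI := hcycGK
    exact Group.isSolvable_of_comm (fun a b => comm_of_isCyclic' a b)
  have hsolN₂ : Group.IsSolvable ↥N₂ := by
    haveI := hcycN₂
    exact Group.isSolvable_of_comm (fun a b => comm_of_isCyclic' a b)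
  have hsolGH : Group.IsSolvable (G ⧸ H) := by
    haveI := hsolN₂
    haveI := hsolGK
    refine Group.isSolvable_of_ker_le_range N₂.subtype θ ?_
    intro x hx
    rw [MonoidHom.mem_ker, hθ1] at hx
    exact ⟨⟨x, hx⟩, rfl⟩
  have hsolG : Group.IsSolvable G := by
    haveI := hsolH
    haveI := hsolGH
    refine Group.isSolvable_of_ker_le_range H.subtype π ?_
    intro x hx
    rw [MonoidHom.mem_ker, hπ1] at hx
    exact ⟨⟨x, hx⟩, rfl⟩
  -- the complement A of H in K, as a subgroup of G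
  obtain ⟨A, hAdef⟩ : ∃ A : Subgroup G, A = C₁.map K.subtype := ⟨_, rfl⟩
  have hAmem : ∀ x : ↥K, (x : G) ∈ A ↔ x ∈ C₁ := by
    intro x
    rw [hAdef]
    constructor
    · rintro ⟨y, hy, hyx⟩
      have : y = x := Subtype.ext hyx
      rw [← this]; exact hy
    · intro hx; exact ⟨x, hx, rfl⟩
  have hAK : A ≤ K := by rw [hAdef]; rintro _ ⟨y, -, rfl⟩; exact y.2
  have hcardA : Nat.card A = m := by
    rw [hAdef, ← hmC₁]
    exact Nat.card_congr (C₁.equivMapOfInjective K.subtype K.subtype_injective).symm.toEquiv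
  have hAH : A ⊓ H = ⊥ := by
    rw [eq_bot_iff]
    rintro x ⟨hxA, hxH⟩
    have h1 : (⟨x, hAK hxA⟩ : ↥K) ∈ N₁ ⊓ C₁ :=
      ⟨(hN₁mem _).2 hxH, (hAmem ⟨x, hAK hxA⟩).1 hxA⟩
    rw [hc₁.isCompl.inf_eq_bot, Subgroup.mem_bot] at h1
    rw [Subgroup.mem_bot]
    exact congrArg Subtype.val h1
  have hAfpf : ∀ a ∈ A, a ≠ 1 → ∀ u ∈ H, a * u = u * a → u = 1 := by
    intro a ha ha1 u hu hcomm
    have haC : (⟨a, hAK ha⟩ : ↥K) ∈ C₁ := (hAmem ⟨a, hAK ha⟩).1 ha
    have ha1' : (⟨a, hAK ha⟩ : ↥K) ≠ 1 := fun h => ha1 (congrArg Subtype.val h)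
    have h1 : (⟨u, hHK hu⟩ : ↥K) ∈ N₁ ⊓ Subgroup.centralizer {(⟨a, hAK ha⟩ : ↥K)} := by
      refine Subgroup.mem_inf.2 ⟨(hN₁mem _).2 hu, Subgroup.mem_centralizer_singleton_iff.2 ?_⟩
      exact Subtype.ext hcomm.symm
    rw [hfpf₁ _ haC ha1', Subgroup.mem_bot] at h1
    exact congrArg Subtype.val h1
  have hAne : ∃ a ∈ A, a ≠ 1 := by
    obtain ⟨⟨c, hcC⟩, hc1⟩ := (Subgroup.ne_bot_iff_exists_ne_one).1 hC₁.1
    refine ⟨(c : G), (hAmem c).2 hcC, ?_⟩
    intro h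
    exact hc1 (Subtype.ext (Subtype.ext h))
  have hnormH : A ≤ Subgroup.normalizer (H : Set G) := by
    rw [Subgroup.normalizer_eq_top_iff.2 hHn]; exact le_top
  have hcopAH : (Nat.card A).Coprime (Nat.card H) := by rw [hcardA]; exact hmH
  have hsupHA : H ⊔ A = K := by
    apply Subgroup.eq_of_le_of_card_ge (sup_le hHK hAK)
    rw [act_card_sup A H hnormH hcopAH, hcardK, hcardA]
  -- (5d): mixed case
  have h5d : ∀ p q : ℕ, p.Prime → q.Prime → p ≠ q → p ∣ Nat.card H → q ∣ Nat.card (G ⧸ K) →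
      ∃ g : G, orderOf g = p * q := by
    intro p q hp hq hpq hpH hqK
    haveI : Fact p.Prime := ⟨hp⟩
    haveI : Fact q.Prime := ⟨hq⟩
    have hqC₂ : q ∣ Nat.card C₂ := by rw [hcardC₂]; exact hqK
    obtain ⟨cb', hcb'⟩ := exists_prime_orderOf_dvd_card' q hqC₂
    obtain ⟨cb, hcbdef⟩ : ∃ cb : G ⧸ H, cb = (cb' : G ⧸ H) := ⟨_, rfl⟩
    have hcbC : cb ∈ C₂ := by rw [hcbdef]; exact cb'.2
    have hcbord : orderOf cb = q := by rw [hcbdef, Subgroup.orderOf_coe]; exact hcb'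
    obtain ⟨c₀, hc₀⟩ := hπsurj cb
    have hcjle : cj c₀ A ≤ H ⊔ A := by
      rw [hsupHA]
      calc cj c₀ A ≤ cj c₀ K := cj_mono c₀ hAK
        _ = K := cj_self_of_normal K c₀
    obtain ⟨k, hkH, hk⟩ :=
      sz_act_conj A H hnormH hcopAH (Or.inr hsolH) (cj c₀ A) hcjle (card_cj' c₀ A)
    obtain ⟨c', hc'def⟩ : ∃ c' : G, c' = k⁻¹ * c₀ := ⟨_, rfl⟩
    have hc'A : cj c' A = A := by
      rw [hc'def, cj_mul, ← hk, cj_inv_cj']
    have hπc' : π c' = cb := by
      rw [hc'def, map_mul, map_inv, (hπ1 k).2 hkH, inv_one, one_mul, hc₀]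
    have hc'norm : c' ∈ Subgroup.normalizer (A : Set G) :=
      Subgroup.mem_normalizer_iff_map_conj_eq.2 hc'A
    have hc'conj : ∀ f ∈ A, c' * f * c'⁻¹ ∈ A := by
      intro f hf
      have := conj_mem_cj c' A hf
      rwa [hc'A] at this
    have hc'q : c' ^ q = 1 := by
      have h1 : c' ^ q ∈ H := by
        rw [← hπ1, map_pow, hπc', ← hcbord]; exact pow_orderOf_eq_one cb
      have h2 : cj (c' ^ q) A = A :=
        cj_eq_of_mem_normalizer (Subgroup.pow_mem _ hc'norm q)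
      have h3 := act_centralizes A H hnormH hcopAH h1 h2
      obtain ⟨a, haA, ha1⟩ := hAne
      exact hAfpf a haA ha1 (c' ^ q) h1 ((Subgroup.mem_centralizer_iff.1 h3) a haA)
    have hqm : q.Coprime m := (Nat.Coprime.coprime_dvd_right hqK hmK).symm
    have hcopAp : (Nat.card A).Coprime p := by
      rw [hcardA]
      exact Nat.Coprime.coprime_dvd_right hpH hmH
    obtain ⟨S⟩ : Nonempty (Sylow p ↥H) := inferInstance
    have hnormalH := ((Group.isNilpotent_of_finite_tfae (G := ↥H)).out 0 3).1 hnilH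
    have hSn : (S : Subgroup ↥H).Normal := hnormalH p inferInstance S
    haveI hSchar : (S : Subgroup ↥H).Characteristic := Sylow.characteristic_of_normal S hSn
    obtain ⟨P', hP'def⟩ : ∃ P' : Subgroup G, P' = (S : Subgroup ↥H).map H.subtype := ⟨_, rfl⟩
    haveI hP'n : P'.Normal := by
      rw [hP'def]; exact ConjAct.normal_of_characteristic_of_normal
    have hP'H : P' ≤ H := by rw [hP'def]; rintro _ ⟨x, -, rfl⟩; exact x.2
    have hP'p : IsPGroup p P' := by rw [hP'def]; exact S.2.map H.subtype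
    have hP'card : p ∣ Nat.card P' := by
      rw [hP'def, Nat.card_congr
        ((S : Subgroup ↥H).equivMapOfInjective H.subtype H.subtype_injective).symm.toEquiv]
      exact S.dvd_card_of_dvd_card hpH
    have hex : ∃ u ∈ P', (u * c') ^ q ≠ 1 := by
      by_contra hcon
      have hnorm : ∀ u ∈ P', (u * c') ^ q = 1 := by
        intro u hu
        by_contra h
        exact hcon ⟨u, hu, h⟩
      have hfix : ∀ f ∈ A, ∀ j : ℕ, 0 < j → j < q → f * c' ^ j = c' ^ j * f → f = 1 := by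
        intro f hf j hj0 hjq hcommf
        have hcj1 : cb ^ j ≠ 1 := by
          apply pow_ne_one_of_lt_orderOf hj0.ne'
          rw [hcbord]; exact hjq
        have hcjC : cb ^ j ∈ C₂ := C₂.pow_mem hcbC j
        have h1 : π f ∈ N₂ ⊓ Subgroup.centralizer {cb ^ j} := by
          refine Subgroup.mem_inf.2 ⟨(hN₂mem f).2 (hAK hf),
            Subgroup.mem_centralizer_singleton_iff.2 ?_⟩
          rw [← hπc', ← map_pow, ← map_mul, ← map_mul, hcommf]
        rw [hfpf₂ _ hcjC hcj1, Subgroup.mem_bot, hπ1] at h1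
        have h2 : f ∈ A ⊓ H := ⟨hf, h1⟩
        rw [hAH, Subgroup.mem_bot] at h2
        exact h2
      have hdisj : (A ⊔ Subgroup.zpowers c') ⊓ P' = ⊥ := by
        have hzn : Subgroup.zpowers c' ≤ Subgroup.normalizer (A : Set G) := by
          rw [Subgroup.zpowers_le]; exact hc'norm
        have hcardz : Nat.card (Subgroup.zpowers c') ∣ q := by
          rw [Nat.card_zpowers]; exact orderOf_dvd_of_pow_eq_one hc'q
        have hcopzA : (Nat.card (Subgroup.zpowers c')).Coprime (Nat.card A) := by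
          rw [hcardA]
          exact Nat.Coprime.coprime_dvd_left hcardz hqm
        have hcard := act_card_sup (Subgroup.zpowers c') A hzn hcopzA
        have hcop : (Nat.card ↥(A ⊔ Subgroup.zpowers c')).Coprime (Nat.card P') := by
          obtain ⟨k, hk⟩ := IsPGroup.iff_card.1 hP'p
          rw [hk, hcard]
          apply Nat.Coprime.pow_right
          apply Nat.Coprime.mul_left hcopAp
          exact Nat.Coprime.coprime_dvd_left hcardz ((Nat.coprime_primes hq hp).2 hpq.symm)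
        exact (Subgroup.disjoint_of_coprime_natCard hcop).eq_bot
      have hcent := frob_norm_pgroup P' A hP'p c' q hq.pos hc'conj hfix hnorm hcopAp hdisj
      obtain ⟨a, haA, ha1⟩ := hAne
      obtain ⟨u, huP, hu1⟩ : ∃ u ∈ P', u ≠ 1 := by
        by_contra hcon2
        have hbot : P' = ⊥ := by
          rw [eq_bot_iff]
          intro u hu
          by_contra hu1
          exact hcon2 ⟨u, hu, fun h => hu1 (by rw [h]; exact Subgroup.one_mem _)⟩
        rw [hbot, Subgroup.card_bot] at hP'card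
        exact hp.one_lt.ne' (Nat.dvd_one.1 hP'card)
      exact hu1 (hAfpf a haA ha1 u (hP'H huP)
        ((Subgroup.mem_centralizer_iff.1 (hcent haA)) u huP).symm)
    obtain ⟨u, huP, hune⟩ := hex
    have hord : orderOf ((QuotientGroup.mk' P') (u * c')) = q := by
      have h1 : (QuotientGroup.mk' P') (u * c') = (QuotientGroup.mk' P') c' := by
        rw [map_mul, QuotientGroup.mk'_apply, (QuotientGroup.eq_one_iff u).2 huP, one_mul]
      rw [h1]
      have h2 : ((QuotientGroup.mk' P') c') ^ q = 1 := by rw [← map_pow, hc'q, map_one]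
      have h3 : (QuotientGroup.mk' P') c' ≠ 1 := by
        intro h
        rw [QuotientGroup.mk'_apply, QuotientGroup.eq_one_iff] at h
        have h4 : π c' = 1 := (hπ1 c').2 (hP'H h)
        rw [hπc'] at h4
        rw [h4, orderOf_one] at hcbord
        exact hq.one_lt.ne' hcbord.symm
      exact orderOf_eq_prime h2 h3
    obtain ⟨p', hp', hp'dvd, g', hg'⟩ := exists_order_of_pow_ne_one P' (u * c') q hord hune
    have hpp : p' = p := by
      obtain ⟨k, hk⟩ := IsPGroup.iff_card.1 hP'p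
      rw [hk] at hp'dvd
      exact (Nat.prime_dvd_prime_iff_eq hp' hp).1 (hp'.dvd_of_dvd_pow hp'dvd)
    exact ⟨g', by rw [hg', hpp]⟩
  -- (5e): no element of order p q across the two components
  have h5e : ∀ p q : ℕ, p.Prime → q.Prime → p ≠ q → p ∣ m → ¬ q ∣ m →
      ¬ ∃ g : G, orderOf g = p * q := by
    intro p q hp hq hpq hpm hqm
    rintro ⟨g, hg⟩
    haveI : Fact p.Prime := ⟨hp⟩
    haveI : Fact q.Prime := ⟨hq⟩
    obtain ⟨x, hxdef⟩ : ∃ x : G, x = g ^ q := ⟨_, rfl⟩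
    obtain ⟨y, hydef⟩ : ∃ y : G, y = g ^ p := ⟨_, rfl⟩
    have hxord : orderOf x = p := by
      rw [hxdef, orderOf_pow_of_dvd hq.ne_zero (by rw [hg]; exact dvd_mul_left q p), hg,
        Nat.mul_div_cancel _ hq.pos]
    have hyord : orderOf y = q := by
      rw [hydef, orderOf_pow_of_dvd hp.ne_zero (by rw [hg]; exact dvd_mul_right p q), hg,
        Nat.mul_div_cancel_left _ hp.pos]
    have hxy : x * y = y * x := by
      rw [hxdef, hydef, ← pow_add, ← pow_add, add_comm]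
    have hy1 : y ≠ 1 := by
      intro h; rw [h, orderOf_one] at hyord; exact hq.one_lt.ne' hyord.symm
    have hpH : p.Coprime (Nat.card H) := Nat.Coprime.coprime_dvd_left hpm hmH
    have hpK : p.Coprime (Nat.card (G ⧸ K)) := Nat.Coprime.coprime_dvd_left hpm hmK
    have hxK : x ∈ K := by
      have h1 : orderOf ((QuotientGroup.mk' K) x) ∣ p := by
        rw [← hxord]; exact orderOf_map_dvd _ x
      have h2 : orderOf ((QuotientGroup.mk' K) x) ∣ Nat.card (G ⧸ K) := orderOf_dvd_natCard _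
      have h3 : orderOf ((QuotientGroup.mk' K) x) = 1 := Nat.eq_one_of_dvd_coprimes hpK h1 h2
      have h4 : (QuotientGroup.mk' K) x = 1 := orderOf_eq_one_iff.1 h3
      rw [QuotientGroup.mk'_apply, QuotientGroup.eq_one_iff] at h4
      exact h4
    have hxH : x ∉ H := by
      intro h
      have h1 : p ∣ Nat.card H := by rw [← hxord]; exact Subgroup.orderOf_dvd_natCard H h
      exact hp.one_lt.ne' (Nat.Coprime.eq_one_of_dvd hpH h1)
    by_cases hyK : y ∈ K
    · have hqm' : q.Coprime m := (Nat.Prime.coprime_iff_not_dvd hq).2 hqm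
      have hyH : y ∈ H := by
        rw [← hπ1]
        have h1 : orderOf (π y) ∣ q := by rw [← hyord]; exact orderOf_map_dvd _ y
        have h2 : orderOf (π y) ∣ m := by
          rw [← hmN₂]; exact Subgroup.orderOf_dvd_natCard N₂ ((hN₂mem y).2 hyK)
        exact orderOf_eq_one_iff.1 (Nat.eq_one_of_dvd_coprimes hqm' h1 h2)
      have h3 := frob_commute_trivial C₁ N₁ hker₁ hfpf₁ (x := ⟨x, hxK⟩) (y := ⟨y, hyK⟩)
        (by rw [hN₁mem]; exact hxH) (by rw [hN₁mem]; exact hyH) (Subtype.ext hxy)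
      exact hy1 (congrArg Subtype.val h3)
    · have h3 := frob_commute_trivial C₂ N₂ hker₂ hfpf₂ (x := π y) (y := π x)
        (by rw [hN₂mem]; exact hyK) ((hN₂mem x).2 hxK)
        (by rw [← map_mul, ← map_mul, hxy])
      exact hxH ((hπ1 x).1 h3)
  -- assembly
  refine ⟨hsolG, ?_, ?_, hcycGK, ?_⟩
  · rw [← hmN₂]; exact hodd
  · exact Nat.Coprime.mul_right hmH hmK
  · intro p q hp hq hpq hpG hqG
    have hsplit : ∀ r : ℕ, r.Prime → r ∣ Nat.card G → ¬ r ∣ m →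
        r ∣ Nat.card H ∨ r ∣ Nat.card (G ⧸ K) := by
      intro r hr hrG hrm
      rw [hcardG] at hrG
      rcases (Nat.Prime.dvd_mul hr).1 hrG with h | h
      · rcases (Nat.Prime.dvd_mul hr).1 h with h' | h'
        · exact Or.inl h'
        · exact absurd h' hrm
      · exact Or.inr h
    constructor
    · intro hex
      constructor
      · intro hpm
        by_contra hqm
        exact h5e p q hp hq hpq hpm hqm hex
      · intro hqm
        by_contra hpm
        obtain ⟨g, hg⟩ := hex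
        exact h5e q p hq hp hpq.symm hqm hpm ⟨g, by rw [hg, mul_comm]⟩
    · intro hiff
      by_cases hpm : p ∣ m
      · have hqm := hiff.1 hpm
        have hpqm : p * q ∣ Nat.card C₁ := by
          rw [hmC₁]
          exact Nat.Coprime.mul_dvd_of_dvd_of_dvd ((Nat.coprime_primes hp hq).2 hpq) hpm hqm
        haveI := hcycC₁
        obtain ⟨x, hx⟩ := exists_orderOf_of_isCyclic hpqm
        exact ⟨((x : ↥K) : G), by rw [Subgroup.orderOf_coe, Subgroup.orderOf_coe, hx]⟩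
      · have hqm : ¬ q ∣ m := fun h => hpm (hiff.2 h)
        rcases hsplit p hp hpG hpm with hpH | hpK <;>
          rcases hsplit q hq hqG hqm with hqH | hqK
        · obtain ⟨x, hx⟩ := exists_orderOf_mul_of_nilpotent hnilH hp hq hpq hpH hqH
          exact ⟨(x : G), by rw [Subgroup.orderOf_coe, hx]⟩
        · exact h5d p q hp hq hpq hpH hqK
        · obtain ⟨g, hg⟩ := h5d q p hq hp hpq.symm hqH hpK
          exact ⟨g, by rw [hg, mul_comm]⟩
        · have hpqK : p * q ∣ Nat.card (G ⧸ K) :=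
            Nat.Coprime.mul_dvd_of_dvd_of_dvd ((Nat.coprime_primes hp hq).2 hpq) hpK hqK
          haveI := hcycGK
          obtain ⟨y, hy⟩ := exists_orderOf_of_isCyclic hpqK
          obtain ⟨g, hg⟩ := exists_orderOf_of_surjective (QuotientGroup.mk' K)
            (QuotientGroup.mk'_surjective K) y
          exact ⟨g, by rw [hg, hy]⟩

end main

end Cfsg.Agent.Lib.Helper4
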