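import Mathlib
import Cfsg.Agent.Lib.Helper4.Hall
import Cfsg.Agent.Lib.Helper4.TwoFrob

/-! p-groups with a self-centralizing subgroup of order `p²` (Suzuki) or a self-centralizing
nonabelian subgroup of order `p³` have maximal class. -/

set_option autoImplicit false
set_option linter.unusedSectionVars false

namespace Cfsg.Agent.Lib.Helper4

universe u

section counting

/-- counting via fibres contained in cosets -/
theorem card_le_of_fiber {X Y : Type*} [Group X] [Finite X] (D C : Subgroup X) (f : X → Y)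
    (T : Set Y) (hTfin : T.Finite)
    (hT : ∀ g ∈ D, f g ∈ T) (hfib : ∀ g ∈ D, ∀ h ∈ D, f g = f h → g⁻¹ * h ∈ C) :
    Nat.card D ≤ Nat.card C * T.ncard := by
  classical
  haveI : Finite ↥T := hTfin
  rw [← Nat.card_coe_set_eq T, ← Nat.card_prod]
  -- choose a representative in each nonempty fibre
  let rep : Y → X := fun t => if h : ∃ g ∈ D, f g = t then h.choose else 1
  have hrepD : ∀ g ∈ D, rep (f g) ∈ D := by
    intro g hg
    have h : ∃ g' ∈ D, f g' = f g := ⟨g, hg, rfl⟩
    simp only [rep, dif_pos h]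
    exact h.choose_spec.1
  have hrepf : ∀ g ∈ D, f (rep (f g)) = f g := by
    intro g hg
    have h : ∃ g' ∈ D, f g' = f g := ⟨g, hg, rfl⟩
    simp only [rep, dif_pos h]
    exact h.choose_spec.2
  let ψ : ↥D → ↥C × ↥T := fun g =>
    (⟨(rep (f (g : X)))⁻¹ * (g : X),
      hfib _ (hrepD g g.2) g g.2 (hrepf g g.2)⟩, ⟨f (g : X), hT g g.2⟩)
  have hψ : Function.Injective ψ := by
    intro g h hgh
    have h1 : (rep (f (g : X)))⁻¹ * (g : X) = (rep (f (h : X)))⁻¹ * (h : X) :=
      congrArg (fun x => ((x.1 : ↥C) : X)) hgh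
    have h2 : f (g : X) = f (h : X) := congrArg (fun x => ((x.2 : ↥T) : Y)) hgh
    rw [h2] at h1
    exact Subtype.ext (mul_left_cancel h1)
  exact Nat.card_le_card_of_injective ψ hψ

end counting

section smallp
variable {X : Type*} [Group X] [Finite X] {p : ℕ} [hpF : Fact p.Prime]

theorem comm_of_card_le_sq (H : Subgroup X) (k : ℕ) (hk : k ≤ 2) (hH : Nat.card H = p ^ k) :
    ∀ a ∈ H, ∀ b ∈ H, a * b = b * a := by
  intro a ha b hb
  interval_cases k
  · have h1 : H = ⊥ := by
      rw [pow_zero] at hH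
      exact Subgroup.card_eq_one.1 hH
    rw [h1, Subgroup.mem_bot] at ha hb
    rw [ha, hb]
  · rw [pow_one] at hH
    haveI : IsCyclic ↥H := isCyclic_of_prime_card hH
    exact congrArg Subtype.val (comm_of_isCyclic' (⟨a, ha⟩ : ↥H) ⟨b, hb⟩)
  · haveI := IsPGroup.isMulCommutative_of_card_eq_prime_sq (p := p) hH
    exact congrArg Subtype.val (mul_comm' (⟨a, ha⟩ : ↥H) ⟨b, hb⟩)

/-- a subgroup of a group of order `p ^ m` has order `p ^ k`, `k ≤ m` -/
theorem card_sub_pow (m : ℕ) (H K : Subgroup X) (hHK : H ≤ K) (hK : Nat.card K = p ^ m) :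
    ∃ k ≤ m, Nat.card H = p ^ k :=
  (Nat.dvd_prime_pow hpF.out).1 (hK ▸ Subgroup.card_dvd_of_le hHK)

end smallp

section step
variable {p : ℕ} [hpF : Fact p.Prime]

theorem max_class_step {X : Type u} [Group X] [Finite X] (n : ℕ) (hX : Nat.card X = p ^ n)
    (hZ : Nat.card (Subgroup.center X) = p) (H : Subgroup X) (hZH : Subgroup.center X ≤ H)
    (hH : Nat.card H = p ^ 3)
    (hcent : ∀ g : X, (∀ h ∈ H, g * h * g⁻¹ * h⁻¹ ∈ Subgroup.center X) → g ∈ H)
    (hS : ∀ A : Subgroup (X ⧸ Subgroup.center X), Nat.card A = p ^ 2 →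
      Subgroup.centralizer (A : Set (X ⧸ Subgroup.center X)) ≤ A →
      Group.nilpotencyClass (X ⧸ Subgroup.center X) = (n - 1) - 1) :
    Group.nilpotencyClass X = n - 1 := by
  have hp : p.Prime := hpF.out
  haveI hnil : Group.IsNilpotent X := (IsPGroup.of_card hX).isNilpotent
  have hn3 : 3 ≤ n := by
    have h1 : Nat.card H ≤ Nat.card X := Subgroup.card_le_card_group H
    rw [hH, hX] at h1
    exact (Nat.pow_le_pow_iff_right hp.one_lt).1 h1
  haveI : Nontrivial X := by
    rw [← Finite.one_lt_card_iff_nontrivial, hX]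
    exact Nat.one_lt_pow (by omega) hp.one_lt
  have hcardHb : Nat.card (H.map (QuotientGroup.mk' (Subgroup.center X))) = p ^ 2 := by
    have h1 := card_comap_mk_quot (Subgroup.center X)
      (H.map (QuotientGroup.mk' (Subgroup.center X)))
    rw [Subgroup.comap_map_eq, QuotientGroup.ker_mk', sup_eq_left.2 hZH, hH, hZ] at h1
    have h2 : p ^ 3 = p ^ 2 * p := by ring
    rw [h2] at h1
    exact (Nat.eq_of_mul_eq_mul_right hp.pos h1).symm
  have hcentb : Subgroup.centralizer
      ((H.map (QuotientGroup.mk' (Subgroup.center X)) : Subgroup (X ⧸ Subgroup.center X)) :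
        Set (X ⧸ Subgroup.center X)) ≤ H.map (QuotientGroup.mk' (Subgroup.center X)) := by
    intro y hy
    obtain ⟨g, rfl⟩ := QuotientGroup.mk'_surjective _ y
    refine Subgroup.mem_map_of_mem _ (hcent g ?_)
    intro h hh
    have h1 := (Subgroup.mem_centralizer_iff.1 hy) _
      (Subgroup.mem_map_of_mem (QuotientGroup.mk' (Subgroup.center X)) hh)
    rw [← QuotientGroup.eq_one_iff, ← QuotientGroup.mk'_apply, map_mul, map_mul, map_mul,
      map_inv, map_inv, ← h1]
    group
  have hcl := hS _ hcardHb hcentb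
  rw [Group.nilpotencyClass_eq_quotient_center_plus_one (G := X), hcl]
  omega

end step


section suzuki
variable {p : ℕ} [hpF : Fact p.Prime]

theorem card_quot_center {X : Type u} [Group X] [Finite X] (n : ℕ) (hX : Nat.card X = p ^ n)
    (hZ : Nat.card (Subgroup.center X) = p) (hn : 1 ≤ n) :
    Nat.card (X ⧸ Subgroup.center X) = p ^ (n - 1) := by
  have hp := hpF.out
  have h1 := Subgroup.card_eq_card_quotient_mul_card_subgroup (Subgroup.center X)
  rw [hX, hZ] at h1
  have h2 : p ^ n = p ^ (n - 1) * p := by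
    rw [← pow_succ]; congr 1; omega
  rw [h2] at h1
  exact (Nat.eq_of_mul_eq_mul_right hp.pos h1).symm

theorem card_map_mk_center {X : Type u} [Group X] [Finite X]
    (hZ : Nat.card (Subgroup.center X) = p) (H : Subgroup X) (hZH : Subgroup.center X ≤ H)
    (hH : Nat.card H = p ^ 3) :
    Nat.card (H.map (QuotientGroup.mk' (Subgroup.center X))) = p ^ 2 := by
  have hp := hpF.out
  have h1 := card_comap_mk_quot (Subgroup.center X)
    (H.map (QuotientGroup.mk' (Subgroup.center X)))
  rw [Subgroup.comap_map_eq, QuotientGroup.ker_mk', sup_eq_left.2 hZH, hH, hZ] at h1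
  have h2 : p ^ 3 = p ^ 2 * p := by ring
  rw [h2] at h1
  exact (Nat.eq_of_mul_eq_mul_right hp.pos h1).symm

theorem suzuki_max_class : ∀ (n : ℕ) (X : Type u) [Group X] [Finite X], Nat.card X = p ^ n →
    ∀ A : Subgroup X, Nat.card A = p ^ 2 → Subgroup.centralizer (A : Set X) ≤ A →
    Group.nilpotencyClass X = n - 1 := by
  intro n
  induction n using Nat.strong_induction_on with
  | _ n ih =>
  intro X _ _ hX A hA hCA
  classical
  have hp : p.Prime := hpF.out
  have hXp : IsPGroup p X := IsPGroup.of_card hX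
  haveI hnil : Group.IsNilpotent X := hXp.isNilpotent
  have hn2 : 2 ≤ n := by
    have h1 : Nat.card A ≤ Nat.card X := Subgroup.card_le_card_group A
    rw [hA, hX] at h1
    exact (Nat.pow_le_pow_iff_right hp.one_lt).1 h1
  haveI : Nontrivial X := by
    rw [← Finite.one_lt_card_iff_nontrivial, hX]
    exact Nat.one_lt_pow (by omega) hp.one_lt
  have hAab : ∀ a ∈ A, ∀ b ∈ A, a * b = b * a := comm_of_card_le_sq A 2 le_rfl hA
  by_cases hAtop : A = ⊤
  · have hn : n = 2 := by
      have h1 : Nat.card A = Nat.card X := by rw [hAtop, Subgroup.card_top]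
      rw [hA, hX] at h1
      exact (Nat.pow_right_injective hp.two_le h1).symm
    have hcomm : ∀ a b : X, a * b = b * a := fun a b =>
      hAab a (by rw [hAtop]; exact Subgroup.mem_top a) b (by rw [hAtop]; exact Subgroup.mem_top b)
    haveI : Subsingleton (X ⧸ Subgroup.center X) := ⟨fun x y => by
      obtain ⟨a, rfl⟩ := QuotientGroup.mk_surjective x
      obtain ⟨b, rfl⟩ := QuotientGroup.mk_surjective y
      exact QuotientGroup.eq.2 (Subgroup.mem_center_iff.2 (fun g => hcomm g _))⟩
    rw [Group.nilpotencyClass_eq_quotient_center_plus_one (G := X),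
      Group.nilpotencyClass_zero_iff_subsingleton.2 inferInstance, hn]
  · have hZA : Subgroup.center X ≤ A := fun z hz =>
      hCA (Subgroup.mem_centralizer_iff.2 (fun a _ => Subgroup.mem_center_iff.1 hz a))
    have hZne : Subgroup.center X ≠ ⊥ := by
      haveI := hXp.center_nontrivial
      exact (Subgroup.nontrivial_iff_ne_bot _).1 inferInstance
    have hZneA : Subgroup.center X ≠ A := by
      intro h
      apply hAtop
      rw [eq_top_iff]
      intro x _
      apply hCA
      rw [Subgroup.mem_centralizer_iff]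
      intro a ha
      rw [← h] at ha
      exact (Subgroup.mem_center_iff.1 ha x).symm
    have hZcard : Nat.card (Subgroup.center X) = p := by
      obtain ⟨k, hk2, hk⟩ := card_sub_pow 2 (Subgroup.center X) A hZA hA
      interval_cases k
      · exfalso; apply hZne; rw [pow_zero] at hk; exact Subgroup.card_eq_one.1 hk
      · rw [hk, pow_one]
      · exfalso; apply hZneA
        exact Subgroup.eq_of_le_of_card_ge hZA (by rw [hk, hA])
    obtain ⟨N, hNdef⟩ : ∃ N : Subgroup X, N = Subgroup.normalizer (A : Set X) := ⟨_, rfl⟩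
    have hAN : A ≤ N := by rw [hNdef]; exact Subgroup.le_normalizer
    have hAltN : A < N := by
      rw [hNdef]
      exact normalizerCondition_of_isNilpotent A (lt_top_iff_ne_top.2 hAtop)
    obtain ⟨a₀, ha₀A, ha₀Z⟩ : ∃ a₀ ∈ A, a₀ ∉ Subgroup.center X := by
      by_contra hcon
      apply hZneA
      apply le_antisymm hZA
      intro a ha
      by_contra haZ
      exact hcon ⟨a, ha, haZ⟩
    have hcentA : ∀ x : X, x * a₀ = a₀ * x → x ∈ A := by
      intro x hx
      apply hCA
      obtain ⟨A₁, hA₁def⟩ : ∃ A₁ : Subgroup X, A₁ = A ⊓ Subgroup.centralizer {x} := ⟨_, rfl⟩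
      have hA₁A : A₁ ≤ A := by rw [hA₁def]; exact inf_le_left
      have hZA₁ : Subgroup.center X ≤ A₁ := by
        rw [hA₁def]
        refine le_inf hZA ?_
        intro z hz
        rw [Subgroup.mem_centralizer_singleton_iff]
        exact (Subgroup.mem_center_iff.1 hz x).symm
      have ha₀A₁ : a₀ ∈ A₁ := by
        rw [hA₁def]
        exact ⟨ha₀A, Subgroup.mem_centralizer_singleton_iff.2 hx.symm⟩
      have hA₁eq : A₁ = A := by
        obtain ⟨k, hk2, hk⟩ := card_sub_pow 2 A₁ A hA₁A hA
        have hZdvd : p ∣ Nat.card A₁ := hZcard ▸ Subgroup.card_dvd_of_le hZA₁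
        interval_cases k
        · exfalso
          rw [hk, pow_zero] at hZdvd
          exact hp.one_lt.ne' (Nat.dvd_one.1 hZdvd)
        · exfalso
          have h1 : Subgroup.center X = A₁ :=
            Subgroup.eq_of_le_of_card_ge hZA₁ (by rw [hk, pow_one, hZcard])
          exact ha₀Z (h1 ▸ ha₀A₁)
        · exact Subgroup.eq_of_le_of_card_ge hA₁A (by rw [hk, hA])
      rw [Subgroup.mem_centralizer_iff]
      intro a ha
      rw [← hA₁eq, hA₁def] at ha
      exact Subgroup.mem_centralizer_singleton_iff.1 ha.2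
    have hNcard : Nat.card N = p ^ 3 := by
      have hle : Nat.card N ≤
          Nat.card A * ((A : Set X) \ (Subgroup.center X : Set X)).ncard := by
        apply card_le_of_fiber N A (fun g => g * a₀ * g⁻¹) _ (Set.toFinite _)
        · intro g hg
          refine ⟨?_, ?_⟩
          · rw [hNdef] at hg
            exact (Subgroup.mem_normalizer_iff.1 hg a₀).1 ha₀A
          · intro hz
            apply ha₀Z
            have hz' : g * a₀ * g⁻¹ ∈ Subgroup.center X := hz
            have h1 := (inferInstance : (Subgroup.center X).Normal).conj_mem _ hz' g⁻¹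
            have e : g⁻¹ * (g * a₀ * g⁻¹) * g⁻¹⁻¹ = a₀ := by group
            rw [e] at h1; exact h1
        · intro g hg h hh hgh
          apply hcentA
          have hgh' : g * a₀ * g⁻¹ = h * a₀ * h⁻¹ := hgh
          calc g⁻¹ * h * a₀ = g⁻¹ * (h * a₀ * h⁻¹) * h := by group
            _ = g⁻¹ * (g * a₀ * g⁻¹) * h := by rw [hgh']
            _ = a₀ * (g⁻¹ * h) := by group
      have hdiff : ((A : Set X) \ (Subgroup.center X : Set X)).ncard = p ^ 2 - p := by
        rw [Set.ncard_diff (fun z hz => hZA hz) (Set.toFinite _)]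
        have h1 : (A : Set X).ncard = p ^ 2 := by rw [← Nat.card_coe_set_eq]; exact hA
        have h2 : (Subgroup.center X : Set X).ncard = p := by
          rw [← Nat.card_coe_set_eq]; exact hZcard
        rw [h1, h2]
      rw [hA, hdiff] at hle
      obtain ⟨k, hkn, hk⟩ := card_sub_pow n N ⊤ le_top (by rw [Subgroup.card_top]; exact hX)
      have hlt1 : p ^ 2 < p ^ k := by
        rw [← hA, ← hk]
        by_contra hcon
        exact hAltN.ne (Subgroup.eq_of_le_of_card_ge hAN (not_lt.1 hcon))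
      have hk3 : 2 < k := (Nat.pow_lt_pow_iff_right hp.one_lt).1 hlt1
      have hlt2 : p ^ k < p ^ 4 := by
        rw [← hk]
        have h1 : p ^ 2 - p < p ^ 2 := Nat.sub_lt (pow_pos hp.pos 2) hp.pos
        have h2 : 0 < p ^ 2 := pow_pos hp.pos 2
        have h3 : p ^ 4 = p ^ 2 * p ^ 2 := by ring
        rw [h3]
        exact lt_of_le_of_lt hle (Nat.mul_lt_mul_of_lt_of_le' (lt_of_le_of_lt (le_refl _) h1 |> fun _ => h1) le_rfl h2 |> fun _ => by nlinarith)
      have hk4 : k < 4 := (Nat.pow_lt_pow_iff_right hp.one_lt).1 hlt2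
      have hk3' : k = 3 := by omega
      rw [hk, hk3']
    have hZN : Subgroup.center X ≤ N := hZA.trans hAN
    have hcentN : ∀ g : X, (∀ h ∈ N, g * h * g⁻¹ * h⁻¹ ∈ Subgroup.center X) → g ∈ N := by
      intro g hg
      rw [hNdef]
      apply Subgroup.mem_normalizer_iff_map_conj_eq.2
      show cj g A = A
      have hle : cj g A ≤ A := by
        intro x hx
        rw [mem_cj_iff] at hx
        have h1 := hg _ (hAN hx)
        have e : x = (g * (g⁻¹ * x * g) * g⁻¹ * (g⁻¹ * x * g)⁻¹) * (g⁻¹ * x * g) := by group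
        rw [e]
        exact A.mul_mem (hZA h1) hx
      exact Subgroup.eq_of_le_of_card_ge hle (by rw [card_cj'])
    have hcardq := card_quot_center n hX hZcard (by omega)
    exact max_class_step n hX hZcard N hZN hNcard hcentN
      (fun A' hA' hCA' => ih (n - 1) (by omega) (X ⧸ Subgroup.center X) hcardq A' hA' hCA')

theorem max_class_of_selfcent_p3 {X : Type u} [Group X] [Finite X] (n : ℕ)
    (hX : Nat.card X = p ^ n) (B : Subgroup X) (hB : Nat.card B = p ^ 3)
    (hBna : ¬ IsMulCommutative B) (hC : Subgroup.centralizer (B : Set X) ≤ B) :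
    Group.nilpotencyClass X = n - 1 := by
  classical
  have hp : p.Prime := hpF.out
  have hXp : IsPGroup p X := IsPGroup.of_card hX
  haveI hnil : Group.IsNilpotent X := hXp.isNilpotent
  have hn3 : 3 ≤ n := by
    have h1 : Nat.card B ≤ Nat.card X := Subgroup.card_le_card_group B
    rw [hB, hX] at h1
    exact (Nat.pow_le_pow_iff_right hp.one_lt).1 h1
  haveI : Nontrivial X := by
    rw [← Finite.one_lt_card_iff_nontrivial, hX]
    exact Nat.one_lt_pow (by omega) hp.one_lt
  obtain ⟨b₁, hb₁, b₂, hb₂, hb12⟩ : ∃ b₁ ∈ B, ∃ b₂ ∈ B, b₁ * b₂ ≠ b₂ * b₁ := by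
    by_contra hcon
    apply hBna
    apply IsMulCommutative.of_comm
    rintro ⟨a, ha⟩ ⟨b, hb⟩
    apply Subtype.ext
    by_contra hab
    exact hcon ⟨a, ha, b, hb, hab⟩
  have hgenB : ∀ B₁ : Subgroup X, B₁ ≤ B → b₁ ∈ B₁ → b₂ ∈ B₁ → B₁ = B := by
    intro B₁ hle h1 h2
    obtain ⟨k, hk3, hk⟩ := card_sub_pow 3 B₁ B hle hB
    by_cases hk2 : k ≤ 2
    · exact absurd (comm_of_card_le_sq B₁ k hk2 hk b₁ h1 b₂ h2) hb12
    · have hk3' : k = 3 := by omega
      exact Subgroup.eq_of_le_of_card_ge hle (by rw [hk, hk3', hB])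
  have hcentB : ∀ x : X, x * b₁ = b₁ * x → x * b₂ = b₂ * x →
      x ∈ Subgroup.centralizer (B : Set X) := by
    intro x h1 h2
    have h3 := hgenB (B ⊓ Subgroup.centralizer {x}) inf_le_left
      ⟨hb₁, Subgroup.mem_centralizer_singleton_iff.2 h1.symm⟩
      ⟨hb₂, Subgroup.mem_centralizer_singleton_iff.2 h2.symm⟩
    rw [Subgroup.mem_centralizer_iff]
    intro b hb
    rw [← h3] at hb
    exact Subgroup.mem_centralizer_singleton_iff.1 hb.2
  have hZC : Subgroup.center X ≤ Subgroup.centralizer (B : Set X) := fun z hz =>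
    Subgroup.mem_centralizer_iff.2 (fun b _ => Subgroup.mem_center_iff.1 hz b)
  have hZB : Subgroup.center X ≤ B := hZC.trans hC
  have hZne : Subgroup.center X ≠ ⊥ := by
    haveI := hXp.center_nontrivial
    exact (Subgroup.nontrivial_iff_ne_bot _).1 inferInstance
  obtain ⟨ZB, hZBdef⟩ : ∃ ZB : Subgroup X, ZB = Subgroup.centralizer (B : Set X) := ⟨_, rfl⟩
  have hZBB : ZB ≤ B := by rw [hZBdef]; exact hC
  have hb₁ZB : b₁ ∉ ZB := by
    intro h
    rw [hZBdef] at h
    exact hb12 ((Subgroup.mem_centralizer_iff.1 h) b₂ hb₂).symm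
  have hZBcard : Nat.card ZB = p := by
    obtain ⟨k, hk3, hk⟩ := card_sub_pow 3 ZB B hZBB hB
    interval_cases k
    · exfalso
      rw [pow_zero] at hk
      have h1 : ZB = ⊥ := Subgroup.card_eq_one.1 hk
      apply hZne
      rw [eq_bot_iff, ← h1, hZBdef]; exact hZC
    · rw [hk, pow_one]
    · exfalso
      obtain ⟨B₂, hB₂def⟩ : ∃ B₂ : Subgroup X, B₂ = B ⊓ Subgroup.centralizer {b₁} := ⟨_, rfl⟩
      have hB₂B : B₂ ≤ B := by rw [hB₂def]; exact inf_le_left
      have hZBB₂ : ZB ≤ B₂ := by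
        rw [hB₂def]
        refine le_inf hZBB ?_
        intro z hz
        rw [hZBdef] at hz
        rw [Subgroup.mem_centralizer_singleton_iff]
        exact ((Subgroup.mem_centralizer_iff.1 hz) b₁ hb₁).symm
      have hb₁B₂ : b₁ ∈ B₂ := by
        rw [hB₂def]; exact ⟨hb₁, Subgroup.mem_centralizer_singleton_iff.2 rfl⟩
      obtain ⟨j, hj3, hj⟩ := card_sub_pow 3 B₂ B hB₂B hB
      have hdvd : p ^ 2 ∣ p ^ j := by rw [← hk, ← hj]; exact Subgroup.card_dvd_of_le hZBB₂
      have hj2 : 2 ≤ j := (Nat.pow_dvd_pow_iff_le_right hp.one_lt).1 hdvd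
      have hjne : j ≠ 2 := by
        intro h2
        have h3 : ZB = B₂ := Subgroup.eq_of_le_of_card_ge hZBB₂ (by rw [hj, h2, hk])
        exact hb₁ZB (h3 ▸ hb₁B₂)
      have hj3' : j = 3 := by omega
      have hB₂eq : B₂ = B := Subgroup.eq_of_le_of_card_ge hB₂B (by rw [hj, hj3', hB])
      have h4 : b₂ ∈ B₂ := by rw [hB₂eq]; exact hb₂
      rw [hB₂def] at h4
      exact hb12 (Subgroup.mem_centralizer_singleton_iff.1 h4.2).symm
    · exfalso
      have h1 : ZB = B := Subgroup.eq_of_le_of_card_ge hZBB (by rw [hk, hB])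
      exact hb₁ZB (h1 ▸ hb₁)
  have hZleZB : Subgroup.center X ≤ ZB := by rw [hZBdef]; exact hZC
  have hZcard : Nat.card (Subgroup.center X) = p := by
    have hdvd : Nat.card (Subgroup.center X) ∣ p := hZBcard ▸ Subgroup.card_dvd_of_le hZleZB
    rcases (Nat.dvd_prime hp).1 hdvd with h | h
    · exact absurd (Subgroup.card_eq_one.1 h) hZne
    · exact h
  have hZeq : Subgroup.center X = ZB :=
    Subgroup.eq_of_le_of_card_ge hZleZB (by rw [hZcard, hZBcard])
  -- the subgroup D of elements acting trivially on B modulo the center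
  obtain ⟨D, hDdef⟩ : ∃ D : Subgroup X, D = (Subgroup.centralizer
      ((B.map (QuotientGroup.mk' (Subgroup.center X)) : Subgroup (X ⧸ Subgroup.center X)) :
        Set (X ⧸ Subgroup.center X))).comap (QuotientGroup.mk' (Subgroup.center X)) := ⟨_, rfl⟩
  have hDmem : ∀ g : X, g ∈ D ↔ ∀ h ∈ B, g * h * g⁻¹ * h⁻¹ ∈ Subgroup.center X := by
    intro g
    rw [hDdef, Subgroup.mem_comap, Subgroup.mem_centralizer_iff]
    constructor
    · intro hg h hh
      have h1 := hg _ (Subgroup.mem_map_of_mem (QuotientGroup.mk' (Subgroup.center X)) hh)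
      rw [← QuotientGroup.eq_one_iff, ← QuotientGroup.mk'_apply, map_mul, map_mul, map_mul,
        map_inv, map_inv, ← h1]
      group
    · rintro hg _ ⟨h, hh, rfl⟩
      have h1 := hg h hh
      rw [← QuotientGroup.eq_one_iff, ← QuotientGroup.mk'_apply, map_mul, map_mul, map_mul,
        map_inv, map_inv] at h1
      obtain ⟨a, ha⟩ : ∃ a, a = (QuotientGroup.mk' (Subgroup.center X)) g := ⟨_, rfl⟩
      obtain ⟨b, hb⟩ : ∃ b, b = (QuotientGroup.mk' (Subgroup.center X)) h := ⟨_, rfl⟩
      rw [← ha, ← hb] at h1 ⊢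
      calc b * a = (a * b * a⁻¹ * b⁻¹)⁻¹ * (a * b) := by group
        _ = a * b := by rw [h1, inv_one, one_mul]
  have hBD : B ≤ D := by
    intro b hb
    rw [hDdef, Subgroup.mem_comap, Subgroup.mem_centralizer_iff]
    have hcardBb := card_map_mk_center hZcard B hZB hB
    have hcomm := comm_of_card_le_sq (B.map (QuotientGroup.mk' (Subgroup.center X))) 2 le_rfl
      hcardBb
    intro y hy
    exact hcomm y hy _ (Subgroup.mem_map_of_mem _ hb)
  have hDcard : Nat.card D ≤ p ^ 3 := by
    obtain ⟨T, hTdef⟩ : ∃ T : Set (X × X), T = (fun z : X × X => (z.1 * b₁, z.2 * b₂)) ''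
      ((Subgroup.center X : Set X) ×ˢ (Subgroup.center X : Set X)) := ⟨_, rfl⟩
    have hle : Nat.card D ≤ Nat.card ZB * T.ncard := by
      apply card_le_of_fiber D ZB (fun g => (g * b₁ * g⁻¹, g * b₂ * g⁻¹)) T (Set.toFinite _)
      · intro g hg
        rw [hTdef]
        refine ⟨(g * b₁ * g⁻¹ * b₁⁻¹, g * b₂ * g⁻¹ * b₂⁻¹),
          ⟨(hDmem g).1 hg b₁ hb₁, (hDmem g).1 hg b₂ hb₂⟩, ?_⟩
        simp
      · intro g hg h hh hgh
        rw [hZBdef]
        have h1 : g * b₁ * g⁻¹ = h * b₁ * h⁻¹ := congrArg Prod.fst hgh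
        have h2 : g * b₂ * g⁻¹ = h * b₂ * h⁻¹ := congrArg Prod.snd hgh
        apply hcentB
        · calc g⁻¹ * h * b₁ = g⁻¹ * (h * b₁ * h⁻¹) * h := by group
            _ = g⁻¹ * (g * b₁ * g⁻¹) * h := by rw [h1]
            _ = b₁ * (g⁻¹ * h) := by group
        · calc g⁻¹ * h * b₂ = g⁻¹ * (h * b₂ * h⁻¹) * h := by group
            _ = g⁻¹ * (g * b₂ * g⁻¹) * h := by rw [h2]
            _ = b₂ * (g⁻¹ * h) := by group
    have hT : T.ncard ≤ p * p := by
      rw [hTdef]
      refine (Set.ncard_image_le (Set.toFinite _)).trans ?_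
      rw [Set.ncard_prod]
      have h2 : (Subgroup.center X : Set X).ncard = p := by
        rw [← Nat.card_coe_set_eq]; exact hZcard
      rw [h2]
    calc Nat.card D ≤ Nat.card ZB * T.ncard := hle
      _ ≤ p * (p * p) := by rw [hZBcard]; exact Nat.mul_le_mul_left p hT
      _ = p ^ 3 := by ring
  have hDB : B = D := Subgroup.eq_of_le_of_card_ge hBD (by rw [hB]; exact hDcard)
  have hcent : ∀ g : X, (∀ h ∈ B, g * h * g⁻¹ * h⁻¹ ∈ Subgroup.center X) → g ∈ B := by
    intro g hg
    rw [hDB]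
    exact (hDmem g).2 hg
  have hcardq := card_quot_center n hX hZcard (by omega)
  exact max_class_step n hX hZcard B hZB hB hcent
    (fun A' hA' hCA' => suzuki_max_class (n - 1) (X ⧸ Subgroup.center X) hcardq A' hA' hCA')

end suzuki

end Cfsg.Agent.Lib.Helper4
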