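import Mathlib
import Cfsg.Agent.Lib.Helper4.Metacyclic6

set_option maxHeartbeats 1000000

namespace Cfsg.Agent.Lib.Helper4

theorem mc_solve {p : ℕ} (hp : p.Prime) (M s t : ℕ) (hs : ¬ p ∣ s) : ∃ x, p ^ M ∣ x * s + t := by
  have hc : Nat.Coprime s (p ^ M) :=
    Nat.Coprime.pow_right M ((Nat.Prime.coprime_iff_not_dvd hp).2 hs).symm
  obtain ⟨x, _, hx⟩ := Nat.exists_mul_mod_eq_of_coprime ((p ^ M - 1) * t) hc
    (pow_pos hp.pos M).ne'
  refine ⟨x, ?_⟩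
  have h1 : s * x ≡ (p ^ M - 1) * t [MOD p ^ M] := hx
  have h2 : x * s + t ≡ (p ^ M - 1) * t + t [MOD p ^ M] := by
    rw [mul_comm x s]; exact h1.add_right t
  have h3 : (p ^ M - 1) * t + t = p ^ M * t := by
    obtain ⟨k, hk⟩ : ∃ k, p ^ M = k + 1 := ⟨p ^ M - 1, by have := pow_pos hp.pos M; omega⟩
    rw [hk, Nat.add_sub_cancel]; ring
  rw [h3] at h2
  exact (Nat.modEq_zero_iff_dvd).1 (h2.trans ((Nat.modEq_zero_iff_dvd).2 (Dvd.intro _ rfl)))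

theorem mc_lte_aux {p : ℕ} (hp : p.Prime) (w u e y : ℕ) (hu : ¬ p ∣ u) :
    p ^ e ∣ y ↔ p ^ (w + e) ∣ y * (p ^ w * u) := by
  constructor
  · rintro ⟨y', rfl⟩
    rw [pow_add]
    exact ⟨y' * u, by ring⟩
  · intro hd
    have h1 : p ^ (w + e) ∣ (p ^ w * y) * u := by
      have e1 : (p ^ w * y) * u = y * (p ^ w * u) := by ring
      rw [e1]; exact hd
    have h2 : p ^ (w + e) ∣ p ^ w * y :=
      Nat.Coprime.dvd_of_dvd_mul_right
        (Nat.Coprime.pow_left _ ((Nat.Prime.coprime_iff_not_dvd hp).2 hu)) h1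
    rw [pow_add] at h2
    exact (Nat.mul_dvd_mul_iff_left (pow_pos hp.pos w)).1 h2

theorem mc_lte_sum {p : ℕ} (hp : p.Prime) (hodd : Odd p) (q : ℕ) (hq1 : 1 ≤ q)
    (hpq : p ∣ q - 1) (x m e : ℕ) :
    p ^ e ∣ x * ∑ t ∈ Finset.range m, q ^ t ↔ p ^ e ∣ x * m := by
  rcases Nat.eq_or_lt_of_le hq1 with hq2 | hq2
  · rw [← hq2]; simp
  · obtain ⟨w, u, hu, hwu⟩ :=
      Nat.exists_eq_pow_mul_and_not_dvd (n := q - 1) (by omega) p hp.ne_one
    have hgs := mc_geom_sum_mul q m hq1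
    obtain ⟨S, hS⟩ : ∃ S, S = ∑ t ∈ Finset.range m, q ^ t := ⟨_, rfl⟩
    rw [← hS] at hgs ⊢
    have e1 : q ^ m - 1 = S * (q - 1) := by omega
    rw [mc_lte_aux hp w u e (x * S) hu, mc_lte_aux hp w u e (x * m) hu, ← hwu, mul_assoc, ← e1,
      mc_lte_dvd hp hodd q hq1 hpq, mul_right_comm]

namespace IsMC

variable {G : Type*} [Group G] {p : ℕ} {a b : G} {α β ρ n r : ℕ}

theorem factor_caseI (h : IsMC p a b α β ρ n r) (t₁ : ℕ) (ht : b ^ (p ^ β) = a ^ (p ^ β * t₁)) :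
    ∃ A B : Subgroup G, IsCyclic ↥A ∧ IsCyclic ↥B ∧ A ⊓ B = ⊥ ∧
      Nat.card ↥A * Nat.card ↥B = Nat.card G := by
  have hp := h.hp
  haveI := h.finite
  obtain ⟨S, hS⟩ : ∃ S, S = ∑ t ∈ Finset.range (p ^ β), (r ^ 1) ^ t := ⟨_, rfl⟩
  have hr1' : 1 ≤ r ^ 1 := by rw [pow_one]; exact h.hr1
  have hpr : p ∣ r ^ 1 - 1 := by rw [pow_one]; exact h.hr
  have hS1 : p ^ β ∣ S := by
    have h0 := (mc_lte_sum hp h.hodd (r ^ 1) hr1' hpr 1 (p ^ β) β).2 (by simp)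
    rwa [one_mul, ← hS] at h0
  obtain ⟨S', hS'⟩ := hS1
  have hS'p : ¬ p ∣ S' := by
    intro hc
    have h1 : p ^ (β + 1) ∣ 1 * S := by
      rw [one_mul, hS', pow_succ]; exact Nat.mul_dvd_mul dvd_rfl hc
    rw [hS, mc_lte_sum hp h.hodd (r ^ 1) hr1' hpr, one_mul,
      Nat.pow_dvd_pow_iff_le_right hp.one_lt] at h1
    omega
  obtain ⟨x, hx⟩ := mc_solve hp α S' t₁ hS'p
  obtain ⟨y, hy0⟩ : ∃ y, y = a ^ x * b ^ 1 := ⟨_, rfl⟩
  have hy : y ^ (p ^ β) = 1 := by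
    rw [hy0, h.pow_formula, ← hS, one_mul, ht, ← pow_add, h.pow_eq_one_iff, hS']
    have e1 : x * (p ^ β * S') + p ^ β * t₁ = p ^ β * (x * S' + t₁) := by ring
    rw [e1]; exact Dvd.dvd.mul_left hx _
  have hyN : ∀ m : ℕ, y ^ m ∈ Subgroup.zpowers a → p ^ β ∣ m := by
    intro m hm
    rw [hy0, h.pow_formula, one_mul] at hm
    have h1 : b ^ m ∈ Subgroup.zpowers a := by
      have h2 := Subgroup.mul_mem _ (Subgroup.inv_mem _
        (Subgroup.npow_mem_zpowers a (x * ∑ t ∈ Finset.range m, (r ^ 1) ^ t))) hm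
      rwa [inv_mul_cancel_left] at h2
    exact (h.hb m).1 h1
  refine ⟨Subgroup.zpowers a, Subgroup.zpowers y, inferInstance, inferInstance, ?_, ?_⟩
  · rw [eq_bot_iff]
    intro z hz
    obtain ⟨hz1, hz2⟩ := Subgroup.mem_inf.1 hz
    rw [← mem_powers_iff_mem_zpowers] at hz2
    obtain ⟨m, rfl⟩ := (Submonoid.mem_powers_iff _ _).1 hz2
    obtain ⟨m', rfl⟩ := hyN m hz1
    rw [Subgroup.mem_bot, pow_mul, hy, one_pow]
  · rw [Nat.card_zpowers, Nat.card_zpowers, h.ha, h.hcard]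
    congr 1
    apply Nat.dvd_antisymm
    · exact orderOf_dvd_of_pow_eq_one hy
    · apply hyN; rw [pow_orderOf_eq_one]; exact Subgroup.one_mem _

theorem factor_caseII (h : IsMC p a b α β ρ n r) (τ u : ℕ) (hu : ¬ p ∣ u) (hτα : τ < α)
    (hτβ : τ < β) (ht : b ^ (p ^ β) = a ^ (p ^ τ * u)) :
    ∃ A B : Subgroup G, IsCyclic ↥A ∧ IsCyclic ↥B ∧ A ⊓ B = ⊥ ∧
      Nat.card ↥A * Nat.card ↥B = Nat.card G := by
  have hp := h.hp
  haveI := h.finite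
  obtain ⟨j, hj⟩ : ∃ j, j = p ^ (β - τ) := ⟨_, rfl⟩
  have hjτ : j * p ^ τ = p ^ β := by rw [hj, ← pow_add]; congr 1; omega
  have hq1 : 1 ≤ r ^ j := Nat.one_le_pow _ _ h.hr1
  have hpq : p ∣ r ^ j - 1 := h.hr.trans (Nat.sub_one_dvd_pow_sub_one r j)
  obtain ⟨S, hS⟩ : ∃ S, S = ∑ t ∈ Finset.range (p ^ τ), (r ^ j) ^ t := ⟨_, rfl⟩
  have hS1 : p ^ τ ∣ S := by
    have h0 := (mc_lte_sum hp h.hodd (r ^ j) hq1 hpq 1 (p ^ τ) τ).2 (by simp)
    rwa [one_mul, ← hS] at h0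
  obtain ⟨S', hS'⟩ := hS1
  have hS'p : ¬ p ∣ S' := by
    intro hc
    have h1 : p ^ (τ + 1) ∣ 1 * S := by
      rw [one_mul, hS', pow_succ]; exact Nat.mul_dvd_mul dvd_rfl hc
    rw [hS, mc_lte_sum hp h.hodd (r ^ j) hq1 hpq, one_mul,
      Nat.pow_dvd_pow_iff_le_right hp.one_lt] at h1
    omega
  obtain ⟨x, hx⟩ := mc_solve hp (α - τ) S' u hS'p
  have hxp : ¬ p ∣ x := by
    intro hc
    apply hu
    have h1 : p ∣ x * S' + u := (dvd_pow_self p (by omega : α - τ ≠ 0)).trans hx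
    exact (Nat.dvd_add_right (Dvd.dvd.mul_right hc S')).1 h1
  obtain ⟨y, hy0⟩ : ∃ y, y = a ^ x * b ^ j := ⟨_, rfl⟩
  have hy : y ^ (p ^ τ) = 1 := by
    rw [hy0, h.pow_formula, ← hS, hjτ, ht, ← pow_add, h.pow_eq_one_iff, hS']
    have e1 : x * (p ^ τ * S') + p ^ τ * u = p ^ τ * (x * S' + u) := by ring
    have e2 : p ^ α = p ^ τ * p ^ (α - τ) := by rw [← pow_add]; congr 1; omega
    rw [e1, e2]; exact Nat.mul_dvd_mul dvd_rfl hx
  have hyb : ∀ m : ℕ, y ^ m ∈ Subgroup.zpowers b → p ^ τ ∣ m := by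
    intro m hm
    rw [hy0, h.pow_formula] at hm
    obtain ⟨X, hX⟩ : ∃ X, X = x * ∑ t ∈ Finset.range m, (r ^ j) ^ t := ⟨_, rfl⟩
    rw [← hX] at hm
    have h1 : a ^ X ∈ Subgroup.zpowers b := by
      have h2 := Subgroup.mul_mem _ hm (Subgroup.inv_mem _ (Subgroup.npow_mem_zpowers b (j * m)))
      rwa [mul_inv_cancel_right] at h2
    rw [← mem_powers_iff_mem_zpowers] at h1
    obtain ⟨k, hk⟩ := (Submonoid.mem_powers_iff _ _).1 h1
    have h3 : b ^ k ∈ Subgroup.zpowers a := by rw [hk]; exact Subgroup.npow_mem_zpowers a X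
    obtain ⟨k', rfl⟩ := (h.hb k).1 h3
    rw [pow_mul, ht, ← pow_mul, h.pow_eq_pow_iff] at hk
    have h4 : p ^ τ ∣ X := by
      rw [← hk.dvd_iff (pow_dvd_pow p hτα.le), mul_assoc]
      exact Dvd.intro _ rfl
    rw [hX, mul_comm x, ] at h4
    have h5 : p ^ τ ∣ ∑ t ∈ Finset.range m, (r ^ j) ^ t :=
      Nat.Coprime.dvd_of_dvd_mul_right
        (Nat.Coprime.pow_left _ ((Nat.Prime.coprime_iff_not_dvd hp).2 hxp)) h4
    have h6 := (mc_lte_sum hp h.hodd (r ^ j) hq1 hpq 1 m τ).1 (by rw [one_mul]; exact h5)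
    rwa [one_mul] at h6
  have hordb : orderOf b = p ^ β * p ^ (α - τ) := by
    apply Nat.dvd_antisymm
    · apply orderOf_dvd_of_pow_eq_one
      rw [pow_mul, ht, ← pow_mul, h.pow_eq_one_iff]
      have e2 : p ^ α = p ^ τ * p ^ (α - τ) := by rw [← pow_add]; congr 1; omega
      rw [e2]
      exact ⟨u, by ring⟩
    · have h1 : b ^ orderOf b ∈ Subgroup.zpowers a := by
        rw [pow_orderOf_eq_one]; exact Subgroup.one_mem _
      obtain ⟨k', hk'⟩ := (h.hb _).1 h1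
      have h2 : b ^ orderOf b = 1 := pow_orderOf_eq_one b
      rw [hk', pow_mul, ht, ← pow_mul, h.pow_eq_one_iff] at h2
      have e2 : p ^ α = p ^ τ * p ^ (α - τ) := by rw [← pow_add]; congr 1; omega
      rw [e2, mul_assoc, Nat.mul_dvd_mul_iff_left (pow_pos hp.pos τ)] at h2
      have h3 : p ^ (α - τ) ∣ k' :=
        Nat.Coprime.dvd_of_dvd_mul_left
          (Nat.Coprime.pow_left _ ((Nat.Prime.coprime_iff_not_dvd hp).2 hu)) h2
      rw [hk']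
      exact Nat.mul_dvd_mul dvd_rfl h3
  refine ⟨Subgroup.zpowers b, Subgroup.zpowers y, inferInstance, inferInstance, ?_, ?_⟩
  · rw [eq_bot_iff]
    intro z hz
    obtain ⟨hz1, hz2⟩ := Subgroup.mem_inf.1 hz
    rw [← mem_powers_iff_mem_zpowers] at hz2
    obtain ⟨m, rfl⟩ := (Submonoid.mem_powers_iff _ _).1 hz2
    obtain ⟨m', rfl⟩ := hyb m hz1
    rw [Subgroup.mem_bot, pow_mul, hy, one_pow]
  · have hordy : orderOf y = p ^ τ := by
      apply Nat.dvd_antisymm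
      · exact orderOf_dvd_of_pow_eq_one hy
      · apply hyb; rw [pow_orderOf_eq_one]; exact Subgroup.one_mem _
    rw [Nat.card_zpowers, Nat.card_zpowers, hordb, hordy, h.hcard]
    have e2 : p ^ α = p ^ τ * p ^ (α - τ) := by rw [← pow_add]; congr 1; omega
    rw [e2]; ring

end IsMC

theorem metacyclic_factorization {G : Type*} [Group G] [Finite G] {p : ℕ} [Fact p.Prime]
    (hp2 : p ≠ 2) (hG : IsPGroup p G) (hmc : Cfsg.IsMetacyclic G) :
    ∃ A B : Subgroup G, IsCyclic ↥A ∧ IsCyclic ↥B ∧ A ⊓ B = ⊥ ∧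
      Nat.card ↥A * Nat.card ↥B = Nat.card G := by
  obtain ⟨a, b, α, β, ρ, n, r, h⟩ := exists_isMC hp2 hG hmc
  have hp := h.hp
  obtain ⟨t₀, ht₀, _⟩ := h.exists_t0
  by_cases h1 : a ^ t₀ = 1
  · apply h.factor_caseI 0
    rw [ht₀, h1, mul_zero, pow_zero]
  · by_cases h2 : p ^ β ∣ t₀
    · obtain ⟨t₁, rfl⟩ := h2
      exact h.factor_caseI t₁ ht₀
    · have ht0 : t₀ ≠ 0 := by
        intro hc; apply h1; rw [hc, pow_zero]
      obtain ⟨τ, u, hu, hτu⟩ := Nat.exists_eq_pow_mul_and_not_dvd ht0 p hp.ne_one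
      have hτβ : τ < β := by
        by_contra hc
        apply h2
        rw [hτu]
        exact Dvd.dvd.mul_right (pow_dvd_pow p (not_lt.1 hc)) u
      have hτα : τ < α := by
        by_contra hc
        apply h1
        rw [h.pow_eq_one_iff, hτu]
        exact Dvd.dvd.mul_right (pow_dvd_pow p (not_lt.1 hc)) u
      rw [hτu] at ht₀
      exact h.factor_caseII τ u hu hτα hτβ ht₀

end Cfsg.Agent.Lib.Helper4
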