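import Mathlib
import Cfsg.Agent.Lib.Helper4.Metacyclic7

set_option maxHeartbeats 1000000

namespace Cfsg.Agent.Lib.Helper4

theorem exists_isMC_of_normal {G : Type*} [Group G] [Finite G] {p : ℕ} [Fact p.Prime] (hp2 : p ≠ 2)
    (hG : IsPGroup p G) (N : Subgroup G) [hN : N.Normal] (hNc : IsCyclic N)
    (hQc : IsCyclic (G ⧸ N)) :
    ∃ (a b : G) (α β ρ n r : ℕ), IsMC p a b α β ρ n r ∧ N = Subgroup.zpowers a ∧
      Nat.card (G ⧸ N) = p ^ β := by
  have hp : p.Prime := Fact.out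
  have hodd : Odd p := hp.odd_of_ne_two hp2
  obtain ⟨⟨a, haN⟩, ha⟩ := hNc.exists_generator
  have hNa : ∀ x : G, x ∈ N ↔ x ∈ Subgroup.zpowers a := by
    intro x
    constructor
    · intro hx
      obtain ⟨z, hz⟩ := Subgroup.mem_zpowers_iff.1 (ha ⟨x, hx⟩)
      have : a ^ z = x := by
        have := congrArg Subtype.val hz
        simpa using this
      rw [← this]
      exact Subgroup.zpow_mem_zpowers a z
    · intro hx
      obtain ⟨z, rfl⟩ := Subgroup.mem_zpowers_iff.1 hx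
      exact N.zpow_mem haN z
  have hNeq : N = Subgroup.zpowers a := Subgroup.ext hNa
  obtain ⟨q, hq⟩ := hQc.exists_generator
  obtain ⟨b, rfl⟩ := QuotientGroup.mk_surjective q
  obtain ⟨α, hα⟩ := (IsPGroup.iff_orderOf.1 hG) a
  obtain ⟨β, hβ⟩ := (hG.to_quotient N).exists_card_eq
  have hordb : orderOf (b : G ⧸ N) = p ^ β := by
    rw [orderOf_eq_card_of_forall_mem_zpowers hq, hβ]
  have hcard : Nat.card G = p ^ α * p ^ β := by
    rw [Subgroup.card_eq_card_quotient_mul_card_subgroup N, hβ, hNeq, Nat.card_zpowers, hα,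
      mul_comm]
  have hnat : ∀ x : G, x ∈ Subgroup.zpowers a → ∃ i : ℕ, x = a ^ i := by
    intro x hx
    rw [← mem_powers_iff_mem_zpowers] at hx
    obtain ⟨i, hi⟩ := (Submonoid.mem_powers_iff _ _).1 hx
    exact ⟨i, hi.symm⟩
  have hb : ∀ j : ℕ, b ^ j ∈ Subgroup.zpowers a ↔ p ^ β ∣ j := by
    intro j
    rw [← hNa, ← hordb, orderOf_dvd_iff_pow_eq_one, ← QuotientGroup.mk_pow,
      QuotientGroup.eq_one_iff]
  have hgen : ∀ g : G, ∃ i j : ℕ, g = a ^ i * b ^ j := by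
    intro g
    have h1 := hq (g : G ⧸ N)
    rw [← mem_powers_iff_mem_zpowers] at h1
    obtain ⟨j, hj⟩ := (Submonoid.mem_powers_iff _ _).1 h1
    have h2 : g * (b ^ j)⁻¹ ∈ N := by
      rw [← QuotientGroup.eq_one_iff, QuotientGroup.mk_mul, QuotientGroup.mk_inv,
        QuotientGroup.mk_pow, hj, mul_inv_cancel]
    obtain ⟨i, hi⟩ := hnat _ ((hNa _).1 h2)
    refine ⟨i, j, ?_⟩
    rw [← hi]; group
  have hconj0 : ∃ r0 : ℕ, b * a * b⁻¹ = a ^ r0 := by
    apply hnat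
    rw [← hNa]
    exact hN.conj_mem a haN b
  obtain ⟨r0, hr0⟩ := hconj0
  rcases Nat.eq_zero_or_pos α with h0 | hpos
  · -- a = 1
    have ha1 : a = 1 := by
      rw [← orderOf_eq_one_iff, hα, h0, pow_zero]
    refine ⟨a, b, α, β, 0, 0, 1, ⟨hp, hodd, hα, le_refl 1, by simp, ?_, by omega, ?_, hgen, hb,
      hcard⟩, hNeq, hβ⟩
    · simp [h0]
    · rw [ha1]; simp
  · -- r0 ≡ 1 mod p
    obtain ⟨k, hk⟩ := (IsPGroup.iff_orderOf.1 hG) b
    have h1 := mc_conj_pow hr0 1 (p ^ k)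
    rw [← hk, pow_orderOf_eq_one] at h1
    simp only [pow_one, inv_one, one_mul, mul_one] at h1
    have h2 : a ^ 1 = a ^ (r0 ^ orderOf b) := by rw [pow_one]; exact h1
    rw [pow_eq_pow_iff_modEq, hα] at h2
    have h3 : 1 ≡ r0 ^ orderOf b [MOD p] :=
      Nat.ModEq.of_dvd (dvd_pow_self p hpos.ne') h2
    have h4 : ((1 : ℕ) : ZMod p) = ((r0 ^ orderOf b : ℕ) : ZMod p) :=
      (ZMod.natCast_eq_natCast_iff _ _ _).2 h3
    rw [hk] at h4
    push_cast at h4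
    rw [ZMod.pow_card_pow] at h4
    have h5 : 1 ≡ r0 [MOD p] := by
      apply (ZMod.natCast_eq_natCast_iff _ _ _).1
      push_cast
      exact h4
    have hr1 : 1 ≤ r0 := by
      rcases Nat.eq_zero_or_pos r0 with h | h
      · rw [h] at h5
        have := (Nat.modEq_zero_iff_dvd.1 h5)
        exact absurd (Nat.dvd_one.1 this) hp.one_lt.ne'
      · exact h
    have hr : p ∣ r0 - 1 := (Nat.modEq_iff_dvd' hr1).1 h5
    obtain ⟨ρ, hρα, hρ⟩ := (Nat.dvd_prime_pow hp).1 (Nat.gcd_dvd_left (p ^ α) (r0 - 1))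
    exact ⟨a, b, α, β, ρ, α - ρ, r0, ⟨hp, hodd, hα, hr1, hr, hρ, by omega, hr0, hgen, hb, hcard⟩,
      hNeq, hβ⟩




namespace IsMC

variable {G : Type*} [Group G] {p : ℕ} {a b : G} {α β ρ n r : ℕ}

theorem change_b (h : IsMC p a b α β ρ n r) (x : ℕ) : IsMC p a (a ^ x * b) α β ρ n r := by
  haveI := h.finite
  have hpf : ∀ m : ℕ, (a ^ x * b) ^ m =
      a ^ (x * ∑ t ∈ Finset.range m, (r ^ 1) ^ t) * b ^ m := by
    intro m
    have := h.pow_formula x 1 m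
    rwa [pow_one, one_mul] at this
  refine ⟨h.hp, h.hodd, h.ha, h.hr1, h.hr, h.hρ, h.hn, ?_, ?_, ?_, h.hcard⟩
  · have e : a ^ x * b * a * (a ^ x * b)⁻¹ = a ^ x * (b * a * b⁻¹) * (a ^ x)⁻¹ := by group
    rw [e, h.hconj, ← pow_add, add_comm, pow_add, mul_inv_cancel_right]
  · intro g
    obtain ⟨i, j, rfl⟩ := h.hgen g
    obtain ⟨k, hk⟩ : ∃ k : ℕ, (a ^ (x * ∑ t ∈ Finset.range j, (r ^ 1) ^ t))⁻¹ = a ^ k := by
      have : (a ^ (x * ∑ t ∈ Finset.range j, (r ^ 1) ^ t))⁻¹ ∈ Subgroup.zpowers a :=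
        Subgroup.inv_mem _ (Subgroup.npow_mem_zpowers a _)
      exact (h.mem_zpowers_iff _).1 this
    refine ⟨i + k, j, ?_⟩
    rw [hpf, pow_add, ← hk]; group
  · intro j
    rw [hpf, ← h.hb j]
    constructor
    · intro hm
      have h2 := Subgroup.mul_mem _ (Subgroup.inv_mem _
        (Subgroup.npow_mem_zpowers a (x * ∑ t ∈ Finset.range j, (r ^ 1) ^ t))) hm
      rwa [inv_mul_cancel_left] at h2
    · intro hm
      exact Subgroup.mul_mem _ (Subgroup.npow_mem_zpowers a _) hm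

theorem exists_pow_eq_one (h : IsMC p a b α β ρ n r) (t₁ : ℕ)
    (ht : b ^ (p ^ β) = a ^ (p ^ β * t₁)) : ∃ x : ℕ, (a ^ x * b) ^ (p ^ β) = 1 := by
  have hp := h.hp
  haveI := h.finite
  obtain ⟨S, hS⟩ : ∃ S, S = ∑ t ∈ Finset.range (p ^ β), (r ^ 1) ^ t := ⟨_, rfl⟩
  have hr1' : 1 ≤ r ^ 1 := by rw [pow_one]; exact h.hr1
  have hpr : p ∣ r ^ 1 - 1 := by rw [pow_one]; exact h.hr
  have hS1 : p ^ β ∣ S := by
    have h0 := (mc_lte_sum hp h.hodd (r ^ 1) hr1' hpr 1 (p ^ β) β).2 (by simp)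
    rwa [one_mul, ← hS] at h0
  obtain ⟨S', hS'⟩ := hS1
  have hS'p : ¬ p ∣ S' := by
    intro hc
    have h1 : p ^ (β + 1) ∣ 1 * S := by
      rw [one_mul, hS', pow_succ]; exact Nat.mul_dvd_mul dvd_rfl hc
    rw [hS, mc_lte_sum hp h.hodd (r ^ 1) hr1' hpr, one_mul,
      Nat.pow_dvd_pow_iff_le_right hp.one_lt] at h1
    omega
  obtain ⟨x, hx⟩ := mc_solve hp α S' t₁ hS'p
  refine ⟨x, ?_⟩
  have := h.pow_formula x 1 (p ^ β)
  rw [pow_one] at this
  rw [this, ← hS, one_mul, ht, ← pow_add, h.pow_eq_one_iff, hS']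
  have e1 : x * (p ^ β * S') + p ^ β * t₁ = p ^ β * (x * S' + t₁) := by ring
  rw [e1]; exact Dvd.dvd.mul_left hx _

/-- When `b ^ p = 1` and `β = 1`: the `p`-th power of `a ^ i * b ^ j` is trivial iff
`p ^ (α - 1) ∣ i`. -/
theorem pow_p_eq_one_iff (h : IsMC p a b α 1 ρ n r) (hb1 : b ^ p = 1) (hα : 1 ≤ α) (i j : ℕ) :
    (a ^ i * b ^ j) ^ p = 1 ↔ p ^ (α - 1) ∣ i := by
  have hp := h.hp
  have hrj1 : 1 ≤ r ^ j := Nat.one_le_pow j r h.hr1
  have hrj : p ∣ r ^ j - 1 := dvd_trans h.hr (Nat.sub_one_dvd_pow_sub_one r j)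
  have e : b ^ (j * p) = 1 := by rw [pow_mul', hb1, one_pow]
  rw [h.pow_formula, e, mul_one, h.pow_eq_one_iff,
    mc_lte_sum hp h.hodd (r ^ j) hrj1 hrj]
  obtain ⟨α', rfl⟩ : ∃ α', α = α' + 1 := ⟨α - 1, by omega⟩
  rw [Nat.add_sub_cancel, pow_succ]
  exact Nat.mul_dvd_mul_iff_right hp.pos

/-- The subgroup of elements of order dividing `p`. -/
def omegaSub (h : IsMC p a b α 1 ρ n r) (hb1 : b ^ p = 1) (hα : 1 ≤ α) : Subgroup G where
  carrier := {g | g ^ p = 1}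
  one_mem' := one_pow p
  inv_mem' := by
    intro g hg
    show (g⁻¹) ^ p = 1
    rw [inv_pow, show g ^ p = 1 from hg, inv_one]
  mul_mem' := by
    intro g g' hg hg'
    obtain ⟨i, j, rfl⟩ := h.hgen g
    obtain ⟨k, l, rfl⟩ := h.hgen g'
    have h1 := (h.pow_p_eq_one_iff hb1 hα i j).1 hg
    have h2 := (h.pow_p_eq_one_iff hb1 hα k l).1 hg'
    show ((a ^ i * b ^ j) * (a ^ k * b ^ l)) ^ p = 1
    rw [h.mul_formula, h.pow_p_eq_one_iff hb1 hα]
    exact Dvd.dvd.add h1 (Dvd.dvd.mul_right h2 _)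

theorem mem_omegaSub (h : IsMC p a b α 1 ρ n r) (hb1 : b ^ p = 1) (hα : 1 ≤ α) (g : G) :
    g ∈ h.omegaSub hb1 hα ↔ g ^ p = 1 := Iff.rfl

theorem card_omegaSub (h : IsMC p a b α 1 ρ n r) (hb1 : b ^ p = 1) (hα : 1 ≤ α) :
    Nat.card (h.omegaSub hb1 hα) = p ^ 2 := by
  have hp := h.hp
  have := h.card_of_desc (h.omegaSub hb1 hα) (α - 1) 0 (by omega) (by omega) ?_ ?_ ?_
  · rw [this]
    have e : α - (α - 1) = 1 := by omega
    rw [e, pow_one, sq]
  · intro x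
    rw [mem_omegaSub]
    have := h.pow_p_eq_one_iff hb1 hα x 0
    rwa [pow_zero, mul_one] at this
  · intro x y _
    simp
  · refine ⟨0, ?_⟩
    rw [mem_omegaSub, pow_zero, one_mul, pow_zero, pow_one, hb1]

end IsMC

/-- Odd `p`, a non-cyclic `p`-group with a cyclic maximal subgroup: `Ω₁` is elementary abelian
of order `p ^ 2`. -/
theorem omega_one_of_cyclic_index_p {R : Type*} [Group R] [Finite R] {p : ℕ} [Fact p.Prime]
    (hp : p ≠ 2) (hR : IsPGroup p R) (hnc : ¬ IsCyclic R) (C : Subgroup R) (hC : IsCyclic C)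
    (hCi : C.index = p) :
    Cfsg.IsElementaryAbelian p (Subgroup.closure {x : R | x ^ p = 1}) ∧
      Nat.card (Subgroup.closure {x : R | x ^ p = 1}) = p ^ 2 := by
  have hpp : p.Prime := Fact.out
  -- C is normal
  haveI hCn : C.Normal := by
    apply Subgroup.normal_of_index_eq_minFac_card
    rw [hCi]
    obtain ⟨k, hk⟩ := hR.exists_card_eq
    have hk0 : k ≠ 0 := by
      intro h0
      rw [h0, pow_zero] at hk
      have h1 := Subgroup.index_dvd_card C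
      rw [hk, hCi] at h1
      exact hpp.one_lt.ne' (Nat.dvd_one.1 h1)
    rw [hk, hpp.pow_minFac hk0]
  have hQcard : Nat.card (R ⧸ C) = p := by rw [← Subgroup.index_eq_card, hCi]
  have hQc : IsCyclic (R ⧸ C) := isCyclic_of_prime_card hQcard
  obtain ⟨a, b, α, β, ρ, n, r, h, hCa, hβ⟩ := exists_isMC_of_normal hp hR C hC hQc
  have hβ1 : β = 1 := by
    rw [hQcard] at hβ
    have : p ^ 1 = p ^ β := by rw [pow_one]; exact hβ
    exact (Nat.pow_right_injective hpp.two_le this).symm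
  subst hβ1
  have hα : 1 ≤ α := by
    by_contra hα0
    have h0 : α = 0 := by omega
    apply hnc
    apply isCyclic_of_prime_card (p := p)
    rw [h.hcard, h0, pow_zero, one_mul, pow_one]
  -- b ^ p ∈ ⟨a⟩
  have hbp : b ^ (p ^ 1) ∈ Subgroup.zpowers a := (h.hb _).2 dvd_rfl
  obtain ⟨t₀, ht₀⟩ := (h.mem_zpowers_iff _).1 hbp
  have hpt : p ∣ t₀ := by
    by_contra hpt
    apply hnc
    rw [isCyclic_iff_exists_zpowers_eq_top]
    refine ⟨b, (Subgroup.eq_top_iff' _).2 ?_⟩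
    have hcop : Nat.Coprime t₀ (orderOf a) := by
      rw [h.ha]
      exact Nat.Coprime.pow_right _ ((Nat.Prime.coprime_iff_not_dvd hpp).2 hpt).symm
    obtain ⟨m, hm⟩ := exists_pow_eq_self_of_coprime hcop
    have ha_mem : a ∈ Subgroup.zpowers b := by
      rw [← hm, ← ht₀]
      exact Subgroup.pow_mem _ (Subgroup.pow_mem _ (Subgroup.mem_zpowers b) _) _
    intro g
    obtain ⟨i, j, rfl⟩ := h.hgen g
    exact Subgroup.mul_mem _ (Subgroup.pow_mem _ ha_mem _)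
      (Subgroup.pow_mem _ (Subgroup.mem_zpowers b) _)
  obtain ⟨t₁, rfl⟩ := hpt
  have ht : b ^ (p ^ 1) = a ^ (p ^ 1 * t₁) := by rw [ht₀, pow_one]
  obtain ⟨x, hx⟩ := h.exists_pow_eq_one t₁ ht
  rw [pow_one] at hx
  have h' := h.change_b x
  have hcl : Subgroup.closure {x : R | x ^ p = 1} = h'.omegaSub hx hα := by
    apply le_antisymm
    · rw [Subgroup.closure_le]
      intro g hg
      exact hg
    · intro g hg
      exact Subgroup.subset_closure hg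
  rw [hcl]
  have hcard := h'.card_omegaSub hx hα
  refine ⟨⟨?_, ?_⟩, hcard⟩
  · exact IsPGroup.isMulCommutative_of_card_eq_prime_sq hcard
  · intro g hg
    exact hg

end Cfsg.Agent.Lib.Helper4
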