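import Mathlib
import Cfsg.Agent.Lib.Helper4.Metacyclic8
import Cfsg.Agent.Lib.Helper9.PAutFix

set_option autoImplicit false
set_option maxHeartbeats 1000000
set_option linter.unusedVariables false

namespace Cfsg.Agent.Lib.Helper4

open scoped commutatorElement

/-- the generators `φ x * x⁻¹` of `[S, B]` -/
def mcopGen {S : Type*} [Group S] (B : Subgroup (MulAut S)) : Set S :=
  {s | ∃ φ ∈ B, ∃ x : S, s = φ x * x⁻¹}

theorem mcop_chain3 {S : Type*} [Group S] [Finite S] {p : ℕ} [Fact p.Prime] (hS : IsPGroup p S)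
    (P X₁ X₂ X₃ : Subgroup S) (hP : Nat.card S = p ^ 2 * Nat.card P)
    (h0 : P ≤ X₁) (h1 : X₁ < X₂) (h2 : X₂ < X₃) : X₁ = P ∧ X₃ = ⊤ := by
  have hpp : p.Prime := Fact.out
  obtain ⟨e0, he0⟩ := (hS.to_subgroup P).exists_card_eq
  obtain ⟨e1, he1⟩ := (hS.to_subgroup X₁).exists_card_eq
  obtain ⟨e2, he2⟩ := (hS.to_subgroup X₂).exists_card_eq
  obtain ⟨e3, he3⟩ := (hS.to_subgroup X₃).exists_card_eq
  have hlt : ∀ {X Y : Subgroup S}, X < Y → Nat.card X < Nat.card Y := by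
    intro X Y hXY
    by_contra hle
    have := Subgroup.eq_of_le_of_card_ge hXY.le (not_lt.1 hle)
    exact hXY.ne this
  have d01 : p ^ e0 ∣ p ^ e1 := by rw [← he0, ← he1]; exact Subgroup.card_dvd_of_le h0
  have l01 : e0 ≤ e1 := (Nat.pow_dvd_pow_iff_le_right hpp.one_lt).1 d01
  have l12 : e1 < e2 := by
    have := hlt h1; rw [he1, he2] at this
    exact (Nat.pow_lt_pow_iff_right hpp.one_lt).1 this
  have l23 : e2 < e3 := by
    have := hlt h2; rw [he2, he3] at this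
    exact (Nat.pow_lt_pow_iff_right hpp.one_lt).1 this
  have l3 : e3 ≤ e0 + 2 := by
    have := Subgroup.card_subgroup_dvd_card X₃
    rw [he3, hP, he0, ← pow_add] at this
    have := (Nat.pow_dvd_pow_iff_le_right hpp.one_lt).1 this
    omega
  have e1eq : e1 = e0 := by omega
  have e3eq : e3 = e0 + 2 := by omega
  constructor
  · exact (Subgroup.eq_of_le_of_card_ge h0 (by rw [he0, he1, e1eq])).symm
  · apply Subgroup.eq_top_of_card_eq
    rw [he3, hP, he0, e3eq]; ring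

theorem mcop_avg {S : Type*} [Group S] [Finite S] (B : Subgroup (MulAut S))
    (hgen : Subgroup.closure (mcopGen B) = ⊤) (P : Subgroup S) [hP : P.Normal]
    (hcomm : ∀ x y : S, ⁅x, y⁆ ∈ P) (x : S) (hx : ∀ φ ∈ B, φ x * x⁻¹ ∈ P) :
    x ^ Nat.card B ∈ P := by
  classical
  haveI : Finite (MulAut S) := MulEquiv.finite_left
  haveI : Fintype ↥B := Fintype.ofFinite _
  letI : CommGroup (S ⧸ P) :=
    { (inferInstance : Group (S ⧸ P)) with
      mul_comm := by
        intro u v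
        induction u using QuotientGroup.induction_on with
        | H u =>
          induction v using QuotientGroup.induction_on with
          | H v =>
            rw [← QuotientGroup.mk_mul, ← QuotientGroup.mk_mul, QuotientGroup.eq]
            have e : (u * v)⁻¹ * (v * u) = ⁅v⁻¹, u⁻¹⁆ := by
              rw [commutatorElement_def]; group
            rw [e]; exact hcomm _ _ }
  let τ : S →* S ⧸ P := ∏ φ : ↥B, (QuotientGroup.mk' P).comp (φ.1 : S ≃* S).toMonoidHom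
  have hτ : ∀ y, τ y = ∏ φ : ↥B, (QuotientGroup.mk ((φ.1 : S ≃* S) y) : S ⧸ P) := by
    intro y
    simp only [τ, MonoidHom.finsetProd_apply]
    rfl
  have hinv : ∀ ψ ∈ B, ∀ y, τ (ψ y) = τ y := by
    intro ψ hψ y
    rw [hτ, hτ]
    exact Fintype.prod_equiv (Equiv.mulRight (⟨ψ, hψ⟩ : ↥B)) _ _ (fun φ => by
      simp [MulAut.mul_apply])
  have hker : τ.ker = ⊤ := by
    rw [eq_top_iff, ← hgen, Subgroup.closure_le]
    rintro s ⟨ψ, hψ, y, rfl⟩
    rw [SetLike.mem_coe, MonoidHom.mem_ker, map_mul, map_inv, hinv ψ hψ, mul_inv_cancel]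
  have h1 : τ x = 1 := by
    rw [← MonoidHom.mem_ker, hker]; trivial
  have h2 : τ x = (QuotientGroup.mk x : S ⧸ P) ^ Nat.card B := by
    rw [hτ]
    have hφ : ∀ φ : ↥B, (QuotientGroup.mk ((φ.1 : S ≃* S) x) : S ⧸ P) = QuotientGroup.mk x := by
      intro φ
      rw [QuotientGroup.eq]
      have h3 := hP.conj_mem _ (P.inv_mem (hx φ.1 φ.2)) x⁻¹
      have e : ((φ.1 : S ≃* S) x)⁻¹ * x = x⁻¹ * ((φ.1 : S ≃* S) x * x⁻¹)⁻¹ * x⁻¹⁻¹ := by group
      rw [e]; exact h3
    rw [Finset.prod_congr rfl (fun φ _ => hφ φ), Finset.prod_const, Finset.card_univ,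
      Nat.card_eq_fintype_card]
  rw [h2, ← QuotientGroup.mk_pow, QuotientGroup.eq_one_iff] at h1
  exact h1

section bt
variable {S : Type*} [Group S]

theorem mcop_comm_mul_left (hcen : ∀ x y s : S, Commute ⁅x, y⁆ s) (x x' y : S) :
    ⁅x * x', y⁆ = ⁅x, y⁆ * ⁅x', y⁆ := by
  have e : ⁅x * x', y⁆ = x * ⁅x', y⁆ * x⁻¹ * ⁅x, y⁆ := by
    simp only [commutatorElement_def]; group
  have h1 : x * ⁅x', y⁆ * x⁻¹ = ⁅x', y⁆ := by
    rw [← (hcen x' y x).eq, mul_assoc, mul_inv_cancel, mul_one]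
  rw [e, h1, (hcen x' y _).eq]

def mcopBt (m : ℕ) (x y : S) : S := ⁅x, y⁆ ^ m

theorem mcopBt_commute (hcen : ∀ x y s : S, Commute ⁅x, y⁆ s) (m : ℕ) (x y s : S) :
    Commute (mcopBt m x y) s := (hcen x y s).pow_left m

theorem mcopBt_mul_left (hcen : ∀ x y s : S, Commute ⁅x, y⁆ s) (m : ℕ) (x x' y : S) :
    mcopBt m (x * x') y = mcopBt m x y * mcopBt m x' y := by
  unfold mcopBt
  rw [mcop_comm_mul_left hcen, (hcen x y _).mul_pow]

theorem mcopBt_inv_swap (m : ℕ) (x y : S) : (mcopBt m x y)⁻¹ = mcopBt m y x := by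
  unfold mcopBt; rw [← inv_pow, commutatorElement_inv]

theorem mcopBt_self (m : ℕ) (x : S) : mcopBt m x x = 1 := by
  unfold mcopBt; rw [commutatorElement_self, one_pow]

theorem mcopBt_one_left (m : ℕ) (y : S) : mcopBt m 1 y = 1 := by
  unfold mcopBt; rw [commutatorElement_one_left, one_pow]

theorem mcopBt_inv_left (hcen : ∀ x y s : S, Commute ⁅x, y⁆ s) (m : ℕ) (x y : S) :
    mcopBt m x⁻¹ y = (mcopBt m x y)⁻¹ := by
  apply eq_inv_of_mul_eq_one_left
  rw [← mcopBt_mul_left hcen, inv_mul_cancel, mcopBt_one_left]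

theorem mcopBt_mul_right (hcen : ∀ x y s : S, Commute ⁅x, y⁆ s) (m : ℕ) (x y y' : S) :
    mcopBt m x (y * y') = mcopBt m x y * mcopBt m x y' := by
  rw [← mcopBt_inv_swap m (y * y') x, mcopBt_mul_left hcen, mul_inv_rev, mcopBt_inv_swap,
    mcopBt_inv_swap]
  exact (mcopBt_commute hcen m x y' _).eq

theorem mcopBt_pow_left (hcen : ∀ x y s : S, Commute ⁅x, y⁆ s) (m : ℕ) (x y : S) (k : ℕ) :
    mcopBt m (x ^ k) y = (mcopBt m x y) ^ k := by
  induction k with
  | zero => rw [pow_zero, pow_zero, mcopBt_one_left]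
  | succ k ih => rw [pow_succ, mcopBt_mul_left hcen, ih, pow_succ]

theorem mcopBt_pow_right (hcen : ∀ x y s : S, Commute ⁅x, y⁆ s) (m : ℕ) (x y : S) (k : ℕ) :
    mcopBt m x (y ^ k) = (mcopBt m x y) ^ k := by
  rw [← mcopBt_inv_swap m (y ^ k) x, mcopBt_pow_left hcen, ← inv_pow, mcopBt_inv_swap]

def mcopRad (hcen : ∀ x y s : S, Commute ⁅x, y⁆ s) (m : ℕ) (y : S) : Subgroup S where
  carrier := {x | mcopBt m x y = 1}
  mul_mem' := by
    intro x x' hx hx'
    rw [Set.mem_ofPred_eq] at hx hx' ⊢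
    rw [mcopBt_mul_left hcen, hx, hx', one_mul]
  one_mem' := mcopBt_one_left m y
  inv_mem' := by
    intro x hx
    rw [Set.mem_ofPred_eq] at hx ⊢
    rw [mcopBt_inv_left hcen, hx, inv_one]

theorem mem_mcopRad (hcen : ∀ x y s : S, Commute ⁅x, y⁆ s) (m : ℕ) (x y : S) :
    x ∈ mcopRad hcen m y ↔ mcopBt m x y = 1 := Iff.rfl

end bt

end Cfsg.Agent.Lib.Helper4
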