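import Mathlib
import Cfsg.Agent.Lib.Helper4.MetaCop1

set_option autoImplicit false
set_option maxHeartbeats 4000000
set_option linter.unusedVariables false

namespace Cfsg.Agent.Lib.Helper4

open scoped commutatorElement

theorem mcop_abelian {S : Type*} [Group S] [Finite S] {p : ℕ} [Fact p.Prime] (hp2 : p ≠ 2)
    (hS : IsPGroup p S) (hmc : Cfsg.IsMetacyclic S) (B : Subgroup (MulAut S))
    (hcop : (Nat.card B).Coprime p) (hgen : Subgroup.closure (mcopGen B) = ⊤) :
    ∀ x y : S, x * y = y * x := by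
  classical
  by_contra hna
  have hpp : p.Prime := Fact.out
  obtain ⟨a, b, α, β, ρ, n, r, h⟩ := exists_isMC hp2 hS hmc
  have hodd : Odd p := h.hodd
  have hcomm_mem : ∀ x y : S, ⁅x, y⁆ ∈ commutator S := fun x y =>
    Subgroup.commutator_mem_commutator (Subgroup.mem_top x) (Subgroup.mem_top y)
  -- n ≥ 1
  have hn1 : 1 ≤ n := by
    by_contra h0
    have hn0 : n = 0 := by omega
    apply hna
    intro x y
    have hc := h.card_commutator
    rw [hn0, pow_zero] at hc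
    have hbot : commutator S = ⊥ := Subgroup.card_eq_one.1 hc
    have hmem := hcomm_mem x y
    rw [hbot, Subgroup.mem_bot] at hmem
    exact commutatorElement_eq_one_iff_mul_comm.1 hmem
  have hβ1 : 1 ≤ β := hn1.trans h.n_le_β
  have hα1 : 1 ≤ α := by have := h.hn; omega
  have hρ1 : 1 ≤ ρ := by
    by_contra h0
    have hρ0 : ρ = 0 := by omega
    have h1 := h.hρ
    rw [hρ0, pow_zero] at h1
    have h2 : p ∣ Nat.gcd (p ^ α) (r - 1) := Nat.dvd_gcd (dvd_pow_self p (by omega)) h.hr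
    rw [h1] at h2
    exact hpp.one_lt.ne' (Nat.dvd_one.1 h2)
  have hcomm_eq := h.commutator_eq
  obtain ⟨g₀, hg₀⟩ : ∃ g₀ : S, g₀ = a ^ (r - 1) := ⟨_, rfl⟩
  rw [← hg₀] at hcomm_eq
  have hg₀mem : g₀ ∈ commutator S := by rw [hcomm_eq]; exact Subgroup.mem_zpowers g₀
  -- automorphisms preserve the commutator subgroup
  have hchar : ∀ (φ : MulAut S) (s : S), s ∈ commutator S → φ s ∈ commutator S := by
    intro φ s hs
    have : (commutator S).map φ.toMonoidHom = commutator S := by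
      rw [commutator_def, Subgroup.map_commutator,
        Subgroup.map_top_of_surjective _ φ.surjective]
    rw [← this]; exact Subgroup.mem_map_of_mem _ hs
  have hnorm : (commutator S).Normal := inferInstance
  -- class two
  have hcen : ∀ x y s : S, Commute ⁅x, y⁆ s := by
    have key : ∀ φ : MulAut S, ∀ x : S, ∀ s ∈ commutator S,
        φ x * s * (φ x)⁻¹ = x * s * x⁻¹ := by
      intro φ x s hs
      have h1 : x * g₀ * x⁻¹ ∈ commutator S := hnorm.conj_mem g₀ hg₀mem x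
      have h2 : φ⁻¹ g₀ ∈ commutator S := hchar φ⁻¹ g₀ hg₀mem
      rw [hcomm_eq] at h1 h2 hs
      obtain ⟨u, hu⟩ := Subgroup.mem_zpowers_iff.1 h1
      obtain ⟨v, hv⟩ := Subgroup.mem_zpowers_iff.1 h2
      obtain ⟨k, rfl⟩ := Subgroup.mem_zpowers_iff.1 hs
      have e1 : g₀ = φ (g₀ ^ v) := by
        rw [hv, ← MulAut.mul_apply, mul_inv_cancel, MulAut.one_apply]
      have hg : φ x * g₀ * (φ x)⁻¹ = x * g₀ * x⁻¹ := by
        calc φ x * g₀ * (φ x)⁻¹ = φ x * φ (g₀ ^ v) * (φ x)⁻¹ := by rw [← e1]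
          _ = φ (x * g₀ ^ v * x⁻¹) := by rw [map_mul, map_mul, map_inv]
          _ = φ ((x * g₀ * x⁻¹) ^ v) := by rw [conj_zpow]
          _ = φ ((g₀ ^ u) ^ v) := by rw [hu]
          _ = φ ((g₀ ^ v) ^ u) := by rw [← zpow_mul, ← zpow_mul, mul_comm]
          _ = (φ (g₀ ^ v)) ^ u := by rw [map_zpow]
          _ = g₀ ^ u := by rw [← e1]
          _ = x * g₀ * x⁻¹ := hu
      rw [← conj_zpow, ← conj_zpow, hg]
    have hD : ∀ φ ∈ B, ∀ x : S, ∀ s ∈ commutator S,
        (φ x * x⁻¹) * s = s * (φ x * x⁻¹) := by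
      intro φ hφ x s hs
      have hs' : x⁻¹ * s * x ∈ commutator S := by
        have := hnorm.conj_mem s hs x⁻¹; rwa [inv_inv] at this
      have h1 := key φ x _ hs'
      have h2 : x * (x⁻¹ * s * x) * x⁻¹ = s := by group
      rw [h2] at h1
      calc (φ x * x⁻¹) * s = (φ x * (x⁻¹ * s * x) * (φ x)⁻¹) * (φ x * x⁻¹) := by group
        _ = s * (φ x * x⁻¹) := by rw [h1]
    have hDtop : Subgroup.centralizer (commutator S : Set S) = ⊤ := by
      rw [eq_top_iff, ← hgen, Subgroup.closure_le]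
      rintro s ⟨φ, hφ, x, rfl⟩
      rw [SetLike.mem_coe, Subgroup.mem_centralizer_iff]
      intro t ht
      exact (hD φ hφ x t ht).symm
    intro x y s
    have hs : s ∈ Subgroup.centralizer (commutator S : Set S) := by rw [hDtop]; trivial
    rw [Subgroup.mem_centralizer_iff] at hs
    exact hs _ (hcomm_mem x y)
  -- exponent of the commutator subgroup
  have hexp : ∀ x y : S, ⁅x, y⁆ ^ (p ^ n) = 1 := by
    intro x y
    have h1 := pow_card_eq_one' (G := ↥(commutator S)) (x := ⟨⁅x, y⁆, hcomm_mem x y⟩)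
    rw [h.card_commutator] at h1
    have h2 := congrArg Subtype.val h1
    simpa using h2
  obtain ⟨m₀, hm₀⟩ : ∃ m₀ : ℕ, m₀ = p ^ (n - 1) := ⟨_, rfl⟩
  have hm₀p : m₀ * p = p ^ n := by rw [hm₀, ← pow_succ, Nat.sub_add_cancel hn1]
  obtain ⟨z, hz⟩ : ∃ z : S, z = mcopBt m₀ a b := ⟨_, rfl⟩
  have hbtp : ∀ x y : S, (mcopBt m₀ x y) ^ p = 1 := by
    intro x y; unfold mcopBt; rw [← pow_mul, hm₀p, hexp]
  have hbtmem : ∀ x y : S, mcopBt m₀ x y ∈ commutator S :=
    fun x y => (commutator S).pow_mem (hcomm_mem x y) _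
  have hzp : z ^ p = 1 := by rw [hz]; exact hbtp a b
  have hab : ⁅a, b⁆ = (a ^ (r - 1))⁻¹ := by
    have e1 : ⁅a, b⁆ = a * (b * a * b⁻¹)⁻¹ := by rw [commutatorElement_def]; group
    rw [e1, h.hconj]
    have e2 : a ^ r = a ^ (r - 1) * a := by rw [← pow_succ, Nat.sub_add_cancel h.hr1]
    rw [e2, mul_inv_rev, ← mul_assoc, mul_inv_cancel, one_mul]
  have hz1 : z ≠ 1 := by
    intro hz1
    rw [hz] at hz1; unfold mcopBt at hz1
    rw [hab, inv_pow, inv_eq_one, ← pow_mul, h.pow_eq_one_iff, mul_comm, h.dvd_mul_iff] at hz1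
    rw [hm₀] at hz1
    have := (Nat.pow_dvd_pow_iff_le_right hpp.one_lt).1 hz1
    omega
  have hzmem : z ∈ commutator S := by rw [hz]; exact hbtmem a b
  have hzcen : ∀ s : S, Commute z s := by intro s; rw [hz]; exact mcopBt_commute hcen _ _ _ _
  -- elements of order p in the commutator subgroup
  obtain ⟨g₁, hg₁⟩ : ∃ g₁ : S, g₁ = a ^ (p ^ (α - 1)) := ⟨_, rfl⟩
  have hg₁p : g₁ ^ p = 1 := by
    rw [hg₁, ← pow_mul, ← pow_succ, Nat.sub_add_cancel hα1, h.pow_eq_one_iff]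
  have hΩ1 : ∀ s ∈ commutator S, s ^ p = 1 → ∃ i : ℕ, s = g₁ ^ i := by
    intro s hs hsp
    rw [hcomm_eq, hg₀] at hs
    have hs' : s ∈ Subgroup.zpowers a :=
      (Subgroup.zpowers_le.2 (Subgroup.pow_mem _ (Subgroup.mem_zpowers a) _)) hs
    obtain ⟨i, rfl⟩ := (h.mem_zpowers_iff s).1 hs'
    rw [← pow_mul, h.pow_eq_one_iff] at hsp
    have hdiv : p ^ (α - 1) ∣ i := by
      have e : p ^ α = p ^ (α - 1) * p := by rw [← pow_succ, Nat.sub_add_cancel hα1]
      rw [e] at hsp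
      exact Nat.dvd_of_mul_dvd_mul_right hpp.pos hsp
    obtain ⟨i', rfl⟩ := hdiv
    exact ⟨i', by rw [hg₁, ← pow_mul]⟩
  obtain ⟨j₀, hj₀⟩ := hΩ1 z hzmem hzp
  have hΩ : ∀ s ∈ commutator S, s ^ p = 1 → ∃ i : ℕ, s = z ^ i := by
    have hpj : ¬ p ∣ j₀ := by
      rintro ⟨j', rfl⟩
      apply hz1
      rw [hj₀, pow_mul, hg₁p, one_pow]
    have hcopj : Nat.Coprime j₀ p := ((Nat.Prime.coprime_iff_not_dvd hpp).2 hpj).symm
    obtain ⟨m, -, hm⟩ := Nat.exists_mul_mod_eq_one_of_coprime hcopj hpp.one_lt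
    have hg₁z : g₁ = z ^ m := by
      rw [hj₀, ← pow_mul, ← Nat.div_add_mod (j₀ * m) p, hm, pow_add, pow_mul, hg₁p, one_pow,
        one_mul, pow_one]
    intro s hs hsp
    obtain ⟨i, rfl⟩ := hΩ1 s hs hsp
    exact ⟨m * i, by rw [hg₁z, ← pow_mul]⟩
  -- the multiplier of an automorphism
  have hlam : ∀ φ : MulAut S, ∃ l : ℕ, ¬ p ∣ l ∧ φ z = z ^ l ∧
      ∀ x y : S, mcopBt m₀ (φ x) (φ y) = (mcopBt m₀ x y) ^ l := by
    intro φ
    have h1 : φ z ∈ commutator S := hchar φ z hzmem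
    have h2 : (φ z) ^ p = 1 := by rw [← map_pow, hzp, map_one]
    obtain ⟨l, hl⟩ := hΩ _ h1 h2
    refine ⟨l, ?_, hl, ?_⟩
    · rintro ⟨l', rfl⟩
      apply hz1
      rw [pow_mul, hzp, one_pow] at hl
      exact (MulEquiv.map_eq_one_iff φ).1 hl
    · intro x y
      obtain ⟨i, hi⟩ := hΩ _ (hbtmem x y) (hbtp x y)
      have e : mcopBt m₀ (φ x) (φ y) = φ (mcopBt m₀ x y) := by
        unfold mcopBt; rw [map_pow, map_commutatorElement]
      rw [e, hi, map_pow, hl, ← pow_mul, ← pow_mul, mul_comm]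
  -- the Frattini subgroup
  obtain ⟨P, hPdef⟩ : ∃ P : Subgroup S, P = h.Ksub 1 := ⟨_, rfl⟩
  have hPpow : ∀ y : S, y ^ p ∈ P := by
    intro y
    rw [hPdef, ← h.agemo_eq 1]
    exact Subgroup.subset_closure ⟨y, by rw [pow_one]⟩
  have hPle : ∀ L : Subgroup S, (∀ y : S, y ^ p ∈ L) → P ≤ L := by
    intro L hL
    rw [hPdef, ← h.agemo_eq 1, Subgroup.closure_le]
    rintro x ⟨y, rfl⟩
    rw [pow_one]; exact hL y
  have hPcard : Nat.card S = p ^ 2 * Nat.card P := by
    rw [hPdef, h.card_Ksub 1 hn1, h.hcard]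
    have e1 : p ^ α = p ^ (α - 1) * p := by rw [← pow_succ, Nat.sub_add_cancel hα1]
    have e2 : p ^ β = p ^ (β - 1) * p := by rw [← pow_succ, Nat.sub_add_cancel hβ1]
    rw [e1, e2]; ring
  have hPcomm : ∀ x y : S, ⁅x, y⁆ ∈ P := by
    intro x y
    have h1 := hcomm_mem x y
    rw [hcomm_eq] at h1
    have hg₀P : g₀ ∈ P := by
      rw [hPdef, hg₀]
      exact ⟨r - 1, 0, by rw [pow_zero, mul_one], by rw [pow_one]; exact h.hr, dvd_zero _⟩
    exact (Subgroup.zpowers_le.2 hg₀P) h1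
  haveI hPn : P.Normal := ⟨fun x hx g => by
    have e : g * x * g⁻¹ = ⁅g, x⁆ * x := by rw [commutatorElement_def]; group
    rw [e]; exact P.mul_mem (hPcomm g x) hx⟩
  have hPinv : ∀ (φ : MulAut S) (x : S), x ∈ P → φ x ∈ P := by
    intro φ x hx
    have hle : P ≤ P.comap φ.toMonoidHom := by
      apply hPle
      intro y
      rw [Subgroup.mem_comap]
      show φ (y ^ p) ∈ P
      rw [map_pow]; exact hPpow _
    exact hle hx
  have hRadP : ∀ y : S, P ≤ mcopRad hcen m₀ y := by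
    intro y
    apply hPle
    intro x
    rw [mem_mcopRad, mcopBt_pow_left hcen, hbtp]
  have hbtP : ∀ x y : S, x ∈ P → mcopBt m₀ x y = 1 := fun x y hx => hRadP y hx
  have hbtP' : ∀ x y : S, y ∈ P → mcopBt m₀ x y = 1 := by
    intro x y hy
    rw [← mcopBt_inv_swap m₀ y x, hbtP y x hy, inv_one]
  have hkill : ∀ (s : S) (l : ℕ), ¬ p ∣ l → s ^ p = 1 → s ^ l = 1 → s = 1 := by
    intro s l hl hsp hsl
    have h1 : orderOf s ∣ l := orderOf_dvd_of_pow_eq_one hsl
    have h2 : orderOf s ∣ p := orderOf_dvd_of_pow_eq_one hsp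
    have hcopl : Nat.Coprime l p := ((Nat.Prime.coprime_iff_not_dvd hpp).2 hl).symm
    have h3 := Nat.dvd_gcd h1 h2
    rw [hcopl.gcd_eq_one] at h3
    exact orderOf_eq_one_iff.1 (Nat.dvd_one.1 h3)
  have hzpow : ∀ j : ℕ, z ^ j = 1 → p ∣ j := by
    intro j hj
    by_contra hpj
    exact hz1 (hkill z j hpj hzp hj)
  have hnondeg : ∀ x : S, mcopBt m₀ x a = 1 → mcopBt m₀ x b = 1 → x ∈ P := by
    intro x hxa hxb
    obtain ⟨i, j, rfl⟩ := h.hgen x
    rw [mcopBt_mul_left hcen, mcopBt_pow_left hcen, mcopBt_pow_left hcen] at hxa hxb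
    rw [mcopBt_self, one_pow, one_mul] at hxa
    rw [mcopBt_self m₀ b, one_pow, mul_one, ← hz] at hxb
    have hi : p ∣ i := hzpow i hxb
    have hj : p ∣ j := by
      apply hzpow
      rw [← mcopBt_inv_swap m₀ a b, ← hz, inv_pow, inv_eq_one] at hxa
      exact hxa
    rw [hPdef]
    exact ⟨i, j, rfl, by rwa [pow_one], by rwa [pow_one]⟩
  -- power maps
  have hchoose : ∀ k, n ≤ k → p ^ n ∣ (p ^ k).choose 2 := by
    intro k hk
    obtain ⟨t, ht⟩ := (hodd.pow : Odd (p ^ k))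
    have e : (p ^ k).choose 2 = p ^ k * t := by
      rw [Nat.choose_two_right]
      have : p ^ k * (p ^ k - 1) = 2 * (p ^ k * t) := by
        have : p ^ k - 1 = 2 * t := by omega
        rw [this]; ring
      rw [this, Nat.mul_div_cancel_left _ (by norm_num : 0 < 2)]
    rw [e]
    exact Dvd.dvd.mul_right (pow_dvd_pow p hk) _
  have hpw : ∀ k, n ≤ k → ∀ x y : S, (x * y) ^ (p ^ k) = x ^ (p ^ k) * y ^ (p ^ k) := by
    intro k hk x y
    have hc : y * x = ⁅y, x⁆ * x * y := by rw [commutatorElement_def]; group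
    rw [Cfsg.Agent.Lib.Helper9.mul_pow_of_comm hc (hcen y x x) (hcen y x y)]
    obtain ⟨t, ht⟩ := hchoose k hk
    rw [ht, pow_mul, hexp, one_pow, one_mul]
  have hcomm_pow : ∀ (x y : S) (k : ℕ), ⁅x ^ k, y⁆ = ⁅x, y⁆ ^ k := by
    intro x y k
    induction k with
    | zero => rw [pow_zero, pow_zero, commutatorElement_one_left]
    | succ k ih => rw [pow_succ, mcop_comm_mul_left hcen, ih, pow_succ]
  have hpwcen : ∀ k, n ≤ k → ∀ x s : S, Commute (x ^ (p ^ k)) s := by
    intro k hk x s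
    have h1 : ⁅x ^ (p ^ k), s⁆ = 1 := by
      rw [hcomm_pow]
      obtain ⟨t, ht⟩ := pow_dvd_pow p hk
      rw [ht, pow_mul, hexp, one_pow]
    exact commutatorElement_eq_one_iff_commute.1 h1
  -- the maximal level
  have hk0 : ∃ k₀, n ≤ k₀ ∧ (∃ x : S, x ^ (p ^ k₀) = z) ∧ ¬ ∃ x : S, x ^ (p ^ (k₀ + 1)) = z := by
    by_contra hno
    have hall : ∀ m : ℕ, ∃ x : S, x ^ (p ^ (α - 1 + m)) = z := by
      intro m
      induction m with
      | zero =>
        exact ⟨a ^ j₀, by rw [add_zero, ← pow_mul, mul_comm, pow_mul, ← hg₁]; exact hj₀.symm⟩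
      | succ m ih =>
        by_contra hn
        exact hno ⟨α - 1 + m, by have := h.hn; omega, ih, hn⟩
    obtain ⟨x, hx⟩ := hall (α + β)
    apply hz1
    rw [← hx]
    have hx1 : x ^ (p ^ (α + β)) = 1 := by
      have := pow_card_eq_one' (G := S) (x := x)
      rwa [h.hcard, ← pow_add] at this
    rw [show α - 1 + (α + β) = (α + β) + (α - 1) by omega, pow_add, pow_mul, hx1, one_pow]
  obtain ⟨k₀, hk₀n, ⟨w, hw⟩, hk₀max⟩ := hk0
  obtain ⟨q, hq⟩ : ∃ q : ℕ, q = p ^ k₀ := ⟨_, rfl⟩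
  rw [← hq] at hw
  let π : S →* S := MonoidHom.mk' (fun x => x ^ q) (by rw [hq]; exact hpw k₀ hk₀n)
  let π' : S →* S := MonoidHom.mk' (fun x => x ^ (p ^ (k₀ + 1))) (hpw (k₀ + 1) (by omega))
  have hπ : ∀ x, π x = x ^ q := fun x => rfl
  have hπ' : ∀ x, π' x = x ^ (p ^ (k₀ + 1)) := fun x => rfl
  have hππ' : ∀ x, π (x ^ p) = π' x := by
    intro x; rw [hπ, hπ', ← pow_mul, pow_succ, hq, mul_comm]
  have hπφ : ∀ (φ : MulAut S) x, π (φ x) = φ (π x) := by intro φ x; rw [hπ, hπ, map_pow]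
  have hπ'φ : ∀ (φ : MulAut S) x, π' (φ x) = φ (π' x) := by intro φ x; rw [hπ', hπ', map_pow]
  have hπ'c : ∀ y s, Commute (π' y) s := fun y s => hpwcen (k₀ + 1) (by omega) y s
  obtain ⟨K, hK⟩ : ∃ K : Subgroup S, K = π'.range.comap π := ⟨_, rfl⟩
  have hKmem : ∀ x, x ∈ K ↔ ∃ y, π' y = π x := by
    intro x; rw [hK, Subgroup.mem_comap, MonoidHom.mem_range]
  have hPK : P ≤ K := by
    apply hPle; intro y; rw [hKmem]; exact ⟨y, (hππ' y).symm⟩
  have hwK : w ∉ K := by
    intro hwK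
    obtain ⟨y, hy⟩ := (hKmem w).1 hwK
    exact hk₀max ⟨y, by rw [← hπ', hy, hπ, hw]⟩
  have hKinv : ∀ (φ : MulAut S) x, x ∈ K → φ x ∈ K := by
    intro φ x hx
    obtain ⟨y, hy⟩ := (hKmem x).1 hx
    rw [hKmem]
    exact ⟨φ y, by rw [hπ'φ, hy, hπφ]⟩
  obtain ⟨T, hTmem⟩ : ∃ T : Subgroup S, ∀ x, x ∈ T ↔ ∃ i : ℕ, ∃ y : S, π x = z ^ i * π' y := by
    refine ⟨{ carrier := {x | ∃ i : ℕ, ∃ y : S, π x = z ^ i * π' y}
              one_mem' := ⟨0, 1, by rw [map_one, pow_zero, map_one, one_mul]⟩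
              mul_mem' := ?_
              inv_mem' := ?_ }, fun x => Iff.rfl⟩
    · rintro x x' ⟨i, y, hx⟩ ⟨i', y', hx'⟩
      refine ⟨i + i', y * y', ?_⟩
      rw [map_mul, hx, hx', map_mul, pow_add]
      exact Commute.mul_mul_mul_comm (hπ'c y _) _ _
    · rintro x ⟨i, y, hx⟩
      refine ⟨(p - 1) * i, y⁻¹, ?_⟩
      rw [map_inv, hx]
      apply inv_eq_of_mul_eq_one_right
      rw [Commute.mul_mul_mul_comm (hπ'c y _), ← pow_add, ← map_mul, mul_inv_cancel, map_one,
        mul_one]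
      have e : i + (p - 1) * i = p * i := by
        have hp1 : p - 1 + 1 = p := Nat.sub_add_cancel hpp.pos
        calc i + (p - 1) * i = (p - 1 + 1) * i := by ring
          _ = p * i := by rw [hp1]
      rw [e, pow_mul, hzp, one_pow]
  have hKT : K ≤ T := by
    intro x hx
    obtain ⟨y, hy⟩ := (hKmem x).1 hx
    exact (hTmem x).2 ⟨0, y, by rw [pow_zero, one_mul, hy]⟩
  have hwT : w ∈ T := (hTmem w).2 ⟨1, 1, by rw [pow_one, map_one, mul_one, hπ, hw]⟩
  have hTinv : ∀ (φ : MulAut S) x, x ∈ T → φ x ∈ T := by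
    intro φ x hx
    obtain ⟨i, y, hxy⟩ := (hTmem x).1 hx
    obtain ⟨l, -, hl, -⟩ := hlam φ
    exact (hTmem _).2 ⟨l * i, φ y, by rw [hπφ, hxy, map_mul, map_pow, hl, ← pow_mul, hπ'φ]⟩
  have hφw : ∀ (φ : MulAut S) (l : ℕ), φ z = z ^ l → (w ^ l)⁻¹ * φ w ∈ K := by
    intro φ l hl
    rw [hKmem]
    refine ⟨1, ?_⟩
    rw [map_one, map_mul, map_inv, map_pow, hπφ, hπ w, hw, hl, inv_mul_cancel]
  have hwP : w ∉ P := fun hh => hwK (hPK hh)
  have hPltT : P < T := lt_of_le_of_ne (hPK.trans hKT) (fun e => hwP (by rw [e]; exact hwT))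
  have hKltT : K < T := lt_of_le_of_ne hKT (fun e => hwK (by rw [e]; exact hwT))
  by_cases hT : T = ⊤
  · -- Case T = ⊤
    have haP : a ∉ P := by
      intro haP
      apply hz1
      rw [hz]; exact hbtP a b haP
    have hbP : b ∉ P := by
      intro hbP
      apply hz1
      rw [hz]; exact hbtP' a b hbP
    have hKneP : K ≠ P := by
      intro hKP
      have haT : a ∈ T := by rw [hT]; trivial
      have hbT : b ∈ T := by rw [hT]; trivial
      obtain ⟨i, y₁, hi⟩ := (hTmem a).1 haT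
      obtain ⟨j, y₂, hj⟩ := (hTmem b).1 hbT
      have hpj : ¬ p ∣ j := by
        rintro ⟨j', rfl⟩
        apply hbP
        rw [← hKP, hKmem]
        exact ⟨y₂, by rw [hj, pow_mul, hzp, one_pow, one_mul]⟩
      have hx₀ : a ^ j * b ^ ((p - 1) * i) ∈ K := by
        rw [hKmem]
        refine ⟨y₁ ^ j * y₂ ^ ((p - 1) * i), ?_⟩
        rw [map_mul, map_pow, map_pow, map_mul, map_pow, map_pow, hi, hj]
        rw [((hzcen _).pow_left i).mul_pow, ((hzcen _).pow_left j).mul_pow]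
        rw [Commute.mul_mul_mul_comm ((hπ'c y₁ _).pow_left j)]
        have hzz : (z ^ i) ^ j * (z ^ j) ^ ((p - 1) * i) = 1 := by
          rw [← pow_mul, ← pow_mul, ← pow_add]
          have e : i * j + j * ((p - 1) * i) = p * (i * j) := by
            have hp1 : p - 1 + 1 = p := Nat.sub_add_cancel hpp.pos
            calc i * j + j * ((p - 1) * i) = (p - 1 + 1) * (i * j) := by ring
              _ = p * (i * j) := by rw [hp1]
          rw [e, pow_mul, hzp, one_pow]
        rw [hzz, one_mul]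
      rw [hKP] at hx₀
      have h1 := hbtP _ b hx₀
      rw [mcopBt_mul_left hcen, mcopBt_pow_left hcen, mcopBt_pow_left hcen, mcopBt_self, one_pow,
        mul_one, ← hz] at h1
      exact hpj (hzpow j h1)
    have hKlt : K < ⊤ := lt_top_iff_ne_top.2 (fun e => hwK (by rw [e]; trivial))
    have hPltK : P < K := lt_of_le_of_ne hPK (Ne.symm hKneP)
    have hA' : ∀ x ∈ K, x ∉ P → K ≤ mcopRad hcen m₀ x := by
      intro x hxK hxP
      by_contra hnot
      have hM1 : P < mcopRad hcen m₀ x ⊓ K :=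
        lt_of_le_of_ne (le_inf (hRadP x) hPK)
          (fun e => hxP (by rw [e]; exact ⟨mcopBt_self _ _, hxK⟩))
      have hM2 : mcopRad hcen m₀ x ⊓ K < K :=
        lt_of_le_of_ne inf_le_right (fun e => hnot (by rw [← e]; exact inf_le_left))
      have := (mcop_chain3 hS P P (mcopRad hcen m₀ x ⊓ K) K hPcard le_rfl hM1 hM2).2
      exact hKlt.ne this
    have hA'' : ∀ k ∈ K, ∀ k' ∈ K, mcopBt m₀ k k' = 1 := by
      intro k hk k' hk'
      by_cases hk'P : k' ∈ P
      · exact hbtP' k k' hk'P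
      · exact hA' k' hk' hk'P hk
    have hstep : ∀ φ ∈ B, ∀ x ∈ K, φ x * x⁻¹ ∈ P := by
      intro φ hφ x hxK
      by_cases hxP : x ∈ P
      · exact P.mul_mem (hPinv φ x hxP) (P.inv_mem hxP)
      · obtain ⟨l, hpl, hl, hlbt⟩ := hlam φ
        have hB' : w ∉ mcopRad hcen m₀ x := by
          intro hwRx
          have hlt : K < mcopRad hcen m₀ x :=
            lt_of_le_of_ne (hA' x hxK hxP) (fun e => hwK (by rw [e]; exact hwRx))
          have htop : mcopRad hcen m₀ x = ⊤ :=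
            (mcop_chain3 hS P P K _ hPcard le_rfl hPltK hlt).2
          apply hxP
          apply hnondeg
          · have ha : a ∈ mcopRad hcen m₀ x := by rw [htop]; trivial
            rw [← mcopBt_inv_swap m₀ a x, (ha : mcopBt m₀ a x = 1), inv_one]
          · have hb : b ∈ mcopRad hcen m₀ x := by rw [htop]; trivial
            rw [← mcopBt_inv_swap m₀ b x, (hb : mcopBt m₀ b x = 1), inv_one]
        have hk₁ := hφw φ l hl
        have hφxK : φ x ∈ K := hKinv φ x hxK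
        have hC : mcopBt m₀ (φ x * x⁻¹) w = 1 := by
          apply hkill _ l hpl (hbtp _ _)
          have e1 : mcopBt m₀ (φ x) (φ w) = (mcopBt m₀ x w) ^ l := hlbt x w
          have e2 : φ w = w ^ l * ((w ^ l)⁻¹ * φ w) := by group
          have e3 : mcopBt m₀ (φ x) (φ w) = (mcopBt m₀ (φ x) w) ^ l := by
            rw [e2, mcopBt_mul_right hcen, mcopBt_pow_right hcen, hA'' _ hφxK _ hk₁, mul_one]
          rw [mcopBt_mul_left hcen, mcopBt_inv_left hcen,
            (mcopBt_commute hcen _ _ _ _).mul_pow, inv_pow, ← e3, e1, mul_inv_cancel]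
        have hdK : φ x * x⁻¹ ∈ K := K.mul_mem hφxK (K.inv_mem hxK)
        have hM : K ⊓ mcopRad hcen m₀ w = P := by
          have hle : P ≤ K ⊓ mcopRad hcen m₀ w := le_inf hPK (hRadP w)
          have hlt : K ⊓ mcopRad hcen m₀ w < K := lt_of_le_of_ne inf_le_left (fun e => hB' (by
            have hx' : x ∈ K ⊓ mcopRad hcen m₀ w := by rw [e]; exact hxK
            have hxw : mcopBt m₀ x w = 1 := hx'.2
            show mcopBt m₀ w x = 1
            rw [← mcopBt_inv_swap m₀ x w, hxw, inv_one]))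
          exact (mcop_chain3 hS P _ K ⊤ hPcard hle hlt hKlt).1
        rw [← hM]; exact ⟨hdK, hC⟩
    apply hKneP
    apply le_antisymm _ hPK
    intro x hxK
    have h1 := mcop_avg B hgen P hPcomm x (fun φ hφ => hstep φ hφ x hxK)
    have h2 := hPpow x
    have hb := Nat.gcd_eq_gcd_ab (Nat.card B) p
    rw [hcop.gcd_eq_one] at hb
    have hx : x = (x ^ (Nat.card B)) ^ (Nat.gcdA (Nat.card B) p) *
        (x ^ p) ^ (Nat.gcdB (Nat.card B) p) := by
      rw [← zpow_natCast, ← zpow_natCast, ← zpow_mul, ← zpow_mul, ← zpow_add, ← hb]; simp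
    rw [hx]; exact P.mul_mem (P.zpow_mem h1 _) (P.zpow_mem h2 _)
  · -- Case T ≠ ⊤
    have hTlt : T < ⊤ := lt_top_iff_ne_top.2 hT
    have hKP : K = P := (mcop_chain3 hS P K T ⊤ hPcard hPK hKltT hTlt).1
    have hstep : ∀ φ ∈ B, ∀ y : S, φ y * y⁻¹ ∈ T := by
      intro φ hφ y
      by_cases hyT : y ∈ T
      · exact T.mul_mem (hTinv φ y hyT) (T.inv_mem hyT)
      · obtain ⟨l, hpl, hl, hlbt⟩ := hlam φ
        have hwRw : w ∈ mcopRad hcen m₀ w := mcopBt_self _ _
        have hA : T ≤ mcopRad hcen m₀ w := by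
          by_contra hnot
          have hM1 : P < mcopRad hcen m₀ w ⊓ T :=
            lt_of_le_of_ne (le_inf (hRadP w) hPltT.le)
              (fun e => hwP (by rw [e]; exact ⟨hwRw, hwT⟩))
          have hM2 : mcopRad hcen m₀ w ⊓ T < T :=
            lt_of_le_of_ne inf_le_right (fun e => hnot (by rw [← e]; exact inf_le_left))
          exact hT (mcop_chain3 hS P P _ T hPcard le_rfl hM1 hM2).2
        have hB : y ∉ mcopRad hcen m₀ w := by
          intro hy
          have hlt : T < mcopRad hcen m₀ w :=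
            lt_of_le_of_ne hA (fun e => hyT (by rw [e]; exact hy))
          have htop : mcopRad hcen m₀ w = ⊤ :=
            (mcop_chain3 hS P P T _ hPcard le_rfl hPltT hlt).2
          apply hwP
          apply hnondeg
          · have ha : a ∈ mcopRad hcen m₀ w := by rw [htop]; trivial
            rw [← mcopBt_inv_swap m₀ a w, (ha : mcopBt m₀ a w = 1), inv_one]
          · have hb : b ∈ mcopRad hcen m₀ w := by rw [htop]; trivial
            rw [← mcopBt_inv_swap m₀ b w, (hb : mcopBt m₀ b w = 1), inv_one]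
        have hk₁ := hφw φ l hl
        rw [hKP] at hk₁
        have hC : mcopBt m₀ (φ y * y⁻¹) w = 1 := by
          apply hkill _ l hpl (hbtp _ _)
          have e1 : mcopBt m₀ (φ y) (φ w) = (mcopBt m₀ y w) ^ l := hlbt y w
          have e2 : φ w = w ^ l * ((w ^ l)⁻¹ * φ w) := by group
          have e3 : mcopBt m₀ (φ y) (φ w) = (mcopBt m₀ (φ y) w) ^ l := by
            rw [e2, mcopBt_mul_right hcen, mcopBt_pow_right hcen, hbtP' _ _ hk₁, mul_one]
          rw [mcopBt_mul_left hcen, mcopBt_inv_left hcen,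
            (mcopBt_commute hcen _ _ _ _).mul_pow, inv_pow, ← e3, e1, mul_inv_cancel]
        have hD : mcopRad hcen m₀ w = T := by
          by_contra hne
          have hlt : T < mcopRad hcen m₀ w := lt_of_le_of_ne hA (Ne.symm hne)
          have htop : mcopRad hcen m₀ w = ⊤ :=
            (mcop_chain3 hS P P T _ hPcard le_rfl hPltT hlt).2
          exact hB (by rw [htop]; trivial)
        rw [← hD]; exact hC
    have htop : (⊤ : Subgroup S) ≤ T := by
      rw [← hgen, Subgroup.closure_le]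
      rintro s ⟨φ, hφ, x, rfl⟩
      exact hstep φ hφ x
    exact hT (top_le_iff.1 htop)

end Cfsg.Agent.Lib.Helper4
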