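import Mathlib
import Cfsg.Agent.Lib.Helper4.MetaCop2
import Cfsg.Agent.Lib.Helper4.CoprimeComm
import Cfsg.Agent.Lib.Lead.Metacyclic
import Cfsg.Agent.S0126
import Cfsg.Agent.S0026
import Cfsg.Agent.S0027

set_option autoImplicit false
set_option maxHeartbeats 2000000
set_option linter.unusedVariables false

namespace Cfsg.Agent.Lib.Helper4

open scoped commutatorElement

theorem mcop_cyclic_card {Q : Type*} [Group Q] [Finite Q] [hQ : IsCyclic Q] (p : ℕ) (hp : 0 < p)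
    (hgen : Subgroup.closure {x : Q | x ^ p = 1} = ⊤) : Nat.card Q ≤ p := by
  have hcomm : ∀ x y : Q, Commute x y := by
    obtain ⟨g, hg⟩ := hQ.exists_generator
    intro x y
    obtain ⟨i, rfl⟩ := Subgroup.mem_zpowers_iff.1 (hg x)
    obtain ⟨j, rfl⟩ := Subgroup.mem_zpowers_iff.1 (hg y)
    exact ((Commute.refl g).zpow_zpow i j)
  have hall : ∀ x : Q, x ^ p = 1 := by
    intro x
    have hx : x ∈ Subgroup.closure {x : Q | x ^ p = 1} := by rw [hgen]; trivial
    induction hx using Subgroup.closure_induction with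
    | mem y hy => exact hy
    | one => exact one_pow p
    | mul y y' _ _ hy hy' => rw [(hcomm y y').mul_pow, hy, hy', one_mul]
    | inv y _ hy => rw [inv_pow, hy, inv_one]
  obtain ⟨g, hg⟩ := hQ.exists_generator
  have h1 : orderOf g = Nat.card Q := orderOf_eq_card_of_forall_mem_zpowers hg
  rw [← h1]
  exact Nat.le_of_dvd hp (orderOf_dvd_of_pow_eq_one (hall g))

theorem mcop_omega_card {W : Type*} [Group W] [Finite W] {p : ℕ} [Fact p.Prime] (hp2 : p ≠ 2)
    (hW : IsPGroup p W) (hmc : Cfsg.IsMetacyclic W)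
    (hgen : Subgroup.closure {x : W | x ^ p = 1} = ⊤) : Nat.card W ≤ p ^ 2 := by
  have hpp : p.Prime := Fact.out
  by_cases hWc : IsCyclic W
  · have h1 := mcop_cyclic_card p hpp.pos hgen
    have h2 : p ≤ p ^ 2 := by nlinarith [hpp.one_lt]
    exact h1.trans h2
  · obtain ⟨N, hN, hNc, hQc⟩ := hmc
    have hQgen : Subgroup.closure {y : W ⧸ N | y ^ p = 1} = ⊤ := by
      rw [eq_top_iff]
      have h1 : (⊤ : Subgroup (W ⧸ N)) = (⊤ : Subgroup W).map (QuotientGroup.mk' N) := by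
        rw [Subgroup.map_top_of_surjective _ (QuotientGroup.mk'_surjective N)]
      rw [h1, ← hgen, MonoidHom.map_closure, Subgroup.closure_le]
      rintro _ ⟨x, hx, rfl⟩
      apply Subgroup.subset_closure
      show (QuotientGroup.mk' N x) ^ p = 1
      have hx' : x ^ p = 1 := hx
      rw [← map_pow, hx', map_one]
    have hQcard : Nat.card (W ⧸ N) ≤ p := mcop_cyclic_card p hpp.pos hQgen
    have hidx : N.index = p := by
      have h1 : N.index ≤ p := by rw [Subgroup.index_eq_card]; exact hQcard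
      have h2 : N.index ≠ 1 := by
        intro h1
        apply hWc
        rw [Subgroup.index_eq_one] at h1
        subst h1
        exact isCyclic_of_surjective (⊤ : Subgroup W).subtype
          (by intro x; exact ⟨⟨x, trivial⟩, rfl⟩)
      obtain ⟨k, hk⟩ := hW.index N
      rw [hk] at h1 h2 ⊢
      have hk1 : k ≠ 0 := by
        intro h0; rw [h0, pow_zero] at h2; exact h2 rfl
      have hk2 : k < 2 := by
        by_contra hge
        have : p ^ 2 ≤ p ^ k := Nat.pow_le_pow_right hpp.pos (by omega)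
        nlinarith [hpp.one_lt]
      have : k = 1 := by omega
      rw [this, pow_one]
    obtain ⟨_, h2⟩ := omega_one_of_cyclic_index_p hp2 hW hWc N hNc hidx
    rw [hgen, Subgroup.card_top] at h2
    exact h2.le

theorem mcop_closure_top {G : Type*} [Group G] (H : Subgroup G) (T : Set G)
    (hT : H = Subgroup.closure T) (p : ℕ) (hTp : ∀ t ∈ T, t ^ p = 1) :
    Subgroup.closure {x : ↥H | x ^ p = 1} = ⊤ := by
  subst hT
  rw [eq_top_iff, ← Subgroup.closure_closure_coe_preimage (k := T)]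
  apply Subgroup.closure_mono
  intro x hx
  have hx' : (x : G) ∈ T := hx
  show x ^ p = 1
  apply Subtype.ext
  rw [Subgroup.coe_pow, Subgroup.coe_one]
  exact hTp _ hx'

theorem mcop_cyclic_of_disjoint {G : Type*} [Group G] [Finite G] {p : ℕ} [Fact p.Prime]
    (hp2 : p ≠ 2) (R : Subgroup G) (hR : IsPGroup p R) (hRm : Cfsg.IsMetacyclic R)
    (X Y : Subgroup G) (hX : X ≤ R) (hY : Y ≤ R) (hXY : X ⊓ Y = ⊥) (hY1 : Y ≠ ⊥) :
    IsCyclic X := by
  have hpp : p.Prime := Fact.out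
  by_contra hnc
  have hXp : IsPGroup p X := hR.to_le hX
  have hYp : IsPGroup p Y := hR.to_le hY
  obtain ⟨E', -, ⟨-, hE'exp⟩, hE'card⟩ := Cfsg.Agent.S0126.result hp2 hXp hnc
  obtain ⟨E, hE⟩ : ∃ E : Subgroup G, E = E'.map X.subtype := ⟨_, rfl⟩
  have hEX : E ≤ X := by
    rw [hE]; rintro _ ⟨x, _, rfl⟩; exact x.2
  have hEcard : Nat.card E = p ^ 2 := by
    rw [hE, Subgroup.card_map_of_injective X.subtype_injective, hE'card]
  have hEexp : ∀ e ∈ E, e ^ p = 1 := by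
    rw [hE]
    rintro _ ⟨x, hx, rfl⟩
    have := hE'exp x hx
    rw [Subgroup.subtype_apply, ← Subgroup.coe_pow, this, Subgroup.coe_one]
  -- an element of order p in Y
  have hYcard : p ∣ Nat.card Y := by
    rcases hYp.card_eq_or_dvd with h1 | h1
    · exact absurd (Subgroup.card_eq_one.1 h1) hY1
    · exact h1
  obtain ⟨y', hy'⟩ := exists_prime_orderOf_dvd_card' p hYcard
  have hyY : (y' : G) ∈ Y := y'.2
  have hyp : (y' : G) ^ p = 1 := by
    have := pow_orderOf_eq_one y'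
    rw [hy'] at this
    rw [← Subgroup.coe_pow, this, Subgroup.coe_one]
  have hy1 : (y' : G) ≠ 1 := by
    intro h1
    have : y' = 1 := Subtype.ext h1
    rw [this, orderOf_one] at hy'
    exact hpp.one_lt.ne hy'
  have hyE : (y' : G) ∉ E := by
    intro hyE
    have : (y' : G) ∈ X ⊓ Y := ⟨hEX hyE, hyY⟩
    rw [hXY, Subgroup.mem_bot] at this
    exact hy1 this
  obtain ⟨H, hH⟩ : ∃ H : Subgroup G, H = E ⊔ Subgroup.zpowers (y' : G) := ⟨_, rfl⟩
  have hEH : E ≤ H := by rw [hH]; exact le_sup_left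
  have hyH : (y' : G) ∈ H := by rw [hH]; exact Subgroup.mem_sup_right (Subgroup.mem_zpowers _)
  have hHR : H ≤ R := by
    rw [hH]; exact sup_le (hEX.trans hX) (Subgroup.zpowers_le.2 (hY hyY))
  have hHcl : H = Subgroup.closure ((E : Set G) ∪ {(y' : G)}) := by
    rw [hH, Subgroup.closure_union, Subgroup.closure_eq, Subgroup.zpowers_eq_closure]
  have hHgen := mcop_closure_top H _ hHcl p (by
    rintro t (ht | ht)
    · exact hEexp t ht
    · rw [Set.mem_singleton_iff] at ht; rw [ht]; exact hyp)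
  have hHp : IsPGroup p H := hR.to_le hHR
  have hHm : Cfsg.IsMetacyclic H :=
    Cfsg.Agent.Lib.Lead.Metacyclic.isMetacyclic_of_mulEquiv (Subgroup.subgroupOfEquivOfLe hHR)
      (mc_isMetacyclic_subgroup hRm (H.subgroupOf R))
  have hHcard := mcop_omega_card hp2 hHp hHm hHgen
  have hEeq : E = H := Subgroup.eq_of_le_of_card_ge hEH (by rw [hEcard]; exact hHcard)
  exact hyE (by rw [hEeq]; exact hyH)

/-- conjugation action of a normalising subgroup -/
def mcopConj {G : Type*} [Group G] (S₀ A : Subgroup G)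
    (hA : A ≤ Subgroup.normalizer (S₀ : Set G)) : ↥A →* MulAut ↥S₀ where
  toFun g :=
    { toFun := fun x => ⟨g.1 * x.1 * g.1⁻¹, (Subgroup.mem_normalizer_iff.1 (hA g.2) x.1).1 x.2⟩
      invFun := fun x => ⟨g.1⁻¹ * x.1 * g.1, by
        have := (Subgroup.mem_normalizer_iff.1 (Subgroup.inv_mem _ (hA g.2)) x.1).1 x.2
        rwa [inv_inv] at this⟩
      left_inv := fun x => Subtype.ext (by simp [mul_assoc])
      right_inv := fun x => Subtype.ext (by simp [mul_assoc])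
      map_mul' := fun x y => Subtype.ext (by simp [mul_assoc]) }
  map_one' := by ext x; simp
  map_mul' := by intro g g'; ext x; simp [mul_assoc]

theorem mcopConj_apply {G : Type*} [Group G] (S₀ A : Subgroup G)
    (hA : A ≤ Subgroup.normalizer (S₀ : Set G)) (g : ↥A) (x : ↥S₀) :
    ((mcopConj S₀ A hA g) x : G) = g.1 * x.1 * g.1⁻¹ := rfl

theorem mcop_main {G : Type*} [Group G] [Finite G] (p : ℕ) [Fact p.Prime] (hp : p ≠ 2)
    (R A : Subgroup G) (hR : IsPGroup p R) (hRm : Cfsg.IsMetacyclic R)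
    (hA : (A ≤ Subgroup.normalizer (R : Set G))) (hcop : (Nat.card A).Coprime p) :
    IsMulCommutative ↥⁅R, A⁆ ∧ ⁅R, A⁆ ⊔ (R ⊓ Subgroup.centralizer (A : Set G)) = R ∧
      ⁅R, A⁆ ⊓ (R ⊓ Subgroup.centralizer (A : Set G)) = ⊥ ∧
      (¬ IsMulCommutative R → ¬ A ≤ Subgroup.centralizer (R : Set G) →
        ⁅R, A⁆ ≠ ⊥ ∧ IsCyclic ↥⁅R, A⁆ ∧ (R ⊓ Subgroup.centralizer (A : Set G)) ≠ ⊥ ∧
          IsCyclic ↥(R ⊓ Subgroup.centralizer (A : Set G)) ∧ ⁅R, R⁆ ≤ ⁅R, A⁆) := by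
  have hpp : p.Prime := Fact.out
  obtain ⟨kR, hkR⟩ := hR.exists_card_eq
  have hcop' : (Nat.card A).Coprime (Nat.card R) := by rw [hkR]; exact hcop.pow_right _
  haveI : Finite ↥R := inferInstance
  have hsolv : Group.IsSolvable ↥R := by
    haveI := hR.isNilpotent
    exact IsNilpotent.to_isSolvable
  obtain ⟨S₀, hS₀⟩ : ∃ S₀ : Subgroup G, S₀ = ⁅R, A⁆ := ⟨_, rfl⟩
  obtain ⟨C, hC⟩ : ∃ C : Subgroup G, C = R ⊓ Subgroup.centralizer (A : Set G) := ⟨_, rfl⟩
  rw [← hS₀, ← hC]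
  have hS₀R : S₀ ≤ R := by rw [hS₀]; exact commutator_le_of_le_normalizer A R hA
  have hAS₀ : A ≤ Subgroup.normalizer (S₀ : Set G) := by
    rw [hS₀]; exact le_normalizer_commutator_right A R hA
  have hRS₀ : R ≤ Subgroup.normalizer (S₀ : Set G) := by
    rw [hS₀]; exact le_normalizer_commutator_left A R
  have F1 : S₀ ⊔ C = R := by
    rw [hS₀, hC]; exact Cfsg.Agent.S0026.result A R hA hcop' (Or.inr hsolv)
  have F2 : ⁅S₀, A⁆ = S₀ := by
    rw [hS₀]; exact Cfsg.Agent.S0027.result A R hA hcop' (Or.inr hsolv)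
  have hCR : C ≤ R := by rw [hC]; exact inf_le_left
  -- the abstract action
  obtain ⟨B, hB⟩ : ∃ B : Subgroup (MulAut ↥S₀), B = (mcopConj S₀ A hAS₀).range := ⟨_, rfl⟩
  have hBcop : (Nat.card B).Coprime p := by
    rw [hB]
    exact Nat.Coprime.coprime_dvd_left (Subgroup.card_range_dvd _) hcop
  have hBgen : Subgroup.closure (mcopGen B) = ⊤ := by
    have hle : S₀ ≤ (Subgroup.closure (mcopGen B)).map S₀.subtype := by
      nth_rewrite 1 [← F2]
      rw [Subgroup.commutator_le]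
      intro s hs g hg
      refine Subgroup.mem_map.2 ⟨((mcopConj S₀ A hAS₀ ⟨g, hg⟩) ⟨s, hs⟩ * (⟨s, hs⟩ : ↥S₀)⁻¹)⁻¹,
        Subgroup.inv_mem _ (Subgroup.subset_closure
          ⟨mcopConj S₀ A hAS₀ ⟨g, hg⟩, by rw [hB]; exact ⟨⟨g, hg⟩, rfl⟩, ⟨s, hs⟩, rfl⟩), ?_⟩
      rw [Subgroup.subtype_apply, Subgroup.coe_inv, Subgroup.coe_mul, Subgroup.coe_inv,
        mcopConj_apply, commutatorElement_def]
      show (g * s * g⁻¹ * s⁻¹)⁻¹ = s * g * s⁻¹ * g⁻¹
      group
    rw [eq_top_iff]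
    intro x _
    obtain ⟨x', hx', hxx'⟩ := Subgroup.mem_map.1 (hle x.2)
    have : x' = x := Subtype.ext hxx'
    rw [← this]; exact hx'
  have hS₀p : IsPGroup p S₀ := hR.to_le hS₀R
  have hS₀m : Cfsg.IsMetacyclic S₀ :=
    Cfsg.Agent.Lib.Lead.Metacyclic.isMetacyclic_of_mulEquiv (Subgroup.subgroupOfEquivOfLe hS₀R)
      (mc_isMetacyclic_subgroup hRm (S₀.subgroupOf R))
  have hab := mcop_abelian hp hS₀p hS₀m B hBcop hBgen
  have ha : IsMulCommutative ↥S₀ := ⟨⟨hab⟩⟩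
  -- (c)
  have hc : S₀ ⊓ C = ⊥ := by
    rw [eq_bot_iff]
    intro x hx
    rw [Subgroup.mem_bot]
    obtain ⟨hxS, hxC⟩ := hx
    rw [hC] at hxC
    have hxA : x ∈ Subgroup.centralizer (A : Set G) := hxC.2
    rw [Subgroup.mem_centralizer_iff] at hxA
    have h1 := mcop_avg B hBgen ⊥ (by
      intro u v
      rw [Subgroup.mem_bot, commutatorElement_eq_one_iff_mul_comm]
      exact hab u v) ⟨x, hxS⟩ (by
      intro φ hφ
      rw [hB] at hφ
      obtain ⟨g, rfl⟩ := hφ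
      rw [Subgroup.mem_bot]
      apply Subtype.ext
      rw [Subgroup.coe_mul, Subgroup.coe_inv, mcopConj_apply, Subgroup.coe_one]
      show g.1 * x * g.1⁻¹ * x⁻¹ = 1
      rw [hxA g.1 g.2]
      group)
    rw [Subgroup.mem_bot] at h1
    have h2 : x ^ Nat.card B = 1 := by
      have := congrArg Subtype.val h1
      simpa using this
    obtain ⟨k, hk⟩ := hS₀p ⟨x, hxS⟩
    have h3 : x ^ (p ^ k) = 1 := by
      have := congrArg Subtype.val hk
      simpa using this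
    have h4 : orderOf x ∣ Nat.gcd (Nat.card B) (p ^ k) :=
      Nat.dvd_gcd (orderOf_dvd_of_pow_eq_one h2) (orderOf_dvd_of_pow_eq_one h3)
    rw [(hBcop.pow_right k).gcd_eq_one] at h4
    exact orderOf_eq_one_iff.1 (Nat.dvd_one.1 h4)
  refine ⟨ha, F1, hc, ?_⟩
  intro hRna hAR
  have d1 : S₀ ≠ ⊥ := by
    intro h0
    apply hAR
    rw [hS₀, Subgroup.commutator_eq_bot_iff_le_centralizer] at h0
    exact Subgroup.le_centralizer_iff.1 h0
  have d3 : C ≠ ⊥ := by
    intro h0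
    apply hRna
    rw [h0, sup_bot_eq] at F1
    rw [← F1]; exact ha
  have d2 : IsCyclic ↥S₀ := mcop_cyclic_of_disjoint hp R hR hRm S₀ C hS₀R hCR hc d3
  have d4 : IsCyclic ↥C :=
    mcop_cyclic_of_disjoint hp R hR hRm C S₀ hCR hS₀R (by rw [inf_comm]; exact hc) d1
  refine ⟨d1, d2, d3, d4, ?_⟩
  -- [R,R] ≤ S₀
  have hCcomm : ∀ c ∈ C, ∀ c' ∈ C, c * c' = c' * c := by
    intro c hc c' hc'
    obtain ⟨g, hg⟩ := d4.exists_generator
    obtain ⟨i, hi⟩ := Subgroup.mem_zpowers_iff.1 (hg ⟨c, hc⟩)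
    obtain ⟨j, hj⟩ := Subgroup.mem_zpowers_iff.1 (hg ⟨c', hc'⟩)
    have h1 : (⟨c, hc⟩ : ↥C) * ⟨c', hc'⟩ = ⟨c', hc'⟩ * ⟨c, hc⟩ := by
      rw [← hi, ← hj]; exact ((Commute.refl g).zpow_zpow i j).eq
    exact congrArg Subtype.val h1
  rw [Subgroup.commutator_le]
  intro x hx y hy
  rw [← F1] at hx hy
  have hCN : C ≤ Subgroup.normalizer (S₀ : Set G) := hCR.trans hRS₀
  obtain ⟨s, hs, c, hcC, rfl⟩ := act_mem_sup (A := C) (K := S₀) hCN hx
  obtain ⟨s', hs', c', hc'C, rfl⟩ := act_mem_sup (A := C) (K := S₀) hCN hy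
  have hcc : c * c' * c⁻¹ = c' := by rw [hCcomm c hcC c' hc'C, mul_assoc, mul_inv_cancel, mul_one]
  have e : ⁅s * c, s' * c'⁆ =
      s * (c * s' * c⁻¹) * ((c * c' * c⁻¹) * s⁻¹ * c'⁻¹) * s'⁻¹ := by
    simp only [commutatorElement_def]; group
  rw [e, hcc]
  have n1 : c * s' * c⁻¹ ∈ S₀ := (Subgroup.mem_normalizer_iff.1 (hCN hcC) s').1 hs'
  have n2 : c' * s⁻¹ * c'⁻¹ ∈ S₀ :=
    (Subgroup.mem_normalizer_iff.1 (hCN hc'C) s⁻¹).1 (S₀.inv_mem hs)
  exact S₀.mul_mem (S₀.mul_mem (S₀.mul_mem hs n1) n2) (S₀.inv_mem hs')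

end Cfsg.Agent.Lib.Helper4
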