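import Mathlib
import Cfsg.Agent.S0012
import Cfsg.Agent.S0014
import Cfsg.Agent.S4207
import Cfsg.Agent.Lib.Lead.AutPrime
import Cfsg.Agent.Lib.Helper1.PGroupMax
import Cfsg.Agent.Lib.Helper9.PAutFix
import Cfsg.Agent.Lib.Helper2.Index
import Cfsg.Agent.Lib.Helper6.QuatRec
import Cfsg.Agent.Lib.Helper6.QuatSylow
import Cfsg.Agent.Lib.Helper6.AutTwo
import Cfsg.Agent.S4189

set_option autoImplicit false

namespace Cfsg.Agent.Lib.Helper4

open Subgroup
open scoped Pointwise

section MetaTwoAut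

variable {X : Type*} [Group X] [Finite X]

/-- a two-generated 2-group has Frattini index at most 4 -/
theorem mta_fratt_index (hX : IsPGroup 2 X) (a b : X) (hgen : closure {a, b} = ⊤) :
    ∃ r : ℕ, r ≤ 2 ∧ (frattini X).index = 2 ^ r := by
  classical
  haveI : Fact (Nat.Prime 2) := ⟨Nat.prime_two⟩
  obtain ⟨r, hr⟩ := hX.index (frattini X)
  refine ⟨r, ?_, hr⟩
  have h1 := (Cfsg.Agent.S0014.result 2 r hX hr).2 ({a, b} : Finset X) (by
    rw [Finset.coe_insert, Finset.coe_singleton]
    exact hgen)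
  exact h1.trans Finset.card_le_two

/-- automorphisms of odd order acting trivially on the Frattini quotient of a 2-group are trivial -/
theorem mta_triv_mod_frattini (hX : IsPGroup 2 X) (α : MulAut X) (hodd : Odd (orderOf α))
    (h : ∀ x, α x * x⁻¹ ∈ frattini X) : α = 1 := by
  classical
  haveI : Fact (Nat.Prime 2) := ⟨Nat.prime_two⟩
  haveI hΦn : (frattini X).Normal := inferInstance
  obtain ⟨n, hn⟩ := IsPGroup.iff_card.1 hX
  obtain ⟨r, hr⟩ := hX.index (frattini X)
  let B : Subgroup (MulAut X) :=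
    { carrier := {β | ∀ x, β x * x⁻¹ ∈ frattini X}
      one_mem' := by
        intro x
        simp
      mul_mem' := by
        intro β γ hβ hγ x
        have h1 : (β * γ) x * x⁻¹ = (β (γ x) * (γ x)⁻¹) * (γ x * x⁻¹) := by
          rw [MulAut.mul_apply]
          group
        rw [h1]
        exact (frattini X).mul_mem (hβ _) (hγ _)
      inv_mem' := by
        intro β hβ x
        have h1 : β⁻¹ x * x⁻¹ = (β (β⁻¹ x) * (β⁻¹ x)⁻¹)⁻¹ := by
          rw [MulAut.apply_inv_self]
          group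
        rw [h1]
        exact (frattini X).inv_mem (hβ _) }
  have hB := Cfsg.Agent.S4207.result hn hr B (fun β hβ x => hβ x)
  have hαB : α ∈ B := h
  have h1 : orderOf α ∣ Nat.card B := by
    have := orderOf_dvd_natCard (⟨α, hαB⟩ : B)
    rw [Subgroup.orderOf_mk] at this
    exact this
  have h2 : orderOf α ∣ 2 ^ (r * (n - r)) := h1.trans hB
  have h3 : Nat.Coprime (orderOf α) (2 ^ (r * (n - r))) :=
    Nat.Coprime.pow_right _ ((Nat.coprime_two_right).2 hodd)
  have h4 : orderOf α = 1 := Nat.Coprime.eq_one_of_dvd h3 h2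
  exact orderOf_eq_one_iff.1 h4

/-- an automorphism of odd prime order of a two-generated 2-group has order 3 -/
theorem mta_order_three (hX : IsPGroup 2 X) (r : ℕ) (hr2 : r ≤ 2)
    (hr : (frattini X).index = 2 ^ r) (α : MulAut X) (q : ℕ) (hq : q.Prime) (hq2 : q ≠ 2)
    (hα : orderOf α = q) : r = 2 ∧ q = 3 := by
  haveI : Fact (Nat.Prime 2) := ⟨Nat.prime_two⟩
  obtain ⟨n, hn⟩ := IsPGroup.iff_card.1 hX
  have hcop : (orderOf α).Coprime 2 := by
    rw [hα]
    exact (Nat.coprime_primes hq Nat.prime_two).2 hq2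
  have h1 := Cfsg.Agent.Lib.Lead.orderOf_mulAut_dvd hn hr α hcop
  rw [hα] at h1
  have hq1 := hq.one_lt
  interval_cases r
  · exfalso
    simp at h1
    omega
  · exfalso
    simp [Finset.prod_range_succ] at h1
    omega
  · refine ⟨rfl, ?_⟩
    have h6 : q ∣ 6 := by
      simpa [Finset.prod_range_succ] using h1
    have hle : q ≤ 6 := Nat.le_of_dvd (by norm_num) h6
    interval_cases q
    · omega
    · rfl
    · exfalso; revert hq; decide
    · omega
    · exfalso; revert hq; decide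

omit [Finite X] in
theorem rel_two_mul_mem {H K : Subgroup X} (h2 : H.relIndex K = 2) {x y : X}
    (hx : x ∈ K) (hy : y ∈ K) (hxH : x ∉ H) (hyH : y ∉ H) : x * y⁻¹ ∈ H := by
  have h : (⟨x, hx⟩ : K) * (⟨y, hy⟩ : K)⁻¹ ∈ H.subgroupOf K := by
    rw [Subgroup.mul_mem_iff_of_index_two h2]
    constructor
    · intro h
      exact absurd (mem_subgroupOf.1 h) hxH
    · intro h
      rw [inv_mem_iff] at h
      exact absurd (mem_subgroupOf.1 h) hyH
  exact mem_subgroupOf.1 h

omit [Finite X] in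
theorem mta_frattini_aut (β : MulAut X) (y : X) : β y ∈ frattini X ↔ y ∈ frattini X := by
  have h := (frattini_characteristic (G := X)).fixed β
  conv_rhs => rw [← h]
  rfl

theorem odd_orderOf_of_pow_three {A : Type*} [Group A] {β : A} (h : β ^ 3 = 1) :
    Odd (orderOf β) :=
  Odd.of_dvd_nat (by decide : Odd 3) (orderOf_dvd_of_pow_eq_one h)

/-- an automorphism of order 3 of a 2-group with Frattini index 4 has no fixed point on the
Frattini quotient -/
theorem mta_claim1 (hX : IsPGroup 2 X) (hidx : (frattini X).index = 4) (α : MulAut X)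
    (hα3 : α ^ 3 = 1) (hα1 : α ≠ 1) : ∀ x, x ∉ frattini X → α x * x⁻¹ ∉ frattini X := by
  classical
  haveI : Fact (Nat.Prime 2) := ⟨Nat.prime_two⟩
  haveI hΦn : (frattini X).Normal := inferInstance
  obtain ⟨hcomm, hsq⟩ := Cfsg.Agent.S0012.result 2 hX
  intro x hx hcon
  let F : Subgroup X :=
    { carrier := {y | α y * y⁻¹ ∈ frattini X}
      one_mem' := by
        show α 1 * 1⁻¹ ∈ frattini X
        simp
      mul_mem' := by
        intro y z hy hz
        show α (y * z) * (y * z)⁻¹ ∈ frattini X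
        have h1 : α (y * z) * (y * z)⁻¹ = (α y * (α z * z⁻¹) * (α y)⁻¹) * (α y * y⁻¹) := by
          rw [map_mul]
          group
        rw [h1]
        exact (frattini X).mul_mem (hΦn.conj_mem _ hz _) hy
      inv_mem' := by
        intro y hy
        show α y⁻¹ * y⁻¹⁻¹ ∈ frattini X
        have h1 : α y⁻¹ * y⁻¹⁻¹ = (α y)⁻¹ * (α y * y⁻¹)⁻¹ * (α y)⁻¹⁻¹ := by
          rw [map_inv]
          group
        rw [h1]
        exact hΦn.conj_mem _ ((frattini X).inv_mem hy) _ }
  have hFmem : ∀ y, y ∈ F ↔ α y * y⁻¹ ∈ frattini X := fun y => Iff.rfl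
  have hΦF : frattini X ≤ F := by
    intro y hy
    rw [hFmem]
    exact (frattini X).mul_mem ((mta_frattini_aut α y).2 hy) ((frattini X).inv_mem hy)
  have hxF : x ∈ F := hcon
  have hFtop : F ≠ ⊤ := by
    intro h
    apply hα1
    apply mta_triv_mod_frattini hX α (odd_orderOf_of_pow_three hα3)
    intro y
    have : y ∈ F := by rw [h]; exact mem_top y
    exact this
  have h1 := relIndex_mul_index hΦF
  rw [hidx] at h1
  have h2 : F.index ≠ 1 := fun h => hFtop (index_eq_one.1 h)
  have h3 : (frattini X).relIndex F ≠ 1 := by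
    intro h
    rw [relIndex_eq_one] at h
    exact hx (h hxF)
  have hF2 : F.index = 2 := by
    have h4 : F.index ∣ 4 := Dvd.intro_left _ h1
    have h5 : F.index ≤ 4 := Nat.le_of_dvd (by norm_num) h4
    have h6 : (frattini X).relIndex F ≤ 4 := Nat.le_of_dvd (by norm_num) (Dvd.intro _ h1)
    interval_cases F.index <;> interval_cases (frattini X).relIndex F <;> omega
  have hFfwd : ∀ y, y ∈ F → α y ∈ F := by
    intro y hy
    rw [hFmem] at hy ⊢
    have : α (α y) * (α y)⁻¹ = α (α y * y⁻¹) := by rw [map_mul, map_inv]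
    rw [this]
    exact (mta_frattini_aut α _).2 hy
  have hα3' : ∀ y, α (α (α y)) = y := by
    intro y
    have := DFunLike.congr_fun hα3 y
    simpa [pow_succ, MulAut.mul_apply] using this
  have hFinv : ∀ y, α y ∈ F ↔ y ∈ F := by
    intro y
    constructor
    · intro h
      have := hFfwd _ (hFfwd _ h)
      rw [hα3'] at this
      exact this
    · exact hFfwd y
  have hall : ∀ y, α y * y⁻¹ ∈ F := by
    intro y
    rw [Subgroup.mul_mem_iff_of_index_two hF2, inv_mem_iff]
    exact hFinv y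
  have hα2 : α ^ 2 = 1 := by
    apply mta_triv_mod_frattini hX (α ^ 2)
    · apply odd_orderOf_of_pow_three
      rw [← pow_mul, mul_comm, pow_mul, hα3, one_pow]
    · intro y
      obtain ⟨f, hf⟩ : ∃ f : X, f = α y * y⁻¹ := ⟨_, rfl⟩
      have hfF : f ∈ F := hf ▸ hall y
      have hy : α y = f * y := by rw [hf]; group
      have h5 : (α ^ 2) y * y⁻¹ = (α f * f⁻¹) * f ^ 2 := by
        rw [pow_two, MulAut.mul_apply, hy, map_mul, hy]
        group
      rw [h5]
      exact (frattini X).mul_mem ((hFmem f).1 hfF) (hsq f)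
  apply hα1
  calc α = α ^ 3 * (α ^ 2)⁻¹ := by group
    _ = 1 := by rw [hα3, hα2, inv_one, one_mul]

/-- generation by `a` and its image -/
theorem mta_gen (hX : IsPGroup 2 X) (hidx : (frattini X).index = 4) (α : MulAut X)
    (hcl : ∀ x, x ∉ frattini X → α x * x⁻¹ ∉ frattini X) (a : X) (ha : a ∉ frattini X) :
    closure {a, α a} = ⊤ := by
  haveI : Fact (Nat.Prime 2) := ⟨Nat.prime_two⟩
  by_contra hW
  have h1 : closure {a, α a} ⊔ frattini X ≠ ⊤ := fun h => hW (frattini_nongenerating h)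
  obtain ⟨M, hM, hle⟩ := (eq_top_or_exists_le_coatom _).resolve_left h1
  haveI := Cfsg.Agent.Lib.Helper1.coatom_normal_of_isPGroup hX hM
  have hMidx : M.index = 2 := by
    rw [index_eq_card]
    exact Cfsg.Agent.Lib.Helper1.card_quotient_coatom_of_isPGroup hX hM
  have hΦM : frattini X ≤ M := frattini_le_coatom hM
  have hrel : (frattini X).relIndex M = 2 := by
    have := relIndex_mul_index hΦM
    rw [hMidx, hidx] at this
    omega
  have haM : a ∈ M := hle (le_sup_left (a := closure {a, α a}) (subset_closure (by simp)))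
  have hαaM : α a ∈ M := hle (le_sup_left (a := closure {a, α a}) (subset_closure (by simp)))
  have hαaΦ : α a ∉ frattini X := fun h => ha ((mta_frattini_aut α a).1 h)
  exact hcl a ha (rel_two_mul_mem hrel hαaM haM hαaΦ ha)

omit [Finite X] in
/-- an automorphism of order dividing 3 fixes an element of 2-power order which it maps into
its cyclic group -/
theorem aut_fix_cyclic_two (α : MulAut X) (hα3 : ∀ y, α (α (α y)) = y) (u : X) (k : ℕ)
    (hu : orderOf u = 2 ^ k) (h : α u ∈ zpowers u) : α u = u := by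
  have hfin : IsOfFinOrder u := orderOf_pos_iff.1 (by rw [hu]; positivity)
  obtain ⟨j, hj⟩ := (Submonoid.mem_powers_iff _ _).1 ((hfin.mem_powers_iff_mem_zpowers).2 h)
  have h2 : α (α u) = u ^ (j * j) := by rw [← hj, map_pow, ← hj, ← pow_mul]
  have h3 : u ^ (j * j * j) = u := by
    have := hα3 u
    rw [h2, map_pow, ← hj, ← pow_mul] at this
    rw [mul_assoc]
    exact this
  rcases Nat.eq_zero_or_pos j with hj0 | hjpos
  · rw [hj0, pow_zero] at hj
    have h4 : u = 1 := by
      have h5 : α u = α 1 := by rw [← hj, map_one]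
      exact α.injective h5
    rw [h4, map_one]
  · have hge : 1 ≤ j * j * j := Nat.mul_pos (Nat.mul_pos hjpos hjpos) hjpos
    have h4 : u ^ (j * j * j - 1) = 1 := by
      have : u ^ (j * j * j - 1) * u = 1 * u := by
        rw [← pow_succ, Nat.sub_add_cancel hge, one_mul]
        exact h3
      exact mul_right_cancel this
    have h5 : 2 ^ k ∣ j * j * j - 1 := by
      rw [← hu]
      exact orderOf_dvd_of_pow_eq_one h4
    have h6 : j * j * j - 1 = (j - 1) * (j * j + j + 1) := by
      obtain ⟨i, rfl⟩ : ∃ i, j = i + 1 := ⟨j - 1, by omega⟩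
      simp only [Nat.add_sub_cancel]
      have : (i + 1) * (i + 1) * (i + 1) = i * ((i + 1) * (i + 1) + (i + 1) + 1) + 1 := by ring
      rw [this, Nat.add_sub_cancel]
    rw [h6] at h5
    have hodd : Odd (j * j + j + 1) := by
      have : Even (j * j + j) := by
        have h7 : j * j + j = j * (j + 1) := by ring
        rw [h7]
        exact Nat.even_mul_succ_self j
      exact this.add_one
    have h7 : 2 ^ k ∣ j - 1 := by
      apply Nat.Coprime.dvd_of_dvd_mul_right _ h5
      exact Nat.Coprime.pow_left k ((Nat.coprime_two_left).2 hodd)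
    have h8 : u ^ (j - 1) = 1 := by
      rw [← hu] at h7
      exact orderOf_dvd_iff_pow_eq_one.1 h7
    calc α u = u ^ j := hj.symm
      _ = u ^ (j - 1) * u := by rw [← pow_succ, Nat.sub_add_cancel hjpos]
      _ = u := by rw [h8, one_mul]

/-- the core computation -/
theorem mta_core (hX : IsPGroup 2 X) (α : MulAut X) (hα3 : α ^ 3 = 1) (a : X)
    (hN : (zpowers a).Normal) (hgen : closure {a, α a} = ⊤)
    (hpar : ∀ x y : ℕ, α (α a) = a ^ x * (α a) ^ y → Odd x ∧ Odd y) :
    (zpowers a ⊓ zpowers (α a) = ⊥) ∨ (Nat.card X = 8 ∧ ∃ g h : X, g * h ≠ h * g) := by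
  classical
  haveI : Fact (Nat.Prime 2) := ⟨Nat.prime_two⟩
  have hα3' : ∀ y, α (α (α y)) = y := by
    intro y
    have := DFunLike.congr_fun hα3 y
    simpa [pow_succ, MulAut.mul_apply] using this
  obtain ⟨a₂, ha₂⟩ : ∃ a₂ : X, a₂ = α a := ⟨_, rfl⟩
  obtain ⟨a₃, ha₃⟩ : ∃ a₃ : X, a₃ = α a₂ := ⟨_, rfl⟩
  rw [← ha₂] at hgen hpar ⊢
  rw [← ha₃] at hpar
  have hN₂ : (zpowers a₂).Normal := by
    have : zpowers a₂ = (zpowers a).map α.toMonoidHom := by
      rw [MonoidHom.map_zpowers, ha₂]
      rfl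
    rw [this]
    exact hN.map _ α.surjective
  have hsup : zpowers a ⊔ zpowers a₂ = ⊤ := by
    rw [← hgen, zpowers_eq_closure, zpowers_eq_closure, ← Subgroup.closure_union]
    rfl
  obtain ⟨s, hs⟩ := (IsPGroup.iff_orderOf.1 hX) a
  have hs₂ : orderOf a₂ = 2 ^ s := by rw [ha₂, MulEquiv.orderOf_eq, hs]
  obtain ⟨t, ht⟩ := IsPGroup.iff_card.1 hX
  have hc1 : Nat.card (zpowers a) = 2 ^ s := by rw [Nat.card_zpowers, hs]
  have hc2 : Nat.card (zpowers a₂) = 2 ^ s := by rw [Nat.card_zpowers, hs₂]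
  obtain ⟨Z, hZdef⟩ : ∃ Z : Subgroup X, Z = zpowers a ⊓ zpowers a₂ := ⟨_, rfl⟩
  obtain ⟨z, hz⟩ := IsPGroup.iff_card.1 (hX.to_subgroup Z)
  have hprod := Cfsg.Agent.Lib.Helper2.card_sup_mul_card_inf (zpowers a) (zpowers a₂)
    (by rw [normalizer_eq_top]; exact le_top)
  rw [hsup, Subgroup.card_top, ← hZdef, ht, hz, hc1, hc2, ← pow_add, ← pow_add] at hprod
  have htz : t + z = s + s := Nat.pow_right_injective (le_refl 2) hprod
  obtain ⟨m, hm⟩ := hX.index (zpowers a₂)
  obtain ⟨m', hm'⟩ := hX.index (zpowers a)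
  have hsm : s + m = t := by
    have := (zpowers a₂).card_mul_index
    rw [hc2, hm, ht, ← pow_add] at this
    exact Nat.pow_right_injective (le_refl 2) this
  have hsm' : s + m' = t := by
    have := (zpowers a).card_mul_index
    rw [hc1, hm', ht, ← pow_add] at this
    exact Nat.pow_right_injective (le_refl 2) this
  have hmm : m' = m := by omega
  rw [hmm] at hm'
  have hmz : m + z = s := by omega
  obtain ⟨u, hudef⟩ : ∃ u : X, u = a ^ 2 ^ m := ⟨_, rfl⟩
  obtain ⟨u₂, hu₂def⟩ : ∃ u₂ : X, u₂ = a₂ ^ 2 ^ m := ⟨_, rfl⟩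
  have huN₂ : u ∈ zpowers a₂ := by
    rw [hudef, ← hm]
    exact (zpowers a₂).pow_index_mem a
  have hu₂N₁ : u₂ ∈ zpowers a := by
    rw [hu₂def, ← hm']
    exact (zpowers a).pow_index_mem a₂
  have huZ : u ∈ Z := by
    rw [hZdef]
    exact ⟨by rw [hudef]; exact Subgroup.pow_mem _ (mem_zpowers a) _, huN₂⟩
  have hu₂Z : u₂ ∈ Z := by
    rw [hZdef]
    exact ⟨hu₂N₁, by rw [hu₂def]; exact Subgroup.pow_mem _ (mem_zpowers a₂) _⟩
  have hou : orderOf u = 2 ^ z := by
    rw [hudef, orderOf_pow_of_dvd (pow_ne_zero _ (by norm_num)) (by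
      rw [hs]; exact pow_dvd_pow 2 (by omega)), hs, Nat.pow_div (by omega) (by norm_num)]
    congr 1
    omega
  have hZu : zpowers u = Z := by
    apply Subgroup.eq_of_le_of_card_ge
    · rw [zpowers_le]; exact huZ
    · rw [Nat.card_zpowers, hou, hz]
  have hαu : α u = u₂ := by rw [hudef, hu₂def, map_pow, ha₂]
  have hαu' : α u = u := by
    apply aut_fix_cyclic_two α hα3' u z hou
    rw [hαu, hZu]
    exact hu₂Z
  have hu₂u : u₂ = u := by rw [← hαu, hαu']
  have hu₃ : a₃ ^ 2 ^ m = u := by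
    rw [ha₃, ← map_pow, ← hu₂def, hu₂u, hαu']
  have hua : Commute u a := by
    rw [hudef]
    exact (Commute.refl a).pow_left _
  have hua₂ : Commute u a₂ := by
    rw [← hu₂u, hu₂def]
    exact (Commute.refl a₂).pow_left _
  -- decomposition of a₃
  have ha₃mem : a₃ ∈ ((zpowers a : Subgroup X) : Set X) * ((zpowers a₂ : Subgroup X) : Set X) := by
    rw [← Subgroup.normal_mul, hsup]
    exact Set.mem_univ _
  obtain ⟨g, hg, h, hh, hgh⟩ := Set.mem_mul.1 ha₃mem
  obtain ⟨x, hx⟩ := (Submonoid.mem_powers_iff _ _).1 (mem_powers_iff_mem_zpowers.2 hg)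
  obtain ⟨y, hy⟩ := (Submonoid.mem_powers_iff _ _).1 (mem_powers_iff_mem_zpowers.2 hh)
  obtain ⟨hxodd, hyodd⟩ := hpar x y (by rw [hx, hy, hgh])
  obtain ⟨c, hcdef⟩ : ∃ c : X, c = h * g * h⁻¹ * g⁻¹ := ⟨_, rfl⟩
  have hcZ : c ∈ Z := by
    rw [hZdef, hcdef]
    constructor
    · exact Subgroup.mul_mem _ (hN.conj_mem g hg h) (Subgroup.inv_mem _ hg)
    · have : h * g * h⁻¹ * g⁻¹ = h * (g * h⁻¹ * g⁻¹) := by group
      rw [this]
      exact Subgroup.mul_mem _ hh (hN₂.conj_mem _ (Subgroup.inv_mem _ hh) g)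
  rw [← hZu] at hcZ
  obtain ⟨k, hk⟩ := mem_zpowers_iff.1 hcZ
  have hug : Commute u g := by rw [← hx]; exact hua.pow_right x
  have huh : Commute u h := by rw [← hy]; exact hua₂.pow_right y
  have hcg : Commute c g := by rw [← hk]; exact hug.zpow_left k
  have hch : Commute c h := by rw [← hk]; exact huh.zpow_left k
  have hc : h * g = c * g * h := by rw [hcdef]; group
  have E1 := Cfsg.Agent.Lib.Helper9.mul_pow_of_comm hc hcg hch (2 ^ m)
  have E2 := Cfsg.Agent.Lib.Helper9.pow_mul_of_comm hc hch (2 ^ m)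
  have hgn : g ^ 2 ^ m = u ^ x := by
    rw [← hx, hudef, ← pow_mul, ← pow_mul, mul_comm]
  have hhn : h ^ 2 ^ m = u ^ y := by
    rw [← hy, ← hu₂u, hu₂def, ← pow_mul, ← pow_mul, mul_comm]
  rw [hgh, hu₃, hgn, hhn] at E1
  rw [hhn] at E2
  have hcn : c ^ 2 ^ m = 1 := by
    have h1 : u ^ y * g = g * u ^ y := (hug.pow_left y).eq
    rw [h1, mul_assoc] at E2
    have h2 : 1 * (g * u ^ y) = c ^ 2 ^ m * (g * u ^ y) := by rw [one_mul]; exact E2
    exact (mul_right_cancel h2).symm
  by_cases hu1 : u = 1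
  · left
    rw [← hZdef, ← hZu, hu1, zpowers_one_eq_bot]
  right
  obtain ⟨n, hn⟩ : ∃ n : ℕ, n = 2 ^ m := ⟨_, rfl⟩
  rw [← hn] at E1 hcn
  have hC : 2 * n.choose 2 = n * (n - 1) := by
    rw [Nat.choose_two_right]
    exact Nat.two_mul_div_two_of_even (Nat.even_mul_pred_self n)
  obtain ⟨v, hvdef⟩ : ∃ v : X, v = c ^ n.choose 2 := ⟨_, rfl⟩
  have hv2 : v ^ 2 = 1 := by
    rw [hvdef, ← pow_mul, mul_comm, hC, pow_mul, hcn, one_pow]
  obtain ⟨w, hw⟩ : ∃ w : ℕ, x + y = w + 1 := by
    obtain ⟨x', rfl⟩ := hxodd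
    exact ⟨2 * x' + y, by ring⟩
  have hwodd : Odd w := by
    obtain ⟨x', rfl⟩ := hxodd
    obtain ⟨y', rfl⟩ := hyodd
    exact ⟨x' + y', by omega⟩
  have hvw : v * u ^ w = 1 := by
    rw [← hvdef, mul_assoc, ← pow_add, hw, pow_succ, ← mul_assoc] at E1
    have h2 : 1 * u = v * u ^ w * u := by rw [one_mul]; exact E1
    exact (mul_right_cancel h2).symm
  have huw : u ^ w = v⁻¹ := eq_inv_of_mul_eq_one_right hvw
  have huw2 : u ^ (w * 2) = 1 := by
    rw [pow_mul, huw, inv_pow, hv2, inv_one]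
  have hz1 : z = 1 := by
    have h1 : 2 ^ z ∣ w * 2 := by rw [← hou]; exact orderOf_dvd_of_pow_eq_one huw2
    have h2 : 2 ^ z ∣ 2 := by
      apply Nat.Coprime.dvd_of_dvd_mul_left _ h1
      exact Nat.Coprime.pow_left z ((Nat.coprime_two_left).2 hwodd)
    have h3 : z ≠ 0 := by
      intro h0
      rw [h0, pow_zero] at hou
      exact hu1 (orderOf_eq_one_iff.1 hou)
    have h4 : 2 ^ z ≤ 2 := Nat.le_of_dvd (by norm_num) h2
    have h5 : z < 2 := by
      by_contra h6
      have : 2 ^ 2 ≤ 2 ^ z := Nat.pow_le_pow_right (by norm_num) (by omega)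
      omega
    omega
  rw [hz1, pow_one] at hou
  have hu2 : u ^ 2 = 1 := by rw [← hou]; exact pow_orderOf_eq_one u
  have hc2' : c ^ 2 = 1 := by
    rw [← hk, ← zpow_natCast, ← zpow_mul, mul_comm, zpow_mul, zpow_natCast, hu2, one_zpow]
  have huw1 : u ^ w ≠ 1 := by
    intro h
    have := orderOf_dvd_of_pow_eq_one h
    rw [hou] at this
    obtain ⟨w', rfl⟩ := hwodd
    omega
  rcases Nat.lt_or_ge m 1 with hm0 | hm1
  · exfalso
    have hm0' : m = 0 := by omega
    rw [hm0', pow_zero, pow_one] at hudef hu₂def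
    have h1 : a₂ = a := by rw [← hu₂def, hu₂u, hudef]
    have h2 : a₃ = a ^ 1 * a₂ ^ 0 := by
      rw [pow_one, pow_zero, mul_one, ha₃, h1, ← ha₂, h1]
    have := (hpar 1 0 h2).2
    revert this
    decide
  rcases Nat.lt_or_ge 1 m with hm2 | hm1'
  · exfalso
    apply huw1
    rw [huw, inv_eq_one, hvdef]
    have heven : Even (n.choose 2) := by
      obtain ⟨m'', rfl⟩ : ∃ m'', m = m'' + 2 := ⟨m - 2, by omega⟩
      have h1 : n = 4 * 2 ^ m'' := by rw [hn, pow_add]; ring
      have h2 : 2 * n.choose 2 = 2 * (2 * 2 ^ m'' * (n - 1)) := by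
        rw [hC]
        nth_rewrite 1 [h1]
        ring
      have h3 : n.choose 2 = 2 * 2 ^ m'' * (n - 1) := Nat.eq_of_mul_eq_mul_left (by norm_num) h2
      rw [h3, mul_assoc]
      exact even_two_mul _
    obtain ⟨C', hC'⟩ := heven
    rw [hC', ← two_mul, pow_mul, hc2', one_pow]
  have hm1'' : m = 1 := by omega
  refine ⟨?_, h, g, ?_⟩
  · rw [ht, ← hsm, ← hmz, hm1'', hz1]
    norm_num
  · intro hcomm
    apply huw1
    rw [huw, inv_eq_one, hvdef]
    have : c = 1 := by rw [hcdef, hcomm]; group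
    rw [this, one_pow]

open Cfsg.Agent.Lib.Helper6 in
/-- the homocyclic case -/
theorem mta_homocyclic (a a₂ : X) (s : ℕ) (hs : orderOf a = 2 ^ s) (hs₂ : orderOf a₂ = 2 ^ s)
    (hN : (zpowers a).Normal) (hN₂ : (zpowers a₂).Normal)
    (hsup : zpowers a ⊔ zpowers a₂ = ⊤) (hinf : zpowers a ⊓ zpowers a₂ = ⊥) :
    Nonempty (X ≃* Multiplicative (ZMod (2 ^ s)) × Multiplicative (ZMod (2 ^ s))) := by
  classical
  have hcomm : Commute a a₂ :=
    Subgroup.commute_of_normal_of_disjoint _ _ hN hN₂ (disjoint_iff.2 hinf) a a₂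
      (mem_zpowers a) (mem_zpowers a₂)
  obtain ⟨n, hn⟩ : ∃ n : ℕ, n = 2 ^ s := ⟨_, rfl⟩
  rw [← hn] at hs hs₂ ⊢
  haveI : NeZero n := ⟨by rw [hn]; positivity⟩
  let f : Multiplicative (ZMod n) × Multiplicative (ZMod n) →* X := MonoidHom.mk'
    (fun p => zpN n a (Multiplicative.toAdd p.1) * zpN n a₂ (Multiplicative.toAdd p.2)) (by
      intro p q
      show zpN n a (Multiplicative.toAdd (p * q).1) * zpN n a₂ (Multiplicative.toAdd (p * q).2)
        = zpN n a (Multiplicative.toAdd p.1) * zpN n a₂ (Multiplicative.toAdd p.2)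
          * (zpN n a (Multiplicative.toAdd q.1) * zpN n a₂ (Multiplicative.toAdd q.2))
      rw [Prod.fst_mul, Prod.snd_mul, toAdd_mul, toAdd_mul, zpN_add hs, zpN_add hs₂]
      have hc : Commute (zpN n a₂ (Multiplicative.toAdd p.2))
          (zpN n a (Multiplicative.toAdd q.1)) := by
        unfold zpN
        exact (hcomm.zpow_zpow _ _).symm
      calc zpN n a (Multiplicative.toAdd p.1) * zpN n a (Multiplicative.toAdd q.1) *
            (zpN n a₂ (Multiplicative.toAdd p.2) * zpN n a₂ (Multiplicative.toAdd q.2))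
          = zpN n a (Multiplicative.toAdd p.1) * (zpN n a (Multiplicative.toAdd q.1) *
            zpN n a₂ (Multiplicative.toAdd p.2)) * zpN n a₂ (Multiplicative.toAdd q.2) := by
            group
        _ = zpN n a (Multiplicative.toAdd p.1) * (zpN n a₂ (Multiplicative.toAdd p.2) *
            zpN n a (Multiplicative.toAdd q.1)) * zpN n a₂ (Multiplicative.toAdd q.2) := by
            rw [hc.eq]
        _ = _ := by group)
  have hf : ∀ p, f p = zpN n a (Multiplicative.toAdd p.1) * zpN n a₂ (Multiplicative.toAdd p.2) :=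
    fun p => rfl
  have hinj : Function.Injective f := by
    rw [injective_iff_map_eq_one]
    intro p hp
    rw [hf] at hp
    have h1 : zpN n a (Multiplicative.toAdd p.1) ∈ zpowers a ⊓ zpowers a₂ := by
      refine ⟨zpN_mem_zpowers _ _ _, ?_⟩
      rw [eq_inv_of_mul_eq_one_left hp]
      exact Subgroup.inv_mem _ (zpN_mem_zpowers _ _ _)
    rw [hinf, mem_bot] at h1
    have h2 : zpN n a₂ (Multiplicative.toAdd p.2) = 1 := by
      rw [h1, one_mul] at hp
      exact hp
    have h3 := zpN_eq_one hs _ h1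
    have h4 := zpN_eq_one hs₂ _ h2
    apply Prod.ext
    · exact h3
    · exact h4
  have hcard : Nat.card X = n * n := by
    have := Cfsg.Agent.Lib.Helper2.card_sup_mul_card_inf (zpowers a) (zpowers a₂)
      (by rw [normalizer_eq_top]; exact le_top)
    rw [hsup, hinf, Subgroup.card_top, Subgroup.card_bot, mul_one, Nat.card_zpowers,
      Nat.card_zpowers, hs, hs₂] at this
    exact this
  have hbij : Function.Bijective f := by
    rw [Nat.bijective_iff_injective_and_card]
    refine ⟨hinj, ?_⟩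
    rw [hcard, Nat.card_prod]
    have : Nat.card (Multiplicative (ZMod n)) = n := by
      rw [Nat.card_congr Multiplicative.toAdd, Nat.card_zmod]
    rw [this]
  exact ⟨(MulEquiv.ofBijective f hbij).symm⟩

open scoped commutatorElement in
/-- main theorem on metacyclic 2-groups with an automorphism of odd order -/
theorem mta_main (hX : IsPGroup 2 X) (N : Subgroup X) (hN : N.Normal) (hNc : IsCyclic N)
    (hQc : IsCyclic (X ⧸ N)) (hA : ¬ IsPGroup 2 (MulAut X)) :
    Nonempty (X ≃* QuaternionGroup 2) ∨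
      ∃ n : ℕ, Nonempty (X ≃* Multiplicative (ZMod (2 ^ n)) × Multiplicative (ZMod (2 ^ n))) := by
  classical
  haveI : Fact (Nat.Prime 2) := ⟨Nat.prime_two⟩
  haveI hΦn : (frattini X).Normal := inferInstance
  obtain ⟨hcommΦ, hsq⟩ := Cfsg.Agent.S0012.result 2 hX
  obtain ⟨a, haN, hNa⟩ := Cfsg.Agent.Lib.Helper6.exists_zpowers_eq_of_isCyclic N hNc
  obtain ⟨gq, hgq⟩ := hQc.exists_generator
  obtain ⟨b, rfl⟩ := QuotientGroup.mk_surjective gq
  have hgenab : closure {a, b} = ⊤ := by
    rw [eq_top_iff]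
    intro x _
    obtain ⟨k, hk⟩ := mem_zpowers_iff.1 (hgq (QuotientGroup.mk x))
    rw [← QuotientGroup.mk_zpow, QuotientGroup.eq] at hk
    have h1 : x = b ^ k * ((b ^ k)⁻¹ * x) := by group
    rw [h1]
    apply Subgroup.mul_mem
    · exact Subgroup.zpow_mem _ (subset_closure (by simp)) k
    · rw [hNa] at hk
      have : zpowers a ≤ closure {a, b} := by
        rw [zpowers_le]
        exact subset_closure (by simp)
      exact this hk
  obtain ⟨q, α, hq, hq2, hαq⟩ : ∃ (q : ℕ) (α : MulAut X), q.Prime ∧ q ≠ 2 ∧ orderOf α = q := by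
    by_contra hcon
    apply hA
    apply Cfsg.Agent.Lib.Helper6.isPGroup_two_of_no_odd_prime
    intro q β h1 h2 h3
    exact hcon ⟨q, β, h1, h2, h3⟩
  obtain ⟨r, hr2, hr⟩ := mta_fratt_index hX a b hgenab
  obtain ⟨hr2', hq3⟩ := mta_order_three hX r hr2 hr α q hq hq2 hαq
  have hidx : (frattini X).index = 4 := by rw [hr, hr2']; norm_num
  have hα3 : α ^ 3 = 1 := by rw [← hq3, ← hαq]; exact pow_orderOf_eq_one α
  have hα1 : α ≠ 1 := by
    intro h
    rw [h, orderOf_one] at hαq
    omega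
  have hα3' : ∀ y, α (α (α y)) = y := by
    intro y
    have := DFunLike.congr_fun hα3 y
    simpa [pow_succ, MulAut.mul_apply] using this
  have hcl := mta_claim1 hX hidx α hα3 hα1
  have haΦ : a ∉ frattini X := by
    intro ha
    have h1 : closure {b} ⊔ frattini X = ⊤ := by
      rw [eq_top_iff, ← hgenab, closure_le]
      intro x hx
      rcases hx with rfl | hx
      · exact (le_sup_right : frattini X ≤ closure {b} ⊔ frattini X) ha
      · rw [Set.mem_singleton_iff] at hx
        rw [hx]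
        exact (le_sup_left : closure {b} ≤ closure {b} ⊔ frattini X) (subset_closure rfl)
    have h2 := frattini_nongenerating h1
    have h3 := (Cfsg.Agent.S0014.result 2 2 hX (by rw [hidx]; norm_num)).2 ({b} : Finset X) (by
      rw [Finset.coe_singleton]
      exact h2)
    simp at h3
  have hgen := mta_gen hX hidx α hcl a haΦ
  have hNn : (zpowers a).Normal := hNa ▸ hN
  have ha₂Φ : α a ∉ frattini X := fun h => haΦ ((mta_frattini_aut α a).1 h)
  have ha₃Φ : α (α a) ∉ frattini X := fun h => ha₂Φ ((mta_frattini_aut α _).1 h)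
  have hevenΦ : ∀ (g : X) (k : ℕ), Even k → g ^ k ∈ frattini X := by
    intro g k hk
    obtain ⟨k', rfl⟩ := hk
    rw [← two_mul, mul_comm, pow_mul]
    exact hsq _
  have hpar : ∀ x y : ℕ, α (α a) = a ^ x * (α a) ^ y → Odd x ∧ Odd y := by
    intro x y hxy
    rcases Nat.even_or_odd x with hx | hx
    · exfalso
      rcases Nat.even_or_odd y with hy | hy
      · apply ha₃Φ
        rw [hxy]
        exact Subgroup.mul_mem _ (hevenΦ a x hx) (hevenΦ _ y hy)
      · obtain ⟨y', rfl⟩ := hy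
        apply hcl (α a) ha₂Φ
        rw [hxy, pow_succ]
        have : a ^ x * ((α a) ^ (2 * y') * α a) * (α a)⁻¹ = a ^ x * (α a) ^ (2 * y') := by group
        rw [this]
        exact Subgroup.mul_mem _ (hevenΦ a x hx) (hevenΦ _ _ (even_two_mul y'))
    · rcases Nat.even_or_odd y with hy | hy
      · exfalso
        obtain ⟨x', rfl⟩ := hx
        apply hcl (α (α a)) ha₃Φ
        rw [hα3']
        have h1 : a * (α (α a))⁻¹ = (α (α a) * a⁻¹)⁻¹ := by group
        rw [h1]
        apply Subgroup.inv_mem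
        rw [hxy, pow_succ]
        have h2 : a ^ (2 * x') * a * (α a) ^ y * a⁻¹ = a ^ (2 * x') * (a * (α a) ^ y * a⁻¹) := by
          group
        rw [h2]
        exact Subgroup.mul_mem _ (hevenΦ a _ (even_two_mul x')) (hΦn.conj_mem _ (hevenΦ _ y hy) a)
      · exact ⟨hx, hy⟩
  rcases mta_core hX α hα3 a hNn hgen hpar with hinf | ⟨hcard8, g, h, hgh⟩
  · right
    obtain ⟨s, hs⟩ := (IsPGroup.iff_orderOf.1 hX) a
    have hs₂ : orderOf (α a) = 2 ^ s := by rw [MulEquiv.orderOf_eq, hs]
    have hN₂ : (zpowers (α a)).Normal := by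
      have : zpowers (α a) = (zpowers a).map α.toMonoidHom := by
        rw [MonoidHom.map_zpowers]
        rfl
      rw [this]
      exact hNn.map _ α.surjective
    have hsup : zpowers a ⊔ zpowers (α a) = ⊤ := by
      rw [← hgen, zpowers_eq_closure, zpowers_eq_closure, ← Subgroup.closure_union]
      rfl
    exact ⟨s, mta_homocyclic a (α a) s hs hs₂ hNn hN₂ hsup hinf⟩
  · left
    have hna : ¬ IsMulCommutative X := by
      intro hc
      exact hgh (hc.is_comm.comm g h)
    have hΦ2 : Nat.card (frattini X) = 2 := by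
      have := (frattini X).card_mul_index
      rw [hidx, hcard8] at this
      omega
    have hne : commutator X ≠ ⊥ := by
      intro hbot
      apply hgh
      have h1 : ⁅g, h⁆ ∈ commutator X := by
        rw [commutator_def]
        exact Subgroup.commutator_mem_commutator (mem_top g) (mem_top h)
      rw [hbot, mem_bot, commutatorElement_eq_one_iff_mul_comm] at h1
      exact h1
    have hcd : Nat.card (commutator X) = 2 := by
      have h1 : Nat.card (commutator X) ∣ 2 := by
        rw [← hΦ2]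
        exact Subgroup.card_dvd_of_le hcommΦ
      have h2 : Nat.card (commutator X) ≠ 1 := by
        intro h
        exact hne (Subgroup.card_eq_one.1 h)
      have h3 : Nat.card (commutator X) ≤ 2 := Nat.le_of_dvd (by norm_num) h1
      have h4 : 0 < Nat.card (commutator X) := Nat.card_pos
      omega
    have h4 : (commutator X).index = 4 := by
      have := (commutator X).card_mul_index
      rw [hcd, hcard8] at this
      omega
    exact Cfsg.Agent.S4189.result hX hna h4 hA

end MetaTwoAut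

end Cfsg.Agent.Lib.Helper4
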