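import Mathlib

set_option autoImplicit false

namespace Cfsg.Agent.Lib.Helper4

open Finset

/-- reindexing the geometric sum by multiplication with a unit mod `p`. -/
theorem sum_pow_mul_eq {R : Type*} [Monoid R] [AddCommMonoid R] (p : ℕ) (hp : p.Prime) (s : R)
    (hs : s ^ p = 1) (i : ℕ) (hi0 : 0 < i) (hip : i < p) :
    ∑ k ∈ range p, s ^ (k * i) = ∑ k ∈ range p, s ^ k := by
  have hcop : Nat.gcd p i = 1 :=
    (Nat.Prime.coprime_iff_not_dvd hp).2 (Nat.not_dvd_of_pos_of_lt hi0 hip)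
  have hinj : Set.InjOn (fun k => k * i % p) (range p : Set ℕ) := by
    intro k hk k' hk' h
    simp only [coe_range, Set.mem_Iio] at hk hk'
    have h1 : k * i ≡ k' * i [MOD p] := h
    have h2 : k ≡ k' [MOD p] := Nat.ModEq.cancel_right_of_coprime hcop h1
    exact Nat.ModEq.eq_of_lt_of_lt h2 hk hk'
  have himg : (range p).image (fun k => k * i % p) = range p := by
    apply Finset.eq_of_subset_of_card_le
    · intro j hj
      rw [mem_image] at hj
      obtain ⟨k, -, rfl⟩ := hj
      rw [mem_range]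
      exact Nat.mod_lt _ hp.pos
    · rw [Finset.card_image_of_injOn hinj]
  calc ∑ k ∈ range p, s ^ (k * i) = ∑ k ∈ range p, s ^ (k * i % p) := by
        apply Finset.sum_congr rfl
        intro k _
        exact pow_eq_pow_mod _ hs
    _ = ∑ j ∈ (range p).image (fun k => k * i % p), s ^ j := by
        rw [Finset.sum_image hinj]
    _ = ∑ k ∈ range p, s ^ k := by rw [himg]

/-- The basic identity behind the `C_p × C_p` norm trick. -/
theorem norm_ring_identity {R : Type*} [Ring R] (p : ℕ) (hp : p.Prime) (s t : R)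
    (hst : Commute s t) (hs : s ^ p = 1) :
    ∑ k ∈ range p, ∑ i ∈ range p, (t * s ^ k) ^ i
      = (p : R) + (∑ i ∈ range p, t ^ i - 1) * ∑ k ∈ range p, s ^ k := by
  obtain ⟨q, rfl⟩ : ∃ q, p = q + 1 := ⟨p - 1, (Nat.succ_pred_eq_of_pos hp.pos).symm⟩
  have h1 : ∀ k i : ℕ, (t * s ^ k) ^ i = t ^ i * s ^ (k * i) := by
    intro k i
    rw [(hst.symm.pow_right k).mul_pow, ← pow_mul]
  calc ∑ k ∈ range (q + 1), ∑ i ∈ range (q + 1), (t * s ^ k) ^ i
      = ∑ i ∈ range (q + 1), t ^ i * ∑ k ∈ range (q + 1), s ^ (k * i) := by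
        rw [Finset.sum_comm]
        apply Finset.sum_congr rfl
        intro i _
        rw [Finset.mul_sum]
        apply Finset.sum_congr rfl
        intro k _
        exact h1 k i
    _ = ∑ i ∈ range q, t ^ (i + 1) * ∑ k ∈ range (q + 1), s ^ k + ((q + 1 : ℕ) : R) := by
        rw [Finset.sum_range_succ']
        congr 1
        · apply Finset.sum_congr rfl
          intro i hi
          rw [mem_range] at hi
          rw [sum_pow_mul_eq (q + 1) hp s hs (i + 1) (Nat.succ_pos i) (by omega)]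
        · simp
    _ = ((q + 1 : ℕ) : R) + (∑ i ∈ range (q + 1), t ^ i - 1) * ∑ k ∈ range (q + 1), s ^ k := by
        rw [Finset.sum_range_succ' (fun i => t ^ i), pow_zero, add_sub_cancel_right,
          Finset.sum_mul, add_comm]

theorem end_sum_apply {M : Type*} [AddCommGroup M] (f : ℕ → AddMonoid.End M) (S : Finset ℕ)
    (m : M) : (∑ i ∈ S, f i) m = ∑ i ∈ S, f i m := by
  classical
  induction S using Finset.induction_on with
  | empty => simp
  | insert a S ha ih =>
    rw [Finset.sum_insert ha, Finset.sum_insert ha]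
    show f a m + (∑ i ∈ S, f i) m = _
    rw [ih]

/-- The norm trick: two commuting operators of order `p` all of whose "diagonal" norms land in
`Z`, on which `t` acts trivially, force `p • M ≤ Z`. -/
theorem norm_trick {M : Type*} [AddCommGroup M] (p : ℕ) (hp : p.Prime) (s t : AddMonoid.End M)
    (hst : Commute s t) (hs : s ^ p = 1) (Z : AddSubgroup M)
    (h1 : ∀ m, (∑ i ∈ range p, s ^ i) m ∈ Z)
    (h2 : ∀ k, ∀ m, (∑ i ∈ range p, (t * s ^ k) ^ i) m ∈ Z)
    (h3 : ∀ z ∈ Z, t z = z) (m : M) : p • m ∈ Z := by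
  have hid := norm_ring_identity p hp s t hst hs
  have hid' : (∑ k ∈ range p, ∑ i ∈ range p, (t * s ^ k) ^ i) m
      = ((p : AddMonoid.End M) + (∑ i ∈ range p, t ^ i - 1) * ∑ k ∈ range p, s ^ k) m := by
    rw [hid]
  have ht : ∀ (i : ℕ), ∀ z ∈ Z, (t ^ i) z = z := by
    intro i
    induction i with
    | zero => intro z _; simp
    | succ n ih =>
      intro z hz
      rw [pow_succ]
      show (t ^ n) (t z) = z
      rw [h3 z hz, ih z hz]
  set n := (∑ k ∈ range p, s ^ k) m with hn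
  have hnZ : n ∈ Z := h1 m
  have e1 : ((p : AddMonoid.End M) + (∑ i ∈ range p, t ^ i - 1) * ∑ k ∈ range p, s ^ k) m
      = p • m + ((∑ i ∈ range p, t ^ i) n - n) := by
    show (p : AddMonoid.End M) m + (∑ i ∈ range p, t ^ i - 1) ((∑ k ∈ range p, s ^ k) m) = _
    rw [AddMonoid.End.natCast_apply]
    rfl
  have e2 : (∑ i ∈ range p, t ^ i) n = p • n := by
    rw [end_sum_apply]
    rw [Finset.sum_congr rfl (fun i _ => ht i n hnZ)]
    simp
  have e3 : (∑ k ∈ range p, ∑ i ∈ range p, (t * s ^ k) ^ i) m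
      = ∑ k ∈ range p, (∑ i ∈ range p, (t * s ^ k) ^ i) m := by
    rw [end_sum_apply]
  rw [e1, e2, e3] at hid'
  have hsum : ∑ k ∈ range p, (∑ i ∈ range p, (t * s ^ k) ^ i) m ∈ Z :=
    Z.sum_mem (fun k _ => h2 k m)
  have : p • m = ∑ k ∈ range p, (∑ i ∈ range p, (t * s ^ k) ^ i) m - (p • n - n) := by
    rw [hid']; abel
  rw [this]
  exact Z.sub_mem hsum (Z.sub_mem (Z.nsmul_mem hnZ p) hnZ)

end Cfsg.Agent.Lib.Helper4
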