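import Mathlib
import Cfsg.Agent.S0027
import Cfsg.Agent.S0029
import Cfsg.Agent.Lib.Helper1.PGroupMax
import Cfsg.Agent.Lib.Helper4.CoprimeComm
import Cfsg.Agent.Lib.Helper4.CoprimeAct
import Cfsg.Agent.Lib.Helper4.AbelGen
import Cfsg.Agent.Lib.Helper4.Carter

set_option autoImplicit false

namespace Cfsg.Agent.Lib.Helper4

open scoped commutatorElement

section OddOnTwo

variable {X : Type*} [Group X]

/-- fourth powers are multiplicative when squares and the commutator are suitably central -/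
theorem pow_four_mul_of_central (x y : X) (hxxy : (x * x) * y = y * (x * x))
    (hcx : ⁅x, y⁆ * x = x * ⁅x, y⁆) (hcy : ⁅x, y⁆ * y = y * ⁅x, y⁆) :
    (x * y) ^ 4 = x ^ 4 * y ^ 4 := by
  obtain ⟨c, hc⟩ : ∃ c : X, c = ⁅x, y⁆ := ⟨_, rfl⟩
  rw [← hc] at hcx hcy
  have hcdef : c = x * y * x⁻¹ * y⁻¹ := by rw [hc, commutatorElement_def]
  have hCx : Commute c x := hcx
  have hCy : Commute c y := hcy
  have hXy : Commute (x * x) y := hxxy
  have hid : c⁻¹ * x * y = y * x := by
    rw [hcdef]; group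
  have hcix : c⁻¹ * x = x * c⁻¹ := (hCx.inv_left).eq
  have hsq : (x * y) * (x * y) = c⁻¹ * (x * x * (y * y)) := by
    calc (x * y) * (x * y) = x * (y * x) * y := by group
      _ = x * (c⁻¹ * x * y) * y := by rw [hid]
      _ = (x * c⁻¹) * x * y * y := by group
      _ = (c⁻¹ * x) * x * y * y := by rw [hcix]
      _ = c⁻¹ * (x * x * (y * y)) := by group
  have hcc : c * c = 1 := by
    have h1 : x * c * x⁻¹ * c = (x * x) * y * (x * x)⁻¹ * y⁻¹ := by
      rw [hcdef]; group
    have h2 : x * c * x⁻¹ = c := by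
      rw [← hcx]; group
    rw [h2] at h1
    rw [h1, hxxy]; group
  have hC1 : Commute c⁻¹ (x * x * (y * y)) :=
    ((hCx.mul_right hCx).mul_right (hCy.mul_right hCy)).inv_left
  have hC2 : Commute (x * x) (y * y) := hXy.mul_right hXy
  calc (x * y) ^ 4 = ((x * y) * (x * y)) ^ 2 := by
        rw [← pow_two, ← pow_mul]
    _ = (c⁻¹ * (x * x * (y * y))) ^ 2 := by rw [hsq]
    _ = (c⁻¹) ^ 2 * (x * x * (y * y)) ^ 2 := hC1.mul_pow 2
    _ = (c⁻¹) ^ 2 * ((x * x) ^ 2 * (y * y) ^ 2) := by rw [hC2.mul_pow 2]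
    _ = x ^ 4 * y ^ 4 := by
        have h3 : (c⁻¹) ^ 2 = 1 := by
          rw [inv_pow, pow_two, hcc, inv_one]
        rw [h3, one_mul, ← pow_two, ← pow_two, ← pow_mul, ← pow_mul]

variable [Finite X]

theorem card_lt_of_lt_sub {Q P : Subgroup X} (h : Q < P) : Nat.card Q < Nat.card P := by
  apply lt_of_le_of_ne (Subgroup.card_le_of_le h.le)
  intro heq
  exact h.ne (Subgroup.eq_of_le_of_card_ge h.le heq.ge)

/-- an odd-order group normalizing a cyclic 2-group centralizes it -/
theorem odd_cent_cyclic (A E : Subgroup X) (hA : Odd (Nat.card A)) (hE : IsPGroup 2 E)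
    (hcyc : IsCyclic E) (hAE : A ≤ Subgroup.normalizer (E : Set X)) :
    A ≤ Subgroup.centralizer (E : Set X) := by
  letI act : MulDistribMulAction ↥A ↥E := conjActSub A E hAE
  have hsm : ∀ (a : ↥A) (g : ↥E), ((a • g : ↥E) : X) = (a : X) * g * (a : X)⁻¹ :=
    fun a g => rfl
  let f : ↥A →* MulAut ↥E := MulDistribMulAction.toMulAut ↥A ↥E
  obtain ⟨j, hj⟩ := IsPGroup.iff_card.1 hE
  have h1 : Nat.card f.range ∣ Nat.card A := Subgroup.card_range_dvd f
  have h2 : Nat.card f.range ∣ Nat.card (MulAut E) := Subgroup.card_subgroup_dvd_card _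
  have h3 : Nat.card (MulAut E) = Nat.totient (2 ^ j) := by rw [IsCyclic.card_mulAut, hj]
  have h4 : Nat.card (MulAut E) ∣ 2 ^ j := by
    rw [h3]
    cases j with
    | zero => simp
    | succ i =>
      rw [Nat.totient_prime_pow_succ Nat.prime_two]
      simp only [Nat.add_one_sub_one, mul_one]
      exact pow_dvd_pow 2 (Nat.le_succ i)
  have hc : (Nat.card A).Coprime (2 ^ j) := Nat.Coprime.pow_right j (Nat.coprime_two_right.2 hA)
  have h5 : Nat.card f.range = 1 :=
    (Nat.Coprime.coprime_dvd_left h1 hc).eq_one_of_dvd (h2.trans h4)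
  have h6 : f.range = ⊥ := Subgroup.card_eq_one.1 h5
  intro a ha
  rw [Subgroup.mem_centralizer_iff]
  intro x hx
  have h7 : f ⟨a, ha⟩ = 1 := by
    have : f ⟨a, ha⟩ ∈ f.range := ⟨_, rfl⟩
    rw [h6] at this
    exact Subgroup.mem_bot.1 this
  have h8 : (f ⟨a, ha⟩) ⟨x, hx⟩ = ⟨x, hx⟩ := by rw [h7]; rfl
  have h9 : a * x * a⁻¹ = x := by
    have := congrArg (fun z : ↥E => (z : X)) h8
    exact this
  calc x * a = (a * x * a⁻¹) * a := by rw [h9]
    _ = a * x := by group

/-- an odd-order group normalizing a 2-group and all its subgroups of index two centralizes it -/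
theorem odd_cent_of_index_two (A Q : Subgroup X) (hA : Odd (Nat.card A)) (hQ : IsPGroup 2 Q)
    (hAQ : A ≤ Subgroup.normalizer (Q : Set X))
    (hM : ∀ M : Subgroup X, M ≤ Q → 2 * Nat.card M = Nat.card Q →
      A ≤ Subgroup.normalizer (M : Set X)) :
    A ≤ Subgroup.centralizer (Q : Set X) := by
  haveI : Fact (Nat.Prime 2) := ⟨Nat.prime_two⟩
  have hcop : (Nat.card A).Coprime (Nat.card (frattini Q)) := by
    obtain ⟨i, hi⟩ := IsPGroup.iff_card.1 (hQ.to_subgroup (frattini Q))
    rw [hi]; exact Nat.Coprime.pow_right i (Nat.coprime_two_right.2 hA)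
  refine Cfsg.Agent.S0029.result A Q hAQ hcop ?_
  intro a ha k hk
  have hk' : a * k * a⁻¹ ∈ Q := (Subgroup.mem_normalizer_iff.1 (hAQ ha) k).1 hk
  suffices hfr : (⟨a * k * a⁻¹, hk'⟩ : Q) * (⟨k, hk⟩ : Q)⁻¹ ∈ frattini Q from
    ⟨_, hfr, by simp⟩
  unfold frattini Order.radical
  simp only [Subgroup.mem_iInf]
  intro M' hM'
  have hco : IsCoatom M' := hM'
  haveI := Cfsg.Agent.Lib.Helper1.coatom_normal_of_isPGroup hQ hco
  have hidx : M'.index = 2 := Cfsg.Agent.Lib.Helper1.card_quotient_coatom_of_isPGroup hQ hco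
  rw [Subgroup.mul_mem_iff_of_index_two hidx, inv_mem_iff]
  have hMcard : 2 * Nat.card (M'.map Q.subtype) = Nat.card Q := by
    rw [Subgroup.card_map_of_injective Q.subtype_injective, ← hidx, mul_comm]
    exact M'.card_mul_index
  have hAM := hM (M'.map Q.subtype) (Subgroup.map_subtype_le _) hMcard
  have hiff := Subgroup.mem_normalizer_iff.1 (hAM ha) k
  have hmem : ∀ (y : X) (hy : y ∈ Q), (⟨y, hy⟩ : Q) ∈ M' ↔ y ∈ M'.map Q.subtype := by
    intro y hy
    constructor
    · intro h; exact ⟨⟨y, hy⟩, h, rfl⟩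
    · rintro ⟨z, hz, hzy⟩
      have : z = ⟨y, hy⟩ := Subtype.ext hzy
      rwa [← this]
  rw [hmem _ hk', hmem _ hk]
  exact hiff.symm

theorem exists_between_two (P E : Subgroup X) (hEP : E ≤ P) (j m : ℕ)
    (hE : Nat.card E = 2 ^ j) (hjm : j ≤ m) (hm : 2 ^ m ∣ Nat.card P) :
    ∃ Q : Subgroup X, E ≤ Q ∧ Q ≤ P ∧ Nat.card Q = 2 ^ m := by
  haveI : Fact (Nat.Prime 2) := ⟨Nat.prime_two⟩
  have hE' : Nat.card (E.subgroupOf P) = 2 ^ j := by rw [card_subgroupOf_of_le hEP, hE]
  obtain ⟨K, hK, hEK⟩ := Sylow.exists_subgroup_card_pow_prime_le 2 hm (E.subgroupOf P) hE' hjm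
  refine ⟨K.map P.subtype, ?_, Subgroup.map_subtype_le _, by
    rw [Subgroup.card_map_of_injective P.subtype_injective, hK]⟩
  intro x hx
  exact ⟨⟨x, hEP hx⟩, hEK (Subgroup.mem_subgroupOf.2 hx), rfl⟩

omit [Finite X] in
theorem le_normalizer_sup (A E M : Subgroup X) (hE : A ≤ Subgroup.normalizer (E : Set X))
    (hM : A ≤ Subgroup.normalizer (M : Set X)) :
    A ≤ Subgroup.normalizer ((E ⊔ M : Subgroup X) : Set X) := by
  intro a ha
  rw [Subgroup.mem_normalizer_iff_map_conj_eq, Subgroup.map_sup,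
    Subgroup.mem_normalizer_iff_map_conj_eq.1 (hE ha),
    Subgroup.mem_normalizer_iff_map_conj_eq.1 (hM ha)]

/-- an odd-order group normalizing a 2-group `P` and centralizing all its elements of order
dividing 4 centralizes `P`. -/
theorem odd_cent_order4 (A : Subgroup X) (hA : Odd (Nat.card A)) :
    ∀ (n : ℕ) (P : Subgroup X), Nat.card P = n → IsPGroup 2 P →
      A ≤ Subgroup.normalizer (P : Set X) →
      (∀ x ∈ P, x ^ 4 = 1 → ∀ a ∈ A, a * x = x * a) →
      A ≤ Subgroup.centralizer (P : Set X) := by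
  intro n
  induction n using Nat.strong_induction_on with
  | _ n ih =>
  intro P hn hP hAP h4
  by_contra hcon
  haveI : Fact (Nat.Prime 2) := ⟨Nat.prime_two⟩
  have hprop : ∀ Q : Subgroup X, Q < P → A ≤ Subgroup.normalizer (Q : Set X) →
      A ≤ Subgroup.centralizer (Q : Set X) := by
    intro Q hQ hAQ
    have hlt : Nat.card Q < n := by
      rw [← hn]
      exact card_lt_of_lt_sub hQ
    exact ih _ hlt Q rfl (hP.to_le hQ.le) hAQ (fun x hx => h4 x (hQ.le hx))
  obtain ⟨m, hm⟩ := IsPGroup.iff_card.1 hP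
  have hcop : (Nat.card A).Coprime (Nat.card P) := by
    rw [hm]; exact Nat.Coprime.pow_right m (Nat.coprime_two_right.2 hA)
  haveI : Group.IsNilpotent P := hP.isNilpotent
  have hsolvP : Group.IsSolvable P := inferInstance
  have hR : ⁅P, A⁆ = P := by
    by_contra hne
    have hRP : ⁅P, A⁆ < P := lt_of_le_of_ne (commutator_le_of_le_normalizer A P hAP) hne
    have hcR := hprop _ hRP (le_normalizer_commutator_right A P hAP)
    have h1 : ⁅⁅P, A⁆, A⁆ = ⊥ := by
      rw [Subgroup.commutator_eq_bot_iff_le_centralizer]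
      exact Subgroup.le_centralizer_iff.1 hcR
    rw [Cfsg.Agent.S0027.result A P hAP hcop (Or.inr hsolvP)] at h1
    apply hcon
    rw [Subgroup.commutator_eq_bot_iff_le_centralizer] at h1
    exact Subgroup.le_centralizer_iff.1 h1
  have hPne : P ≠ ⊥ := by
    rintro rfl
    apply hcon
    intro a _
    rw [Subgroup.mem_centralizer_iff]
    intro h hh
    have : h = 1 := Subgroup.mem_bot.1 hh
    rw [this]; simp
  obtain ⟨T, hTdef⟩ : ∃ T : Subgroup X, T = (frattini P).map P.subtype := ⟨_, rfl⟩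
  have hTP : T ≤ P := by rw [hTdef]; exact Subgroup.map_subtype_le _
  have hmemT : ∀ x : P, x ∈ frattini P → (x : X) ∈ T := fun x hx => by
    rw [hTdef]; exact ⟨x, hx, rfl⟩
  have hsq : ∀ x ∈ P, x ^ 2 ∈ T := by
    intro x hx
    have h1 : (⟨x, hx⟩ : P) ^ 2 ∈ frattini P := by
      unfold frattini Order.radical
      simp only [Subgroup.mem_iInf]
      intro M hM
      have hco : IsCoatom M := hM
      exact Cfsg.Agent.Lib.Helper1.pow_mem_coatom_of_isPGroup hP hco _
    have h2 := hmemT _ h1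
    simpa using h2
  have hcomm : ∀ x ∈ P, ∀ y ∈ P, ⁅x, y⁆ ∈ T := by
    intro x hx y hy
    have h1 : ⁅(⟨x, hx⟩ : P), ⟨y, hy⟩⁆ ∈ frattini P := by
      unfold frattini Order.radical
      simp only [Subgroup.mem_iInf]
      intro M hM
      have hco : IsCoatom M := hM
      exact Cfsg.Agent.Lib.Helper1.commutator_le_coatom_of_isPGroup hP hco
        (Subgroup.commutator_mem_commutator (Subgroup.mem_top _) (Subgroup.mem_top _))
    have h2 := hmemT _ h1
    simpa [commutatorElement_def] using h2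
  have hTne : T ≠ P := by
    intro hTeq
    haveI : Nontrivial P := (Subgroup.nontrivial_iff_ne_bot P).2 hPne
    obtain ⟨M, hM⟩ : ∃ M : Subgroup P, IsCoatom M := by
      rcases eq_top_or_exists_le_coatom (⊥ : Subgroup P) with h | ⟨M, hM, _⟩
      · exact absurd h bot_ne_top
      · exact ⟨M, hM⟩
    have hle : frattini P ≤ M := frattini_le_coatom hM
    have htop : frattini P = ⊤ := by
      apply Subgroup.map_injective P.subtype_injective
      rw [← hTdef, hTeq, ← MonoidHom.range_eq_map, Subgroup.range_subtype]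
    rw [htop] at hle
    exact hM.1 (top_le_iff.1 hle)
  have hAT : A ≤ Subgroup.normalizer (T : Set X) := by
    letI act : MulDistribMulAction ↥A ↥P := conjActSub A P hAP
    have hstep : ∀ a ∈ A, ∀ t ∈ T, a * t * a⁻¹ ∈ T := by
      intro a ha t ht
      rw [hTdef] at ht
      obtain ⟨f, hf, rfl⟩ := ht
      let φ : P ≃* P := MulDistribMulAction.toMulAut ↥A ↥P ⟨a, ha⟩
      have hchar : (frattini P).comap φ.toMonoidHom = frattini P :=
        (inferInstance : (frattini P).Characteristic).fixed φ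
      have hφf : φ f ∈ frattini P := by
        have h1 : f ∈ (frattini P).comap φ.toMonoidHom := by rw [hchar]; exact hf
        exact h1
      exact hmemT _ hφf
    intro a ha
    rw [Subgroup.mem_normalizer_iff]
    intro t
    constructor
    · exact hstep a ha t
    · intro h
      have h1 := hstep a⁻¹ (A.inv_mem ha) _ h
      simpa [mul_assoc] using h1
  have hcT : A ≤ Subgroup.centralizer (T : Set X) := hprop T (lt_of_le_of_ne hTP hTne) hAT
  have hPT : ⁅P, T⁆ = ⊥ := by
    have h1 : ⁅⁅A, T⁆, P⁆ = ⊥ := by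
      have h0 : ⁅A, T⁆ = ⊥ := by
        rw [Subgroup.commutator_eq_bot_iff_le_centralizer]; exact hcT
      rw [h0]; exact Subgroup.commutator_bot_left _
    have h2 : ⁅⁅T, P⁆, A⁆ = ⊥ := by
      have hle : ⁅T, P⁆ ≤ T := by
        rw [Subgroup.commutator_le]
        intro t ht x hx
        exact hcomm t (hTP ht) x hx
      have h0 : ⁅T, A⁆ = ⊥ := by
        rw [Subgroup.commutator_eq_bot_iff_le_centralizer]
        exact Subgroup.le_centralizer_iff.1 hcT
      have h3 : ⁅⁅T, P⁆, A⁆ ≤ ⁅T, A⁆ := Subgroup.commutator_mono hle le_rfl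
      rw [h0] at h3
      exact le_bot_iff.1 h3
    have h3 := Subgroup.commutator_commutator_eq_bot_of_rotate h1 h2
    rwa [hR] at h3
  have hTcent : ∀ t ∈ T, ∀ x ∈ P, t * x = x * t := by
    intro t ht x hx
    have h1 : P ≤ Subgroup.centralizer (T : Set X) :=
      Subgroup.commutator_eq_bot_iff_le_centralizer.1 hPT
    exact Subgroup.mem_centralizer_iff.1 (h1 hx) t ht
  have hpow4 : ∀ x ∈ P, ∀ y ∈ P, (x * y) ^ 4 = x ^ 4 * y ^ 4 := by
    intro x hx y hy
    apply pow_four_mul_of_central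
    · have := hTcent (x ^ 2) (hsq x hx) y hy
      rwa [pow_two] at this
    · exact hTcent _ (hcomm x hx y hy) x hx
    · exact hTcent _ (hcomm x hx y hy) y hy
  have hgen : ⁅P, A⁆ ≤ Subgroup.centralizer (A : Set X) := by
    rw [Subgroup.commutator_le]
    intro x hx a ha
    have hy : a * x⁻¹ * a⁻¹ ∈ P :=
      (Subgroup.mem_normalizer_iff.1 (hAP ha) x⁻¹).1 (P.inv_mem hx)
    have hx4 : x ^ 4 ∈ T := by
      have : x ^ 4 = (x ^ 2) ^ 2 := by rw [← pow_mul]
      rw [this]; exact T.pow_mem (hsq x hx) 2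
    have hax4 : a * x ^ 4 = x ^ 4 * a := by
      have := Subgroup.mem_centralizer_iff.1 (hcT ha) (x ^ 4) hx4
      exact this.symm
    have he : ⁅x, a⁆ = x * (a * x⁻¹ * a⁻¹) := by
      rw [commutatorElement_def]; group
    have hp : ⁅x, a⁆ ^ 4 = 1 := by
      rw [he, hpow4 x hx _ hy]
      have h1 : (a * x⁻¹ * a⁻¹) ^ 4 = a * (x ^ 4)⁻¹ * a⁻¹ := by
        rw [conj_pow, inv_pow]
      rw [h1]
      have h2 : a * (x ^ 4)⁻¹ * a⁻¹ = (x ^ 4)⁻¹ := by
        have h3 : a * (x ^ 4)⁻¹ * a⁻¹ = (a * x ^ 4 * a⁻¹)⁻¹ := by group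
        rw [h3, hax4]; group
      rw [h2, mul_inv_cancel]
    have hmemP : ⁅x, a⁆ ∈ P := by
      rw [he]; exact P.mul_mem hx hy
    rw [Subgroup.mem_centralizer_iff]
    intro b hb
    exact h4 _ hmemP hp b hb
  apply hcon
  rw [hR] at hgen
  exact Subgroup.le_centralizer_iff.1 hgen

/-- S3803: an odd-order group normalizing all subgroups of one intermediate order of a 2-group
(and those of order 4 in case that order is 2) centralizes the 2-group. -/
theorem odd_cent_of_inv_orders (P A D : Subgroup X) (hP : IsPGroup 2 P) (hA : Odd (Nat.card A))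
    (hAP : A ≤ Subgroup.normalizer (P : Set X)) (hDP : D ≤ P) (hD1 : 1 < Nat.card D)
    (hD2 : Nat.card D < Nat.card P)
    (hinv : ∀ E : Subgroup X, E ≤ P →
      (Nat.card E = Nat.card D ∨ (Nat.card D = 2 ∧ Nat.card E = 4)) →
      A ≤ Subgroup.normalizer (E : Set X)) :
    A ≤ Subgroup.centralizer (P : Set X) := by
  haveI : Fact (Nat.Prime 2) := ⟨Nat.prime_two⟩
  obtain ⟨m, hm⟩ := IsPGroup.iff_card.1 hP
  obtain ⟨k, hk⟩ := IsPGroup.iff_card.1 (hP.to_le hDP)
  have hk1 : 1 ≤ k := by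
    rcases Nat.eq_zero_or_pos k with h | h
    · rw [h, pow_zero] at hk; omega
    · exact h
  have hkm : k < m := by
    rw [hk, hm] at hD2
    exact (Nat.pow_lt_pow_iff_right (by norm_num)).1 hD2
  have hB : ∀ j : ℕ, j < m →
      (∀ E : Subgroup X, E ≤ P → Nat.card E = 2 ^ j → A ≤ Subgroup.normalizer (E : Set X)) →
      ∀ E : Subgroup X, E ≤ P → Nat.card E = 2 ^ j → A ≤ Subgroup.centralizer (E : Set X) := by
    intro j hjm hgood E hEP hEc
    by_cases hcyc : IsCyclic E
    · exact odd_cent_cyclic A E hA (hP.to_le hEP) hcyc (hgood E hEP hEc)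
    · obtain ⟨Q, hEQ, hQP, hQc⟩ := exists_between_two P E hEP j (j + 1) hEc (Nat.le_succ j)
        (by rw [hm]; exact pow_dvd_pow 2 hjm)
      have hEltQ : E < Q := by
        apply lt_of_le_of_ne hEQ
        intro h
        rw [h, hQc] at hEc
        have := (Nat.pow_right_injective (le_refl 2)) hEc
        omega
      obtain ⟨y, hyQ, hyE⟩ := SetLike.exists_of_lt hEltQ
      have hQ2 : IsPGroup 2 Q := hP.to_le hQP
      have hzle : Subgroup.zpowers y ≤ Q := (Subgroup.zpowers_le).2 hyQ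
      have hzne : Subgroup.zpowers y ≠ Q := by
        intro h
        apply hcyc
        haveI : IsCyclic (Subgroup.zpowers y) := inferInstance
        exact Subgroup.isCyclic_of_le (h ▸ hEQ)
      obtain ⟨i, hi⟩ := IsPGroup.iff_card.1 (hQ2.to_le hzle)
      have hij : i ≤ j := by
        have hlt : Nat.card (Subgroup.zpowers y) < Nat.card Q :=
          card_lt_of_lt_sub (lt_of_le_of_ne hzle hzne)
        rw [hi, hQc] at hlt
        have := (Nat.pow_lt_pow_iff_right (by norm_num)).1 hlt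
        omega
      obtain ⟨M, hzM, hMQ, hMc⟩ := exists_between_two Q (Subgroup.zpowers y) hzle i j hi hij
        (by rw [hQc]; exact pow_dvd_pow 2 (Nat.le_succ j))
      have hME : M ≠ E := by
        intro h
        apply hyE
        rw [← h]
        exact hzM (Subgroup.mem_zpowers y)
      have hsup : E ⊔ M = Q := by
        have hle : E ⊔ M ≤ Q := sup_le hEQ hMQ
        have hElt : E < E ⊔ M := by
          apply lt_of_le_of_ne le_sup_left
          intro h
          have hME' : M ≤ E := by rw [h]; exact le_sup_right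
          exact hME (Subgroup.eq_of_le_of_card_ge hME' (by rw [hMc, hEc]))
        obtain ⟨t, ht⟩ := IsPGroup.iff_card.1 (hQ2.to_le hle)
        have h1 : Nat.card E < Nat.card (E ⊔ M : Subgroup X) := card_lt_of_lt_sub hElt
        rw [hEc, ht] at h1
        have h2 := (Nat.pow_lt_pow_iff_right (by norm_num)).1 h1
        exact Subgroup.eq_of_le_of_card_ge hle (by
          rw [hQc, ht]; exact Nat.pow_le_pow_right (by norm_num) (by omega))
      have hAQ : A ≤ Subgroup.normalizer (Q : Set X) := by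
        rw [← hsup]
        exact le_normalizer_sup A E M (hgood E hEP hEc) (hgood M (hMQ.trans hQP) hMc)
      have hcQ := odd_cent_of_index_two A Q hA hQ2 hAQ (fun M' hM'Q hM'c =>
        hgood M' (hM'Q.trans hQP) (by
          have h1 : 2 * Nat.card M' = 2 * 2 ^ j := by rw [hM'c, hQc, pow_succ, mul_comm]
          exact Nat.eq_of_mul_eq_mul_left two_pos h1))
      exact hcQ.trans (Subgroup.centralizer_le hEQ)
  have hfin : ∀ j : ℕ, 2 ≤ j → j < m →
      (∀ E : Subgroup X, E ≤ P → Nat.card E = 2 ^ j → A ≤ Subgroup.normalizer (E : Set X)) →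
      A ≤ Subgroup.centralizer (P : Set X) := by
    intro j hj2 hjm hgood
    have hcent := hB j hjm hgood
    apply odd_cent_order4 A hA _ P rfl hP hAP
    intro x hx hx4 a ha
    have hzP : Subgroup.zpowers x ≤ P := (Subgroup.zpowers_le).2 hx
    obtain ⟨i, hi⟩ := IsPGroup.iff_card.1 (hP.to_le hzP)
    have hi2 : i ≤ 2 := by
      have h1 : orderOf x ∣ 4 := orderOf_dvd_of_pow_eq_one hx4
      rw [Nat.card_zpowers] at hi
      rw [hi] at h1
      have h2 : (2 : ℕ) ^ i ∣ 2 ^ 2 := by simpa using h1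
      exact (Nat.pow_dvd_pow_iff_le_right (x := 2) (by norm_num)).1 h2
    obtain ⟨E, hxE, hEP, hEc⟩ := exists_between_two P (Subgroup.zpowers x) hzP i j hi
      (hi2.trans hj2) (by rw [hm]; exact pow_dvd_pow 2 hjm.le)
    have h1 := hcent E hEP hEc ha
    rw [Subgroup.mem_centralizer_iff] at h1
    exact (h1 x (hxE (Subgroup.mem_zpowers x))).symm
  by_cases hk2 : 2 ≤ k
  · exact hfin k hk2 hkm (fun E hE hc => hinv E hE (Or.inl (by rw [hc, hk])))
  · have hk1' : k = 1 := by omega
    have hD2' : Nat.card D = 2 := by rw [hk, hk1']; norm_num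
    have hgood1 : ∀ E : Subgroup X, E ≤ P → Nat.card E = 2 ^ 1 →
        A ≤ Subgroup.normalizer (E : Set X) :=
      fun E hE hc => hinv E hE (Or.inl (by rw [hc, hD2']; norm_num))
    have hgood2 : ∀ E : Subgroup X, E ≤ P → Nat.card E = 2 ^ 2 →
        A ≤ Subgroup.normalizer (E : Set X) :=
      fun E hE hc => hinv E hE (Or.inr ⟨hD2', by rw [hc]; norm_num⟩)
    by_cases hm2 : 2 < m
    · exact hfin 2 le_rfl hm2 hgood2
    · have hm2' : m = 2 := by omega
      apply odd_cent_of_index_two A P hA hP hAP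
      intro M hMP hMc
      apply hgood1 M hMP
      rw [hm, hm2'] at hMc
      omega

end OddOnTwo

end Cfsg.Agent.Lib.Helper4
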