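import Mathlib
import Cfsg.Prelude.Def_Local
import Cfsg.Agent.Lib.Helper1.Fitting
import Cfsg.Agent.Lib.Helper4.Cores
import Cfsg.Agent.S0634

set_option autoImplicit false
set_option linter.unusedSectionVars false

namespace Cfsg.Agent.Lib.Helper4

open Cfsg

section basics
variable {G : Type*} [Group G]

/-- the `n`-th term of the upper `p`-series, as a plain subgroup -/
abbrev ups (p : ℕ) (G : Type*) [Group G] (n : ℕ) : Subgroup G := (upperPSeries p G n).1

theorem ups_zero (p : ℕ) : ups p G 0 = ⊥ := rfl

theorem ups_succ_even (p : ℕ) {n : ℕ} (h : Even n) :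
    ups p G (n + 1) =
      (pPrimeCore p (G ⧸ ups p G n)).comap (QuotientGroup.mk' (ups p G n)) := by
  show (upperPSeries p G (n + 1)).1 = _
  rw [upperPSeries, if_pos h]

theorem ups_succ_odd (p : ℕ) {n : ℕ} (h : ¬ Even n) :
    ups p G (n + 1) =
      (pCore p (G ⧸ ups p G n)).comap (QuotientGroup.mk' (ups p G n)) := by
  show (upperPSeries p G (n + 1)).1 = _
  rw [upperPSeries, if_neg h]

theorem ups_le_succ (p n : ℕ) : ups p G n ≤ ups p G (n + 1) := by
  have hker : ups p G n = (QuotientGroup.mk' (ups p G n)).ker := (QuotientGroup.ker_mk' _).symm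
  by_cases h : Even n
  · rw [ups_succ_even p h]
    conv_lhs => rw [hker]
    exact MonoidHom.ker_le_comap _ _
  · rw [ups_succ_odd p h]
    conv_lhs => rw [hker]
    exact MonoidHom.ker_le_comap _ _

theorem ups_mono (p : ℕ) {m n : ℕ} (h : m ≤ n) : ups p G m ≤ ups p G n := by
  induction n, h using Nat.le_induction with
  | base => exact le_rfl
  | succ n _ ih => exact ih.trans (ups_le_succ p n)

theorem relIndex_comap_comap {H : Type*} [Group H] (f : G →* H) (hf : Function.Surjective f)
    (X Y : Subgroup H) : (X.comap f).relIndex (Y.comap f) = X.relIndex Y := by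
  rw [Subgroup.relIndex_comap, Subgroup.map_comap_eq_self_of_surjective hf]

theorem relIndex_comap_mk (N : Subgroup G) [N.Normal] (X : Subgroup (G ⧸ N)) :
    N.relIndex (X.comap (QuotientGroup.mk' N)) = Nat.card X := by
  have h := relIndex_comap_comap (QuotientGroup.mk' N) (QuotientGroup.mk'_surjective N) ⊥ X
  rw [MonoidHom.comap_bot, QuotientGroup.ker_mk', Subgroup.relIndex_bot_left] at h
  exact h

theorem card_map_dvd_relIndex {H : Type*} [Group H] (f : G →* H) (A B : Subgroup G)
    (hA : A ≤ f.ker) : Nat.card (B.map f) ∣ A.relIndex B := by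
  rw [← Subgroup.relIndex_ker]
  exact Subgroup.relIndex_dvd_of_le_left B hA

theorem relIndex_map_dvd {H : Type*} [Group H] (f : G →* H) (hf : Function.Surjective f)
    (A B : Subgroup G) [hA : A.Normal] : (A.map f).relIndex (B.map f) ∣ A.relIndex B := by
  haveI : (A.map f).Normal := Subgroup.Normal.map hA f hf
  have h1 : (A.map f).relIndex (B.map f) =
      Nat.card ((B.map f).map (QuotientGroup.mk' (A.map f))) := by
    rw [← Subgroup.relIndex_ker, QuotientGroup.ker_mk']
  rw [h1, Subgroup.map_map]
  apply card_map_dvd_relIndex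
  intro a ha
  rw [MonoidHom.mem_ker, MonoidHom.comp_apply, QuotientGroup.mk'_apply, QuotientGroup.eq_one_iff]
  exact Subgroup.mem_map_of_mem f ha

theorem relIndex_subgroupOf_dvd (A B N : Subgroup G) [A.Normal] :
    (A.subgroupOf N).relIndex (B.subgroupOf N) ∣ A.relIndex B := by
  have hker : ((QuotientGroup.mk' A).comp N.subtype).ker = A.subgroupOf N := by
    ext x
    rw [MonoidHom.mem_ker, MonoidHom.comp_apply, QuotientGroup.mk'_apply,
      QuotientGroup.eq_one_iff]
    rfl
  have e1 : (A.subgroupOf N).relIndex (B.subgroupOf N) =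
      Nat.card ((B.subgroupOf N).map ((QuotientGroup.mk' A).comp N.subtype)) := by
    rw [← hker, Subgroup.relIndex_ker]
  have e2 : A.relIndex B = Nat.card (B.map (QuotientGroup.mk' A)) := by
    rw [← Subgroup.relIndex_ker, QuotientGroup.ker_mk']
  have hle : (B.subgroupOf N).map ((QuotientGroup.mk' A).comp N.subtype) ≤
      B.map (QuotientGroup.mk' A) := by
    rw [← Subgroup.map_map]
    apply Subgroup.map_mono
    rw [Subgroup.subgroupOf_map_subtype]
    exact inf_le_left
  rw [e1, e2]
  exact Subgroup.card_dvd_of_le hle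

/-- the iterated commutator series of a subgroup, inside the ambient group -/
def dser (K : Subgroup G) : ℕ → Subgroup G
  | 0 => K
  | n + 1 => ⁅dser K n, dser K n⁆

theorem dser_zero (K : Subgroup G) : dser K 0 = K := rfl

theorem dser_succ (K : Subgroup G) (n : ℕ) : dser K (n + 1) = ⁅dser K n, dser K n⁆ := rfl

theorem dser_mono {K L : Subgroup G} (h : K ≤ L) (n : ℕ) : dser K n ≤ dser L n := by
  induction n with
  | zero => exact h
  | succ n ih => rw [dser_succ, dser_succ]; exact Subgroup.commutator_mono ih ih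

theorem dser_top (n : ℕ) : dser (⊤ : Subgroup G) n = derivedSeries G n := by
  induction n with
  | zero => rfl
  | succ n ih => rw [dser_succ, ih]; rfl

theorem dser_add (K : Subgroup G) (m n : ℕ) : dser K (m + n) = dser (dser K m) n := by
  induction n with
  | zero => rfl
  | succ n ih => rw [← add_assoc, dser_succ, ih, dser_succ]

theorem dser_map {H : Type*} [Group H] (f : G →* H) (K : Subgroup G) (n : ℕ) :
    (dser K n).map f = dser (K.map f) n := by
  induction n with
  | zero => rfl
  | succ n ih => rw [dser_succ, dser_succ, Subgroup.map_commutator, ih]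

theorem dser_subtype (K : Subgroup G) (n : ℕ) :
    dser K n = (derivedSeries K n).map K.subtype := by
  rw [← dser_top, dser_map, ← MonoidHom.range_eq_map, Subgroup.range_subtype]

end basics

section finite
variable {G : Type*} [Group G] [Finite G] (p : ℕ) [Fact p.Prime]

theorem ups_relIndex_even {n : ℕ} (h : Even n) :
    ((ups p G n).relIndex (ups p G (n + 1))).Coprime p := by
  rw [ups_succ_even p h, relIndex_comap_mk]
  exact Cfsg.Agent.Lib.Helper1.pPrimeCore_coprime p

theorem ups_relIndex_odd {n : ℕ} (h : ¬ Even n) :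
    ∃ k : ℕ, (ups p G n).relIndex (ups p G (n + 1)) = p ^ k := by
  rw [ups_succ_odd p h, relIndex_comap_mk]
  exact (pCore_isPGroup (p := p) (G := G ⧸ ups p G n)).exists_card_eq

theorem card_ups_one_coprime : (Nat.card (ups p G 1)).Coprime p := by
  have h := ups_relIndex_even (G := G) p (n := 0) (by decide)
  rw [ups_zero, Subgroup.relIndex_bot_left] at h
  exact h

/-- Lemma A: any alternating chain lies below the upper `p`-series. -/
theorem le_ups_of_chain (V : ℕ → Subgroup G) (h0 : V 0 = ⊥) (hn : ∀ n, (V n).Normal)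
    (heven : ∀ n, Even n → ((V n).relIndex (V (n + 1))).Coprime p)
    (hodd : ∀ n, ¬ Even n → ∃ k : ℕ, (V n).relIndex (V (n + 1)) = p ^ k) :
    ∀ n, V n ≤ ups p G n := by
  intro n
  induction n with
  | zero => rw [h0]; exact bot_le
  | succ n ih =>
    have hker : (QuotientGroup.mk' (ups p G n)).ker = ups p G n := QuotientGroup.ker_mk' _
    have hcard : Nat.card ((V (n + 1)).map (QuotientGroup.mk' (ups p G n))) ∣
        (V n).relIndex (V (n + 1)) :=
      card_map_dvd_relIndex _ _ _ (by rw [hker]; exact ih)
    have hnorm : ((V (n + 1)).map (QuotientGroup.mk' (ups p G n))).Normal :=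
      Subgroup.Normal.map (hn (n + 1)) _ (QuotientGroup.mk'_surjective _)
    by_cases he : Even n
    · rw [ups_succ_even p he, ← Subgroup.map_le_iff_le_comap]
      exact Cfsg.Agent.Lib.Helper1.le_pPrimeCore _ hnorm
        (Nat.Coprime.coprime_dvd_left hcard (heven n he))
    · rw [ups_succ_odd p he, ← Subgroup.map_le_iff_le_comap]
      obtain ⟨k, hk⟩ := hodd n he
      rw [hk] at hcard
      apply le_sSup
      refine ⟨hnorm, ?_⟩
      obtain ⟨j, _, hj⟩ := (Nat.dvd_prime_pow (Fact.out)).1 hcard
      exact IsPGroup.of_card hj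

theorem pow_of_dvd_pow {a k : ℕ} (h : a ∣ p ^ k) : ∃ j : ℕ, a = p ^ j := by
  obtain ⟨j, _, hj⟩ := (Nat.dvd_prime_pow (Fact.out)).1 h
  exact ⟨j, hj⟩

/-- images under surjections -/
theorem map_ups_le {H : Type*} [Group H] [Finite H] (f : G →* H) (hf : Function.Surjective f)
    (n : ℕ) : (ups p G n).map f ≤ ups p H n := by
  apply le_ups_of_chain p (fun n => (ups p G n).map f)
  · show (ups p G 0).map f = ⊥
    rw [ups_zero, Subgroup.map_bot]
  · intro n; exact Subgroup.Normal.map inferInstance f hf
  · intro n he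
    exact Nat.Coprime.coprime_dvd_left (relIndex_map_dvd f hf _ _) (ups_relIndex_even p he)
  · intro n he
    obtain ⟨k, hk⟩ := ups_relIndex_odd (G := G) p he
    have h1 := relIndex_map_dvd f hf (ups p G n) (ups p G (n + 1))
    rw [hk] at h1
    exact pow_of_dvd_pow p h1

theorem plength_of_surjective {H : Type*} [Group H] [Finite H] (f : G →* H)
    (hf : Function.Surjective f) {k : ℕ} (h : PLengthLE p k G) : PLengthLE p k H := by
  unfold PLengthLE at h ⊢
  have h1 := map_ups_le p f hf (2 * k + 1)
  have h2 : ups p G (2 * k + 1) = ⊤ := h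
  rw [h2, ← MonoidHom.range_eq_map, MonoidHom.range_eq_top.2 hf] at h1
  exact top_le_iff.1 h1

/-- invariance under isomorphisms -/
theorem ups_map_equiv {H : Type*} [Group H] [Finite H] (e : G ≃* H) (n : ℕ) :
    (ups p G n).map e.toMonoidHom = ups p H n := by
  apply le_antisymm
  · exact map_ups_le p e.toMonoidHom e.surjective n
  · have h1 := map_ups_le p e.symm.toMonoidHom e.symm.surjective n
    intro x hx
    have h2 : e.symm x ∈ ups p G n := h1 (Subgroup.mem_map_of_mem _ hx)
    refine ⟨e.symm x, h2, ?_⟩
    simp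

theorem ups_subgroup_normal (N : Subgroup G) [N.Normal] (n : ℕ) :
    ((ups p N n).map N.subtype).Normal := by
  constructor
  intro x hx g
  obtain ⟨y, hy, rfl⟩ := hx
  have h1 := ups_map_equiv p (MulAut.conjNormal g : N ≃* N) n
  have hmem : (MulAut.conjNormal g : N ≃* N) y ∈ ups p N n := by
    rw [← h1]; exact Subgroup.mem_map_of_mem _ hy
  refine ⟨_, hmem, ?_⟩
  simp [MulAut.conjNormal_apply]

/-- quotient by an even term of the series -/
theorem map_ups_add_even_le (m : ℕ) (hm : Even m) (n : ℕ) :
    (ups p G (n + m)).map (QuotientGroup.mk' (ups p G m)) ≤ ups p (G ⧸ ups p G m) n := by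
  apply le_ups_of_chain p (fun n => (ups p G (n + m)).map (QuotientGroup.mk' (ups p G m)))
  · show (ups p G (0 + m)).map (QuotientGroup.mk' (ups p G m)) = ⊥
    rw [zero_add, QuotientGroup.map_mk'_self]
  · intro n; exact Subgroup.Normal.map inferInstance _ (QuotientGroup.mk'_surjective _)
  · intro n he
    have he' : Even (n + m) := he.add hm
    have h1 := relIndex_map_dvd (QuotientGroup.mk' (ups p G m)) (QuotientGroup.mk'_surjective _)
      (ups p G (n + m)) (ups p G (n + m + 1))
    have h2 : n + 1 + m = n + m + 1 := by ring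
    show ((ups p G (n + m)).map _).relIndex ((ups p G (n + 1 + m)).map _) |>.Coprime p
    rw [h2]
    exact Nat.Coprime.coprime_dvd_left h1 (ups_relIndex_even p he')
  · intro n he
    have he' : ¬ Even (n + m) := by
      intro h; apply he
      have := (Nat.even_add.1 h)
      exact this.2 hm
    obtain ⟨k, hk⟩ := ups_relIndex_odd (G := G) p he'
    have h1 := relIndex_map_dvd (QuotientGroup.mk' (ups p G m)) (QuotientGroup.mk'_surjective _)
      (ups p G (n + m)) (ups p G (n + m + 1))
    have h2 : n + 1 + m = n + m + 1 := by ring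
    show ∃ k : ℕ, ((ups p G (n + m)).map _).relIndex ((ups p G (n + 1 + m)).map _) = p ^ k
    rw [h2]
    rw [hk] at h1
    exact pow_of_dvd_pow p h1

theorem plength_quot_two {k : ℕ} (h : PLengthLE p (k + 1) G) :
    PLengthLE p k (G ⧸ ups p G 2) := by
  unfold PLengthLE at h ⊢
  have h1 := map_ups_add_even_le (G := G) p 2 (by decide) (2 * k + 1)
  have h2 : ups p G (2 * k + 1 + 2) = ⊤ := by
    have : 2 * k + 1 + 2 = 2 * (k + 1) + 1 := by ring
    rw [this]; exact h
  rw [h2, ← MonoidHom.range_eq_map,
    MonoidHom.range_eq_top.2 (QuotientGroup.mk'_surjective _)] at h1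
  exact top_le_iff.1 h1

/-- normal subgroups -/
theorem plength_normal_subgroup (N : Subgroup G) [N.Normal] {k : ℕ} (h : PLengthLE p k G) :
    PLengthLE p k N := by
  unfold PLengthLE at h ⊢
  have key : ∀ n, (ups p G n).subgroupOf N ≤ ups p N n := by
    apply le_ups_of_chain p (fun n => (ups p G n).subgroupOf N)
    · show (ups p G 0).subgroupOf N = ⊥
      rw [ups_zero, Subgroup.bot_subgroupOf]
    · intro n; infer_instance
    · intro n he
      exact Nat.Coprime.coprime_dvd_left (relIndex_subgroupOf_dvd _ _ N)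
        (ups_relIndex_even p he)
    · intro n he
      obtain ⟨k, hk⟩ := ups_relIndex_odd (G := G) p he
      have h1 := relIndex_subgroupOf_dvd (ups p G n) (ups p G (n + 1)) N
      rw [hk] at h1
      exact pow_of_dvd_pow p h1
  have h2 : ups p G (2 * k + 1) = ⊤ := h
  have h3 := key (2 * k + 1)
  rw [h2, Subgroup.top_subgroupOf] at h3
  exact top_le_iff.1 h3

end finite

theorem dser_eq_bot_iff {G : Type*} [Group G] (K : Subgroup G) (n : ℕ) :
    dser K n = ⊥ ↔ derivedSeries K n = ⊥ := by
  rw [dser_subtype, Subgroup.map_eq_bot_iff_of_injective _ K.subtype_injective]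

section finite2
variable {G : Type*} [Group G] [Finite G] (p : ℕ) [Fact p.Prime]

theorem relIndex_map_subtype_self (N : Subgroup G) (K : Subgroup N) :
    (K.map N.subtype).relIndex N = K.index := by
  unfold Subgroup.relIndex Subgroup.subgroupOf
  rw [Subgroup.comap_map_eq_self_of_injective N.subtype_injective]

/-- extension lemma: a normal subgroup `N` of `p`-length `≤ a`, a `p'`-section `M/N`, and a
quotient `G/M` of `p`-length `≤ b` give `p`-length `≤ a + b`. -/
theorem plength_extension (N M : Subgroup G) [N.Normal] [M.Normal] (hNM : N ≤ M)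
    (hcop : (N.relIndex M).Coprime p) (a b : ℕ) (ha : PLengthLE p a N)
    (hb : PLengthLE p b (G ⧸ M)) : PLengthLE p (a + b) G := by
  classical
  unfold PLengthLE at ha hb ⊢
  have ha' : ups p N (2 * a + 1) = ⊤ := ha
  have hb' : ups p (G ⧸ M) (2 * b + 1) = ⊤ := hb
  obtain ⟨Z, hZdef⟩ : ∃ Z : ℕ → Subgroup G, Z = fun i =>
    if i ≤ 2 * a then (ups p N i).map N.subtype
    else (ups p (G ⧸ M) (i - 2 * a)).comap (QuotientGroup.mk' M) := ⟨_, rfl⟩
  have hZlo : ∀ i, i ≤ 2 * a → Z i = (ups p N i).map N.subtype := by
    intro i hi; rw [hZdef]; exact if_pos hi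
  have hZhi : ∀ i, ¬ i ≤ 2 * a →
      Z i = (ups p (G ⧸ M) (i - 2 * a)).comap (QuotientGroup.mk' M) := by
    intro i hi; rw [hZdef]; exact if_neg hi
  have hM : ∀ j, M ≤ (ups p (G ⧸ M) j).comap (QuotientGroup.mk' M) := by
    intro j
    conv_lhs => rw [← QuotientGroup.ker_mk' M]
    exact MonoidHom.ker_le_comap _ _
  have key : ∀ n, Z n ≤ ups p G n := by
    apply le_ups_of_chain p Z
    · rw [hZlo 0 (Nat.zero_le _), ups_zero, Subgroup.map_bot]
    · intro n
      by_cases hn : n ≤ 2 * a
      · rw [hZlo n hn]; exact ups_subgroup_normal p N n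
      · rw [hZhi n hn]; infer_instance
    · intro n he
      by_cases hn : n + 1 ≤ 2 * a
      · rw [hZlo n (by omega), hZlo (n + 1) hn,
          Subgroup.relIndex_map_map_of_injective _ _ N.subtype_injective]
        exact ups_relIndex_even p he
      · by_cases hn2 : n ≤ 2 * a
        · have hn3 : n = 2 * a := by omega
          subst hn3
          rw [hZlo _ hn2, hZhi _ hn]
          have e1 : 2 * a + 1 - 2 * a = 1 := by omega
          rw [e1]
          have hA : (ups p N (2 * a)).map N.subtype ≤ N := Subgroup.map_subtype_le _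
          rw [← Subgroup.relIndex_mul_relIndex _ _ _ hA (hNM.trans (hM 1)),
            ← Subgroup.relIndex_mul_relIndex _ _ _ hNM (hM 1)]
          apply Nat.Coprime.mul_left
          · rw [relIndex_map_subtype_self, ← Subgroup.relIndex_top_right, ← ha']
            exact ups_relIndex_even p he
          · apply Nat.Coprime.mul_left hcop
            rw [relIndex_comap_mk]
            exact card_ups_one_coprime p
        · rw [hZhi n hn2, hZhi (n + 1) hn,
            relIndex_comap_comap _ (QuotientGroup.mk'_surjective M)]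
          have e1 : n + 1 - 2 * a = (n - 2 * a) + 1 := by omega
          rw [e1]
          apply ups_relIndex_even p
          exact (Nat.even_sub (by omega)).2 ⟨fun _ => even_two_mul a, fun _ => he⟩
    · intro n he
      by_cases hn : n + 1 ≤ 2 * a
      · rw [hZlo n (by omega), hZlo (n + 1) hn,
          Subgroup.relIndex_map_map_of_injective _ _ N.subtype_injective]
        exact ups_relIndex_odd p he
      · by_cases hn2 : n ≤ 2 * a
        · exfalso
          have hn3 : n = 2 * a := by omega
          exact he (hn3 ▸ even_two_mul a)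
        · rw [hZhi n hn2, hZhi (n + 1) hn,
            relIndex_comap_comap _ (QuotientGroup.mk'_surjective M)]
          have e1 : n + 1 - 2 * a = (n - 2 * a) + 1 := by omega
          rw [e1]
          apply ups_relIndex_odd p
          intro h
          apply he
          exact ((Nat.even_sub (by omega)).1 h).2 (even_two_mul a)
  have h := key (2 * (a + b) + 1)
  rw [hZhi _ (by omega)] at h
  have e : 2 * (a + b) + 1 - 2 * a = 2 * b + 1 := by omega
  rw [e, hb', Subgroup.comap_top] at h
  exact top_le_iff.1 h

end finite2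

end Cfsg.Agent.Lib.Helper4

namespace Cfsg.Agent.Lib.Helper4

open Cfsg

section finite3
variable {G : Type*} [Group G] [Finite G] (p : ℕ) [Fact p.Prime]

theorem plength_mono {k k' : ℕ} (hk : k ≤ k') (h : PLengthLE p k G) : PLengthLE p k' G := by
  unfold PLengthLE at h ⊢
  have h1 : ups p G (2 * k + 1) = ⊤ := h
  have h2 : ups p G (2 * k + 1) ≤ ups p G (2 * k' + 1) := ups_mono p (by omega)
  rw [h1] at h2
  exact top_le_iff.1 h2

theorem plength_of_coprime (h : (Nat.card G).Coprime p) : PLengthLE p 0 G := by
  classical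
  unfold PLengthLE
  obtain ⟨V, hV⟩ : ∃ V : ℕ → Subgroup G, V = fun n => if n = 0 then ⊥ else ⊤ := ⟨_, rfl⟩
  have hV0 : V 0 = ⊥ := by rw [hV]; simp
  have hVs : ∀ n, V (n + 1) = ⊤ := by intro n; rw [hV]; simp
  have key := le_ups_of_chain p V hV0
    (by
      intro n
      rcases Nat.eq_zero_or_eq_succ_pred n with h0 | h1
      · rw [h0, hV0]; infer_instance
      · rw [h1, hVs]; infer_instance)
    (by
      intro n _
      rcases Nat.eq_zero_or_eq_succ_pred n with h0 | h1
      · rw [h0, hV0, hVs, Subgroup.relIndex_bot_left, Nat.card_congr Subgroup.topEquiv.toEquiv]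
        exact h
      · rw [h1, hVs, hVs, Subgroup.relIndex_self]
        exact Nat.coprime_one_left p)
    (by
      intro n hn
      rcases Nat.eq_zero_or_eq_succ_pred n with h0 | h1
      · exact absurd (h0 ▸ (by decide : Even 0)) hn
      · refine ⟨0, ?_⟩
        rw [h1, hVs, hVs, Subgroup.relIndex_self, pow_zero])
  have h1 := key (2 * 0 + 1)
  rw [hVs] at h1
  exact top_le_iff.1 h1

theorem plength_of_pgroup (h : IsPGroup p G) : PLengthLE p 1 G := by
  classical
  unfold PLengthLE
  obtain ⟨V, hV⟩ : ∃ V : ℕ → Subgroup G, V = fun n => if n ≤ 1 then ⊥ else ⊤ := ⟨_, rfl⟩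
  have hVlo : ∀ n, n ≤ 1 → V n = ⊥ := by intro n hn; rw [hV]; exact if_pos hn
  have hVhi : ∀ n, ¬ n ≤ 1 → V n = ⊤ := by intro n hn; rw [hV]; exact if_neg hn
  have key := le_ups_of_chain p V (hVlo 0 (by omega))
    (by
      intro n
      by_cases hn : n ≤ 1
      · rw [hVlo n hn]; infer_instance
      · rw [hVhi n hn]; infer_instance)
    (by
      intro n he
      by_cases hn : n + 1 ≤ 1
      · rw [hVlo n (by omega), hVlo (n + 1) hn, Subgroup.relIndex_self]
        exact Nat.coprime_one_left p
      · by_cases hn2 : n ≤ 1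
        · exfalso
          have : n = 1 := by omega
          rw [this] at he
          exact absurd he (by decide)
        · rw [hVhi n hn2, hVhi (n + 1) hn, Subgroup.relIndex_self]
          exact Nat.coprime_one_left p)
    (by
      intro n _
      by_cases hn : n + 1 ≤ 1
      · refine ⟨0, ?_⟩
        rw [hVlo n (by omega), hVlo (n + 1) hn, Subgroup.relIndex_self, pow_zero]
      · by_cases hn2 : n ≤ 1
        · rw [hVlo n hn2, hVhi (n + 1) hn, Subgroup.relIndex_bot_left,
            Nat.card_congr Subgroup.topEquiv.toEquiv]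
          exact h.exists_card_eq
        · refine ⟨0, ?_⟩
          rw [hVhi n hn2, hVhi (n + 1) hn, Subgroup.relIndex_self, pow_zero])
  have h1 := key (2 * 1 + 1)
  rw [hVhi _ (by omega)] at h1
  exact top_le_iff.1 h1

end finite3

end Cfsg.Agent.Lib.Helper4
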