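import Cfsg.Agent.Lib.Helper4.QuadPair8
import Cfsg.Agent.Lib.Helper1.PGroupMax

/-! `p`-stability on the Frattini quotient of a normal `p`-subgroup, and elementary abelian
closures. -/

namespace Cfsg.Agent.Lib.Helper4

open Cfsg.Agent.Lib.Helper3
open scoped commutatorElement

section QuadPairI

universe u

variable {G : Type u} [Group G]

/-- pairwise commuting elements of order dividing `p` generate an elementary abelian group -/
theorem qp_closure_elemAb (p : ℕ) (T : Set G) (hcomm : ∀ x ∈ T, ∀ y ∈ T, x * y = y * x)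
    (hpow : ∀ x ∈ T, x ^ p = 1) :
    (∀ y ∈ Subgroup.closure T, ∀ z ∈ Subgroup.closure T, y * z = z * y) ∧
      ∀ y ∈ Subgroup.closure T, y ^ p = 1 := by
  have hgen : ∀ y ∈ Subgroup.closure T, ∀ t ∈ T, Commute y t := by
    intro y hy
    induction hy using Subgroup.closure_induction with
    | mem z hz => exact fun t ht => hcomm z hz t ht
    | one => exact fun t _ => Commute.one_left _
    | mul y z _ _ ihy ihz => exact fun t ht => (ihy t ht).mul_left (ihz t ht)
    | inv y _ ih => exact fun t ht => (ih t ht).inv_left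
  have hcc : ∀ y ∈ Subgroup.closure T, ∀ z ∈ Subgroup.closure T, Commute y z := by
    intro y hy z hz
    induction hz using Subgroup.closure_induction with
    | mem z hz => exact hgen y hy z hz
    | one => exact Commute.one_right _
    | mul z1 z2 _ _ ih1 ih2 => exact ih1.mul_right ih2
    | inv z _ ih => exact ih.inv_right
  refine ⟨fun y hy z hz => (hcc y hy z hz).eq, ?_⟩
  intro y hy
  induction hy using Subgroup.closure_induction with
  | mem z hz => exact hpow z hz
  | one => exact one_pow _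
  | mul y z hy hz ihy ihz => rw [(hcc y hy z hz).mul_pow, ihy, ihz, one_mul]
  | inv y _ ih => rw [inv_pow, ih, inv_one]

theorem qp_isElementaryAbelian_of (p : ℕ) (V : Subgroup G)
    (hcomm : ∀ x ∈ V, ∀ y ∈ V, x * y = y * x) (hpow : ∀ x ∈ V, x ^ p = 1) :
    Cfsg.IsElementaryAbelian p V :=
  ⟨⟨⟨fun a b => Subtype.ext (hcomm a a.2 b b.2)⟩⟩, hpow⟩

/-- the Frattini quotient of a normal `p`-subgroup: commutators and `p`-th powers -/
theorem qp_frattini_facts [Finite G] (p : ℕ) [Fact p.Prime] (P : Subgroup G) (hP : IsPGroup p P) :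
    (∀ x ∈ P, ∀ y ∈ P, ⁅x, y⁆ ∈ (frattini ↥P).map P.subtype) ∧
      ∀ x ∈ P, x ^ p ∈ (frattini ↥P).map P.subtype := by
  have hmemT : ∀ x : P, x ∈ frattini P → (x : G) ∈ (frattini ↥P).map P.subtype :=
    fun x hx => ⟨x, hx, rfl⟩
  constructor
  · intro x hx y hy
    have h1 : ⁅(⟨x, hx⟩ : P), ⟨y, hy⟩⁆ ∈ frattini P := by
      unfold frattini Order.radical
      simp only [Subgroup.mem_iInf]
      intro M hM
      have hco : IsCoatom M := hM
      exact Cfsg.Agent.Lib.Helper1.commutator_le_coatom_of_isPGroup hP hco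
        (Subgroup.commutator_mem_commutator (Subgroup.mem_top _) (Subgroup.mem_top _))
    have h2 := hmemT _ h1
    simpa [commutatorElement_def] using h2
  · intro x hx
    have h1 : (⟨x, hx⟩ : P) ^ p ∈ frattini P := by
      unfold frattini Order.radical
      simp only [Subgroup.mem_iInf]
      intro M hM
      have hco : IsCoatom M := hM
      exact Cfsg.Agent.Lib.Helper1.pow_mem_coatom_of_isPGroup hP hco _
    have h2 := hmemT _ h1
    simpa using h2

theorem qp_pstable_section [Finite G] (p : ℕ) [Fact p.Prime] (hp2 : p ≠ 2)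
    (hsol : Cfsg.IsPSolvable p G)
    (hno : ¬ (p = 3 ∧ Cfsg.Involves (Matrix.SpecialLinearGroup (Fin 2) (ZMod 3)) G))
    (P : Subgroup G) [P.Normal] (hP : IsPGroup p P) :
    Cfsg.IsPStableOnSection p P ((frattini ↥P).map P.subtype) := by
  have hp := (Fact.out : p.Prime)
  intro a ha
  obtain ⟨F, hF⟩ : ∃ F : Subgroup G, F = (frattini ↥P).map P.subtype := ⟨_, rfl⟩
  haveI hFn : F.Normal := hF ▸ inferInstance
  obtain ⟨hcF, hpF⟩ := qp_frattini_facts p P hP
  rw [← hF] at hcF hpF ha
  have hsec : Cfsg.sectionKernel P ((frattini ↥P).map P.subtype) = Cfsg.sectionKernel P F := by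
    subst hF; rfl
  rw [hsec]
  obtain ⟨Vb, hVbdef⟩ : ∃ Vb : Subgroup (G ⧸ F), Vb = P.map (QuotientGroup.mk' F) := ⟨_, rfl⟩
  haveI hVbn : Vb.Normal :=
    hVbdef ▸ Subgroup.Normal.map inferInstance _ (QuotientGroup.mk'_surjective F)
  have hVb : Cfsg.IsElementaryAbelian p Vb := by
    apply qp_isElementaryAbelian_of
    · intro x hx y hy
      rw [hVbdef] at hx hy
      obtain ⟨x', hx', rfl⟩ := Subgroup.mem_map.1 hx
      obtain ⟨y', hy', rfl⟩ := Subgroup.mem_map.1 hy
      rw [← map_mul, ← map_mul]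
      apply (QuotientGroup.eq).2
      have h1 : (x' * y')⁻¹ * (y' * x') = ⁅y'⁻¹, x'⁻¹⁆ := by
        rw [commutatorElement_def]; group
      rw [h1]
      exact hcF _ (inv_mem hy') _ (inv_mem hx')
    · intro x hx
      rw [hVbdef] at hx
      obtain ⟨x', hx', rfl⟩ := Subgroup.mem_map.1 hx
      rw [← map_pow]
      exact (QuotientGroup.eq_one_iff _).2 (hpF x' hx')
  have hquad : ⁅⁅Vb, Subgroup.zpowers (QuotientGroup.mk' F a)⁆,
      Subgroup.zpowers (QuotientGroup.mk' F a)⁆ = ⊥ := by
    rw [hVbdef, ← MonoidHom.map_zpowers, ← Subgroup.map_commutator, ← Subgroup.map_commutator,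
      eq_bot_iff]
    calc Subgroup.map (QuotientGroup.mk' F) ⁅⁅P, Subgroup.zpowers a⁆, Subgroup.zpowers a⁆
        ≤ F.map (QuotientGroup.mk' F) := Subgroup.map_mono ha
      _ = ⊥ := QuotientGroup.map_mk'_self F
  have hsolq : Cfsg.IsPSolvable p (G ⧸ F) :=
    Cfsg.Agent.Lib.Helper7.isPSolvable_quotient hp hsol F
  have hmem : (QuotientGroup.mk (QuotientGroup.mk' F a) :
      (G ⧸ F) ⧸ Subgroup.centralizer (Vb : Set (G ⧸ F))) ∈
      Cfsg.pCore p ((G ⧸ F) ⧸ Subgroup.centralizer (Vb : Set (G ⧸ F))) := by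
    by_contra hna
    obtain ⟨h3, hinv⟩ := qp_pstable_on p hp2 hsolq Vb hVb (QuotientGroup.mk' F a) hquad hna
    exact hno ⟨h3, qp_involves_trans hinv (involves_quotient involves_self F)⟩
  obtain ⟨π, hπ⟩ : ∃ π : G →* (G ⧸ F) ⧸ Subgroup.centralizer (Vb : Set (G ⧸ F)),
      π = (QuotientGroup.mk' (Subgroup.centralizer (Vb : Set (G ⧸ F)))).comp
        (QuotientGroup.mk' F) := ⟨_, rfl⟩
  have hπs : Function.Surjective π := by
    rw [hπ]
    exact (QuotientGroup.mk'_surjective _).comp (QuotientGroup.mk'_surjective F)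
  have hker : Cfsg.sectionKernel P F = (⊥ : Subgroup _).comap π := by
    ext x
    unfold Cfsg.sectionKernel
    rw [Subgroup.mem_comap, Subgroup.mem_comap, Subgroup.mem_bot, hπ, MonoidHom.comp_apply,
      ← hVbdef]
    exact (QuotientGroup.eq_one_iff _).symm
  refine ⟨(Cfsg.pCore p _).comap π, (Cfsg.pCore_normal p _).comap π, ?_, ?_, ?_⟩
  · rw [hker]
    exact Subgroup.comap_mono bot_le
  · rw [hker, Subgroup.relIndex_comap, Subgroup.relIndex_bot_left,
      Subgroup.map_comap_eq_self_of_surjective hπs]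
    exact IsPGroup.iff_card.1 pCore_isPGroup
  · rw [Subgroup.mem_comap, hπ]
    exact hmem

end QuadPairI

end Cfsg.Agent.Lib.Helper4
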