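import Mathlib
import Cfsg.Prelude.Def_Local
import Cfsg.Prelude.Def_Solvable
import Cfsg.Agent.Lib.Helper4.QuadPair9
import Cfsg.Agent.Lib.Helper4.QuadPairA
import Cfsg.Agent.Lib.Helper4.QuadPairB

/-!
# Elements acting quadratically on `O_p/Φ(O_p)` lie in `O_p`
-/

open scoped commutatorElement

namespace Cfsg.Agent.Lib.Helper4

universe u

section PSS

variable {Y : Type u} [Group Y] [Finite Y]

/-- In a `p`-stable situation with `C(O_p) ≤ O_p`, an element acting quadratically on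
`O_p/Φ(O_p)` lies in `O_p`. -/
theorem pss_mem_pCore_of_section (p : ℕ) [Fact p.Prime] (hp2 : p ≠ 2)
    (hsol : Cfsg.IsPSolvable p Y)
    (hno : ¬ (p = 3 ∧ Cfsg.Involves (Matrix.SpecialLinearGroup (Fin 2) (ZMod 3)) Y))
    (hHH : Subgroup.centralizer (Cfsg.pCore p Y : Set Y) ≤ Cfsg.pCore p Y) (a : Y)
    (hq : ⁅⁅Cfsg.pCore p Y, Subgroup.zpowers a⁆, Subgroup.zpowers a⁆ ≤
      (frattini ↥(Cfsg.pCore p Y)).map (Cfsg.pCore p Y).subtype) :
    a ∈ Cfsg.pCore p Y := by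
  obtain ⟨Q, hQdef⟩ : ∃ Q : Subgroup Y, Q = Cfsg.pCore p Y := ⟨_, rfl⟩
  haveI hQn : Q.Normal := hQdef ▸ pCore_normal p
  have hQp : IsPGroup p Q := hQdef ▸ pCore_isPGroup
  rw [← hQdef] at hHH hq ⊢
  have hsec := qp_pstable_section p hp2 hsol hno Q hQp
  obtain ⟨D₁, hD₁n, hKD₁, ⟨k, hk⟩, haD₁⟩ := hsec a hq
  haveI : (Subgroup.map (QuotientGroup.mk' ((frattini ↥Q).map Q.subtype)) Q).Normal :=
    hQn.map _ (QuotientGroup.mk'_surjective _)
  haveI hKn : (Cfsg.sectionKernel Q ((frattini ↥Q).map Q.subtype)).Normal := by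
    unfold Cfsg.sectionKernel
    exact (inferInstance : (Subgroup.centralizer _).Normal).comap _
  have hD₁Q : D₁ ≤ Q := by
    rw [hQdef]
    apply le_sSup
    refine ⟨hD₁n, ?_⟩
    rintro ⟨d, hd⟩
    have h1 : d ^ (p ^ k) ∈ Cfsg.sectionKernel Q ((frattini ↥Q).map Q.subtype) := by
      rw [← hk]
      exact Subgroup.pow_relIndex_mem _ hd
    obtain ⟨j, hj⟩ := qp_burnside_pow p Q hQp (d ^ (p ^ k)) (qp_sectionKernel_comm _ _ _ h1)
    have h2 : (d ^ (p ^ k)) ^ (p ^ j) ∈ Q := hHH hj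
    obtain ⟨i, hi⟩ := hQp ⟨_, h2⟩
    refine ⟨k + j + i, Subtype.ext ?_⟩
    rw [Subgroup.coe_pow, Subgroup.coe_one]
    have h3 := congrArg Subtype.val hi
    rw [Subgroup.coe_pow, Subgroup.coe_one] at h3
    rw [pow_add, pow_add, pow_mul, pow_mul]
    exact h3
  exact hD₁Q haD₁

/-- A `p`-element `y` normalising the cyclic `p`-group `⟨g⟩`: `y g y⁻¹ = g ^ k` with
`k ≡ 1 (mod p)` (if `g ≠ 1`). -/
theorem pss_cyclic_conj (p : ℕ) [Fact p.Prime] (g y : Y) (j : ℕ) (hy : y ^ (p ^ j) = 1)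
    (hg : ∃ i : ℕ, g ^ (p ^ i) = 1) (k : ℤ) (hk : y * g * y⁻¹ = g ^ k) :
    g = 1 ∨ ∃ m : ℤ, k = 1 + p * m := by
  by_cases hg1 : g = 1
  · exact Or.inl hg1
  right
  have hpp := (Fact.out : p.Prime)
  -- iterate
  have hit : ∀ n : ℕ, y ^ n * g * (y ^ n)⁻¹ = g ^ (k ^ n) := by
    intro n
    induction n with
    | zero => simp
    | succ n ih =>
      have h1 : y ^ (n + 1) * g * (y ^ (n + 1))⁻¹ = y * (y ^ n * g * (y ^ n)⁻¹) * y⁻¹ := by
        rw [pow_succ']; group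
      rw [h1, ih]
      have h2 : y * g ^ (k ^ n) * y⁻¹ = (y * g * y⁻¹) ^ (k ^ n) := by
        have := map_zpow (MulAut.conj y) g (k ^ n)
        simpa [MulAut.conj_apply] using this
      rw [h2, hk, ← zpow_mul, pow_succ']
  have h1 := hit (p ^ j)
  rw [hy, one_mul, inv_one, mul_one] at h1
  have h2 : g ^ (k ^ (p ^ j) - 1) = 1 := by
    rw [zpow_sub, zpow_one, ← h1, mul_inv_cancel]
  have h3 : (orderOf g : ℤ) ∣ k ^ (p ^ j) - 1 := orderOf_dvd_iff_zpow_eq_one.2 h2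
  obtain ⟨i, hi⟩ := hg
  have h4 : orderOf g ∣ p ^ i := orderOf_dvd_of_pow_eq_one hi
  obtain ⟨i', hi', hi''⟩ := (Nat.dvd_prime_pow hpp).1 h4
  have h5 : p ∣ orderOf g := by
    rw [hi'']
    cases i' with
    | zero =>
      exfalso
      rw [pow_zero, orderOf_eq_one_iff] at hi''
      exact hg1 hi''
    | succ i' => exact dvd_pow_self p (Nat.succ_ne_zero i')
  have h6 : (p : ℤ) ∣ k ^ (p ^ j) - 1 := (Int.natCast_dvd_natCast.2 h5).trans h3
  have h7 : ((k ^ (p ^ j) - 1 : ℤ) : ZMod p) = 0 := (ZMod.intCast_zmod_eq_zero_iff_dvd _ p).2 h6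
  have h8 : ((k : ZMod p)) ^ (p ^ j) = 1 := by
    push_cast at h7
    exact sub_eq_zero.1 h7
  have h9 : ((k : ZMod p)) = 1 := by
    rw [ZMod.pow_card_pow] at h8
    exact h8
  have h10 : ((k - 1 : ℤ) : ZMod p) = 0 := by
    push_cast
    rw [h9, sub_self]
  obtain ⟨m, hm⟩ := (ZMod.intCast_zmod_eq_zero_iff_dvd _ p).1 h10
  exact ⟨m, by linarith⟩

end PSS

end Cfsg.Agent.Lib.Helper4
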