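import Mathlib

/-!
Fixed vectors of `p`-groups in characteristic `p`, and transitivity of Sylow subgroups
on sets of prime power size.
-/

namespace Cfsg.Agent.Lib.Helper4

section FixedVector

theorem pgroup_fixed_vector {P : Type*} [Group P] [Finite P] {p : ℕ} [Fact p.Prime]
    (hP : IsPGroup p P) {K : Type*} [Field K] [CharP K p] {V : Type*} [AddCommGroup V]
    [Module K V] (ρ : Representation K P V) (M : Submodule K V)
    (hM : ∀ g, ∀ v ∈ M, ρ g v ∈ M) (hne : M ≠ ⊥) :
    ∃ v ∈ M, v ≠ 0 ∧ ∀ g, ρ g v = v := by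
  classical
  haveI := Fintype.ofFinite P
  have hp := (Fact.out : p.Prime)
  obtain ⟨v₀, hv₀M, hv₀⟩ := (Submodule.ne_bot_iff M).mp hne
  obtain ⟨ι, hι⟩ : ∃ ι : ZMod p →+* K, ι = ZMod.castHom (dvd_refl p) K := ⟨_, rfl⟩
  let Φ : (P → ZMod p) →+ V :=
    { toFun := fun c => ∑ g, ι (c g) • ρ g v₀
      map_zero' := by simp
      map_add' := by
        intro c d
        simp only [Pi.add_apply, map_add, add_smul, Finset.sum_add_distrib] }
  have hΦ : ∀ c, Φ c = ∑ g, ι (c g) • ρ g v₀ := fun c => rfl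
  obtain ⟨A, hA⟩ : ∃ A : AddSubgroup V, A = Φ.range := ⟨_, rfl⟩
  have hAM : ∀ w ∈ A, w ∈ M := by
    intro w hw
    rw [hA] at hw
    obtain ⟨c, rfl⟩ := hw
    rw [hΦ]
    exact M.sum_mem (fun g _ => M.smul_mem _ (hM g v₀ hv₀M))
  have hv₀A : v₀ ∈ A := by
    rw [hA]
    refine ⟨Pi.single 1 1, ?_⟩
    rw [hΦ, Finset.sum_eq_single (1 : P)]
    · simp
    · intro g _ hg
      rw [Pi.single_eq_of_ne hg, map_zero, zero_smul]
    · intro h
      exact absurd (Finset.mem_univ _) h
  have hAinv : ∀ h : P, ∀ w ∈ A, ρ h w ∈ A := by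
    intro h w hw
    rw [hA] at hw ⊢
    obtain ⟨c, rfl⟩ := hw
    refine ⟨fun g => c (h⁻¹ * g), ?_⟩
    rw [hΦ, hΦ, map_sum]
    apply Fintype.sum_equiv (Equiv.mulLeft h⁻¹)
    intro g
    simp only [Equiv.coe_mulLeft, map_smul]
    rw [← Module.End.mul_apply, ← map_mul, mul_inv_cancel_left]
  haveI hfin : Finite ↥A := by
    rw [hA]
    exact Finite.of_surjective Φ.rangeRestrict Φ.rangeRestrict_surjective
  have hcard : p ∣ Nat.card ↥A := by
    have h1 : Nat.card ↥A ∣ Nat.card (P → ZMod p) := by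
      rw [hA]
      exact AddSubgroup.card_range_dvd Φ
    have h2 : Nat.card (P → ZMod p) = p ^ Fintype.card P := by
      rw [Nat.card_eq_fintype_card, Fintype.card_fun, ZMod.card]
    rw [h2] at h1
    obtain ⟨k, -, hk⟩ := (Nat.dvd_prime_pow hp).mp h1
    rw [hk]
    have hk0 : k ≠ 0 := by
      intro h0
      rw [h0, pow_zero] at hk
      haveI : Subsingleton ↥A := (Nat.card_eq_one_iff_unique.mp hk).1
      have : (⟨v₀, hv₀A⟩ : ↥A) = (0 : ↥A) := Subsingleton.elim _ _
      exact hv₀ (congrArg Subtype.val this)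
    exact dvd_pow_self p hk0
  letI : MulAction P ↥A :=
    { smul := fun g w => ⟨ρ g w.1, hAinv g w.1 w.2⟩
      one_smul := by
        intro w
        apply Subtype.ext
        change ρ 1 w.1 = w.1
        rw [map_one]
        rfl
      mul_smul := by
        intro g h w
        apply Subtype.ext
        change ρ (g * h) w.1 = ρ g (ρ h w.1)
        rw [map_mul]
        rfl }
  have h0 : (0 : ↥A) ∈ MulAction.fixedPoints P ↥A := by
    intro g
    apply Subtype.ext
    change ρ g (0 : V) = 0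
    exact map_zero _
  obtain ⟨b, hb, hb0⟩ := hP.exists_fixed_point_of_prime_dvd_card_of_fixed_point ↥A hcard h0
  refine ⟨b.1, hAM _ b.2, ?_, ?_⟩
  · intro h
    apply hb0
    apply Subtype.ext
    exact h.symm
  · intro g
    exact congrArg Subtype.val (hb g)

end FixedVector


section SylowTrans

theorem sylow_transitive_of_card_pow {G : Type*} [Group G] [Finite G] {Ω : Type*} [Fintype Ω]
    [MulAction G Ω] [MulAction.IsPretransitive G Ω] {p f : ℕ} [Fact p.Prime]
    (hcard : Fintype.card Ω = p ^ f) (P : Sylow p G) (x y : Ω) :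
    ∃ g ∈ (P : Subgroup G), g • x = y := by
  have hp := (Fact.out : p.Prime)
  obtain ⟨H, hH⟩ : ∃ H : Subgroup G, H = MulAction.stabilizer G x := ⟨_, rfl⟩
  have hHidx : H.index = p ^ f := by
    rw [hH, MulAction.index_stabilizer_of_transitive, Nat.card_eq_fintype_card, hcard]
  have e1 : (H ⊓ (P : Subgroup G)).relIndex (P : Subgroup G) * (P : Subgroup G).index =
      (H ⊓ (P : Subgroup G)).index := Subgroup.relIndex_mul_index inf_le_right
  have e2 : (H ⊓ (P : Subgroup G)).relIndex H * H.index =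
      (H ⊓ (P : Subgroup G)).index := Subgroup.relIndex_mul_index inf_le_left
  have hrel : (H ⊓ (P : Subgroup G)).relIndex (P : Subgroup G) = H.relIndex (P : Subgroup G) :=
    Subgroup.inf_relIndex_right _ _
  obtain ⟨n, hn⟩ := IsPGroup.iff_card.mp P.isPGroup'
  have hdvd : H.relIndex (P : Subgroup G) ∣ p ^ n := by
    rw [← hn]
    exact Subgroup.relIndex_dvd_card _ _
  obtain ⟨k, -, hk⟩ := (Nat.dvd_prime_pow hp).mp hdvd
  have hndvd : ¬ p ∣ (P : Subgroup G).index := P.not_dvd_index
  have hfk : p ^ f ∣ p ^ k := by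
    have h1 : p ^ f ∣ p ^ k * (P : Subgroup G).index := by
      rw [← hk, ← hrel, e1, ← e2, hHidx]
      exact dvd_mul_left _ _
    have hcop : Nat.Coprime (p ^ f) (P : Subgroup G).index :=
      Nat.Coprime.pow_left f ((Nat.Prime.coprime_iff_not_dvd hp).mpr hndvd)
    exact hcop.dvd_of_dvd_mul_right h1
  -- the orbit of `x` under `P`
  have hstab : MulAction.stabilizer (↥(P : Subgroup G)) x = H.subgroupOf (P : Subgroup G) := by
    ext g
    rw [MulAction.mem_stabilizer_iff, Subgroup.mem_subgroupOf, hH, MulAction.mem_stabilizer_iff]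
    rfl
  have horb : (MulAction.orbit (↥(P : Subgroup G)) x).ncard = p ^ k := by
    rw [← MulAction.index_stabilizer, hstab, ← hk]
    rfl
  have huniv : MulAction.orbit (↥(P : Subgroup G)) x = Set.univ := by
    apply Set.eq_of_subset_of_ncard_le (Set.subset_univ _)
    rw [Set.ncard_univ, Nat.card_eq_fintype_card, hcard, horb]
    exact Nat.le_of_dvd (pow_pos hp.pos _) hfk
  have hy : y ∈ MulAction.orbit (↥(P : Subgroup G)) x := by
    rw [huniv]
    exact Set.mem_univ _
  obtain ⟨g, hg⟩ := hy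
  exact ⟨g.1, g.2, hg⟩

end SylowTrans

end Cfsg.Agent.Lib.Helper4
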