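import Mathlib

/-!
Polynomial functions on a finite set `Ω` with an injective coordinate `c : Ω → K`.
Every function `Ω → K` is given by a unique polynomial of degree `< #Ω`.
-/

namespace Cfsg.Agent.Lib.Helper4

open Polynomial

section PD

variable {K : Type*} [Field K] {Ω : Type*} [Fintype Ω] [DecidableEq Ω]

/-- The interpolating polynomial of a function. -/
noncomputable def pdIp (c : Ω → K) : (Ω → K) →ₗ[K] K[X] :=
  Lagrange.interpolate Finset.univ c

/-- The function of a polynomial. -/
noncomputable def pdFun (c : Ω → K) (Q : K[X]) : Ω → K := fun x => Q.eval (c x)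

theorem pdIp_eval {c : Ω → K} (hc : Function.Injective c) (f : Ω → K) (x : Ω) :
    (pdIp c f).eval (c x) = f x :=
  Lagrange.eval_interpolate_at_node f (hc.injOn) (Finset.mem_univ x)

theorem pdFun_pdIp {c : Ω → K} (hc : Function.Injective c) (f : Ω → K) :
    pdFun c (pdIp c f) = f := by
  funext x
  exact pdIp_eval hc f x

theorem pdIp_degree_lt {c : Ω → K} (hc : Function.Injective c) (f : Ω → K) :
    (pdIp c f).degree < (Fintype.card Ω : WithBot ℕ) := by
  have := Lagrange.degree_interpolate_lt (s := Finset.univ) (v := c) f hc.injOn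
  simpa [pdIp, Finset.card_univ] using this

theorem pdIp_natDegree_lt {c : Ω → K} (hc : Function.Injective c) [Nonempty Ω] (f : Ω → K) :
    (pdIp c f).natDegree < Fintype.card Ω := by
  by_cases h0 : pdIp c f = 0
  · rw [h0, natDegree_zero]
    exact Fintype.card_pos
  · exact (natDegree_lt_iff_degree_lt h0).mpr (pdIp_degree_lt hc f)

theorem pdIp_unique {c : Ω → K} (hc : Function.Injective c) {f : Ω → K} {Q : K[X]}
    (hQ : Q.natDegree < Fintype.card Ω) (h : ∀ x, Q.eval (c x) = f x) : pdIp c f = Q := by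
  have hdeg : Q.degree < ((Finset.univ : Finset Ω).card : WithBot ℕ) := by
    rw [Finset.card_univ]
    exact lt_of_le_of_lt degree_le_natDegree (by exact_mod_cast hQ)
  exact (Lagrange.eq_interpolate_of_eval_eq (s := Finset.univ) (v := c) f hc.injOn hdeg
    (fun i _ => h i)).symm

theorem pdIp_pdFun {c : Ω → K} (hc : Function.Injective c) {Q : K[X]}
    (hQ : Q.natDegree < Fintype.card Ω) : pdIp c (pdFun c Q) = Q :=
  pdIp_unique hc hQ (fun _ => rfl)

theorem pdIp_mul {c : Ω → K} (hc : Function.Injective c) (f g : Ω → K)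
    (h : (pdIp c f).natDegree + (pdIp c g).natDegree < Fintype.card Ω) :
    pdIp c (f * g) = pdIp c f * pdIp c g := by
  apply pdIp_unique hc
  · exact lt_of_le_of_lt natDegree_mul_le h
  · intro x
    rw [eval_mul, pdIp_eval hc, pdIp_eval hc]
    rfl

theorem pdIp_pow {c : Ω → K} (hc : Function.Injective c) (f : Ω → K) (i : ℕ)
    (h : i * (pdIp c f).natDegree < Fintype.card Ω) :
    pdIp c (f ^ i) = (pdIp c f) ^ i := by
  apply pdIp_unique hc
  · rw [natDegree_pow]
    exact h
  · intro x
    rw [eval_pow, pdIp_eval hc]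
    rfl

theorem pdIp_const {c : Ω → K} (hc : Function.Injective c) [Nonempty Ω] (a : K) :
    pdIp c (fun _ => a) = C a := by
  apply pdIp_unique hc
  · rw [natDegree_C]
    exact Fintype.card_pos
  · intro x
    rw [eval_C]

theorem pdIp_coord {c : Ω → K} (hc : Function.Injective c) (h2 : 1 < Fintype.card Ω) :
    pdIp c c = X := by
  apply pdIp_unique hc
  · rw [natDegree_X]
    exact h2
  · intro x
    rw [eval_X]

/-- Functions of degree at most `d`. -/
noncomputable def pdV (c : Ω → K) (d : ℕ) : Submodule K (Ω → K) :=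
  (Polynomial.degreeLE K (d : WithBot ℕ)).comap (pdIp c)

theorem mem_pdV {c : Ω → K} {d : ℕ} {f : Ω → K} :
    f ∈ pdV c d ↔ (pdIp c f).natDegree ≤ d := by
  rw [pdV, Submodule.mem_comap, Polynomial.mem_degreeLE, natDegree_le_iff_degree_le]

theorem pdV_mono {c : Ω → K} {d e : ℕ} (h : d ≤ e) : pdV c d ≤ pdV c e := by
  intro f hf
  rw [mem_pdV] at hf ⊢
  exact hf.trans h

theorem pdFun_mem_pdV {c : Ω → K} (hc : Function.Injective c) {d : ℕ} {Q : K[X]}
    (hd : d < Fintype.card Ω) (hQ : Q.natDegree ≤ d) : pdFun c Q ∈ pdV c d := by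
  rw [mem_pdV, pdIp_pdFun hc (lt_of_le_of_lt hQ hd)]
  exact hQ

theorem pdV_top {c : Ω → K} (hc : Function.Injective c) [Nonempty Ω] {d : ℕ}
    (hd : Fintype.card Ω ≤ d + 1) : pdV c d = ⊤ := by
  rw [eq_top_iff]
  intro f _
  rw [mem_pdV]
  have := pdIp_natDegree_lt hc f
  omega

theorem mem_pdV_zero {c : Ω → K} (hc : Function.Injective c) [Nonempty Ω] {f : Ω → K} :
    f ∈ pdV c 0 ↔ ∃ a : K, f = fun _ => a := by
  rw [mem_pdV]
  constructor
  · intro h
    rw [Nat.le_zero, natDegree_eq_zero] at h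
    obtain ⟨a, ha⟩ := h
    refine ⟨a, ?_⟩
    funext x
    rw [← pdIp_eval hc f x, ← ha, eval_C]
  · rintro ⟨a, rfl⟩
    rw [pdIp_const hc, natDegree_C]

theorem mem_pdV_one {c : Ω → K} (hc : Function.Injective c) (h2 : 1 < Fintype.card Ω)
    {f : Ω → K} : f ∈ pdV c 1 ↔ ∃ a b : K, f = fun x => a + b * c x := by
  rw [mem_pdV]
  constructor
  · intro h
    refine ⟨(pdIp c f).coeff 0, (pdIp c f).coeff 1, ?_⟩
    funext x
    rw [← pdIp_eval hc f x]
    conv_lhs => rw [Polynomial.eq_X_add_C_of_natDegree_le_one h]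
    simp only [eval_add, eval_mul, eval_C, eval_X]
    ring
  · rintro ⟨a, b, rfl⟩
    have : pdIp c (fun x => a + b * c x) = C a + C b * X := by
      apply pdIp_unique hc
      · refine lt_of_le_of_lt ?_ h2
        refine (natDegree_add_le _ _).trans ?_
        rw [natDegree_C]
        exact max_le (Nat.zero_le _) ((natDegree_C_mul_le b X).trans natDegree_X_le)
      · intro x
        simp only [eval_add, eval_mul, eval_C, eval_X]
    rw [this]
    refine (natDegree_add_le _ _).trans ?_
    rw [natDegree_C]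
    exact max_le (Nat.zero_le _) ((natDegree_C_mul_le b X).trans natDegree_X_le)

end PD


section PDSum

variable {K : Type*} [Field K] {Ω : Type*} [Fintype Ω] [DecidableEq Ω]
variable (p : ℕ) [Fact p.Prime] [CharP K p]

/-- The coordinate function attached to a bijection with `ZMod p`. -/
noncomputable def pdCoord (e : Ω ≃ ZMod p) : Ω → K :=
  fun x => ZMod.castHom (dvd_refl p) K (e x)

theorem pdCoord_injective (e : Ω ≃ ZMod p) : Function.Injective (pdCoord (K := K) p e) :=
  (ZMod.castHom (dvd_refl p) K).injective.comp e.injective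

theorem pd_card (e : Ω ≃ ZMod p) : Fintype.card Ω = p := by
  rw [Fintype.card_congr e, ZMod.card]

theorem pd_zmod_sum_pow_top : ∑ i : ZMod p, i ^ (p - 1) = -1 := by
  have hp := (Fact.out : p.Prime)
  have h1 : ∀ i : ZMod p, i ^ (p - 1) = if i = 0 then 0 else 1 := by
    intro i
    split_ifs with h
    · rw [h, zero_pow]
      have := hp.two_le
      omega
    · exact ZMod.pow_card_sub_one_eq_one h
  rw [Finset.sum_congr rfl (fun i _ => h1 i)]
  rw [Finset.sum_ite, Finset.sum_const_zero, zero_add, Finset.sum_const, nsmul_eq_mul, mul_one]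
  have h2 : (Finset.univ.filter (fun i : ZMod p => ¬ i = 0)).card = p - 1 := by
    rw [Finset.filter_not, Finset.card_sdiff_of_subset (Finset.subset_univ _), Finset.card_univ, ZMod.card,
      Finset.filter_eq', if_pos (Finset.mem_univ _), Finset.card_singleton]
  rw [h2, Nat.cast_sub hp.one_le, Nat.cast_one, ZMod.natCast_self, zero_sub]

theorem pdCoord_sum_pow (e : Ω ≃ ZMod p) {j : ℕ} (hj : j < p - 1) :
    ∑ x, (pdCoord (K := K) p e x) ^ j = 0 := by
  unfold pdCoord
  rw [Equiv.sum_comp e (fun i => (ZMod.castHom (dvd_refl p) K i) ^ j)]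
  simp_rw [← map_pow]
  rw [← map_sum, FiniteField.sum_pow_lt_card_sub_one (ZMod p) j (by rw [ZMod.card]; exact hj), map_zero]

theorem pdCoord_sum_pow_top (e : Ω ≃ ZMod p) :
    ∑ x, (pdCoord (K := K) p e x) ^ (p - 1) = -1 := by
  unfold pdCoord
  rw [Equiv.sum_comp e (fun i => (ZMod.castHom (dvd_refl p) K i) ^ (p - 1))]
  simp_rw [← map_pow]
  rw [← map_sum, pd_zmod_sum_pow_top, map_neg, map_one]

theorem pd_sum_eq (e : Ω ≃ ZMod p) (f : Ω → K) :
    ∑ x, f x = - (pdIp (pdCoord (K := K) p e) f).coeff (p - 1) := by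
  have hp := (Fact.out : p.Prime)
  have hc := pdCoord_injective (K := K) p e
  haveI : Nonempty Ω := ⟨e.symm 0⟩
  have hlt : (pdIp (pdCoord (K := K) p e) f).natDegree < p := by
    have := pdIp_natDegree_lt hc f
    rwa [pd_card p e] at this
  have h1 : ∀ x, f x = ∑ j ∈ Finset.range p,
      (pdIp (pdCoord (K := K) p e) f).coeff j * (pdCoord (K := K) p e x) ^ j := by
    intro x
    rw [← pdIp_eval hc f x, eval_eq_sum_range' hlt]
  rw [Finset.sum_congr rfl (fun x _ => h1 x), Finset.sum_comm]
  simp_rw [← Finset.mul_sum]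
  have hpp : p - 1 < p := by have := hp.one_le; omega
  rw [Finset.sum_eq_single (p - 1)]
  · rw [pdCoord_sum_pow_top, mul_neg, mul_one]
  · intro j hj hne
    rw [Finset.mem_range] at hj
    rw [pdCoord_sum_pow p e (by omega), mul_zero]
  · intro h
    exfalso
    apply h
    rw [Finset.mem_range]
    exact hpp

theorem mem_pdV_sub_two (e : Ω ≃ ZMod p) (f : Ω → K) :
    f ∈ pdV (pdCoord (K := K) p e) (p - 2) ↔ ∑ x, f x = 0 := by
  have hp := (Fact.out : p.Prime)
  have hc := pdCoord_injective (K := K) p e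
  haveI : Nonempty Ω := ⟨e.symm 0⟩
  have hlt : (pdIp (pdCoord (K := K) p e) f).natDegree < p := by
    have := pdIp_natDegree_lt hc f
    rwa [pd_card p e] at this
  rw [pd_sum_eq p e f, neg_eq_zero, mem_pdV]
  constructor
  · intro h
    apply coeff_eq_zero_of_natDegree_lt
    have := hp.two_le
    omega
  · intro h
    rw [natDegree_le_iff_coeff_eq_zero]
    intro N hN
    by_cases hN' : N = p - 1
    · rw [hN', h]
    · apply coeff_eq_zero_of_natDegree_lt
      omega

theorem pd_dual (e : Ω ≃ ZMod p) {d : ℕ} (hd : d + 2 ≤ p) (h : Ω → K) :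
    h ∈ pdV (pdCoord (K := K) p e) (p - 2 - d) ↔
      ∀ f ∈ pdV (pdCoord (K := K) p e) d, ∑ x, f x * h x = 0 := by
  have hp := (Fact.out : p.Prime)
  have hc := pdCoord_injective (K := K) p e
  haveI : Nonempty Ω := ⟨e.symm 0⟩
  have hcard := pd_card p e
  have hlt : (pdIp (pdCoord (K := K) p e) h).natDegree < p := by
    have := pdIp_natDegree_lt hc h
    rwa [hcard] at this
  constructor
  · intro hh f hf
    rw [mem_pdV] at hh hf
    have hmul := pdIp_mul hc f h (by rw [hcard]; omega)
    have : f * h ∈ pdV (pdCoord (K := K) p e) (p - 2) := by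
      rw [mem_pdV, hmul]
      refine natDegree_mul_le.trans ?_
      omega
    exact (mem_pdV_sub_two p e (f * h)).mp this
  · intro hall
    rw [mem_pdV]
    by_contra hcon
    rw [not_le] at hcon
    obtain ⟨H, hH⟩ : ∃ H, H = pdIp (pdCoord (K := K) p e) h := ⟨_, rfl⟩
    rw [← hH] at hcon hlt
    have hH0 : H ≠ 0 := by
      intro h0
      rw [h0, natDegree_zero] at hcon
      omega
    obtain ⟨j, hj⟩ : ∃ j, j = p - 1 - H.natDegree := ⟨_, rfl⟩
    have hjd : j ≤ d := by omega
    have hfj : pdFun (pdCoord (K := K) p e) (X ^ j) ∈ pdV (pdCoord (K := K) p e) d := by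
      apply pdFun_mem_pdV hc (by rw [hcard]; omega)
      rw [natDegree_X_pow]
      exact hjd
    have hsum := hall _ hfj
    have hipj : pdIp (pdCoord (K := K) p e) (pdFun (pdCoord (K := K) p e) (X ^ j)) = X ^ j := by
      apply pdIp_pdFun hc
      rw [natDegree_X_pow, hcard]
      omega
    have hmul := pdIp_mul hc (pdFun (pdCoord (K := K) p e) (X ^ j)) h (by
      rw [hipj, natDegree_X_pow, ← hH, hcard]; omega)
    have h2 := pd_sum_eq p e (pdFun (pdCoord (K := K) p e) (X ^ j) * h)
    rw [hmul, hipj, ← hH] at h2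
    have h3 : (X ^ j * H).coeff (p - 1) = H.leadingCoeff := by
      have : p - 1 = H.natDegree + j := by omega
      rw [this, coeff_X_pow_mul]
      rfl
    rw [h3] at h2
    have h4 : ∑ x, (pdFun (pdCoord (K := K) p e) (X ^ j) * h) x = 0 := hsum
    rw [h4] at h2
    have : H.leadingCoeff = 0 := by
      rw [eq_comm, neg_eq_zero] at h2
      exact h2
    exact hH0 (leadingCoeff_eq_zero.mp this)

end PDSum

end Cfsg.Agent.Lib.Helper4
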