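import Mathlib
import Cfsg.Agent.Lib.Helper4.PrimeDeg1

/-!
Shift-invariant subspaces of the functions on a set of prime size `p` (in characteristic `p`)
are the spaces of polynomial functions of bounded degree.
-/

namespace Cfsg.Agent.Lib.Helper4

open Polynomial

section PDShift

variable {K : Type*} [Field K]

theorem pd_taylor_sub_natDegree_le (Q : K[X]) {n : ℕ} (hQ : Q.natDegree = n + 1) :
    (taylor 1 Q - Q).natDegree ≤ n := by
  rw [natDegree_le_iff_coeff_eq_zero]
  intro N hN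
  rw [coeff_sub]
  by_cases hN' : N = n + 1
  · rw [hN', ← hQ, coeff_taylor_natDegree]
    exact sub_self _
  · rw [coeff_eq_zero_of_natDegree_lt, coeff_eq_zero_of_natDegree_lt, sub_zero]
    · omega
    · rw [natDegree_taylor]
      omega

theorem pd_taylor_sub_coeff (Q : K[X]) {n : ℕ} (hQ : Q.natDegree = n + 1) :
    (taylor 1 Q - Q).coeff n = ((n + 1 : ℕ) : K) * Q.coeff (n + 1) := by
  rw [coeff_sub, taylor_coeff]
  have hdeg : (hasseDeriv n Q).natDegree < 2 := by
    have := natDegree_hasseDeriv_le Q n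
    omega
  rw [eval_eq_sum_range' hdeg, Finset.sum_range_succ, Finset.sum_range_one]
  rw [hasseDeriv_coeff, hasseDeriv_coeff]
  simp only [zero_add, Nat.choose_self, Nat.cast_one, one_mul, pow_zero, mul_one, pow_one]
  rw [add_comm 1 n, Nat.choose_succ_self_right]
  ring

end PDShift

section PDShift2

variable {K : Type*} [Field K] {Ω : Type*} [Fintype Ω] [DecidableEq Ω]
variable (p : ℕ) [Fact p.Prime] [CharP K p]

theorem pdIp_shift (e : Ω ≃ ZMod p) (τ : Ω → Ω)
    (hτ : ∀ x, pdCoord (K := K) p e (τ x) = pdCoord (K := K) p e x + 1) (f : Ω → K) :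
    pdIp (pdCoord (K := K) p e) (fun x => f (τ x)) = taylor 1 (pdIp (pdCoord (K := K) p e) f) := by
  have hc := pdCoord_injective (K := K) p e
  haveI : Nonempty Ω := ⟨e.symm 0⟩
  apply pdIp_unique hc
  · rw [natDegree_taylor]
    exact pdIp_natDegree_lt hc f
  · intro x
    rw [taylor_eval, ← hτ x, pdIp_eval hc]

theorem pd_natCast_ne_zero {n : ℕ} (hn : n + 1 < p) : ((n + 1 : ℕ) : K) ≠ 0 := by
  intro h
  rw [CharP.cast_eq_zero_iff K p] at h
  have := Nat.le_of_dvd (Nat.succ_pos n) h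
  omega

theorem pd_shift_step (e : Ω ≃ ZMod p) (τ : Ω → Ω)
    (hτ : ∀ x, pdCoord (K := K) p e (τ x) = pdCoord (K := K) p e x + 1)
    (W : Submodule K (Ω → K)) (hW : ∀ f ∈ W, (fun x => f (τ x)) ∈ W) :
    ∀ n : ℕ, ∀ f ∈ W, (pdIp (pdCoord (K := K) p e) f).natDegree = n →
      (pdIp (pdCoord (K := K) p e) f).coeff n ≠ 0 → pdV (pdCoord (K := K) p e) n ≤ W := by
  have hc := pdCoord_injective (K := K) p e
  haveI : Nonempty Ω := ⟨e.symm 0⟩
  have hcard := pd_card p e
  intro n
  induction n with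
  | zero =>
    intro f hf hdeg hco h hh
    rw [mem_pdV] at hh
    obtain ⟨a, ha⟩ : ∃ a, a = (pdIp (pdCoord (K := K) p e) h).coeff 0 /
      (pdIp (pdCoord (K := K) p e) f).coeff 0 := ⟨_, rfl⟩
    have h1 : pdIp (pdCoord (K := K) p e) (h - a • f) = 0 := by
      rw [map_sub, map_smul]
      have hd : (pdIp (pdCoord (K := K) p e) h - a • pdIp (pdCoord (K := K) p e) f).natDegree ≤ 0 := by
        refine (natDegree_sub_le _ _).trans (max_le hh ?_)
        exact (natDegree_smul_le _ _).trans hdeg.le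
      rw [eq_C_of_natDegree_le_zero hd, coeff_sub, coeff_smul, smul_eq_mul, ha,
        div_mul_cancel₀ _ hco, sub_self, C_0]
    have h2 : h - a • f = 0 := by
      rw [← pdFun_pdIp hc (h - a • f), h1]
      funext x
      simp [pdFun]
    have : h = a • f := sub_eq_zero.mp h2
    rw [this]
    exact W.smul_mem a hf
  | succ n ih =>
    intro f hf hdeg hco h hh
    have hlt : n + 1 < p := by
      have := pdIp_natDegree_lt hc f
      rw [hcard] at this
      omega
    -- the difference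
    have hΔ : (fun x => f (τ x)) - f ∈ W := W.sub_mem (hW f hf) hf
    have hipΔ : pdIp (pdCoord (K := K) p e) ((fun x => f (τ x)) - f) =
        taylor 1 (pdIp (pdCoord (K := K) p e) f) - pdIp (pdCoord (K := K) p e) f := by
      rw [map_sub, pdIp_shift p e τ hτ f]
    have hcoΔ : (pdIp (pdCoord (K := K) p e) ((fun x => f (τ x)) - f)).coeff n ≠ 0 := by
      rw [hipΔ, pd_taylor_sub_coeff _ hdeg]
      exact mul_ne_zero (pd_natCast_ne_zero p hlt) hco
    have hdΔ : (pdIp (pdCoord (K := K) p e) ((fun x => f (τ x)) - f)).natDegree = n := by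
      apply le_antisymm
      · rw [hipΔ]
        exact pd_taylor_sub_natDegree_le _ hdeg
      · exact le_natDegree_of_ne_zero hcoΔ
    have hVn := ih _ hΔ hdΔ hcoΔ
    rw [mem_pdV] at hh
    obtain ⟨a, ha⟩ : ∃ a, a = (pdIp (pdCoord (K := K) p e) h).coeff (n + 1) /
      (pdIp (pdCoord (K := K) p e) f).coeff (n + 1) := ⟨_, rfl⟩
    have h1 : h - a • f ∈ pdV (pdCoord (K := K) p e) n := by
      rw [mem_pdV, map_sub, map_smul, natDegree_le_iff_coeff_eq_zero]
      intro N hN
      rw [coeff_sub, coeff_smul, smul_eq_mul]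
      by_cases hN' : N = n + 1
      · rw [hN', ha, div_mul_cancel₀ _ hco, sub_self]
      · rw [coeff_eq_zero_of_natDegree_lt, coeff_eq_zero_of_natDegree_lt, mul_zero, sub_zero]
        · omega
        · omega
    have : h = (h - a • f) + a • f := by abel
    rw [this]
    exact W.add_mem (hVn h1) (W.smul_mem a hf)

theorem pd_shift_invariant (e : Ω ≃ ZMod p) (τ : Ω → Ω)
    (hτ : ∀ x, pdCoord (K := K) p e (τ x) = pdCoord (K := K) p e x + 1)
    (W : Submodule K (Ω → K)) (hW : ∀ f ∈ W, (fun x => f (τ x)) ∈ W) :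
    W = ⊥ ∨ ∃ d < p, W = pdV (pdCoord (K := K) p e) d := by
  classical
  have hc := pdCoord_injective (K := K) p e
  haveI : Nonempty Ω := ⟨e.symm 0⟩
  have hcard := pd_card p e
  by_cases hbot : W = ⊥
  · exact Or.inl hbot
  right
  obtain ⟨f₀, hf₀, hf₀ne⟩ := (Submodule.ne_bot_iff W).mp hbot
  obtain ⟨P, hP⟩ : ∃ P : ℕ → Prop, P = fun n => ∃ f ∈ W, f ≠ 0 ∧
    (pdIp (pdCoord (K := K) p e) f).natDegree = n := ⟨_, rfl⟩
  have hlt : ∀ f : Ω → K, (pdIp (pdCoord (K := K) p e) f).natDegree ≤ p - 1 := by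
    intro f
    have := pdIp_natDegree_lt hc f
    rw [hcard] at this
    omega
  have hne0 : ∀ f : Ω → K, f ≠ 0 → pdIp (pdCoord (K := K) p e) f ≠ 0 := by
    intro f hf h0
    apply hf
    rw [← pdFun_pdIp hc f, h0]
    funext x
    simp [pdFun]
  have hP0 : P (pdIp (pdCoord (K := K) p e) f₀).natDegree := by
    rw [hP]
    exact ⟨f₀, hf₀, hf₀ne, rfl⟩
  have hPd := Nat.findGreatest_spec (P := P) (hlt f₀) hP0
  obtain ⟨d, hd⟩ : ∃ d, d = Nat.findGreatest P (p - 1) := ⟨_, rfl⟩
  rw [← hd] at hPd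
  have hdle : d ≤ p - 1 := by
    rw [hd]
    exact Nat.findGreatest_le _
  have hp := (Fact.out : p.Prime).one_le
  refine ⟨d, by omega, ?_⟩
  apply le_antisymm
  · intro f hf
    by_cases hf0 : f = 0
    · rw [hf0]
      exact Submodule.zero_mem _
    · rw [mem_pdV, hd]
      apply Nat.le_findGreatest (hlt f)
      rw [hP]
      exact ⟨f, hf, hf0, rfl⟩
  · rw [hP] at hPd
    obtain ⟨f, hf, hf0, hfd⟩ := hPd
    apply pd_shift_step p e τ hτ W hW d f hf hfd
    rw [← hfd]
    exact leadingCoeff_ne_zero.mpr (hne0 f hf0)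

end PDShift2

end Cfsg.Agent.Lib.Helper4
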