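import Mathlib
import Cfsg.Agent.Lib.Helper4.PrimeDeg2

/-!
Group actions on a set of prime size `p` and invariant spaces of polynomial functions.
-/

namespace Cfsg.Agent.Lib.Helper4

open Polynomial
open scoped commutatorElement

section PDAct

variable {K : Type*} [Field K] {Ω : Type*} [Fintype Ω] [DecidableEq Ω]
variable {G : Type*} [Group G] [MulAction G Ω]

/-- Invariance of a space of functions under the permutation action. -/
def PdInv (G : Type*) [Group G] [MulAction G Ω] (W : Submodule K (Ω → K)) : Prop :=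
  ∀ g : G, ∀ f ∈ W, (fun x => f (g⁻¹ • x)) ∈ W

/-- The elements acting as translations in the coordinate `c`. -/
def pdTrans (c : Ω → K) (G : Type*) [Group G] [MulAction G Ω] : Subgroup G where
  carrier := {g | ∃ a : K, ∀ x, c (g • x) = a + c x}
  one_mem' := ⟨0, fun x => by rw [one_smul, zero_add]⟩
  mul_mem' := by
    rintro g h ⟨a, ha⟩ ⟨b, hb⟩
    exact ⟨a + b, fun x => by rw [mul_smul, ha, hb]; ring⟩
  inv_mem' := by
    rintro g ⟨a, ha⟩
    refine ⟨-a, fun x => ?_⟩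
    have := ha (g⁻¹ • x)
    rw [smul_inv_smul] at this
    rw [this]
    ring

theorem pdTrans_comm [FaithfulSMul G Ω] {c : Ω → K} (hc : Function.Injective c)
    {g h : G} (hg : g ∈ pdTrans c G) (hh : h ∈ pdTrans c G) : g * h = h * g := by
  obtain ⟨a, ha⟩ := hg
  obtain ⟨b, hb⟩ := hh
  apply FaithfulSMul.eq_of_smul_eq_smul (α := Ω)
  intro x
  apply hc
  rw [mul_smul, mul_smul, ha, hb, hb, ha]
  ring

theorem pd_comm_mem_trans {c : Ω → K} {x₀ x₁ : Ω} (h0 : c x₀ = 0) (h1 : c x₁ = 1)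
    (haff : ∀ g : G, ∃ a b : K, ∀ x, c (g • x) = a + b * c x) (g h : G) :
    ⁅g, h⁆ ∈ pdTrans c G := by
  have hslope : ∀ g : G, ∀ a b a' b' : K, (∀ x, c (g • x) = a + b * c x) →
      (∀ x, c (g⁻¹ • x) = a' + b' * c x) → b * b' = 1 := by
    intro g a b a' b' hg hg'
    have e0 := hg (g⁻¹ • x₀)
    have e1 := hg (g⁻¹ • x₁)
    rw [smul_inv_smul, hg', h0] at e0
    rw [smul_inv_smul, hg', h1] at e1
    linear_combination e0 - e1
  obtain ⟨a1, b1, hg1⟩ := haff g
  obtain ⟨a2, b2, hg2⟩ := haff h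
  obtain ⟨a3, b3, hg3⟩ := haff g⁻¹
  obtain ⟨a4, b4, hg4⟩ := haff h⁻¹
  have h13 := hslope g a1 b1 a3 b3 hg1 hg3
  have h24 := hslope h a2 b2 a4 b4 hg2 hg4
  refine ⟨a1 + b1 * (a2 + b2 * (a3 + b3 * a4)), fun x => ?_⟩
  rw [commutatorElement_def, mul_smul, mul_smul, mul_smul, hg1, hg2, hg3, hg4]
  linear_combination (c x) * (b2 * b4) * h13 + (c x) * h24

theorem pd_solvable_of_affine [FaithfulSMul G Ω] {c : Ω → K} (hc : Function.Injective c)
    {x₀ x₁ : Ω} (h0 : c x₀ = 0) (h1 : c x₁ = 1)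
    (haff : ∀ g : G, ∃ a b : K, ∀ x, c (g • x) = a + b * c x) : Group.IsSolvable G := by
  rw [Group.isSolvable_def]
  refine ⟨2, ?_⟩
  rw [derivedSeries_succ, derivedSeries_succ, derivedSeries_zero]
  have hle : ⁅(⊤ : Subgroup G), ⊤⁆ ≤ pdTrans c G :=
    Subgroup.commutator_le.mpr (fun g _ h _ => pd_comm_mem_trans h0 h1 haff g h)
  rw [eq_bot_iff]
  refine (Subgroup.commutator_mono hle hle).trans ?_
  rw [Subgroup.commutator_le]
  intro g hg h hh
  rw [Subgroup.mem_bot, commutatorElement_eq_one_iff_mul_comm]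
  exact pdTrans_comm hc hg hh

end PDAct

section PDAct2

variable {K : Type*} [Field K] {Ω : Type*} [Fintype Ω] [DecidableEq Ω]
variable {G : Type*} [Group G] [MulAction G Ω]
variable (p : ℕ) [Fact p.Prime] [CharP K p]

theorem pd_coord_zero (e : Ω ≃ ZMod p) : pdCoord (K := K) p e (e.symm 0) = 0 := by
  simp [pdCoord]

theorem pd_coord_one (e : Ω ≃ ZMod p) : pdCoord (K := K) p e (e.symm 1) = 1 := by
  simp [pdCoord]

theorem pd_IV [FaithfulSMul G Ω] (e : Ω ≃ ZMod p)
    (hinv : PdInv G (pdV (pdCoord (K := K) p e) 1)) : Group.IsSolvable G := by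
  have hc := pdCoord_injective (K := K) p e
  have h2 : 1 < Fintype.card Ω := by
    rw [pd_card p e]
    exact (Fact.out : p.Prime).one_lt
  apply pd_solvable_of_affine hc (pd_coord_zero p e) (pd_coord_one p e)
  intro g
  have hmem : (pdCoord (K := K) p e) ∈ pdV (pdCoord (K := K) p e) 1 := by
    rw [mem_pdV_one hc h2]
    exact ⟨0, 1, by funext x; ring⟩
  have := hinv g⁻¹ _ hmem
  rw [mem_pdV_one hc h2] at this
  obtain ⟨a, b, hab⟩ := this
  refine ⟨a, b, fun x => ?_⟩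
  have := congrFun hab x
  simp only [inv_inv] at this
  exact this

theorem pd_dual_inv (e : Ω ≃ ZMod p) {d : ℕ} (hd : d + 2 ≤ p)
    (hinv : PdInv G (pdV (pdCoord (K := K) p e) d)) :
    PdInv G (pdV (pdCoord (K := K) p e) (p - 2 - d)) := by
  intro g h hh
  rw [pd_dual p e hd] at hh ⊢
  intro f hf
  have h1 := hh _ (hinv g⁻¹ f hf)
  simp only [inv_inv] at h1
  rw [← h1]
  exact Fintype.sum_equiv (MulAction.toPerm g⁻¹) _ _ (fun x => by
    simp [MulAction.toPerm_apply])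

theorem pd_B2 (e : Ω ≃ ZMod p) {d : ℕ} (hd1 : 1 ≤ d) (hd2 : 2 * d ≤ p - 1)
    (hinv : PdInv G (pdV (pdCoord (K := K) p e) d)) :
    PdInv G (pdV (pdCoord (K := K) p e) 1) := by
  have hp := (Fact.out : p.Prime)
  have hc := pdCoord_injective (K := K) p e
  haveI : Nonempty Ω := ⟨e.symm 0⟩
  have hcard := pd_card p e
  have h2 : 1 < Fintype.card Ω := by
    rw [hcard]
    exact hp.one_lt
  obtain ⟨c, hcdef⟩ : ∃ c, c = pdCoord (K := K) p e := ⟨_, rfl⟩
  rw [← hcdef] at hc hinv ⊢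
  have hcmem : c ∈ pdV c 1 := by
    rw [mem_pdV_one hc h2]
    exact ⟨0, 1, by funext x; ring⟩
  have key : ∀ g : G, (fun x => c (g⁻¹ • x)) ∈ pdV c 1 := by
    intro g
    rw [mem_pdV]
    by_contra hcon
    rw [not_le] at hcon
    have hπ : (fun x => c (g⁻¹ • x)) ∈ pdV c d := hinv g c (pdV_mono hd1 hcmem)
    rw [mem_pdV] at hπ
    obtain ⟨E, hE⟩ : ∃ E, E = (pdIp c (fun x => c (g⁻¹ • x))).natDegree := ⟨_, rfl⟩
    rw [← hE] at hπ hcon
    obtain ⟨q, hq⟩ : ∃ q, q = d / E := ⟨_, rfl⟩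
    have hdm := Nat.div_add_mod d E
    have hmod : d % E < E := Nat.mod_lt _ (by omega)
    rw [← hq] at hdm
    have hq2 : 2 * q ≤ E * q := Nat.mul_le_mul_right q hcon
    have hie : (q + 1) * E = E * q + E := by ring
    have hci : c ^ (q + 1) ∈ pdV c d := by
      rw [mem_pdV, pdIp_pow hc, pdIp_coord hc h2, natDegree_X_pow]
      · omega
      · rw [pdIp_coord hc h2, natDegree_X, hcard]
        omega
    have h3 := hinv g _ hci
    have h4 : (fun x => (c ^ (q + 1)) (g⁻¹ • x)) = (fun x => c (g⁻¹ • x)) ^ (q + 1) := by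
      funext x
      simp
    rw [h4, mem_pdV, pdIp_pow hc, natDegree_pow, ← hE] at h3
    · omega
    · rw [← hE, hcard]
      omega
  intro g f hf
  rw [mem_pdV_one hc h2] at hf ⊢
  obtain ⟨a, b, rfl⟩ := hf
  have := key g
  rw [mem_pdV_one hc h2] at this
  obtain ⟨a', b', hab⟩ := this
  refine ⟨a + b * a', b * b', ?_⟩
  funext x
  have := congrFun hab x
  simp only [this]
  ring

theorem pd_III (e : Ω ≃ ZMod p) {d : ℕ} (hd1 : 1 ≤ d) (hd3 : d + 3 ≤ p)
    (hinv : PdInv G (pdV (pdCoord (K := K) p e) d)) :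
    PdInv G (pdV (pdCoord (K := K) p e) 1) := by
  classical
  have hex : ∃ d, 1 ≤ d ∧ d + 3 ≤ p ∧ PdInv G (pdV (pdCoord (K := K) p e) d) :=
    ⟨d, hd1, hd3, hinv⟩
  obtain ⟨h1, h3, hi⟩ := Nat.find_spec hex
  obtain ⟨m, hm⟩ : ∃ m, m = Nat.find hex := ⟨_, rfl⟩
  rw [← hm] at h1 h3 hi
  by_cases hcase : 2 * m ≤ p - 1
  · exact pd_B2 p e h1 hcase hi
  · exfalso
    have hdual := pd_dual_inv p e (d := m) (by omega) hi
    have : Nat.find hex ≤ p - 2 - m := Nat.find_min' hex ⟨by omega, by omega, hdual⟩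
    omega

theorem pd_U [FaithfulSMul G Ω] (e : Ω ≃ ZMod p) (t : G)
    (ht : ∀ x, pdCoord (K := K) p e (t • x) = pdCoord (K := K) p e x + 1)
    (hns : ¬ Group.IsSolvable G) (W : Submodule K (Ω → K)) (hW : PdInv G W) :
    W = ⊥ ∨ W = pdV (pdCoord (K := K) p e) 0 ∨ W = pdV (pdCoord (K := K) p e) (p - 2) ∨ W = ⊤ := by
  have hp := (Fact.out : p.Prime)
  have hc := pdCoord_injective (K := K) p e
  haveI : Nonempty Ω := ⟨e.symm 0⟩
  have hcard := pd_card p e
  have hshift : ∀ f ∈ W, (fun x => f (t • x)) ∈ W := by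
    intro f hf
    have := hW t⁻¹ f hf
    simpa only [inv_inv] using this
  rcases pd_shift_invariant p e (fun x => t • x) ht W hshift with h | ⟨d, hd, hWd⟩
  · exact Or.inl h
  · right
    by_cases h1 : d = 0
    · left
      rw [hWd, h1]
    · right
      by_cases h2 : d + 3 ≤ p
      · exfalso
        apply hns
        apply pd_IV (K := K) p e
        apply pd_III p e (d := d) (by omega) h2
        rw [← hWd]
        exact hW
      · by_cases h3 : d = p - 2
        · left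
          rw [hWd, h3]
        · right
          rw [hWd]
          apply pdV_top hc
          rw [hcard]
          omega

end PDAct2

end Cfsg.Agent.Lib.Helper4
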