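import Mathlib
import Cfsg.Agent.Lib.Helper4.PrimeDeg3

/-!
Coordinates on a set of prime size carrying a transitive faithful action, and the
orbital operator argument.
-/

namespace Cfsg.Agent.Lib.Helper4

open Polynomial

section PDCoordEx

variable {Ω : Type*} [Fintype Ω]
variable {G : Type*} [Group G] [Finite G] [MulAction G Ω]

theorem pd_exists_coord [FaithfulSMul G Ω] [MulAction.IsPretransitive G Ω]
    (p : ℕ) [Fact p.Prime] (hcard : Fintype.card Ω = p) :
    ∃ (e : Ω ≃ ZMod p) (t : G), ∀ x, e (t • x) = e x + 1 := by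
  have hp := (Fact.out : p.Prime)
  haveI : Nonempty Ω := by
    rw [← Fintype.card_pos_iff, hcard]
    exact hp.pos
  obtain ⟨x₀⟩ := (inferInstance : Nonempty Ω)
  have hdvd : p ∣ Nat.card G := by
    have h1 := MulAction.index_stabilizer_of_transitive G x₀
    rw [Nat.card_eq_fintype_card, hcard] at h1
    rw [← h1]
    exact Subgroup.index_dvd_card _
  obtain ⟨t, ht⟩ := exists_prime_orderOf_dvd_card' p hdvd
  have ht1 : t ≠ 1 := by
    intro h
    rw [h, orderOf_one] at ht
    exact hp.one_lt.ne ht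
  have hex : ∃ b : Ω, t • b ≠ b := by
    by_contra hcon
    apply ht1
    apply FaithfulSMul.eq_of_smul_eq_smul (α := Ω)
    intro b
    rw [one_smul]
    by_contra h
    exact hcon ⟨b, h⟩
  obtain ⟨b, hb⟩ := hex
  have hper : Function.minimalPeriod (t • ·) b = p := by
    have h1 : Function.minimalPeriod (t • ·) b ∣ p := by
      rw [← MulAction.pow_smul_eq_iff_minimalPeriod_dvd, ← ht, pow_orderOf_eq_one, one_smul]
    rcases (Nat.dvd_prime hp).mp h1 with h | h
    · exfalso
      rw [Function.minimalPeriod_eq_one_iff_isFixedPt] at h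
      exact hb h
    · exact h
  obtain ⟨φ, hφ⟩ : ∃ φ : ZMod p → Ω, φ = fun i => t ^ i.val • b := ⟨_, rfl⟩
  have hinj : Function.Injective φ := by
    intro i j hij
    rw [hφ] at hij
    simp only at hij
    have h1 : t ^ (-(j.val : ℤ) + (i.val : ℤ)) • b = b := by
      rw [zpow_add, zpow_neg, zpow_natCast, zpow_natCast, mul_smul, hij, inv_smul_smul]
    rw [MulAction.zpow_smul_eq_iff_minimalPeriod_dvd, hper] at h1
    have h2 := (ZMod.intCast_zmod_eq_zero_iff_dvd _ p).mpr h1
    push_cast at h2
    rw [ZMod.natCast_zmod_val, ZMod.natCast_zmod_val] at h2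
    have : i = j := by linear_combination h2
    exact this
  have hbij : Function.Bijective φ := by
    rw [Fintype.bijective_iff_injective_and_card]
    exact ⟨hinj, by rw [ZMod.card, hcard]⟩
  refine ⟨(Equiv.ofBijective φ hbij).symm, t, ?_⟩
  intro x
  obtain ⟨i, rfl⟩ := hbij.surjective x
  have h1 : t • φ i = φ (i + 1) := by
    rw [hφ]
    simp only
    rw [← mul_smul, ← pow_succ']
    congr 1
    rw [pow_eq_pow_iff_modEq, ht, ← ZMod.natCast_eq_natCast_iff]
    push_cast
    rw [ZMod.natCast_zmod_val, ZMod.natCast_zmod_val]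
  rw [h1]
  have h2 : ∀ j : ZMod p, (Equiv.ofBijective φ hbij).symm (φ j) = j := fun j =>
    (Equiv.ofBijective φ hbij).symm_apply_apply j
  rw [h2, h2]

end PDCoordEx


section PDMain

variable {Ω : Type*} [Fintype Ω] [DecidableEq Ω]
variable {G : Type*} [Group G] [Finite G] [MulAction G Ω]

theorem pd_main [FaithfulSMul G Ω] [MulAction.IsPretransitive G Ω]
    (p : ℕ) [Fact p.Prime] (hcard : Fintype.card Ω = p) {K : Type*} [Field K] [CharP K p]
    (hns : ¬ Group.IsSolvable G) (W : Submodule K (Ω → K)) (hW : PdInv G W) :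
    W = ⊥ ∨ (∀ f, f ∈ W ↔ ∃ a : K, f = fun _ => a) ∨ (∀ f, f ∈ W ↔ ∑ x, f x = 0) ∨ W = ⊤ := by
  obtain ⟨e, t, het⟩ := pd_exists_coord (G := G) p hcard
  have hc := pdCoord_injective (K := K) p e
  haveI : Nonempty Ω := ⟨e.symm 0⟩
  have ht : ∀ x, pdCoord (K := K) p e (t • x) = pdCoord (K := K) p e x + 1 := by
    intro x
    unfold pdCoord
    rw [het, map_add, map_one]
  rcases pd_U (K := K) p e t ht hns W hW with h | h | h | h
  · exact Or.inl h
  · right; left
    intro f
    rw [h]
    exact mem_pdV_zero hc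
  · right; right; left
    intro f
    rw [h]
    exact mem_pdV_sub_two p e f
  · exact Or.inr (Or.inr (Or.inr h))

end PDMain

end Cfsg.Agent.Lib.Helper4
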