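import Mathlib
import Cfsg.Agent.Lib.Helper4.PrimeDeg4

/-!
The orbital operator argument: if the only invariant subspaces of the permutation module
are the four obvious ones (and the degree is at least 5), the action is doubly transitive.
-/

namespace Cfsg.Agent.Lib.Helper4

section PDOrb

variable {K : Type*} [Field K] {Ω : Type*} [Fintype Ω] [DecidableEq Ω]
variable {G : Type*} [Group G] [MulAction G Ω]

/-- The adjacency operator of a relation, minus a scalar. -/
noncomputable def pdOrbOp (O : Ω → Ω → Prop) [DecidableRel O] (n : K) :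
    (Ω → K) →ₗ[K] (Ω → K) where
  toFun f := fun x => (∑ y, if O x y then f y else 0) - n * f x
  map_add' f g := by
    funext x
    have : ∀ y, (if O x y then (f + g) y else 0) =
        (if O x y then f y else 0) + (if O x y then g y else 0) := by
      intro y
      split_ifs <;> simp
    show (∑ y, if O x y then (f + g) y else 0) - n * (f + g) x =
      ((∑ y, if O x y then f y else 0) - n * f x) + ((∑ y, if O x y then g y else 0) - n * g x)
    rw [Finset.sum_congr rfl (fun y _ => this y), Finset.sum_add_distrib, Pi.add_apply]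
    ring
  map_smul' a f := by
    funext x
    have : ∀ y, (if O x y then (a • f) y else 0) = a * (if O x y then f y else 0) := by
      intro y
      split_ifs <;> simp
    show (∑ y, if O x y then (a • f) y else 0) - n * (a • f) x =
      a • ((∑ y, if O x y then f y else 0) - n * f x)
    rw [Finset.sum_congr rfl (fun y _ => this y), ← Finset.mul_sum, Pi.smul_apply, smul_eq_mul,
      smul_eq_mul]
    ring

theorem pdOrbOp_apply (O : Ω → Ω → Prop) [DecidableRel O] (n : K) (f : Ω → K) (x : Ω) :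
    pdOrbOp O n f x = (∑ y, if O x y then f y else 0) - n * f x := rfl

theorem pdOrbOp_equiv (O : Ω → Ω → Prop) [DecidableRel O] (n : K)
    (hO : ∀ (g : G) x y, O (g • x) (g • y) ↔ O x y) (g : G) (f : Ω → K) :
    pdOrbOp O n (fun x => f (g⁻¹ • x)) = fun x => pdOrbOp O n f (g⁻¹ • x) := by
  funext x
  rw [pdOrbOp_apply, pdOrbOp_apply]
  congr 1
  apply Fintype.sum_equiv (MulAction.toPerm g⁻¹)
  intro y
  rw [MulAction.toPerm_apply]
  by_cases h : O x y
  · rw [if_pos h, if_pos ((hO g⁻¹ x y).mpr h)]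
  · rw [if_neg h, if_neg (fun h' => h ((hO g⁻¹ x y).mp h'))]

theorem PdInv_ker {T : (Ω → K) →ₗ[K] (Ω → K)}
    (hT : ∀ (g : G) f, T (fun x => f (g⁻¹ • x)) = fun x => T f (g⁻¹ • x)) :
    PdInv G (LinearMap.ker T) := by
  intro g f hf
  rw [LinearMap.mem_ker] at hf ⊢
  rw [hT, hf]
  rfl

theorem PdInv_range {T : (Ω → K) →ₗ[K] (Ω → K)}
    (hT : ∀ (g : G) f, T (fun x => f (g⁻¹ • x)) = fun x => T f (g⁻¹ • x)) :
    PdInv G (LinearMap.range T) := by
  rintro g _ ⟨f, rfl⟩
  exact ⟨fun x => f (g⁻¹ • x), hT g f⟩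

theorem PdInv_comap {T : (Ω → K) →ₗ[K] (Ω → K)}
    (hT : ∀ (g : G) f, T (fun x => f (g⁻¹ • x)) = fun x => T f (g⁻¹ • x))
    {W : Submodule K (Ω → K)} (hW : PdInv G W) : PdInv G (W.comap T) := by
  intro g f hf
  rw [Submodule.mem_comap] at hf ⊢
  rw [hT]
  exact hW g _ hf

theorem pd_two_trans [MulAction.IsPretransitive G Ω] (p : ℕ) [Fact p.Prime] [CharP K p]
    (hcard : Fintype.card Ω = p) (h5 : 5 ≤ p)
    (hU : ∀ W : Submodule K (Ω → K), PdInv G W →
      W = ⊥ ∨ (∀ f, f ∈ W ↔ ∃ a : K, f = fun _ => a) ∨ (∀ f, f ∈ W ↔ ∑ x, f x = 0) ∨ W = ⊤) :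
    MulAction.IsMultiplyPretransitive G Ω 2 := by
  classical
  rw [MulAction.is_two_pretransitive_iff]
  intro a b c' d' hab hcd
  by_contra hcon
  obtain ⟨O, hOdef⟩ : ∃ O : Ω → Ω → Prop, O = fun x y => ∃ g : G, g • a = x ∧ g • b = y :=
    ⟨_, rfl⟩
  have hO : ∀ (g : G) x y, O (g • x) (g • y) ↔ O x y := by
    intro g x y
    rw [hOdef]
    constructor
    · rintro ⟨h, h1, h2⟩
      exact ⟨g⁻¹ * h, by rw [mul_smul, h1, inv_smul_smul], by rw [mul_smul, h2, inv_smul_smul]⟩
    · rintro ⟨h, h1, h2⟩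
      exact ⟨g * h, by rw [mul_smul, h1], by rw [mul_smul, h2]⟩
  have hOdiag : ∀ x, ¬ O x x := by
    intro x
    rw [hOdef]
    rintro ⟨g, h1, h2⟩
    exact hab (smul_left_cancel g (h1.trans h2.symm))
  have hOcd : ¬ O c' d' := by
    rw [hOdef]
    exact hcon
  obtain ⟨n₀, hn₀⟩ : ∃ n₀ : ℕ, n₀ = (Finset.univ.filter (O c')).card := ⟨_, rfl⟩
  have hn1 : 1 ≤ n₀ := by
    obtain ⟨g, hg⟩ := MulAction.exists_smul_eq G a c'
    rw [hn₀, Nat.succ_le_iff, Finset.card_pos]
    refine ⟨g • b, ?_⟩
    rw [Finset.mem_filter, hOdef]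
    exact ⟨Finset.mem_univ _, g, hg, rfl⟩
  have hn2 : n₀ ≤ p - 2 := by
    have hsub : Finset.univ.filter (O c') ⊆ (Finset.univ.erase c').erase d' := by
      intro y hy
      rw [Finset.mem_filter] at hy
      rw [Finset.mem_erase, Finset.mem_erase]
      refine ⟨?_, ?_, Finset.mem_univ _⟩
      · rintro rfl
        exact hOcd hy.2
      · rintro rfl
        exact hOdiag _ hy.2
    have := Finset.card_le_card hsub
    rw [Finset.card_erase_of_mem (by rw [Finset.mem_erase]; exact ⟨hcd.symm, Finset.mem_univ _⟩),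
      Finset.card_erase_of_mem (Finset.mem_univ _), Finset.card_univ, hcard] at this
    rw [hn₀]
    omega
  have hn0 : (n₀ : K) ≠ 0 := by
    intro h
    rw [CharP.cast_eq_zero_iff K p] at h
    have := Nat.le_of_dvd (by omega) h
    omega
  obtain ⟨T, hTdef⟩ : ∃ T : (Ω → K) →ₗ[K] (Ω → K), T = pdOrbOp O (n₀ : K) := ⟨_, rfl⟩
  have hT : ∀ (g : G) f, T (fun x => f (g⁻¹ • x)) = fun x => T f (g⁻¹ • x) := by
    intro g f
    rw [hTdef]
    exact pdOrbOp_equiv O _ hO g f
  obtain ⟨one, hone⟩ : ∃ one : Ω → K, one = fun _ => 1 := ⟨_, rfl⟩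
  have hT1c : T one c' = 0 := by
    rw [hTdef, pdOrbOp_apply, hone]
    simp only [Finset.sum_boole, mul_one]
    rw [← hn₀, sub_self]
  have hT1 : T one = 0 := by
    funext x
    obtain ⟨g, hg⟩ := MulAction.exists_smul_eq G x c'
    have h1 := congrFun (hT g⁻¹ one) x
    rw [inv_inv, hg, hT1c] at h1
    have h2 : (fun x => one (g • x)) = one := by rw [hone]
    rw [h2] at h1
    exact h1
  have hone0 : one ≠ 0 := by
    intro h
    have := congrFun h c'
    rw [hone] at this
    simp at this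
  -- the test function
  obtain ⟨s₀, hs₀⟩ : ∃ s₀ : Ω → K, s₀ = Pi.single c' 1 - Pi.single d' 1 := ⟨_, rfl⟩
  have hsumsingle : ∀ u v : Ω, ∑ x, ((Pi.single u 1 - Pi.single v 1 : Ω → K)) x = 0 := by
    intro u v
    simp only [Pi.sub_apply, Finset.sum_sub_distrib]
    rw [Fintype.sum_pi_single', Fintype.sum_pi_single', sub_self]
  have hs₀sum : ∑ x, s₀ x = 0 := by
    rw [hs₀]
    exact hsumsingle c' d'
  have hTs₀ : T s₀ c' = -(n₀ : K) := by
    rw [hTdef, pdOrbOp_apply]
    have h1 : ∀ y, (if O c' y then s₀ y else 0) = 0 := by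
      intro y
      split_ifs with h
      · have hy1 : y ≠ c' := by
          rintro rfl
          exact hOdiag _ h
        have hy2 : y ≠ d' := by
          rintro rfl
          exact hOcd h
        rw [hs₀]
        simp [Pi.single_apply, hy1, hy2]
      · rfl
    rw [Finset.sum_congr rfl (fun y _ => h1 y), Finset.sum_const_zero, hs₀]
    simp [Pi.single_apply, hcd]
  have hTs₀ne : T s₀ ≠ 0 := by
    intro h
    have := congrFun h c'
    rw [hTs₀] at this
    simp only [Pi.zero_apply, neg_eq_zero] at this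
    exact hn0 this
  have hsumone : ∑ x, one x = 0 := by
    rw [hone]
    simp only [Finset.sum_const, Finset.card_univ, hcard, nsmul_eq_mul, mul_one]
    exact CharP.cast_eq_zero K p
  -- kernel of T is the constants
  have hkerC : ∀ f, T f = 0 ↔ ∃ a : K, f = fun _ => a := by
    rcases hU _ (PdInv_ker hT) with h | h | h | h
    · exfalso
      have : one ∈ LinearMap.ker T := hT1
      rw [h, Submodule.mem_bot] at this
      exact hone0 this
    · intro f
      rw [← h f, LinearMap.mem_ker]
    · exfalso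
      have : s₀ ∈ LinearMap.ker T := (h s₀).mpr hs₀sum
      exact hTs₀ne this
    · exfalso
      have : s₀ ∈ LinearMap.ker T := by
        rw [h]
        exact Submodule.mem_top
      exact hTs₀ne this
  -- the range contains the constants
  obtain ⟨v, hv⟩ : ∃ v, T v = one := by
    rcases hU _ (PdInv_range hT) with h | h | h | h
    · exfalso
      have : T s₀ ∈ LinearMap.range T := ⟨s₀, rfl⟩
      rw [h, Submodule.mem_bot] at this
      exact hTs₀ne this
    · exact (h one).mpr ⟨1, hone⟩
    · exact (h one).mpr hsumone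
    · have : one ∈ LinearMap.range T := by
        rw [h]
        exact Submodule.mem_top
      exact this
  -- the kernel of T² contains the sum-zero functions
  have hTT : ∀ f : Ω → K, ∑ x, f x = 0 → T (T f) = 0 := by
    have hv2 : v ∈ (LinearMap.ker T).comap T := by
      rw [Submodule.mem_comap, LinearMap.mem_ker, hv, hT1]
    rcases hU _ (PdInv_comap hT (PdInv_ker hT)) with h | h | h | h
    · exfalso
      rw [h, Submodule.mem_bot] at hv2
      rw [hv2, map_zero] at hv
      exact hone0 hv.symm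
    · exfalso
      obtain ⟨a, ha⟩ := (h v).mp hv2
      have : v = a • one := by
        rw [ha, hone]
        funext x
        simp
      rw [this, map_smul, hT1, smul_zero] at hv
      exact hone0 hv.symm
    · intro f hf
      have := (h f).mpr hf
      rwa [Submodule.mem_comap, LinearMap.mem_ker] at this
    · intro f _
      have : f ∈ (LinearMap.ker T).comap T := by
        rw [h]
        exact Submodule.mem_top
      rwa [Submodule.mem_comap, LinearMap.mem_ker] at this
  -- five points
  obtain ⟨ι⟩ : Nonempty (Fin 5 ↪ Ω) :=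
    Function.Embedding.nonempty_of_card_le (by rw [Fintype.card_fin, hcard]; exact h5)
  have hne : ∀ i j : Fin 5, i ≠ j → ι i ≠ ι j := fun i j h => ι.injective.ne h
  obtain ⟨s₁, hs₁⟩ : ∃ s₁ : Ω → K, s₁ = Pi.single (ι 0) 1 - Pi.single (ι 1) 1 := ⟨_, rfl⟩
  obtain ⟨s₂, hs₂⟩ : ∃ s₂ : Ω → K, s₂ = Pi.single (ι 2) 1 - Pi.single (ι 3) 1 := ⟨_, rfl⟩
  obtain ⟨α, hα⟩ := (hkerC _).mp (hTT s₁ (by rw [hs₁]; exact hsumsingle _ _))
  obtain ⟨β, hβ⟩ := (hkerC _).mp (hTT s₂ (by rw [hs₂]; exact hsumsingle _ _))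
  have hcomb : T (β • s₁ - α • s₂) = 0 := by
    rw [map_sub, map_smul, map_smul, hα, hβ]
    funext x
    simp only [Pi.sub_apply, Pi.smul_apply, smul_eq_mul, Pi.zero_apply]
    ring
  obtain ⟨γ, hγ⟩ := (hkerC _).mp hcomb
  have e4 := congrFun hγ (ι 4)
  have e0 := congrFun hγ (ι 0)
  have e2 := congrFun hγ (ι 2)
  rw [hs₁, hs₂] at e4 e0 e2
  have h40 := hne 4 0 (by decide)
  have h41 := hne 4 1 (by decide)
  have h42 := hne 4 2 (by decide)
  have h43 := hne 4 3 (by decide)
  have h01 := hne 0 1 (by decide)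
  have h02 := hne 0 2 (by decide)
  have h03 := hne 0 3 (by decide)
  have h20 := hne 2 0 (by decide)
  have h21 := hne 2 1 (by decide)
  have h23 := hne 2 3 (by decide)
  simp only [Pi.sub_apply, Pi.smul_apply, smul_eq_mul, Pi.single_apply, h40, h41, h42, h43,
    if_false] at e4
  simp only [Pi.sub_apply, Pi.smul_apply, smul_eq_mul, Pi.single_apply, h01, h02, h03,
    if_true, if_false] at e0
  simp only [Pi.sub_apply, Pi.smul_apply, smul_eq_mul, Pi.single_apply, h20, h21, h23,
    if_true, if_false] at e2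
  have hγ0 : γ = 0 := by linear_combination -e4
  have hβ0 : β = 0 := by linear_combination e0 + hγ0
  have hα0 : α = 0 := by linear_combination -e2 - hγ0
  -- now T s₁ = 0
  have hTs₁ : T s₁ = 0 := by
    rw [hα, hα0]
    rfl
  obtain ⟨δ, hδ⟩ := (hkerC _).mp hTs₁
  have f4 := congrFun hδ (ι 4)
  have f0 := congrFun hδ (ι 0)
  rw [hs₁] at f4 f0
  simp only [Pi.sub_apply, Pi.single_apply, h40, h41, if_false] at f4
  simp only [Pi.sub_apply, Pi.single_apply, h01, if_true, if_false] at f0
  have : (1 : K) = 0 := by linear_combination f0 - f4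
  exact one_ne_zero this

end PDOrb


section PDSmall

variable {Ω : Type*} [Fintype Ω] [DecidableEq Ω]
variable {G : Type*} [Group G] [Finite G] [MulAction G Ω]

theorem pd_small_solvable [FaithfulSMul G Ω] [MulAction.IsPretransitive G Ω]
    (p : ℕ) [Fact p.Prime] (hcard : Fintype.card Ω = p) (hp5 : p < 5) : Group.IsSolvable G := by
  have hp := (Fact.out : p.Prime)
  obtain ⟨e, t, -⟩ := pd_exists_coord (G := G) p hcard
  have hc := pdCoord_injective (K := ZMod p) p e
  haveI : Nonempty Ω := ⟨e.symm 0⟩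
  apply pd_IV (K := ZMod p) p e
  have h23 : p = 2 ∨ p = 3 := by
    have h2 := hp.two_le
    interval_cases p
    · exact Or.inl rfl
    · exact Or.inr rfl
    · exfalso
      revert hp
      decide
  rcases h23 with h | h
  · have htop : pdV (pdCoord (K := ZMod p) p e) 1 = ⊤ := by
      apply pdV_top hc
      rw [hcard, h]
    rw [htop]
    intro g f _
    exact Submodule.mem_top
  · intro g f hf
    have h1 : p - 2 = 1 := by omega
    rw [← h1, mem_pdV_sub_two] at hf ⊢
    rw [← hf]
    exact Fintype.sum_equiv (MulAction.toPerm g⁻¹) _ _ (fun x => rfl)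

theorem pd_burnside [FaithfulSMul G Ω] [MulAction.IsPretransitive G Ω]
    (hcard : (Fintype.card Ω).Prime) :
    Group.IsSolvable G ∨ MulAction.IsMultiplyPretransitive G Ω 2 := by
  obtain ⟨p, hp⟩ : ∃ p, p = Fintype.card Ω := ⟨_, rfl⟩
  rw [← hp] at hcard
  haveI : Fact p.Prime := ⟨hcard⟩
  by_cases hs : Group.IsSolvable G
  · exact Or.inl hs
  · right
    by_cases h5 : 5 ≤ p
    · apply pd_two_trans (K := ZMod p) (G := G) p hp.symm h5
      intro W hW
      exact pd_main p hp.symm hs W hW
    · exfalso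
      exact hs (pd_small_solvable p hp.symm (by omega))

end PDSmall

end Cfsg.Agent.Lib.Helper4
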