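import Mathlib
import Cfsg.Prelude.Def_Perm
import Cfsg.Agent.Lib.Helper4.PermHeart1
import Cfsg.Agent.Lib.Helper4.PrimeDeg5

/-!
If the heart of the permutation module (characteristic `p`, degree `p ^ f`) has no trivial
composition factor then the action is doubly transitive.
-/

namespace Cfsg.Agent.Lib.Helper4

theorem perm_heart_two_trans {G : Type*} [Group G] [Finite G] {K : Type*} [Field K] {p f : ℕ}
    [Fact p.Prime] [CharP K p] {Ω : Type*} [Fintype Ω] [MulAction G Ω]
    [MulAction.IsPretransitive G Ω] (hf : 1 ≤ f) (hcard : Fintype.card Ω = p ^ f)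
    (h : ∀ W W' : Subrepresentation (Cfsg.permRep K G Ω),
      (Cfsg.permConstants K G Ω).toSubmodule ≤ W.toSubmodule →
      W.toSubmodule < W'.toSubmodule →
      W'.toSubmodule ≤ (Cfsg.permSumZero K G Ω).toSubmodule →
      ∃ g : G, ∃ v ∈ W'.toSubmodule, Cfsg.permRep K G Ω g v - v ∉ W.toSubmodule) :
    MulAction.IsMultiplyPretransitive G Ω 2 := by
  classical
  have hp := (Fact.out : p.Prime)
  rw [MulAction.is_two_pretransitive_iff]
  intro a b c' d' hab hcd
  by_contra hcon
  obtain ⟨O, hOdef⟩ : ∃ O : Ω → Ω → Prop, O = fun x y => ∃ g : G, g • a = x ∧ g • b = y :=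
    ⟨_, rfl⟩
  have hO : ∀ (g : G) x y, O (g • x) (g • y) ↔ O x y := by
    intro g x y
    rw [hOdef]
    constructor
    · rintro ⟨h, h1, h2⟩
      exact ⟨g⁻¹ * h, by rw [mul_smul, h1, inv_smul_smul], by rw [mul_smul, h2, inv_smul_smul]⟩
    · rintro ⟨h, h1, h2⟩
      exact ⟨g * h, by rw [mul_smul, h1], by rw [mul_smul, h2]⟩
  have hOdiag : ∀ x, ¬ O x x := by
    intro x
    rw [hOdef]
    rintro ⟨g, h1, h2⟩
    exact hab (smul_left_cancel g (h1.trans h2.symm))
  have hOcd : ¬ O c' d' := by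
    rw [hOdef]
    exact hcon
  have hOab : O a b := by
    rw [hOdef]
    exact ⟨1, one_smul _ _, one_smul _ _⟩
  obtain ⟨n, hn⟩ : ∃ n : K, n = ∑ y, if O c' y then (1 : K) else 0 := ⟨_, rfl⟩
  obtain ⟨T, hTdef⟩ : ∃ T : (Ω → K) →ₗ[K] (Ω → K), T = pdOrbOp O n := ⟨_, rfl⟩
  have hT : ∀ (g : G) f, T (Cfsg.permRep K G Ω g f) = Cfsg.permRep K G Ω g (T f) := by
    intro g f
    rw [hTdef]
    exact pdOrbOp_equiv O _ hO g f
  obtain ⟨one, hone⟩ : ∃ one : Ω → K, one = fun _ => 1 := ⟨_, rfl⟩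
  have hT1c : T one c' = 0 := by
    rw [hTdef, pdOrbOp_apply, hone, ← hn]
    ring
  have hrep1 : ∀ g : G, Cfsg.permRep K G Ω g one = one := by
    intro g
    rw [hone]
    rfl
  have hT1 : T one = 0 := by
    funext x
    obtain ⟨g, hg⟩ := MulAction.exists_smul_eq G x c'
    have h1 := congrFun (hT g⁻¹ one) x
    rw [hrep1] at h1
    rw [h1]
    change T one (g⁻¹⁻¹ • x) = 0
    rw [inv_inv, hg, hT1c]
  have hsumsingle : ∀ u v : Ω, ∑ x, ((Pi.single u 1 - Pi.single v 1 : Ω → K)) x = 0 := by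
    intro u v
    simp only [Pi.sub_apply, Finset.sum_sub_distrib]
    rw [Fintype.sum_pi_single', Fintype.sum_pi_single', sub_self]
  obtain ⟨s₀, hs₀⟩ : ∃ s₀ : Ω → K, s₀ = Pi.single c' 1 - Pi.single d' 1 := ⟨_, rfl⟩
  obtain ⟨s₁, hs₁⟩ : ∃ s₁ : Ω → K, s₁ = Pi.single b 1 - Pi.single a 1 := ⟨_, rfl⟩
  have hTs₀ : T s₀ c' = -n := by
    rw [hTdef, pdOrbOp_apply]
    have h1 : ∀ y, (if O c' y then s₀ y else 0) = 0 := by
      intro y
      split_ifs with h
      · have hy1 : y ≠ c' := by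
          rintro rfl
          exact hOdiag _ h
        have hy2 : y ≠ d' := by
          rintro rfl
          exact hOcd h
        rw [hs₀]
        simp [Pi.single_apply, hy1, hy2]
      · rfl
    rw [Finset.sum_congr rfl (fun y _ => h1 y), Finset.sum_const_zero, hs₀]
    simp [Pi.single_apply, hcd]
  have hTs₁ : T s₁ a = 1 + n := by
    rw [hTdef, pdOrbOp_apply]
    have h1 : ∀ y, (if O a y then s₁ y else 0) = if y = b then (1 : K) else 0 := by
      intro y
      by_cases h : O a y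
      · have hy1 : y ≠ a := by
          rintro rfl
          exact hOdiag _ h
        rw [if_pos h, hs₁]
        simp [Pi.single_apply, hy1]
      · have hy2 : y ≠ b := by
          rintro rfl
          exact h hOab
        rw [if_neg h, if_neg hy2]
    rw [Finset.sum_congr rfl (fun y _ => h1 y), Finset.sum_ite_eq' Finset.univ b,
      if_pos (Finset.mem_univ _), hs₁]
    simp [Pi.single_apply, hab]
  -- constants have sum zero
  have hsumone : ∑ x, one x = 0 := by
    rw [hone]
    simp only [Finset.sum_const, Finset.card_univ, hcard, nsmul_eq_mul, mul_one]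
    rw [Nat.cast_pow, CharP.cast_eq_zero K p, zero_pow (by omega)]
  have hCmem : ∀ v : Ω → K, v ∈ (Cfsg.permConstants K G Ω).toSubmodule ↔ ∃ c : K, c • one = v := by
    intro v
    rw [hone]
    exact Submodule.mem_span_singleton
  have hSmem : ∀ v : Ω → K, v ∈ (Cfsg.permSumZero K G Ω).toSubmodule ↔ ∑ x, v x = 0 := by
    intro v
    rfl
  -- the two subrepresentations
  let W : Subrepresentation (Cfsg.permRep K G Ω) :=
    { toSubmodule := LinearMap.ker T ⊓ (Cfsg.permSumZero K G Ω).toSubmodule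
      apply_mem_toSubmodule := by
        intro g v hv
        rw [Submodule.mem_inf] at hv ⊢
        refine ⟨?_, (Cfsg.permSumZero K G Ω).apply_mem_toSubmodule g hv.2⟩
        rw [LinearMap.mem_ker, hT, LinearMap.mem_ker.mp hv.1, map_zero] }
  let W' : Subrepresentation (Cfsg.permRep K G Ω) :=
    { toSubmodule := (Cfsg.permConstants K G Ω).toSubmodule.comap T ⊓
        (Cfsg.permSumZero K G Ω).toSubmodule
      apply_mem_toSubmodule := by
        intro g v hv
        rw [Submodule.mem_inf] at hv ⊢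
        refine ⟨?_, (Cfsg.permSumZero K G Ω).apply_mem_toSubmodule g hv.2⟩
        rw [Submodule.mem_comap, hT]
        exact (Cfsg.permConstants K G Ω).apply_mem_toSubmodule g hv.1 }
  have hWmem : ∀ v : Ω → K, v ∈ W.toSubmodule ↔ T v = 0 ∧ ∑ x, v x = 0 := by
    intro v
    change v ∈ LinearMap.ker T ⊓ (Cfsg.permSumZero K G Ω).toSubmodule ↔ _
    rw [Submodule.mem_inf, LinearMap.mem_ker, hSmem]
  have hW'mem : ∀ v : Ω → K, v ∈ W'.toSubmodule ↔ (∃ c : K, c • one = T v) ∧ ∑ x, v x = 0 := by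
    intro v
    change v ∈ (Cfsg.permConstants K G Ω).toSubmodule.comap T ⊓
        (Cfsg.permSumZero K G Ω).toSubmodule ↔ _
    rw [Submodule.mem_inf, Submodule.mem_comap, hSmem, hCmem]
  have hCW : (Cfsg.permConstants K G Ω).toSubmodule ≤ W.toSubmodule := by
    intro v hv
    obtain ⟨c, rfl⟩ := (hCmem v).mp hv
    rw [hWmem]
    refine ⟨?_, ?_⟩
    · rw [map_smul, hT1, smul_zero]
    · simp only [Pi.smul_apply, smul_eq_mul, ← Finset.mul_sum, hsumone, mul_zero]
  have hWW' : W.toSubmodule ≤ W'.toSubmodule := by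
    intro v hv
    rw [hWmem] at hv
    rw [hW'mem]
    refine ⟨⟨0, ?_⟩, hv.2⟩
    rw [hv.1, zero_smul]
  have hW'S : W'.toSubmodule ≤ (Cfsg.permSumZero K G Ω).toSubmodule := by
    intro v hv
    rw [hW'mem] at hv
    exact (hSmem v).mpr hv.2
  have hW'W : W'.toSubmodule ≤ W.toSubmodule := by
    by_contra hnot
    obtain ⟨g, v, hv, hgv⟩ := h W W' hCW (lt_of_le_not_ge hWW' hnot) hW'S
    apply hgv
    rw [hW'mem] at hv
    rw [hWmem]
    refine ⟨?_, ?_⟩
    · rw [map_sub, hT]
      obtain ⟨c, hc⟩ := hv.1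
      rw [← hc, map_smul, hrep1, sub_self]
    · have h1 : Cfsg.permRep K G Ω g v ∈ (Cfsg.permSumZero K G Ω).toSubmodule :=
        (Cfsg.permSumZero K G Ω).apply_mem_toSubmodule g ((hSmem v).mpr hv.2)
      have h2 := (hSmem _).mp (Submodule.sub_mem _ h1 ((hSmem v).mpr hv.2))
      exact h2
  have key : ∀ s : Ω → K, ∑ x, s x = 0 → (∃ c : K, c • one = T s) → T s = 0 := by
    intro s hs hc
    have : s ∈ W'.toSubmodule := (hW'mem s).mpr ⟨hc, hs⟩
    exact ((hWmem s).mp (hW'W this)).1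
  -- Sylow subgroup and fixed vectors
  obtain ⟨P⟩ := (inferInstance : Nonempty (Sylow p G))
  have hall : ∀ s : Ω → K, ∑ x, s x = 0 → T s = 0 := by
    obtain ⟨M, hM⟩ : ∃ M : Submodule K (Ω → K),
      M = (Cfsg.permSumZero K G Ω).toSubmodule.map T := ⟨_, rfl⟩
    have hMbot : M = ⊥ := by
      by_contra hne
      have hMinv : ∀ g : ↥(P : Subgroup G), ∀ v ∈ M,
          ((Cfsg.permRep K G Ω).comp (P : Subgroup G).subtype) g v ∈ M := by
        intro g v hv
        rw [hM] at hv ⊢
        obtain ⟨s, hs, rfl⟩ := hv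
        refine ⟨Cfsg.permRep K G Ω (g : G) s,
          (Cfsg.permSumZero K G Ω).apply_mem_toSubmodule (g : G) hs, ?_⟩
        rw [hT]
        rfl
      obtain ⟨v, hvM, hv0, hvfix⟩ := pgroup_fixed_vector (p := p) P.isPGroup'
        ((Cfsg.permRep K G Ω).comp (P : Subgroup G).subtype) M hMinv hne
      rw [hM] at hvM
      obtain ⟨s, hs, rfl⟩ := hvM
      have hconst : ∀ x y : Ω, T s x = T s y := by
        intro x y
        obtain ⟨g, hgP, hg⟩ := sylow_transitive_of_card_pow hcard P x y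
        have h1 := congrFun (hvfix ⟨g, hgP⟩) y
        rw [← h1]
        change T s x = T s (g⁻¹ • y)
        rw [← hg, inv_smul_smul]
      apply hv0
      apply key s ((hSmem s).mp hs)
      refine ⟨T s c', ?_⟩
      funext x
      rw [hone]
      simp only [Pi.smul_apply, smul_eq_mul, mul_one]
      exact hconst c' x
    intro s hs
    have : T s ∈ M := by
      rw [hM]
      exact ⟨s, (hSmem s).mpr hs, rfl⟩
    rw [hMbot, Submodule.mem_bot] at this
    exact this
  have e0 := congrFun (hall s₀ (by rw [hs₀]; exact hsumsingle _ _)) c'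
  have e1 := congrFun (hall s₁ (by rw [hs₁]; exact hsumsingle _ _)) a
  rw [hTs₀] at e0
  rw [hTs₁] at e1
  simp only [Pi.zero_apply] at e0 e1
  have : (1 : K) = 0 := by linear_combination e1 + e0
  exact one_ne_zero this

end Cfsg.Agent.Lib.Helper4
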