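import Mathlib
import Cfsg.Prelude.Def_Perm
import Cfsg.Agent.Lib.Helper4.Gleason

/-!
Triple transitivity from the absence of equivariant maps from the heart of the permutation
module to the permutation module on unordered pairs.
-/

namespace Cfsg.Agent.Lib.Helper4

open scoped Pointwise

section IncOp

variable {K : Type*} [Field K] {Ω : Type*} [Fintype Ω] {β : Type*}

/-- The incidence operator of a relation between `Ω` and `β`. -/
noncomputable def incOp (I : Ω → β → Prop) [∀ a b, Decidable (I a b)] :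
    (Ω → K) →ₗ[K] (β → K) where
  toFun u := fun π => ∑ a, if I a π then u a else 0
  map_add' u v := by
    funext π
    have : ∀ a, (if I a π then (u + v) a else 0) =
        (if I a π then u a else 0) + (if I a π then v a else 0) := by
      intro a
      split_ifs <;> simp
    show (∑ a, if I a π then (u + v) a else 0) =
      (∑ a, if I a π then u a else 0) + (∑ a, if I a π then v a else 0)
    rw [Finset.sum_congr rfl (fun a _ => this a), Finset.sum_add_distrib]
  map_smul' c u := by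
    funext π
    have : ∀ a, (if I a π then (c • u) a else 0) = c * (if I a π then u a else 0) := by
      intro a
      split_ifs <;> simp
    show (∑ a, if I a π then (c • u) a else 0) = c • (∑ a, if I a π then u a else 0)
    rw [Finset.sum_congr rfl (fun a _ => this a), ← Finset.mul_sum, smul_eq_mul]

theorem incOp_apply (I : Ω → β → Prop) [∀ a b, Decidable (I a b)] (u : Ω → K) (π : β) :
    incOp I u π = ∑ a, if I a π then u a else 0 := rfl

theorem incOp_single [DecidableEq Ω] (I : Ω → β → Prop) [∀ a b, Decidable (I a b)] (a : Ω)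
    (π : β) : incOp (K := K) I (Pi.single a 1) π = if I a π then 1 else 0 := by
  rw [incOp_apply, Finset.sum_eq_single a]
  · rw [Pi.single_eq_same]
  · intro b _ hb
    rw [Pi.single_eq_of_ne hb]
    split_ifs <;> rfl
  · intro h
    exact absurd (Finset.mem_univ _) h

theorem incOp_equiv {G : Type*} [Group G] [MulAction G Ω] [MulAction G β]
    (I : Ω → β → Prop) [∀ a b, Decidable (I a b)]
    (hI : ∀ (g : G) a π, I (g • a) (g • π) ↔ I a π) (g : G) (u : Ω → K) :
    incOp I (fun x => u (g⁻¹ • x)) = fun π => incOp I u (g⁻¹ • π) := by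
  funext π
  rw [incOp_apply, incOp_apply]
  apply Fintype.sum_equiv (MulAction.toPerm g⁻¹)
  intro a
  rw [MulAction.toPerm_apply]
  by_cases h : I a π
  · rw [if_pos h, if_pos ((hI g⁻¹ a π).mpr h)]
  · rw [if_neg h, if_neg (fun h' => h ((hI g⁻¹ a π).mp h'))]

end IncOp

section ThreeTrans

variable {G : Type*} [Group G] [Finite G] {Ω : Type*} [Fintype Ω] [DecidableEq Ω]
  [MulAction G Ω] [FaithfulSMul G Ω]

/-- If `G` has a single orbit on (point, disjoint pair) and even point stabilisers, it is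
triply transitive. -/
theorem three_trans_of_single (h2 : MulAction.IsMultiplyPretransitive G Ω 2)
    (heven : ∀ a : Ω, Even (Nat.card (MulAction.stabilizer G a)))
    (hsingle : ∀ (a a' : Ω) (π π' : Set.powersetCard Ω 2), a ∉ (π : Finset Ω) →
      a' ∉ (π' : Finset Ω) → ∃ g : G, g • a = a' ∧ g • π = π') :
    MulAction.IsMultiplyPretransitive G Ω 3 := by
  -- pairs as elements
  have hpair : ∀ b c : Ω, b ≠ c → ∃ π : Set.powersetCard Ω 2, (π : Finset Ω) = {b, c} := by
    intro b c hbc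
    exact ⟨⟨{b, c}, Set.powersetCard.mem_iff.mpr (Finset.card_pair hbc)⟩, rfl⟩
  -- setwise version
  have hset : ∀ a b c b' c' : Ω, b ≠ c → b' ≠ c' → a ≠ b → a ≠ c → a ≠ b' → a ≠ c' →
      ∃ g : G, g • a = a ∧ ((g • b = b' ∧ g • c = c') ∨ (g • b = c' ∧ g • c = b')) := by
    intro a b c b' c' hbc hbc' hab hac hab' hac'
    obtain ⟨π, hπ⟩ := hpair b c hbc
    obtain ⟨π', hπ'⟩ := hpair b' c' hbc'
    obtain ⟨g, hga, hgπ⟩ := hsingle a a π π' (by rw [hπ]; simp [hab, hac])
      (by rw [hπ']; simp [hab', hac'])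
    refine ⟨g, hga, ?_⟩
    have h1 : g • (π : Finset Ω) = (π' : Finset Ω) := by
      rw [← Set.powersetCard.coe_smul, hgπ]
    rw [hπ, hπ'] at h1
    have hb : g • b ∈ ({b', c'} : Finset Ω) := by
      rw [← h1, Finset.smul_mem_smul_finset_iff]
      simp
    have hc : g • c ∈ ({b', c'} : Finset Ω) := by
      rw [← h1, Finset.smul_mem_smul_finset_iff]
      simp
    have hne : g • b ≠ g • c := fun h => hbc (smul_left_cancel g h)
    rw [Finset.mem_insert, Finset.mem_singleton] at hb hc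
    rcases hb with hb | hb <;> rcases hc with hc | hc
    · exact absurd (hb.trans hc.symm) hne
    · exact Or.inl ⟨hb, hc⟩
    · exact Or.inr ⟨hb, hc⟩
    · exact absurd (hb.trans hc.symm) hne
  -- a swap in each point stabiliser
  have hswap : ∀ a b' c' : Ω, b' ≠ c' → a ≠ b' → a ≠ c' →
      ∃ t : G, t • a = a ∧ t • b' = c' ∧ t • c' = b' := by
    intro a b' c' hbc' hab' hac'
    have h2dvd : 2 ∣ Nat.card (MulAction.stabilizer G a) := (heven a).two_dvd
    haveI : Fact (Nat.Prime 2) := ⟨Nat.prime_two⟩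
    obtain ⟨t₀, ht₀⟩ := exists_prime_orderOf_dvd_card' 2 h2dvd
    have ht₀1 : (t₀ : G) ≠ 1 := by
      intro h
      have : t₀ = 1 := Subtype.ext h
      rw [this, orderOf_one] at ht₀
      omega
    have ht₀sq : (t₀ : G) * (t₀ : G) = 1 := by
      have := pow_orderOf_eq_one t₀
      rw [ht₀, pow_two] at this
      exact congrArg Subtype.val this
    have hex : ∃ d : Ω, (t₀ : G) • d ≠ d := by
      by_contra hcon
      apply ht₀1
      apply FaithfulSMul.eq_of_smul_eq_smul (α := Ω)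
      intro d
      rw [one_smul]
      by_contra h
      exact hcon ⟨d, h⟩
    obtain ⟨d, hd⟩ := hex
    have hta : (t₀ : G) • a = a := t₀.2
    obtain ⟨e, he⟩ : ∃ e, e = (t₀ : G) • d := ⟨_, rfl⟩
    have hte : (t₀ : G) • e = d := by
      rw [he, ← mul_smul, ht₀sq, one_smul]
    have had : a ≠ d := by
      rintro rfl
      exact hd hta
    have hae : a ≠ e := by
      intro h
      rw [he] at h
      have : (t₀ : G) • a = (t₀ : G) • d := by rw [hta]; exact h
      exact had (smul_left_cancel _ this)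
    have hde : d ≠ e := by
      rw [he]
      exact fun h => hd h.symm
    obtain ⟨k, hka, hk⟩ := hset a d e b' c' hde hbc' had hae hab' hac'
    refine ⟨k * (t₀ : G) * k⁻¹, ?_, ?_, ?_⟩
    · rw [mul_smul, mul_smul]
      have : k⁻¹ • a = a := by
        rw [inv_smul_eq_iff, hka]
      rw [this, hta, hka]
    · rcases hk with ⟨hkd, hke⟩ | ⟨hkd, hke⟩
      · have : k⁻¹ • b' = d := by rw [inv_smul_eq_iff, hkd]
        rw [mul_smul, mul_smul, this, ← he, hke]
      · have : k⁻¹ • b' = e := by rw [inv_smul_eq_iff, hke]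
        rw [mul_smul, mul_smul, this, hte, hkd]
    · rcases hk with ⟨hkd, hke⟩ | ⟨hkd, hke⟩
      · have : k⁻¹ • c' = e := by rw [inv_smul_eq_iff, hke]
        rw [mul_smul, mul_smul, this, hte, hkd]
      · have : k⁻¹ • c' = d := by rw [inv_smul_eq_iff, hkd]
        rw [mul_smul, mul_smul, this, ← he, hke]
  -- pointwise version
  have hpt : ∀ a b c b' c' : Ω, b ≠ c → b' ≠ c' → a ≠ b → a ≠ c → a ≠ b' → a ≠ c' →
      ∃ g : G, g • a = a ∧ g • b = b' ∧ g • c = c' := by
    intro a b c b' c' hbc hbc' hab hac hab' hac'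
    obtain ⟨g, hga, hg | hg⟩ := hset a b c b' c' hbc hbc' hab hac hab' hac'
    · exact ⟨g, hga, hg.1, hg.2⟩
    · obtain ⟨t, hta, htb, htc⟩ := hswap a b' c' hbc' hab' hac'
      refine ⟨t * g, ?_, ?_, ?_⟩
      · rw [mul_smul, hga, hta]
      · rw [mul_smul, hg.1, htc]
      · rw [mul_smul, hg.2, htb]
  apply multiply_pretransitive_succ_of_fixing h2
  intro s hs x y hx hy
  obtain ⟨b, c, hbc, rfl⟩ := Finset.card_eq_two.mp hs
  have hxb : x ≠ b := fun h => hx (by rw [h]; simp)
  have hxc : x ≠ c := fun h => hx (by rw [h]; simp)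
  have hyb : y ≠ b := fun h => hy (by rw [h]; simp)
  have hyc : y ≠ c := fun h => hy (by rw [h]; simp)
  obtain ⟨g, hgb, hgc, hgx⟩ := hpt b c x c y hxc.symm hyc.symm hbc hxb.symm hbc hyb.symm
  refine ⟨g, ?_, hgx⟩
  intro z hz
  rw [Finset.mem_insert, Finset.mem_singleton] at hz
  rcases hz with rfl | rfl
  · exact hgb
  · exact hgc

end ThreeTrans


section PairsMain

variable {G : Type*} [Group G] [Finite G] {K : Type*} [Field K] {Ω : Type*} [Fintype Ω]
  [DecidableEq Ω] [MulAction G Ω] [FaithfulSMul G Ω]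

theorem perm_pairs_three_trans (h2 : MulAction.IsMultiplyPretransitive G Ω 2)
    (heven : ∀ a : Ω, Even (Nat.card (MulAction.stabilizer G a)))
    (h : ∀ f : Representation.IntertwiningMap (Cfsg.permSumZero K G Ω).toRepresentation
        (Cfsg.permRep K G (Set.powersetCard Ω 2)),
      (∀ v : (Cfsg.permSumZero K G Ω).toSubmodule,
        (v : Ω → K) ∈ (Cfsg.permConstants K G Ω).toSubmodule → f v = 0) → f = 0) :
    MulAction.IsMultiplyPretransitive G Ω 3 := by
  classical
  apply three_trans_of_single h2 heven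
  by_contra hns
  simp only [not_forall] at hns
  obtain ⟨a₁, a₂, π₁, π₂, ha₁, ha₂, hno⟩ := hns
  haveI : MulAction.IsPretransitive G (Set.powersetCard Ω 2) :=
    Set.powersetCard.isPretransitive_of_isMultiplyPretransitive G h2
  -- general principle
  obtain ⟨one, hone⟩ : ∃ one : Ω → K, one = fun _ => 1 := ⟨_, rfl⟩
  have principle : ∀ θ : (Ω → K) →ₗ[K] (Set.powersetCard Ω 2 → K),
      (∀ (g : G) (u : Ω → K), θ (fun x => u (g⁻¹ • x)) = fun π => θ u (g⁻¹ • π)) →
      θ one = 0 → ∀ s : Ω → K, ∑ x, s x = 0 → θ s = 0 := by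
    intro θ hθ hθ1 s hs
    obtain ⟨f, hf⟩ : ∃ f : Representation.IntertwiningMap
        (Cfsg.permSumZero K G Ω).toRepresentation (Cfsg.permRep K G (Set.powersetCard Ω 2)),
        ∀ v : (Cfsg.permSumZero K G Ω).toSubmodule, f v = θ (v : Ω → K) := by
      refine ⟨LinearMap.intertwiningMap_of_isIntertwiningMap _ _
        (θ ∘ₗ (Cfsg.permSumZero K G Ω).toSubmodule.subtype) ?_, fun v => rfl⟩
      intro g v
      exact hθ g (v : Ω → K)
    have hvan : ∀ v : (Cfsg.permSumZero K G Ω).toSubmodule,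
        (v : Ω → K) ∈ (Cfsg.permConstants K G Ω).toSubmodule → f v = 0 := by
      intro v hv
      rw [hf]
      have hv' : (v : Ω → K) ∈ Submodule.span K {one} := by
        rw [hone]
        exact hv
      obtain ⟨c, hc⟩ := Submodule.mem_span_singleton.mp hv'
      rw [← hc, map_smul, hθ1, smul_zero]
    have hf0 := h f hvan
    have hsmem : s ∈ (Cfsg.permSumZero K G Ω).toSubmodule := hs
    have := hf ⟨s, hsmem⟩
    rw [hf0] at this
    exact this.symm
  -- the two relations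
  obtain ⟨I₁, hI₁def⟩ : ∃ I₁ : Ω → Set.powersetCard Ω 2 → Prop,
      I₁ = fun a π => ∃ g : G, g • a₁ = a ∧ g • π₁ = π := ⟨_, rfl⟩
  obtain ⟨I₂, hI₂def⟩ : ∃ I₂ : Ω → Set.powersetCard Ω 2 → Prop,
      I₂ = fun a π => ∃ g : G, g • a₂ = a ∧ g • π₂ = π := ⟨_, rfl⟩
  have hinvrel : ∀ (a₀ : Ω) (π₀ : Set.powersetCard Ω 2) (g : G) (a : Ω)
      (π : Set.powersetCard Ω 2),
      (∃ k : G, k • a₀ = g • a ∧ k • π₀ = g • π) ↔ (∃ k : G, k • a₀ = a ∧ k • π₀ = π) := by
    intro a₀ π₀ g a π
    constructor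
    · rintro ⟨k, h1, h2⟩
      exact ⟨g⁻¹ * k, by rw [mul_smul, h1, inv_smul_smul], by rw [mul_smul, h2, inv_smul_smul]⟩
    · rintro ⟨k, h1, h2⟩
      exact ⟨g * k, by rw [mul_smul, h1], by rw [mul_smul, h2]⟩
  have hI₁ : ∀ (g : G) a π, I₁ (g • a) (g • π) ↔ I₁ a π := by
    intro g a π
    rw [hI₁def]
    exact hinvrel a₁ π₁ g a π
  have hI₂ : ∀ (g : G) a π, I₂ (g • a) (g • π) ↔ I₂ a π := by
    intro g a π
    rw [hI₂def]
    exact hinvrel a₂ π₂ g a π
  have hdisj : ∀ (a₀ : Ω) (π₀ : Set.powersetCard Ω 2), a₀ ∉ (π₀ : Finset Ω) →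
      ∀ (a : Ω) (π : Set.powersetCard Ω 2), (∃ k : G, k • a₀ = a ∧ k • π₀ = π) →
      a ∉ (π : Finset Ω) := by
    intro a₀ π₀ h0 a π ⟨k, h1, h2⟩ hmem
    apply h0
    rw [← h1, ← h2, Set.powersetCard.coe_smul, Finset.smul_mem_smul_finset_iff] at hmem
    exact hmem
  have hI₁11 : I₁ a₁ π₁ := by
    rw [hI₁def]
    exact ⟨1, one_smul _ _, one_smul _ _⟩
  have hI₂22 : I₂ a₂ π₂ := by
    rw [hI₂def]
    exact ⟨1, one_smul _ _, one_smul _ _⟩
  have hI₁22 : ¬ I₁ a₂ π₂ := by
    rw [hI₁def]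
    rintro ⟨g, h1, h2⟩
    exact hno ⟨g, h1, h2⟩
  have hI₂11 : ¬ I₂ a₁ π₁ := by
    rw [hI₂def]
    rintro ⟨g, h1, h2⟩
    apply hno
    refine ⟨g⁻¹, ?_, ?_⟩
    · rw [inv_smul_eq_iff, h1]
    · rw [inv_smul_eq_iff, h2]
  -- points in the pairs
  have hex : ∀ π : Set.powersetCard Ω 2, ∃ b : Ω, b ∈ (π : Finset Ω) := by
    intro π
    have : (π : Finset Ω).card = 2 := Set.powersetCard.mem_iff.mp π.2
    have hne : (π : Finset Ω).Nonempty := by
      rw [← Finset.card_pos, this]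
      norm_num
    exact hne
  obtain ⟨b₁, hb₁⟩ := hex π₁
  obtain ⟨b₂, hb₂⟩ := hex π₂
  have hI₁b : ¬ I₁ b₁ π₁ := by
    intro hI
    rw [hI₁def] at hI
    exact hdisj a₁ π₁ ha₁ b₁ π₁ hI hb₁
  have hI₂b : ¬ I₂ b₁ π₁ := by
    intro hI
    rw [hI₂def] at hI
    exact hdisj a₂ π₂ ha₂ b₁ π₁ hI hb₁
  have hI₁b' : ¬ I₁ b₂ π₂ := by
    intro hI
    rw [hI₁def] at hI
    exact hdisj a₁ π₁ ha₁ b₂ π₂ hI hb₂
  have hI₂b' : ¬ I₂ b₂ π₂ := by
    intro hI
    rw [hI₂def] at hI
    exact hdisj a₂ π₂ ha₂ b₂ π₂ hI hb₂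
  -- constants go to constants
  have hconst : ∀ (I : Ω → Set.powersetCard Ω 2 → Prop) [∀ a b, Decidable (I a b)],
      (∀ (g : G) a π, I (g • a) (g • π) ↔ I a π) →
      incOp (K := K) I one = fun _ => incOp (K := K) I one π₁ := by
    intro I _ hI
    funext π
    obtain ⟨g, hg⟩ := MulAction.exists_smul_eq G π π₁
    have h1 := congrFun (incOp_equiv (K := K) I hI g⁻¹ one) π
    have h2 : (fun x => one (g⁻¹⁻¹ • x)) = one := by rw [hone]
    rw [h2, inv_inv, hg] at h1
    exact h1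
  obtain ⟨m₁, hm₁⟩ : ∃ m₁ : K, m₁ = incOp (K := K) I₁ one π₁ := ⟨_, rfl⟩
  obtain ⟨m₂, hm₂⟩ : ∃ m₂ : K, m₂ = incOp (K := K) I₂ one π₁ := ⟨_, rfl⟩
  have hc₁ : incOp (K := K) I₁ one = fun _ => m₁ := by
    rw [hm₁]
    exact hconst I₁ hI₁
  have hc₂ : incOp (K := K) I₂ one = fun _ => m₂ := by
    rw [hm₂]
    exact hconst I₂ hI₂
  have hsumsingle : ∀ u v : Ω, ∑ x, ((Pi.single u 1 - Pi.single v 1 : Ω → K)) x = 0 := by
    intro u v
    simp only [Pi.sub_apply, Finset.sum_sub_distrib]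
    rw [Fintype.sum_pi_single', Fintype.sum_pi_single', sub_self]
  by_cases hm : m₁ = 0 ∧ m₂ = 0
  · -- use the first operator
    have h1 := principle (incOp I₁) (incOp_equiv I₁ hI₁) (by
      rw [hc₁, hm.1]
      rfl) _ (hsumsingle a₁ b₁)
    have h2 := congrFun h1 π₁
    rw [map_sub, Pi.sub_apply, incOp_single, incOp_single, if_pos hI₁11, if_neg hI₁b] at h2
    simp at h2
  · -- use the combination
    obtain ⟨θ, hθ⟩ : ∃ θ : (Ω → K) →ₗ[K] (Set.powersetCard Ω 2 → K),
        θ = m₂ • incOp I₁ - m₁ • incOp I₂ := ⟨_, rfl⟩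
    have hθeq : ∀ (g : G) (u : Ω → K),
        θ (fun x => u (g⁻¹ • x)) = fun π => θ u (g⁻¹ • π) := by
      intro g u
      rw [hθ]
      simp only [LinearMap.sub_apply, LinearMap.smul_apply]
      rw [incOp_equiv I₁ hI₁, incOp_equiv I₂ hI₂]
      rfl
    have hθ1 : θ one = 0 := by
      rw [hθ]
      simp only [LinearMap.sub_apply, LinearMap.smul_apply]
      rw [hc₁, hc₂]
      funext π
      simp only [Pi.sub_apply, Pi.smul_apply, smul_eq_mul, Pi.zero_apply]
      ring
    have e1 := congrFun (principle θ hθeq hθ1 _ (hsumsingle a₁ b₁)) π₁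
    have e2 := congrFun (principle θ hθeq hθ1 _ (hsumsingle a₂ b₂)) π₂
    rw [hθ] at e1 e2
    simp only [LinearMap.sub_apply, LinearMap.smul_apply, map_sub, Pi.sub_apply, Pi.smul_apply,
      smul_eq_mul, Pi.zero_apply] at e1 e2
    rw [incOp_single, incOp_single, incOp_single, incOp_single, if_pos hI₁11, if_neg hI₁b,
      if_neg hI₂11, if_neg hI₂b] at e1
    rw [incOp_single, incOp_single, incOp_single, incOp_single, if_neg hI₁22, if_neg hI₁b',
      if_pos hI₂22, if_neg hI₂b'] at e2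
    apply hm
    constructor
    · linear_combination -e2
    · linear_combination e1

end PairsMain

end Cfsg.Agent.Lib.Helper4
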