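import Mathlib
import Cfsg.Agent.Lib.Helper4.PrimeDeg5

/-!
Coordinates adapted to a given element of order `p`, the order of a Sylow `p`-subgroup, and
the involution in the Sylow normaliser of a transitive group of prime degree.
-/

namespace Cfsg.Agent.Lib.Helper4

section PD6

variable {Ω : Type*} [Fintype Ω]
variable {G : Type*} [Group G] [Finite G] [MulAction G Ω]

theorem pd_exists_coord_of_order [FaithfulSMul G Ω]
    (p : ℕ) [Fact p.Prime] (hcard : Fintype.card Ω = p) (t : G) (ht : orderOf t = p) :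
    ∃ (e : Ω ≃ ZMod p), ∀ x, e (t • x) = e x + 1 := by
  have hp := (Fact.out : p.Prime)
  have ht1 : t ≠ 1 := by
    intro h
    rw [h, orderOf_one] at ht
    exact hp.one_lt.ne ht
  have hex : ∃ b : Ω, t • b ≠ b := by
    by_contra hcon
    apply ht1
    apply FaithfulSMul.eq_of_smul_eq_smul (α := Ω)
    intro b
    rw [one_smul]
    by_contra h
    exact hcon ⟨b, h⟩
  obtain ⟨b, hb⟩ := hex
  have hper : Function.minimalPeriod (t • ·) b = p := by
    have h1 : Function.minimalPeriod (t • ·) b ∣ p := by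
      rw [← MulAction.pow_smul_eq_iff_minimalPeriod_dvd, ← ht, pow_orderOf_eq_one, one_smul]
    rcases (Nat.dvd_prime hp).mp h1 with h | h
    · exfalso
      rw [Function.minimalPeriod_eq_one_iff_isFixedPt] at h
      exact hb h
    · exact h
  obtain ⟨φ, hφ⟩ : ∃ φ : ZMod p → Ω, φ = fun i => t ^ i.val • b := ⟨_, rfl⟩
  have hinj : Function.Injective φ := by
    intro i j hij
    rw [hφ] at hij
    simp only at hij
    have h1 : t ^ (-(j.val : ℤ) + (i.val : ℤ)) • b = b := by
      rw [zpow_add, zpow_neg, zpow_natCast, zpow_natCast, mul_smul, hij, inv_smul_smul]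
    rw [MulAction.zpow_smul_eq_iff_minimalPeriod_dvd, hper] at h1
    have h2 := (ZMod.intCast_zmod_eq_zero_iff_dvd _ p).mpr h1
    push_cast at h2
    rw [ZMod.natCast_zmod_val, ZMod.natCast_zmod_val] at h2
    have : i = j := by linear_combination h2
    exact this
  have hbij : Function.Bijective φ := by
    rw [Fintype.bijective_iff_injective_and_card]
    exact ⟨hinj, by rw [ZMod.card, hcard]⟩
  refine ⟨(Equiv.ofBijective φ hbij).symm, ?_⟩
  intro x
  obtain ⟨i, rfl⟩ := hbij.surjective x
  have h1 : t • φ i = φ (i + 1) := by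
    rw [hφ]
    simp only
    rw [← mul_smul, ← pow_succ']
    congr 1
    rw [pow_eq_pow_iff_modEq, ht, ← ZMod.natCast_eq_natCast_iff]
    push_cast
    rw [ZMod.natCast_zmod_val, ZMod.natCast_zmod_val]
  rw [h1]
  have h2 : ∀ j : ZMod p, (Equiv.ofBijective φ hbij).symm (φ j) = j := fun j =>
    (Equiv.ofBijective φ hbij).symm_apply_apply j
  rw [h2, h2]

theorem pd_sylow_card [FaithfulSMul G Ω] (p : ℕ) [Fact p.Prime] (hcard : Fintype.card Ω = p)
    (P : Sylow p G) (t : G) (htP : t ∈ (P : Subgroup G)) (ht : orderOf t = p) :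
    Nat.card (P : Subgroup G) = p := by
  classical
  have hp := (Fact.out : p.Prime)
  have h1 : Nat.card G ∣ p.factorial := by
    have := Subgroup.card_dvd_of_injective (MulAction.toPermHom G Ω)
      (MulAction.toPerm_injective (α := G) (β := Ω))
    rw [Nat.card_eq_fintype_card (α := Equiv.Perm Ω), Fintype.card_perm, hcard] at this
    exact this
  have h2 : Nat.card (P : Subgroup G) ∣ p.factorial := (Subgroup.card_subgroup_dvd_card _).trans h1
  obtain ⟨k, hk⟩ := IsPGroup.iff_card.mp P.isPGroup'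
  have h3 : p ∣ Nat.card (P : Subgroup G) := by
    have := orderOf_dvd_natCard (⟨t, htP⟩ : ↥(P : Subgroup G))
    rw [← Subgroup.orderOf_coe] at this
    simp only at this
    rw [ht] at this
    exact this
  rw [hk] at h2 h3 ⊢
  have hk1 : k ≠ 0 := by
    intro h0
    rw [h0, pow_zero] at h3
    exact hp.one_lt.ne' (Nat.dvd_one.mp h3)
  have hk2 : k < 2 := by
    by_contra hcon
    rw [not_lt] at hcon
    have h4 : p ^ 2 ∣ p.factorial := (pow_dvd_pow p hcon).trans h2
    have hpp : p = (p - 1) + 1 := by have := hp.one_le; omega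
    rw [hpp, Nat.factorial_succ, ← hpp, pow_two] at h4
    have h5 : p ∣ (p - 1).factorial := Nat.dvd_of_mul_dvd_mul_left hp.pos h4
    rw [hp.dvd_factorial] at h5
    have := hp.one_le
    omega
  have : k = 1 := by omega
  rw [this, pow_one]

theorem pd_normalizer_involution [FaithfulSMul G Ω] (p : ℕ) [Fact p.Prime]
    (hcard : Fintype.card Ω = p) (hp2 : p ≠ 2) (P : Sylow p G) (t : G)
    (htP : t ∈ (P : Subgroup G)) (ht : orderOf t = p) (e : Ω ≃ ZMod p)
    (he : ∀ x, e (t • x) = e x + 1)
    (heven : Even (Nat.card (Subgroup.normalizer ((P : Subgroup G) : Set G)))) :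
    ∃ (τ : G) (b : ZMod p), τ ≠ 1 ∧ τ * τ = 1 ∧ ∀ x, e (τ • x) = b - e x := by
  have hp := (Fact.out : p.Prime)
  have hPcard := pd_sylow_card p hcard P t htP ht
  have hPz : Subgroup.zpowers t = (P : Subgroup G) := by
    apply Subgroup.eq_of_le_of_card_ge
    · rw [Subgroup.zpowers_le]
      exact htP
    · rw [Nat.card_zpowers, ht, hPcard]
  haveI : Fact (Nat.Prime 2) := ⟨Nat.prime_two⟩
  obtain ⟨τ₀, hτ₀⟩ := exists_prime_orderOf_dvd_card' 2 heven.two_dvd
  obtain ⟨τ, hτ⟩ : ∃ τ : G, τ = (τ₀ : G) := ⟨_, rfl⟩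
  have hτ1 : τ ≠ 1 := by
    intro h
    have : τ₀ = 1 := Subtype.ext (hτ.symm.trans h)
    rw [this, orderOf_one] at hτ₀
    omega
  have hτsq : τ * τ = 1 := by
    have := pow_orderOf_eq_one τ₀
    rw [hτ₀, pow_two] at this
    rw [hτ]
    exact congrArg Subtype.val this
  have hτinv : τ⁻¹ = τ := inv_eq_of_mul_eq_one_left hτsq
  have hτN : τ ∈ Subgroup.normalizer ((P : Subgroup G) : Set G) := by
    rw [hτ]
    exact τ₀.2
  have hs : τ * t * τ⁻¹ ∈ Subgroup.zpowers t := by
    rw [hPz]
    exact (Subgroup.mem_normalizer_iff.mp hτN t).mp htP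
  rw [← mem_powers_iff_mem_zpowers, Submonoid.mem_powers_iff] at hs
  obtain ⟨n, hn⟩ := hs
  have hpow : ∀ (m : ℕ) (y : Ω), e (t ^ m • y) = e y + m := by
    intro m
    induction m with
    | zero => intro y; simp
    | succ m ih =>
      intro y
      rw [pow_succ', mul_smul, he, ih]
      push_cast
      ring
  have hstep : ∀ x, e (τ • (t • x)) = e (τ • x) + n := by
    intro x
    have : τ • (t • x) = (τ * t * τ⁻¹) • (τ • x) := by
      simp only [mul_smul, inv_smul_smul]
    rw [this, ← hn, hpow]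
  obtain ⟨x₀, hx₀⟩ : ∃ x₀, x₀ = e.symm 0 := ⟨_, rfl⟩
  obtain ⟨b, hb⟩ : ∃ b, b = e (τ • x₀) := ⟨_, rfl⟩
  have hlin1 : ∀ m : ℕ, e (τ • (t ^ m • x₀)) = b + (n : ZMod p) * m := by
    intro m
    induction m with
    | zero => simp [hb]
    | succ m ih =>
      rw [pow_succ', mul_smul, hstep, ih]
      push_cast
      ring
  have hlin : ∀ x, e (τ • x) = b + (n : ZMod p) * e x := by
    intro x
    have hx : x = t ^ (e x).val • x₀ := by
      apply e.injective
      rw [hpow, hx₀, Equiv.apply_symm_apply, zero_add, ZMod.natCast_zmod_val]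
    conv_lhs => rw [hx]
    rw [hlin1, ZMod.natCast_zmod_val]
  -- τ is an involution
  have h0 : (0 : ZMod p) = b + (n : ZMod p) * b := by
    have := hlin (τ • x₀)
    rw [← mul_smul, hτsq, one_smul, ← hb, hx₀, Equiv.apply_symm_apply] at this
    exact this
  have h1 : (1 : ZMod p) = b + (n : ZMod p) * (b + (n : ZMod p)) := by
    have := hlin (τ • (e.symm 1))
    rw [← mul_smul, hτsq, one_smul, Equiv.apply_symm_apply, hlin, Equiv.apply_symm_apply,
      mul_one] at this
    exact this
  have hsq : ((n : ZMod p) - 1) * ((n : ZMod p) + 1) = 0 := by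
    linear_combination h0 - h1
  have h2ne : (2 : ZMod p) ≠ 0 := by
    intro h
    have h' : ((2 : ℕ) : ZMod p) = 0 := by exact_mod_cast h
    rw [ZMod.natCast_eq_zero_iff] at h'
    exact hp2 ((Nat.prime_dvd_prime_iff_eq hp Nat.prime_two).mp h')
  rcases mul_eq_zero.mp hsq with hn1 | hn1
  · -- slope one is impossible
    exfalso
    have hn1' : (n : ZMod p) = 1 := by linear_combination hn1
    rw [hn1'] at h0 hlin
    have hb0 : b = 0 := by
      have : (2 : ZMod p) * b = 0 := by linear_combination -h0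
      rcases mul_eq_zero.mp this with h | h
      · exact absurd h h2ne
      · exact h
    apply hτ1
    apply FaithfulSMul.eq_of_smul_eq_smul (α := Ω)
    intro x
    rw [one_smul]
    apply e.injective
    rw [hlin, hb0]
    ring
  · refine ⟨τ, b, hτ1, hτsq, ?_⟩
    intro x
    have hn1' : (n : ZMod p) = -1 := by linear_combination hn1
    rw [hlin, hn1']
    ring

end PD6

end Cfsg.Agent.Lib.Helper4
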