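import Mathlib
import Cfsg.Prelude.Def_Perm
import Cfsg.Agent.Lib.Helper4.PrimeDeg6
import Cfsg.Agent.Lib.Helper4.PermHeart3

/-!
A non-solvable transitive group of prime degree whose Sylow normaliser has even order is
triply transitive.
-/

namespace Cfsg.Agent.Lib.Helper4

open scoped Pointwise

section PD7

variable {Ω : Type*} [Fintype Ω] [DecidableEq Ω]
variable {G : Type*} [Group G] [Finite G] [MulAction G Ω]

theorem pd_three_trans [FaithfulSMul G Ω] [MulAction.IsPretransitive G Ω]
    (p : ℕ) [Fact p.Prime] (hcard : Fintype.card Ω = p) (hns : ¬ Group.IsSolvable G)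
    (P : Sylow p G)
    (heven : Even (Nat.card (Subgroup.normalizer ((P : Subgroup G) : Set G)))) :
    MulAction.IsMultiplyPretransitive G Ω 3 := by
  have hp := (Fact.out : p.Prime)
  have hp5 : 5 ≤ p := by
    by_contra hcon
    exact hns (pd_small_solvable p hcard (by omega))
  haveI : Nonempty Ω := by
    rw [← Fintype.card_pos_iff, hcard]
    exact hp.pos
  obtain ⟨x₁⟩ := (inferInstance : Nonempty Ω)
  -- an element of order p in P
  have hdvd : p ∣ Nat.card G := by
    have h1 := MulAction.index_stabilizer_of_transitive G x₁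
    rw [Nat.card_eq_fintype_card, hcard] at h1
    rw [← h1]
    exact Subgroup.index_dvd_card _
  obtain ⟨t₀, ht₀⟩ := exists_prime_orderOf_dvd_card' p (P.dvd_card_of_dvd_card hdvd)
  obtain ⟨t, htdef⟩ : ∃ t : G, t = (t₀ : G) := ⟨_, rfl⟩
  have htP : t ∈ (P : Subgroup G) := by
    rw [htdef]
    exact t₀.2
  have ht : orderOf t = p := by
    rw [htdef, Subgroup.orderOf_coe, ht₀]
  obtain ⟨e, he⟩ := pd_exists_coord_of_order p hcard t ht
  obtain ⟨τ, b, hτ1, hτsq, hτ⟩ := pd_normalizer_involution p hcard (by omega) P t htP ht e he heven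
  have hτinv : τ⁻¹ = τ := inv_eq_of_mul_eq_one_left hτsq
  -- two-fold transitivity
  have h2 : MulAction.IsMultiplyPretransitive G Ω 2 := by
    rcases pd_burnside (G := G) (Ω := Ω) (by rw [hcard]; exact hp) with h | h
    · exact absurd h hns
    · exact h
  have h2ne : (2 : ZMod p) ≠ 0 := by
    intro h
    have h' : ((2 : ℕ) : ZMod p) = 0 := by exact_mod_cast h
    rw [ZMod.natCast_eq_zero_iff] at h'
    have := (Nat.prime_dvd_prime_iff_eq hp Nat.prime_two).mp h'
    omega
  -- even stabilisers
  have hevenst : ∀ a : Ω, Even (Nat.card (MulAction.stabilizer G a)) := by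
    intro a
    obtain ⟨a₀, ha₀⟩ : ∃ a₀, a₀ = e.symm (b / 2) := ⟨_, rfl⟩
    have hτa₀ : τ • a₀ = a₀ := by
      apply e.injective
      rw [hτ, ha₀, Equiv.apply_symm_apply]
      field_simp
      ring
    obtain ⟨g, hg⟩ := MulAction.exists_smul_eq G a₀ a
    have hmem : g * τ * g⁻¹ ∈ MulAction.stabilizer G a := by
      rw [MulAction.mem_stabilizer_iff, mul_smul, mul_smul, ← hg, inv_smul_smul, hτa₀]
    have hord : orderOf (⟨g * τ * g⁻¹, hmem⟩ : MulAction.stabilizer G a) = 2 := by
      rw [← Subgroup.orderOf_coe]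
      simp only
      apply orderOf_eq_prime
      · rw [pow_two]
        calc g * τ * g⁻¹ * (g * τ * g⁻¹) = g * (τ * τ) * g⁻¹ := by group
          _ = 1 := by rw [hτsq]; group
      · intro h
        apply hτ1
        have : τ = g⁻¹ * (g * τ * g⁻¹) * g := by group
        rw [this, h]
        group
    have := orderOf_dvd_natCard (⟨g * τ * g⁻¹, hmem⟩ : MulAction.stabilizer G a)
    rw [hord] at this
    exact even_iff_two_dvd.mpr this
  -- the criterion
  apply perm_pairs_three_trans (K := ZMod p) h2 hevenst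
  intro f hvan
  obtain ⟨c, hc⟩ : ∃ c : Ω → ZMod p, c = pdCoord (K := ZMod p) p e := ⟨_, rfl⟩
  have hcinj : Function.Injective c := by
    rw [hc]
    exact pdCoord_injective p e
  have hce : ∀ x, c x = e x := by
    intro x
    rw [hc]
    simp [pdCoord]
  have hcardΩ : 1 < Fintype.card Ω := by
    rw [hcard]
    exact hp.one_lt
  obtain ⟨one, hone⟩ : ∃ one : Ω → ZMod p, one = fun _ => 1 := ⟨_, rfl⟩
  have hSmem : ∀ v : Ω → ZMod p, v ∈ (Cfsg.permSumZero (ZMod p) G Ω).toSubmodule ↔
      ∑ x, v x = 0 := fun v => Iff.rfl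
  have hcS : c ∈ (Cfsg.permSumZero (ZMod p) G Ω).toSubmodule := by
    rw [hSmem, hc, ← mem_pdV_sub_two]
    apply pdV_mono (show 1 ≤ p - 2 by omega)
    rw [mem_pdV_one (pdCoord_injective p e) hcardΩ]
    exact ⟨0, 1, by funext x; ring⟩
  have honeS : one ∈ (Cfsg.permSumZero (ZMod p) G Ω).toSubmodule := by
    rw [hSmem, hone]
    simp only [Finset.sum_const, Finset.card_univ, hcard, nsmul_eq_mul, mul_one]
    exact CharP.cast_eq_zero (ZMod p) p
  have hfone : f ⟨one, honeS⟩ = 0 := by
    apply hvan
    change one ∈ Submodule.span (ZMod p) {fun _ => (1 : ZMod p)}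
    rw [hone]
    exact Submodule.mem_span_singleton_self _
  obtain ⟨w, hw⟩ : ∃ w : Set.powersetCard Ω 2 → ZMod p, w = f ⟨c, hcS⟩ := ⟨_, rfl⟩
  -- the action of t on c
  have hint : ∀ (g : G) (v : (Cfsg.permSumZero (ZMod p) G Ω).toSubmodule),
      f ((Cfsg.permSumZero (ZMod p) G Ω).toRepresentation g v) =
      Cfsg.permRep (ZMod p) G (Set.powersetCard Ω 2) g (f v) := fun g v => Representation.IntertwiningMap.isIntertwining _ _ f g v
  have htw : ∀ π : Set.powersetCard Ω 2, w (t⁻¹ • π) = w π := by
    intro π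
    have h1 := hint t ⟨c, hcS⟩
    have h2 : (Cfsg.permSumZero (ZMod p) G Ω).toRepresentation t ⟨c, hcS⟩ =
        (⟨c, hcS⟩ : (Cfsg.permSumZero (ZMod p) G Ω).toSubmodule) - ⟨one, honeS⟩ := by
      apply Subtype.ext
      funext x
      change c (t⁻¹ • x) = c x - one x
      have := he (t⁻¹ • x)
      rw [smul_inv_smul] at this
      rw [hce, hce, this, hone]
      ring
    rw [h2, map_sub, hfone, sub_zero, ← hw] at h1
    have := congrFun h1 π
    exact this.symm
  have htw' : ∀ (n : ℕ) (π : Set.powersetCard Ω 2), w (t ^ n • π) = w π := by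
    intro n
    induction n with
    | zero => intro π; simp
    | succ n ih =>
      intro π
      have h1 := htw (t ^ (n + 1) • π)
      have h2 : t⁻¹ • t ^ (n + 1) • π = t ^ n • π := by
        rw [← mul_smul, pow_succ', inv_mul_cancel_left]
      rw [h2, ih] at h1
      exact h1.symm
  have hpow : ∀ (m : ℕ) (y : Ω), e (t ^ m • y) = e y + m := by
    intro m
    induction m with
    | zero => intro y; simp
    | succ m ih =>
      intro y
      rw [pow_succ', mul_smul, he, ih]
      push_cast
      ring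
  -- the action of τ
  have hτw : ∀ π : Set.powersetCard Ω 2, w (τ • π) = w π := by
    intro π
    obtain ⟨x, y, hxy, hπ⟩ := Finset.card_eq_two.mp (Set.powersetCard.mem_iff.mp π.2)
    obtain ⟨n, hn⟩ : ∃ n : ℕ, n = (b - e x - e y).val := ⟨_, rfl⟩
    have hncast : (n : ZMod p) = b - e x - e y := by
      rw [hn, ZMod.natCast_zmod_val]
    have h1 : τ • π = t ^ n • π := by
      apply Subtype.ext
      rw [Set.powersetCard.coe_smul, Set.powersetCard.coe_smul, hπ]
      have e1 : τ • x = t ^ n • y := by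
        apply e.injective
        rw [hτ, hpow, hncast]
        ring
      have e2 : τ • y = t ^ n • x := by
        apply e.injective
        rw [hτ, hpow, hncast]
        ring
      ext z
      simp only [Finset.smul_finset_insert, Finset.smul_finset_singleton, Finset.mem_insert,
        Finset.mem_singleton]
      rw [e1, e2]
      tauto
    rw [h1, htw']
  have hw0 : w = 0 := by
    have h1 := hint τ ⟨c, hcS⟩
    have h2 : (Cfsg.permSumZero (ZMod p) G Ω).toRepresentation τ ⟨c, hcS⟩ =
        b • (⟨one, honeS⟩ : (Cfsg.permSumZero (ZMod p) G Ω).toSubmodule) - ⟨c, hcS⟩ := by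
      apply Subtype.ext
      funext x
      change c (τ⁻¹ • x) = b * one x - c x
      rw [hτinv, hce, hce, hτ, hone]
      ring
    rw [h2, map_sub, map_smul, hfone, smul_zero, zero_sub, ← hw] at h1
    funext π
    have h3 := congrFun h1 π
    have h4 : Cfsg.permRep (ZMod p) G (Set.powersetCard Ω 2) τ w π = w (τ⁻¹ • π) := rfl
    rw [h4, hτinv, hτw] at h3
    have : (2 : ZMod p) * w π = 0 := by
      simp only [Pi.neg_apply] at h3
      linear_combination -h3
    rcases mul_eq_zero.mp this with h | h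
    · exact absurd h h2ne
    · exact h
  -- the kernel of f
  let W : Submodule (ZMod p) (Ω → ZMod p) :=
    (LinearMap.ker f.toLinearMap).map (Cfsg.permSumZero (ZMod p) G Ω).toSubmodule.subtype
  have hWmem : ∀ v : Ω → ZMod p, v ∈ W ↔
      ∃ hv : v ∈ (Cfsg.permSumZero (ZMod p) G Ω).toSubmodule, f ⟨v, hv⟩ = 0 := by
    intro v
    constructor
    · rintro ⟨u, hu, rfl⟩
      exact ⟨u.2, hu⟩
    · rintro ⟨hv, hfv⟩
      exact ⟨⟨v, hv⟩, hfv, rfl⟩
  have hWinv : PdInv G W := by
    intro g v hv
    obtain ⟨hvS, hfv⟩ := (hWmem v).mp hv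
    rw [hWmem]
    refine ⟨(Cfsg.permSumZero (ZMod p) G Ω).apply_mem_toSubmodule g hvS, ?_⟩
    have := hint g ⟨v, hvS⟩
    rw [hfv, map_zero] at this
    exact this
  have hcW : c ∈ W := by
    rw [hWmem]
    exact ⟨hcS, by rw [← hw, hw0]⟩
  have hall : ∀ v : (Cfsg.permSumZero (ZMod p) G Ω).toSubmodule, f v = 0 := by
    rcases pd_main (G := G) p hcard (K := ZMod p) hns W hWinv with h | h | h | h
    · exfalso
      rw [h, Submodule.mem_bot] at hcW
      have h0 := congrFun hcW (e.symm 1)
      rw [hce, Equiv.apply_symm_apply] at h0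
      exact one_ne_zero h0
    · exfalso
      obtain ⟨a, ha⟩ := (h c).mp hcW
      have h0 := congrFun ha (e.symm 0)
      have h1 := congrFun ha (e.symm 1)
      rw [hce, Equiv.apply_symm_apply] at h0 h1
      rw [← h0] at h1
      exact one_ne_zero h1
    · intro v
      have : (v : Ω → ZMod p) ∈ W := (h _).mpr v.2
      obtain ⟨_, hfv⟩ := (hWmem _).mp this
      exact hfv
    · intro v
      have : (v : Ω → ZMod p) ∈ W := by
        rw [h]
        exact Submodule.mem_top
      obtain ⟨_, hfv⟩ := (hWmem _).mp this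
      exact hfv
  apply Representation.IntertwiningMap.ext
  apply LinearMap.ext
  intro v
  exact hall v

end PD7

end Cfsg.Agent.Lib.Helper4
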