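import Mathlib

/-!
A symmetric subset of `ZMod p` (`p` odd) all of whose non-zero differences occur equally often
is trivial: the classical fact that `-1` is not a multiplier of a non-trivial difference set.
-/

namespace Cfsg.Agent.Lib.Helper4

section DiffSet

variable {p : ℕ} [Fact p.Prime]

theorem diffset_parity (hp2 : p ≠ 2) (D : Finset (ZMod p)) (c : ZMod p)
    (hsym : ∀ i, i ∈ D ↔ c - i ∈ D) (g : ZMod p) :
    Even (D.filter (fun i => i + g ∈ D)).card ↔ (c - g) / 2 ∉ D := by
  have hp := (Fact.out : p.Prime)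
  have h2ne : (2 : ZMod p) ≠ 0 := by
    intro h
    have h' : ((2 : ℕ) : ZMod p) = 0 := by exact_mod_cast h
    rw [ZMod.natCast_eq_zero_iff] at h'
    exact hp2 ((Nat.prime_dvd_prime_iff_eq hp Nat.prime_two).mp h')
  obtain ⟨R, hR⟩ : ∃ R, R = D.filter (fun i => i + g ∈ D) := ⟨_, rfl⟩
  obtain ⟨i₀, hi₀⟩ : ∃ i₀, i₀ = (c - g) / 2 := ⟨_, rfl⟩
  have hi₀2 : 2 * i₀ = c - g := by
    rw [hi₀]
    field_simp
  rw [← hR, ← hi₀]
  have hRmem : ∀ i, i ∈ R ↔ i ∈ D ∧ i + g ∈ D := by
    intro i
    rw [hR, Finset.mem_filter]
  have hφR : ∀ i ∈ R, c - g - i ∈ R := by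
    intro i hi
    rw [hRmem] at hi ⊢
    constructor
    · have := (hsym (i + g)).mp hi.2
      have h1 : c - (i + g) = c - g - i := by ring
      rw [h1] at this
      exact this
    · have := (hsym i).mp hi.1
      have h1 : c - g - i + g = c - i := by ring
      rw [h1]
      exact this
  have hfix : ∀ i, c - g - i = i → i = i₀ := by
    intro i hi
    have h1 : 2 * i = 2 * i₀ := by
      rw [hi₀2]
      linear_combination -hi
    exact mul_left_cancel₀ h2ne h1
  have hi₀R : i₀ ∈ D → i₀ ∈ R := by
    intro h
    rw [hRmem]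
    refine ⟨h, ?_⟩
    have := (hsym i₀).mp h
    have h1 : i₀ + g = c - i₀ := by linear_combination hi₀2
    rw [h1]
    exact this
  -- an involution without fixed points gives an even cardinality
  have heven : ∀ S : Finset (ZMod p), (∀ i ∈ S, c - g - i ∈ S) → i₀ ∉ S → Even S.card := by
    intro S hS h0
    rw [← ZMod.natCast_eq_zero_iff_even, Finset.card_eq_sum_ones, Nat.cast_sum]
    apply Finset.sum_involution (fun i _ => c - g - i)
    · intro i _
      simp only [Nat.cast_one]
      exact CharTwo.add_self_eq_zero (1 : ZMod 2)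
    · intro i hi _ hfixi
      apply h0
      rw [← hfix i hfixi]
      exact hi
    · intro i hi
      exact hS i hi
    · intro i _
      ring
  by_cases h0 : i₀ ∈ D
  · have h1 : i₀ ∈ R := hi₀R h0
    have h2 : Even (R.erase i₀).card := by
      apply heven
      · intro i hi
        rw [Finset.mem_erase] at hi ⊢
        refine ⟨?_, hφR i hi.2⟩
        intro h
        apply hi.1
        have : c - g - i₀ = i₀ := by linear_combination -hi₀2
        have h3 : c - g - (c - g - i) = c - g - i₀ := by rw [h]
        have h4 : c - g - (c - g - i) = i := by ring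
        rw [h4, this] at h3
        exact h3
      · exact Finset.notMem_erase _ _
    rw [Finset.card_erase_of_mem h1] at h2
    have hpos : 0 < R.card := Finset.card_pos.mpr ⟨i₀, h1⟩
    constructor
    · intro h3
      exfalso
      rcases h2 with ⟨a, ha⟩
      rcases h3 with ⟨b', hb'⟩
      omega
    · intro h3
      exact absurd h0 h3
  · constructor
    · intro _
      exact h0
    · intro _
      apply heven R hφR
      intro h
      exact h0 ((hRmem i₀).mp h).1

theorem diffset_trivial (hp2 : p ≠ 2) (D : Finset (ZMod p)) (c : ZMod p)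
    (hsym : ∀ i, i ∈ D ↔ c - i ∈ D) (lam : ℕ)
    (hlam : ∀ g : ZMod p, g ≠ 0 → (D.filter (fun i => i + g ∈ D)).card = lam) :
    (∀ i ∈ D, i = c / 2) ∨ (∀ i, i ≠ c / 2 → i ∈ D) := by
  have hp := (Fact.out : p.Prime)
  have h2ne : (2 : ZMod p) ≠ 0 := by
    intro h
    have h' : ((2 : ℕ) : ZMod p) = 0 := by exact_mod_cast h
    rw [ZMod.natCast_eq_zero_iff] at h'
    exact hp2 ((Nat.prime_dvd_prime_iff_eq hp Nat.prime_two).mp h')
  have key : ∀ i, i ≠ c / 2 → (Even lam ↔ i ∉ D) := by
    intro i hi
    have hg : c - 2 * i ≠ 0 := by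
      intro h
      apply hi
      field_simp
      linear_combination -h
    have := diffset_parity hp2 D c hsym (c - 2 * i)
    rw [hlam _ hg] at this
    have h1 : (c - (c - 2 * i)) / 2 = i := by
      field_simp
      ring
    rw [h1] at this
    exact this
  by_cases hev : Even lam
  · left
    intro i hi
    by_contra hne
    exact (key i hne).mp hev hi
  · right
    intro i hne
    by_contra hi
    exact hev ((key i hne).mpr hi)

end DiffSet

end Cfsg.Agent.Lib.Helper4
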