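import Mathlib
import Cfsg.Agent.Lib.Helper4.PrimeDeg6
import Cfsg.Agent.Lib.Helper4.PrimeDeg8

/-!
Subgroups of index `p` in a transitive group of prime degree `p` whose Sylow normaliser has
even order are point stabilisers.
-/

namespace Cfsg.Agent.Lib.Helper4

section PD9a

variable {K : Type*} [Field K] {Ω : Type*} [Fintype Ω] [DecidableEq Ω]
variable {G : Type*} [Group G] [MulAction G Ω]
variable (p : ℕ) [Fact p.Prime] [CharP K p]

theorem pd_small_V1 (e : Ω ≃ ZMod p) (hp5 : p < 5) :
    PdInv G (pdV (pdCoord (K := K) p e) 1) := by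
  have hp := (Fact.out : p.Prime)
  have hc := pdCoord_injective (K := K) p e
  haveI : Nonempty Ω := ⟨e.symm 0⟩
  have hcard := pd_card p e
  have h23 : p = 2 ∨ p = 3 := by
    have h2 := hp.two_le
    interval_cases p
    · exact Or.inl rfl
    · exact Or.inr rfl
    · exfalso
      revert hp
      decide
  rcases h23 with h | h
  · have htop : pdV (pdCoord (K := K) p e) 1 = ⊤ := by
      apply pdV_top hc
      rw [hcard, h]
    rw [htop]
    intro g f _
    exact Submodule.mem_top
  · intro g f hf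
    have h1 : p - 2 = 1 := by omega
    rw [← h1, mem_pdV_sub_two] at hf ⊢
    rw [← hf]
    exact Fintype.sum_equiv (MulAction.toPerm g⁻¹) _ _ (fun x => rfl)

theorem pd_U' (e : Ω ≃ ZMod p) (t : G)
    (ht : ∀ x, pdCoord (K := K) p e (t • x) = pdCoord (K := K) p e x + 1)
    (hV1 : ¬ PdInv G (pdV (pdCoord (K := K) p e) 1)) (W : Submodule K (Ω → K))
    (hW : PdInv G W) :
    W = ⊥ ∨ W = pdV (pdCoord (K := K) p e) 0 ∨ W = pdV (pdCoord (K := K) p e) (p - 2) ∨ W = ⊤ := by
  have hp := (Fact.out : p.Prime)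
  have hc := pdCoord_injective (K := K) p e
  haveI : Nonempty Ω := ⟨e.symm 0⟩
  have hcard := pd_card p e
  have hshift : ∀ f ∈ W, (fun x => f (t • x)) ∈ W := by
    intro f hf
    have := hW t⁻¹ f hf
    simpa only [inv_inv] using this
  rcases pd_shift_invariant p e (fun x => t • x) ht W hshift with h | ⟨d, hd, hWd⟩
  · exact Or.inl h
  · right
    by_cases h1 : d = 0
    · left
      rw [hWd, h1]
    · right
      by_cases h2 : d + 3 ≤ p
      · exfalso
        apply hV1
        apply pd_III p e (d := d) (by omega) h2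
        rw [← hWd]
        exact hW
      · by_cases h3 : d = p - 2
        · left
          rw [hWd, h3]
        · right
          rw [hWd]
          apply pdV_top hc
          rw [hcard]
          omega

theorem pd_two_trans_of_not_V1 [MulAction.IsPretransitive G Ω] (e : Ω ≃ ZMod p) (t : G)
    (ht : ∀ x, pdCoord (K := K) p e (t • x) = pdCoord (K := K) p e x + 1)
    (hV1 : ¬ PdInv G (pdV (pdCoord (K := K) p e) 1)) :
    MulAction.IsMultiplyPretransitive G Ω 2 := by
  have hc := pdCoord_injective (K := K) p e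
  haveI : Nonempty Ω := ⟨e.symm 0⟩
  have hp5 : 5 ≤ p := by
    by_contra hcon
    exact hV1 (pd_small_V1 p e (by omega))
  apply pd_two_trans (K := K) (G := G) p (pd_card p e) hp5
  intro W hW
  rcases pd_U' (K := K) p e t ht hV1 W hW with h | h | h | h
  · exact Or.inl h
  · right; left
    intro f
    rw [h]
    exact mem_pdV_zero hc
  · right; right; left
    intro f
    rw [h]
    exact mem_pdV_sub_two p e f
  · exact Or.inr (Or.inr (Or.inr h))

end PD9a


section PD9b

variable {Ω : Type*} [Fintype Ω] [DecidableEq Ω]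
variable {G : Type*} [Group G] [Finite G] [MulAction G Ω]

theorem pd_affine_index_p [FaithfulSMul G Ω] (p : ℕ) [Fact p.Prime] (e : Ω ≃ ZMod p)
    (haff : ∀ g : G, ∃ a b : ZMod p, ∀ x, e (g • x) = a + b * e x) (H : Subgroup G)
    (hpH : ¬ p ∣ Nat.card H) : ∃ a : Ω, ∀ h ∈ H, h • a = a := by
  have hp := (Fact.out : p.Prime)
  obtain ⟨x₀, hx₀⟩ : ∃ x₀, x₀ = e.symm 0 := ⟨_, rfl⟩
  obtain ⟨x₁, hx₁⟩ : ∃ x₁, x₁ = e.symm 1 := ⟨_, rfl⟩
  have hex₀ : e x₀ = 0 := by rw [hx₀, Equiv.apply_symm_apply]
  have hex₁ : e x₁ = 1 := by rw [hx₁, Equiv.apply_symm_apply]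
  obtain ⟨sl, hsldef⟩ : ∃ sl : G → ZMod p, sl = fun g => e (g • x₁) - e (g • x₀) := ⟨_, rfl⟩
  have hsl : ∀ g x, e (g • x) = e (g • x₀) + sl g * e x := by
    intro g x
    obtain ⟨a, b, hab⟩ := haff g
    have h0 := hab x₀
    have h1 := hab x₁
    rw [hex₀] at h0
    rw [hex₁] at h1
    rw [hsldef]
    simp only
    rw [hab x, h0, h1]
    ring
  have hmul : ∀ g g' : G, sl (g * g') = sl g * sl g' := by
    intro g g'
    have h1 : sl (g * g') = e ((g * g') • x₁) - e ((g * g') • x₀) := by rw [hsldef]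
    rw [h1, mul_smul, mul_smul, hsl g (g' • x₁), hsl g (g' • x₀), hsl g' x₁, hsl g' x₀, hex₀, hex₁]
    ring
  have hone : sl 1 = 1 := by
    rw [hsldef]
    simp only [one_smul]
    rw [hex₀, hex₁, sub_zero]
  -- elements of slope one in H are trivial
  have hker : ∀ h : G, h ∈ H → sl h = 1 → h = 1 := by
    intro h hh hs
    have htr : ∀ (n : ℕ) x, e (h ^ n • x) = n * e (h • x₀) + e x := by
      intro n
      induction n with
      | zero => intro x; simp
      | succ n ih =>
        intro x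
        rw [pow_succ', mul_smul, hsl h, hs, ih]
        push_cast
        ring
    by_cases hb : e (h • x₀) = 0
    · apply FaithfulSMul.eq_of_smul_eq_smul (α := Ω)
      intro x
      rw [one_smul]
      apply e.injective
      rw [hsl h, hs, hb]
      ring
    · exfalso
      have hpow : h ^ p = 1 := by
        apply FaithfulSMul.eq_of_smul_eq_smul (α := Ω)
        intro x
        rw [one_smul]
        apply e.injective
        rw [htr, ZMod.natCast_self]
        ring
      have hne : h ≠ 1 := by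
        intro h1
        apply hb
        rw [h1, one_smul, hex₀]
      have hord : orderOf h = p := orderOf_eq_prime hpow hne
      apply hpH
      have := orderOf_dvd_natCard (⟨h, hh⟩ : ↥H)
      rw [← Subgroup.orderOf_coe] at this
      simp only at this
      rw [hord] at this
      exact this
  let φ : ↥H →* ZMod p :=
    { toFun := fun h => sl h.1
      map_one' := hone
      map_mul' := fun h h' => hmul h.1 h'.1 }
  have hφinj : Function.Injective φ := by
    rw [injective_iff_map_eq_one]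
    intro h hh
    apply Subtype.ext
    exact hker h.1 h.2 hh
  haveI : IsCyclic ↥H := isCyclic_of_injective_ringHom φ hφinj
  obtain ⟨h₀, hh₀⟩ := IsCyclic.exists_generator (α := ↥H)
  by_cases hs : sl h₀.1 = 1
  · refine ⟨x₀, ?_⟩
    intro h hh
    have h01 : h₀ = 1 := Subtype.ext (hker h₀.1 h₀.2 hs)
    have := hh₀ ⟨h, hh⟩
    rw [h01, Subgroup.zpowers_one_eq_bot, Subgroup.mem_bot] at this
    have : h = 1 := congrArg Subtype.val this
    rw [this, one_smul]
  · obtain ⟨a, ha⟩ : ∃ a, a = e.symm (e (h₀.1 • x₀) / (1 - sl h₀.1)) := ⟨_, rfl⟩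
    have hne : 1 - sl h₀.1 ≠ 0 := by
      intro h
      apply hs
      linear_combination -h
    have hfix : h₀.1 • a = a := by
      apply e.injective
      rw [hsl h₀.1 a, ha, Equiv.apply_symm_apply]
      field_simp
      ring
    refine ⟨a, ?_⟩
    intro h hh
    obtain ⟨n, hn⟩ := Subgroup.mem_zpowers_iff.mp (hh₀ ⟨h, hh⟩)
    have h1 : h = h₀.1 ^ n := by
      have := congrArg Subtype.val hn
      simp only [Subgroup.coe_zpow] at this
      exact this.symm
    have hmem : h₀.1 ∈ MulAction.stabilizer G a := hfix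
    have := zpow_mem hmem n
    rw [← h1] at this
    exact this

end PD9b


section PD9c

variable {Ω : Type*} [Fintype Ω] [DecidableEq Ω]
variable {G : Type*} [Group G] [Finite G] [MulAction G Ω]

theorem pd_diffset_index_p [FaithfulSMul G Ω] (p : ℕ) [Fact p.Prime] (hp2 : p ≠ 2)
    (hcard : Fintype.card Ω = p)
    (e : Ω ≃ ZMod p) (t : G) (ht : orderOf t = p) (he : ∀ x, e (t • x) = e x + 1)
    (h2 : MulAction.IsMultiplyPretransitive G Ω 2) (τ : G) (b : ZMod p)
    (hτ : ∀ x, e (τ • x) = b - e x) (H : Subgroup G) (hidx : H.index = p)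
    (hpH : ¬ p ∣ Nat.card H) : ∃ a : Ω, ∀ h ∈ H, h • a = a := by
  classical
  haveI := Fintype.ofFinite G
  haveI := Fintype.ofFinite ↥H
  have hp := (Fact.out : p.Prime)
  have hpow : ∀ (m : ℕ) (y : Ω), e (t ^ m • y) = e y + m := by
    intro m
    induction m with
    | zero => intro y; simp
    | succ m ih =>
      intro y
      rw [pow_succ', mul_smul, he, ih]
      push_cast
      ring
  have hpowinv : ∀ (m : ℕ) (y : Ω), e ((t ^ m)⁻¹ • y) = e y - m := by
    intro m y
    have := hpow m ((t ^ m)⁻¹ • y)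
    rw [smul_inv_smul] at this
    rw [this]
    ring
  have htH : ∀ n : ℤ, t ^ n ∈ H → t ^ n = 1 := by
    intro n hn
    by_contra hne
    have hpw : (t ^ n) ^ p = 1 := by
      rw [← zpow_natCast, ← zpow_mul, mul_comm, zpow_mul, zpow_natCast, ← ht, pow_orderOf_eq_one,
        one_zpow]
    have hord : orderOf (t ^ n) = p := orderOf_eq_prime hpw hne
    apply hpH
    have := orderOf_dvd_natCard (⟨t ^ n, hn⟩ : ↥H)
    rw [← Subgroup.orderOf_coe] at this
    simp only at this
    rw [hord] at this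
    exact this
  obtain ⟨Ψ, hΨ⟩ : ∃ Ψ : ZMod p × ↥H → G, Ψ = fun q => t ^ q.1.val * q.2.1 := ⟨_, rfl⟩
  have hΨinj : Function.Injective Ψ := by
    rintro ⟨i, h⟩ ⟨j, h'⟩ hij
    rw [hΨ] at hij
    simp only at hij
    have h1 : t ^ (-(j.val : ℤ) + (i.val : ℤ)) = h'.1 * h.1⁻¹ := by
      rw [zpow_add, zpow_neg, zpow_natCast, zpow_natCast, eq_mul_inv_iff_mul_eq, mul_assoc, hij,
        inv_mul_cancel_left]
    have h2' : t ^ (-(j.val : ℤ) + (i.val : ℤ)) = 1 :=
      htH _ (by rw [h1]; exact H.mul_mem h'.2 (H.inv_mem h.2))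
    rw [← orderOf_dvd_iff_zpow_eq_one, ht] at h2'
    have h3 := (ZMod.intCast_zmod_eq_zero_iff_dvd _ p).mpr h2'
    push_cast at h3
    rw [ZMod.natCast_zmod_val, ZMod.natCast_zmod_val] at h3
    have hij' : i = j := by linear_combination h3
    subst hij'
    have : h.1 = h'.1 := mul_left_cancel hij
    rw [Prod.mk.injEq]
    exact ⟨rfl, Subtype.ext this⟩
  have hΨbij : Function.Bijective Ψ := by
    apply hΨinj.bijective_of_nat_card_le
    rw [Nat.card_prod, Nat.card_eq_fintype_card (α := ZMod p), ZMod.card, ← hidx,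
      Subgroup.index_mul_card]
  have hdecomp : ∀ g : G, ∃ (j : ZMod p) (h : G), h ∈ H ∧ g = t ^ j.val * h := by
    intro g
    obtain ⟨⟨j, h⟩, hq⟩ := hΨbij.surjective g
    exact ⟨j, h.1, h.2, by rw [← hq, hΨ]⟩
  -- the orbit of the base point
  obtain ⟨x₀, hx₀⟩ : ∃ x₀, x₀ = e.symm 0 := ⟨_, rfl⟩
  have hex₀ : e x₀ = 0 := by rw [hx₀, Equiv.apply_symm_apply]
  obtain ⟨D, hD⟩ : ∃ D : Finset Ω, D = Finset.univ.filter (fun x => ∃ h ∈ H, h • x₀ = x) :=
    ⟨_, rfl⟩
  have hDmem : ∀ x, x ∈ D ↔ ∃ h ∈ H, h • x₀ = x := by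
    intro x
    rw [hD, Finset.mem_filter]
    exact ⟨fun h => h.2, fun h => ⟨Finset.mem_univ _, h⟩⟩
  have hDinv : ∀ h ∈ H, ∀ x, h • x ∈ D ↔ x ∈ D := by
    intro h hh x
    rw [hDmem, hDmem]
    constructor
    · rintro ⟨k, hk, hkx⟩
      exact ⟨h⁻¹ * k, H.mul_mem (H.inv_mem hh) hk, by rw [mul_smul, hkx, inv_smul_smul]⟩
    · rintro ⟨k, hk, hkx⟩
      exact ⟨h * k, H.mul_mem hh hk, by rw [mul_smul, hkx]⟩
  have hx₀D : x₀ ∈ D := (hDmem x₀).mpr ⟨1, H.one_mem, one_smul _ _⟩
  -- counting functions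
  obtain ⟨M, hM⟩ : ∃ M : Ω → Ω → ℕ, M = fun x y => (Finset.univ.filter
      (fun j : ZMod p => (t ^ j.val)⁻¹ • x ∈ D ∧ (t ^ j.val)⁻¹ • y ∈ D)).card := ⟨_, rfl⟩
  obtain ⟨S, hS⟩ : ∃ S : Ω → Ω → ℕ, S = fun x y => (Finset.univ.filter
      (fun γ : G => γ⁻¹ • x ∈ D ∧ γ⁻¹ • y ∈ D)).card := ⟨_, rfl⟩
  have hSM : ∀ x y, S x y = Nat.card H * M x y := by
    intro x y
    rw [hS, hM]
    simp only
    rw [Finset.card_filter, Finset.card_filter, ← (Equiv.ofBijective Ψ hΨbij).sum_comp,
      Fintype.sum_prod_type, Finset.mul_sum]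
    apply Finset.sum_congr rfl
    intro j _
    have : ∀ h : ↥H, (if ((Equiv.ofBijective Ψ hΨbij) (j, h))⁻¹ • x ∈ D ∧
        ((Equiv.ofBijective Ψ hΨbij) (j, h))⁻¹ • y ∈ D then 1 else 0) =
        (if (t ^ j.val)⁻¹ • x ∈ D ∧ (t ^ j.val)⁻¹ • y ∈ D then 1 else 0) := by
      intro h
      have hΨjh : (Equiv.ofBijective Ψ hΨbij) (j, h) = t ^ j.val * h.1 := by
        rw [Equiv.ofBijective_apply, hΨ]
      rw [hΨjh, mul_inv_rev, mul_smul, mul_smul]
      simp only [hDinv _ (H.inv_mem h.2)]
    rw [Finset.sum_congr rfl (fun h _ => this h), Finset.sum_const, Finset.card_univ, smul_eq_mul,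
      Nat.card_eq_fintype_card]
  have hSinv : ∀ (g : G) x y, S (g • x) (g • y) = S x y := by
    intro g x y
    rw [hS]
    simp only
    apply Finset.card_equiv (Equiv.mulLeft g⁻¹)
    intro γ
    simp only [Finset.mem_filter, Finset.mem_univ, true_and, Equiv.coe_mulLeft]
    rw [mul_inv_rev, inv_inv, mul_smul, mul_smul]
  have hHpos : 0 < Nat.card H := Nat.card_pos
  have hMinv : ∀ (g : G) x y, M (g • x) (g • y) = M x y := by
    intro g x y
    have := hSinv g x y
    rw [hSM, hSM] at this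
    exact Nat.eq_of_mul_eq_mul_left hHpos this
  have hMconst : ∀ x y x' y', x ≠ y → x' ≠ y' → M x y = M x' y' := by
    intro x y x' y' hxy hxy'
    obtain ⟨g, hgx, hgy⟩ := (MulAction.is_two_pretransitive_iff.mp h2) hxy hxy'
    rw [← hgx, ← hgy, hMinv]
  -- coordinates
  obtain ⟨Dc, hDc⟩ : ∃ Dc : Finset (ZMod p), Dc = D.map e.toEmbedding := ⟨_, rfl⟩
  have hDcmem' : ∀ i, i ∈ Dc ↔ e.symm i ∈ D := by
    intro i
    rw [hDc]
    exact Finset.mem_map_equiv
  have hDcmem : ∀ x, e x ∈ Dc ↔ x ∈ D := by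
    intro x
    rw [hDcmem', Equiv.symm_apply_apply]
  have hMm : ∀ x y, M x y = (Dc.filter (fun i => i + (e x - e y) ∈ Dc)).card := by
    intro x y
    rw [hM]
    simp only
    apply Finset.card_equiv (Equiv.subLeft (e y))
    intro j
    simp only [Finset.mem_filter, Finset.mem_univ, true_and, Equiv.subLeft_apply]
    rw [← hDcmem, ← hDcmem, hpowinv, hpowinv, ZMod.natCast_zmod_val]
    have : e y - j + (e x - e y) = e x - j := by ring
    rw [this]
    tauto
  obtain ⟨x₁, hx₁⟩ : ∃ x₁, x₁ = e.symm 1 := ⟨_, rfl⟩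
  have hex₁ : e x₁ = 1 := by rw [hx₁, Equiv.apply_symm_apply]
  have hx₁₀ : x₁ ≠ x₀ := by
    intro h
    have := congrArg e h
    rw [hex₀, hex₁] at this
    exact one_ne_zero this
  obtain ⟨lam, hlamdef⟩ : ∃ lam, lam = M x₁ x₀ := ⟨_, rfl⟩
  have hlam : ∀ g : ZMod p, g ≠ 0 → (Dc.filter (fun i => i + g ∈ Dc)).card = lam := by
    intro g hg
    have hne : e.symm g ≠ x₀ := by
      intro h
      have := congrArg e h
      rw [Equiv.apply_symm_apply, hex₀] at this
      exact hg this
    have h1 := hMm (e.symm g) x₀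
    rw [Equiv.apply_symm_apply, hex₀, sub_zero] at h1
    rw [← h1, hlamdef]
    exact hMconst _ _ _ _ hne hx₁₀
  -- symmetry from the involution
  obtain ⟨s, hτh, hτhH, hτdec⟩ := hdecomp τ
  have hsym1 : ∀ i, i ∈ Dc → (b - s) - i ∈ Dc := by
    intro i hi
    rw [hDcmem'] at hi
    have h1 : e (τ • e.symm i) = b - i := by rw [hτ, Equiv.apply_symm_apply]
    rw [hτdec, mul_smul, hpow, ZMod.natCast_zmod_val] at h1
    have h2' : hτh • e.symm i ∈ D := (hDinv _ hτhH _).mpr hi
    rw [← hDcmem] at h2'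
    have : b - s - i = e (hτh • e.symm i) := by linear_combination -h1
    rw [this]
    exact h2'
  have hsym : ∀ i, i ∈ Dc ↔ (b - s) - i ∈ Dc := by
    intro i
    constructor
    · exact hsym1 i
    · intro h
      have := hsym1 _ h
      have h3 : b - s - (b - s - i) = i := by ring
      rw [h3] at this
      exact this
  rcases diffset_trivial hp2 Dc (b - s) hsym lam hlam with hcase | hcase
  · -- the orbit is a single point
    refine ⟨x₀, ?_⟩
    intro h hh
    apply e.injective
    have h1 : e (h • x₀) ∈ Dc := (hDcmem _).mpr ((hDinv h hh x₀).mpr hx₀D)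
    have h2' : e x₀ ∈ Dc := (hDcmem _).mpr hx₀D
    rw [hcase _ h1, hcase _ h2']
  · -- the complement of the orbit is at most a point
    obtain ⟨a, ha⟩ : ∃ a, a = e.symm ((b - s) / 2) := ⟨_, rfl⟩
    have hea : e a = (b - s) / 2 := by rw [ha, Equiv.apply_symm_apply]
    refine ⟨a, ?_⟩
    intro h hh
    by_contra hne
    have h1 : h • a ∈ D := by
      rw [← hDcmem]
      apply hcase
      intro heq
      apply hne
      apply e.injective
      rw [heq, hea]
    have haD : a ∈ D := (hDinv h hh a).mp h1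
    have hall : ∀ x, x ∈ D := by
      intro x
      by_cases hx : e x = (b - s) / 2
      · have : x = a := by
          apply e.injective
          rw [hx, hea]
        rw [this]
        exact haD
      · rw [← hDcmem]
        exact hcase _ hx
    apply hpH
    have horb : MulAction.orbit ↥H x₀ = Set.univ := by
      rw [Set.eq_univ_iff_forall]
      intro x
      obtain ⟨k, hk, hkx⟩ := (hDmem x).mp (hall x)
      exact ⟨⟨k, hk⟩, hkx⟩
    have h3 := MulAction.index_stabilizer (G := ↥H) (x := x₀)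
    rw [horb, Set.ncard_univ, Nat.card_eq_fintype_card, hcard] at h3
    rw [← h3]
    exact Subgroup.index_dvd_card _

end PD9c


section PD9d

variable {Ω : Type*} [Fintype Ω] [DecidableEq Ω]
variable {G : Type*} [Group G] [Finite G] [MulAction G Ω]

theorem pd_index_p [FaithfulSMul G Ω] [MulAction.IsPretransitive G Ω]
    (p : ℕ) [Fact p.Prime] (hcard : Fintype.card Ω = p) (P : Sylow p G)
    (heven : Even (Nat.card (Subgroup.normalizer ((P : Subgroup G) : Set G))))
    (H : Subgroup G) (hidx : H.index = p) : ∃ a : Ω, H = MulAction.stabilizer G a := by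
  classical
  have hp := (Fact.out : p.Prime)
  haveI : Nonempty Ω := by
    rw [← Fintype.card_pos_iff, hcard]
    exact hp.pos
  obtain ⟨x₁⟩ := (inferInstance : Nonempty Ω)
  have hGfact : Nat.card G ∣ p.factorial := by
    have := Subgroup.card_dvd_of_injective (MulAction.toPermHom G Ω)
      (MulAction.toPerm_injective (α := G) (β := Ω))
    rw [Nat.card_eq_fintype_card (α := Equiv.Perm Ω), Fintype.card_perm, hcard] at this
    exact this
  have hGH : p * Nat.card H = Nat.card G := by
    rw [← hidx]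
    exact Subgroup.index_mul_card H
  have hpH : ¬ p ∣ Nat.card H := by
    intro hdvd
    have h4 : p * p ∣ p.factorial := by
      refine dvd_trans ?_ hGfact
      rw [← hGH]
      exact mul_dvd_mul_left p hdvd
    have hpp : p = (p - 1) + 1 := by have := hp.one_le; omega
    rw [hpp, Nat.factorial_succ, ← hpp] at h4
    have h5 : p ∣ (p - 1).factorial := Nat.dvd_of_mul_dvd_mul_left hp.pos h4
    rw [hp.dvd_factorial] at h5
    have := hp.one_le
    omega
  suffices hfix : ∃ a : Ω, ∀ h ∈ H, h • a = a by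
    obtain ⟨a, ha⟩ := hfix
    refine ⟨a, ?_⟩
    apply Subgroup.eq_of_le_of_card_ge
    · intro h hh
      exact ha h hh
    · have h1 := MulAction.index_stabilizer_of_transitive G a
      rw [Nat.card_eq_fintype_card, hcard] at h1
      have h2 := Subgroup.index_mul_card (MulAction.stabilizer G a)
      rw [h1, ← hGH] at h2
      exact (Nat.eq_of_mul_eq_mul_left hp.pos h2).le
  by_cases hp2 : p = 2
  · refine ⟨x₁, ?_⟩
    intro h hh
    have hH1 : Nat.card H = 1 := by
      rw [hp2] at hGfact hGH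
      rw [← hGH] at hGfact
      have h1 : 2 * Nat.card H ∣ 2 := by simpa using hGfact
      have h2 : 2 * Nat.card H ≤ 2 := Nat.le_of_dvd (by norm_num) h1
      have h3 : 0 < Nat.card H := Nat.card_pos
      omega
    have : H = ⊥ := Subgroup.card_eq_one.mp hH1
    rw [this, Subgroup.mem_bot] at hh
    rw [hh, one_smul]
  · -- an element of order p in P
    have hdvd : p ∣ Nat.card G := by
      have h1 := MulAction.index_stabilizer_of_transitive G x₁
      rw [Nat.card_eq_fintype_card, hcard] at h1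
      rw [← h1]
      exact Subgroup.index_dvd_card _
    obtain ⟨t₀, ht₀⟩ := exists_prime_orderOf_dvd_card' p (P.dvd_card_of_dvd_card hdvd)
    obtain ⟨t, htdef⟩ : ∃ t : G, t = (t₀ : G) := ⟨_, rfl⟩
    have htP : t ∈ (P : Subgroup G) := by
      rw [htdef]
      exact t₀.2
    have ht : orderOf t = p := by
      rw [htdef, Subgroup.orderOf_coe, ht₀]
    obtain ⟨e, he⟩ := pd_exists_coord_of_order p hcard t ht
    obtain ⟨τ, b, -, -, hτ⟩ := pd_normalizer_involution p hcard hp2 P t htP ht e he heven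
    have hce : ∀ x, pdCoord (K := ZMod p) p e x = e x := by
      intro x
      simp [pdCoord]
    have ht' : ∀ x, pdCoord (K := ZMod p) p e (t • x) = pdCoord (K := ZMod p) p e x + 1 := by
      intro x
      rw [hce, hce, he]
    by_cases hV1 : PdInv G (pdV (pdCoord (K := ZMod p) p e) 1)
    · apply pd_affine_index_p p e _ H hpH
      intro g
      have hc := pdCoord_injective (K := ZMod p) p e
      have h2 : 1 < Fintype.card Ω := by
        rw [hcard]
        exact hp.one_lt
      have hmem : (pdCoord (K := ZMod p) p e) ∈ pdV (pdCoord (K := ZMod p) p e) 1 := by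
        rw [mem_pdV_one hc h2]
        exact ⟨0, 1, by funext x; ring⟩
      have := hV1 g⁻¹ _ hmem
      rw [mem_pdV_one hc h2] at this
      obtain ⟨a, b', hab⟩ := this
      refine ⟨a, b', fun x => ?_⟩
      have := congrFun hab x
      simp only [inv_inv] at this
      rw [hce, hce] at this
      exact this
    · have h2 := pd_two_trans_of_not_V1 (K := ZMod p) p e t ht' hV1
      exact pd_diffset_index_p p hp2 hcard e t ht he h2 τ b hτ H hidx hpH

end PD9d

end Cfsg.Agent.Lib.Helper4
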