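import Mathlib
import Cfsg.Prelude.Def_Solvable
import Cfsg.Agent.Lib.Helper4.TwoFrob
import Cfsg.Agent.Lib.Helper4.Hall
import Cfsg.Agent.Lib.Helper4.SZ

/-! Solvable groups with disconnected prime graph are Frobenius or 2-Frobenius. -/

set_option autoImplicit false
set_option linter.unusedSectionVars false

namespace Cfsg.Agent.Lib.Helper4

section pinum

/-- all prime divisors of `n` lie in `S` -/
def IsPiNum (S : Set ℕ) (n : ℕ) : Prop := ∀ r : ℕ, r.Prime → r ∣ n → r ∈ S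

theorem IsPiNum.of_dvd {S : Set ℕ} {n d : ℕ} (h : IsPiNum S n) (hd : d ∣ n) : IsPiNum S d :=
  fun r hr hrd => h r hr (hrd.trans hd)

theorem IsPiNum.mul {S : Set ℕ} {a b : ℕ} (ha : IsPiNum S a) (hb : IsPiNum S b) :
    IsPiNum S (a * b) := by
  intro r hr hrd
  rcases (Nat.Prime.dvd_mul hr).1 hrd with h | h
  · exact ha r hr h
  · exact hb r hr h

theorem IsPiNum.coprime {S : Set ℕ} {a b : ℕ} (ha : IsPiNum S a) (hb : IsPiNum Sᶜ b) :
    a.Coprime b := by
  by_contra hcon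
  obtain ⟨r, hr, hrd⟩ := Nat.exists_prime_and_dvd (n := Nat.gcd a b) hcon
  exact (Set.mem_compl_iff _ _).1 (hb r hr (hrd.trans (Nat.gcd_dvd_right a b)))
    (ha r hr (hrd.trans (Nat.gcd_dvd_left a b)))

theorem IsPiNum.prime_pow {S : Set ℕ} {r : ℕ} (hr : r.Prime) (hrS : r ∈ S) (k : ℕ) :
    IsPiNum S (r ^ k) := by
  intro q hq hqd
  have := (Nat.prime_dvd_prime_iff_eq hq hr).1 (hq.dvd_of_dvd_pow hqd)
  rw [this]; exact hrS

theorem IsPiNum.prime {S : Set ℕ} {r : ℕ} (hr : r.Prime) (hrS : r ∈ S) : IsPiNum S r := by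
  have := IsPiNum.prime_pow hr hrS 1
  rwa [pow_one] at this

/-- the prime graph condition: no element of order `a b` with `a ∈ S`, `b ∉ S` -/
def PGCond (S : Set ℕ) (X : Type*) [Group X] : Prop :=
  ∀ a ∈ S, ∀ b ∉ S, a.Prime → b.Prime → ¬ ∃ g : X, orderOf g = a * b

theorem PGCond.no_commute {S : Set ℕ} {X : Type*} [Group X] [Finite X] (h : PGCond S X) {x y : X}
    (hx : IsPiNum S (orderOf x)) (hy : IsPiNum Sᶜ (orderOf y)) (hx1 : x ≠ 1) (hy1 : y ≠ 1) :
    x * y ≠ y * x := by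
  intro hxy
  have hox : orderOf x ≠ 1 := fun h1 => hx1 (orderOf_eq_one_iff.1 h1)
  have hoy : orderOf y ≠ 1 := fun h1 => hy1 (orderOf_eq_one_iff.1 h1)
  obtain ⟨a, ha, had⟩ := Nat.exists_prime_and_dvd hox
  obtain ⟨b, hb, hbd⟩ := Nat.exists_prime_and_dvd hoy
  have haS : a ∈ S := hx a ha had
  have hbS : b ∉ S := (Set.mem_compl_iff _ _).1 (hy b hb hbd)
  have hab : a ≠ b := fun h => hbS (h ▸ haS)
  apply h a haS b hbS ha hb
  have hox0 : orderOf x ≠ 0 := (orderOf_pos x).ne'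
  have hoy0 : orderOf y ≠ 0 := (orderOf_pos y).ne'
  have hka : orderOf x / a ≠ 0 := (Nat.div_pos (Nat.le_of_dvd (orderOf_pos x) had) ha.pos).ne'
  have hkb : orderOf y / b ≠ 0 := (Nat.div_pos (Nat.le_of_dvd (orderOf_pos y) hbd) hb.pos).ne'
  have h1 : orderOf (x ^ (orderOf x / a)) = a := by
    rw [orderOf_pow_of_dvd hka (Nat.div_dvd_of_dvd had), Nat.div_div_self had hox0]
  have h2 : orderOf (y ^ (orderOf y / b)) = b := by
    rw [orderOf_pow_of_dvd hkb (Nat.div_dvd_of_dvd hbd), Nat.div_div_self hbd hoy0]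
  have hcomm : Commute (x ^ (orderOf x / a)) (y ^ (orderOf y / b)) :=
    (show Commute x y from hxy).pow_pow _ _
  refine ⟨x ^ (orderOf x / a) * y ^ (orderOf y / b), ?_⟩
  rw [hcomm.orderOf_mul_eq_mul_orderOf_of_coprime
    (by rw [h1, h2]; exact (Nat.coprime_primes ha hb).2 hab), h1, h2]

theorem PGCond.quotient {S : Set ℕ} {X : Type*} [Group X] [Finite X] (h : PGCond S X)
    (N : Subgroup X) [N.Normal] : PGCond S (X ⧸ N) := by
  intro a ha b hb hpa hpb
  rintro ⟨g, hg⟩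
  obtain ⟨x, hx⟩ := exists_orderOf_of_surjective (QuotientGroup.mk' N)
    (QuotientGroup.mk'_surjective N) g
  exact h a ha b hb hpa hpb ⟨x, by rw [hx, hg]⟩

theorem PGCond.subgroup {S : Set ℕ} {X : Type*} [Group X] (h : PGCond S X) (L : Subgroup X) :
    PGCond S L := by
  intro a ha b hb hpa hpb
  rintro ⟨g, hg⟩
  exact h a ha b hb hpa hpb ⟨(g : X), by rw [Subgroup.orderOf_coe, hg]⟩

end pinum

section frobtools
variable {X : Type*} [Group X] [Finite X]

theorem pgf_frob_of_fpf (N C : Subgroup X) [hNn : N.Normal]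
    (hc : Subgroup.IsComplement' N C) (hN : N ≠ ⊥) (hC : C ≠ ⊥)
    (hfpf : ∀ c ∈ C, c ≠ 1 → N ⊓ Subgroup.centralizer {c} = ⊥) :
    Cfsg.IsFrobeniusComplement C ∧ Cfsg.frobeniusKernel C = (N : Set X) := by
  have hF : Cfsg.IsFrobeniusComplement C := (Cfsg.Agent.S0039.result N C hc hN hC).2 hfpf
  refine ⟨hF, ?_⟩
  obtain ⟨N', hset, hN'n, hc'⟩ := Cfsg.Agent.S0035.result C hF
  have hle : N ≤ N' := by
    intro x hx
    have : x ∈ (N' : Set X) := by
      rw [hset, frobKer_mem_iff]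
      by_cases hx1 : x = 1
      · exact Or.inl hx1
      · right
        intro g hg
        rw [mem_cj_iff] at hg
        have h0 : g⁻¹ * x * g ∈ N := by
          have := hNn.conj_mem x hx g⁻¹
          simpa using this
        have h1 : g⁻¹ * x * g ∈ N ⊓ C := ⟨h0, hg⟩
        rw [hc.isCompl.inf_eq_bot, Subgroup.mem_bot] at h1
        apply hx1
        have e : x = g * (g⁻¹ * x * g) * g⁻¹ := by group
        rw [e, h1]; group
    exact this
  have hcard : Nat.card N' ≤ Nat.card N := by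
    have h1 : Nat.card N * Nat.card C = Nat.card X := hc.card_mul_card
    have h2 : Nat.card N' * Nat.card C = Nat.card X := hc'.card_mul_card
    have h3 : 0 < Nat.card C := Nat.card_pos
    exact le_of_eq (Nat.eq_of_mul_eq_mul_right h3 (h2.trans h1.symm))
  have heq : N = N' := Subgroup.eq_of_le_of_card_ge hle hcard
  rw [← hset, heq]

theorem hall_frob (N : Subgroup X) [hNn : N.Normal] (hN : N ≠ ⊥) (hNt : N ≠ ⊤)
    (hcop : (Nat.card N).Coprime N.index)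
    (hnc : ∀ x ∈ N, ∀ y : X, x ≠ 1 → y ≠ 1 → orderOf y ∣ N.index → x * y ≠ y * x) :
    ∃ C : Subgroup X, Subgroup.IsComplement' N C ∧ C ≠ ⊥ ∧ Nat.card C = N.index ∧
      (∀ c ∈ C, c ≠ 1 → N ⊓ Subgroup.centralizer {c} = ⊥) ∧
      Cfsg.IsFrobeniusComplement C ∧ Cfsg.frobeniusKernel C = (N : Set X) := by
  obtain ⟨C, hc⟩ := Subgroup.exists_right_complement'_of_coprime hcop
  have hcardC : Nat.card C = N.index := hc.symm.index_eq_card.symm
  have hC : C ≠ ⊥ := by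
    intro h
    rw [h, Subgroup.card_bot] at hcardC
    exact hNt (Subgroup.index_eq_one.1 hcardC.symm)
  have hfpf : ∀ c ∈ C, c ≠ 1 → N ⊓ Subgroup.centralizer {c} = ⊥ := by
    intro c hcC hc1
    rw [eq_bot_iff]
    rintro u ⟨huN, huc⟩
    rw [Subgroup.mem_bot]
    by_contra hu1
    have hord : orderOf c ∣ N.index := by
      rw [← hcardC]; exact Subgroup.orderOf_dvd_natCard C hcC
    exact hnc u huN c hu1 hc1 hord (Subgroup.mem_centralizer_singleton_iff.1 huc)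
  obtain ⟨h1, h2⟩ := pgf_frob_of_fpf N C hc hN hC hfpf
  exact ⟨C, hc, hC, hcardC, hfpf, h1, h2⟩

theorem exists_max_normal_pi (S : Set ℕ) (R : Subgroup X) (hRn : R.Normal)
    (hR : IsPiNum S (Nat.card R)) :
    ∃ H : Subgroup X, H.Normal ∧ IsPiNum S (Nat.card H) ∧ R ≤ H ∧
      ∀ H' : Subgroup X, H'.Normal → IsPiNum S (Nat.card H') → H ≤ H' → H' = H := by
  classical
  have hne : ({H : Subgroup X | H.Normal ∧ IsPiNum S (Nat.card H) ∧ R ≤ H}).Nonempty :=
    ⟨R, hRn, hR, le_rfl⟩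
  obtain ⟨H, ⟨hHn, hHS, hRH⟩, hmax⟩ := Set.exists_max_image
    {H : Subgroup X | H.Normal ∧ IsPiNum S (Nat.card H) ∧ R ≤ H}
    (fun H => Nat.card H) (Set.toFinite _) hne
  refine ⟨H, hHn, hHS, hRH, ?_⟩
  intro H' hH'n hH'S hle
  exact (Subgroup.eq_of_le_of_card_ge hle (hmax H' ⟨hH'n, hH'S, hRH.trans hle⟩)).symm

theorem exists_normal_prime_quot [Group.IsSolvable X] (S : Set ℕ) (H : Subgroup X)
    [hHn : H.Normal] (hHS : IsPiNum S (Nat.card H))
    (hHmax : ∀ H' : Subgroup X, H'.Normal → IsPiNum S (Nat.card H') → H ≤ H' → H' = H)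
    (hHt : H ≠ ⊤) :
    ∃ (r : ℕ) (R : Subgroup (X ⧸ H)), r.Prime ∧ r ∉ S ∧ R.Normal ∧ R ≠ ⊥ ∧ IsPGroup r R := by
  haveI : Nontrivial (X ⧸ H) := by
    rw [← Finite.one_lt_card_iff_nontrivial, ← Subgroup.index_eq_card]
    have h0 : H.index ≠ 0 := Subgroup.index_ne_zero_of_finite
    have h1 : H.index ≠ 1 := fun h => hHt (Subgroup.index_eq_one.1 h)
    omega
  obtain ⟨r, hrF, R, hRn, hRne, hRp⟩ := exists_normal_pSubgroup_of_solvable (G := X ⧸ H)
  haveI := hrF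
  refine ⟨r, R, hrF.out, ?_, hRn, hRne, hRp⟩
  intro hrS
  apply hRne
  obtain ⟨k, hk⟩ := IsPGroup.iff_card.1 hRp
  have hRS : IsPiNum S (Nat.card R) := by rw [hk]; exact IsPiNum.prime_pow hrF.out hrS k
  haveI := hRn
  have h2 : IsPiNum S (Nat.card (R.comap (QuotientGroup.mk' H))) := by
    rw [card_comap_mk_quot]; exact hRS.mul hHS
  have h3 : H ≤ R.comap (QuotientGroup.mk' H) := by
    intro x hx
    rw [Subgroup.mem_comap, QuotientGroup.mk'_apply, (QuotientGroup.eq_one_iff x).2 hx]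
    exact R.one_mem
  have h4 := hHmax _ inferInstance h2 h3
  rw [eq_bot_iff]
  intro y hy
  obtain ⟨x, rfl⟩ := QuotientGroup.mk'_surjective H y
  have hx : x ∈ R.comap (QuotientGroup.mk' H) := hy
  rw [h4] at hx
  rw [Subgroup.mem_bot, QuotientGroup.mk'_apply, QuotientGroup.eq_one_iff]
  exact hx

theorem subgroupOf_card_index {A B : Subgroup X} (hAB : A ≤ B) (m : ℕ)
    (hm : Nat.card B = m * Nat.card A) :
    Nat.card (A.subgroupOf B) = Nat.card A ∧ (A.subgroupOf B).index = m := by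
  have h1 := card_subgroupOf_of_le hAB
  refine ⟨h1, ?_⟩
  have h2 : Nat.card (A.subgroupOf B) * (A.subgroupOf B).index = Nat.card B :=
    Subgroup.card_mul_index _
  rw [h1, hm, Nat.mul_comm (Nat.card A) (A.subgroupOf B).index] at h2
  exact Nat.eq_of_mul_eq_mul_right Nat.card_pos h2

omit [Finite X] in
theorem comm_centralizes_cyclic (N : Subgroup X) [hNn : N.Normal] (z : X)
    (hzpow : ∀ n ∈ N, ∃ i : ℤ, z ^ i = n) (hzN : z ∈ N) (a b : X) :
    z * ((b * a)⁻¹ * (a * b)) = (b * a)⁻¹ * (a * b) * z := by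
  obtain ⟨i, hi⟩ := hzpow (a * z * a⁻¹) (hNn.conj_mem z hzN a)
  obtain ⟨j, hj⟩ := hzpow (b * z * b⁻¹) (hNn.conj_mem z hzN b)
  have hab : (a * b) * z * (a * b)⁻¹ = z ^ (i * j) := by
    calc (a * b) * z * (a * b)⁻¹ = a * (b * z * b⁻¹) * a⁻¹ := by group
      _ = a * z ^ j * a⁻¹ := by rw [hj]
      _ = (a * z * a⁻¹) ^ j := (conj_zpow).symm
      _ = (z ^ i) ^ j := by rw [hi]
      _ = z ^ (i * j) := (zpow_mul z i j).symm
  have hba : (b * a) * z * (b * a)⁻¹ = z ^ (i * j) := by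
    calc (b * a) * z * (b * a)⁻¹ = b * (a * z * a⁻¹) * b⁻¹ := by group
      _ = b * z ^ i * b⁻¹ := by rw [hi]
      _ = (b * z * b⁻¹) ^ i := (conj_zpow).symm
      _ = (z ^ j) ^ i := by rw [hj]
      _ = z ^ (i * j) := by rw [← zpow_mul, mul_comm j i]
  have h1 : (a * b) * z * (a * b)⁻¹ = (b * a) * z * (b * a)⁻¹ := hab.trans hba.symm
  calc z * ((b * a)⁻¹ * (a * b)) = (b * a)⁻¹ * ((b * a) * z * (b * a)⁻¹) * (a * b) := by group
    _ = (b * a)⁻¹ * ((a * b) * z * (a * b)⁻¹) * (a * b) := by rw [h1]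
    _ = (b * a)⁻¹ * (a * b) * z := by group

omit [Finite X] in
theorem compl_equiv_map (H K : Subgroup X) [hHn : H.Normal] (hHK : H ≤ K)
    (C₁ : Subgroup ↥K) (hc₁ : Subgroup.IsComplement' (H.subgroupOf K) C₁) :
    Nonempty (↥C₁ ≃* ↥(K.map (QuotientGroup.mk' H))) := by
  obtain ⟨π, hπdef⟩ : ∃ π : X →* X ⧸ H, π = QuotientGroup.mk' H := ⟨_, rfl⟩
  rw [← hπdef]
  have hπ1 : ∀ x : X, π x = 1 ↔ x ∈ H := fun x => by
    rw [hπdef]; exact QuotientGroup.eq_one_iff x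
  let φ : ↥C₁ →* ↥(K.map π) := ((π.comp K.subtype).comp C₁.subtype).codRestrict (K.map π)
    (fun c => Subgroup.mem_map_of_mem π (c : ↥K).2)
  have hφval : ∀ c : ↥C₁, ((φ c : ↥(K.map π)) : X ⧸ H) = π ((c : ↥K) : X) := fun c => rfl
  have hφinj : Function.Injective φ := by
    rw [injective_iff_map_eq_one]
    intro c hc
    have h1 : π ((c : ↥K) : X) = 1 := by rw [← hφval, hc]; rfl
    rw [hπ1] at h1
    have h2 : (c : ↥K) ∈ H.subgroupOf K ⊓ C₁ := ⟨Subgroup.mem_subgroupOf.2 h1, c.2⟩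
    rw [hc₁.isCompl.inf_eq_bot, Subgroup.mem_bot] at h2
    exact Subtype.ext h2
  have hφsurj : Function.Surjective φ := by
    rintro ⟨y, hy⟩
    obtain ⟨k, hk, rfl⟩ := hy
    obtain ⟨⟨n, c⟩, hnc⟩ := hc₁.2 ⟨k, hk⟩
    refine ⟨c, Subtype.ext ?_⟩
    rw [hφval]
    have h1 : k = ((n : ↥K) : X) * ((c : ↥K) : X) := by
      have := congrArg Subtype.val hnc
      simpa using this.symm
    have hnH : π ((n : ↥K) : X) = 1 := by
      rw [hπ1]; exact Subgroup.mem_subgroupOf.1 n.2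
    show π ((c : ↥K) : X) = π k
    rw [h1, map_mul, hnH, one_mul]
  exact ⟨MulEquiv.ofBijective φ ⟨hφinj, hφsurj⟩⟩

end frobtools


section core

theorem pg_core {G : Type*} [Group G] [Finite G] (hsol : Group.IsSolvable G) (S : Set ℕ)
    (hPG : PGCond S G) (hb : ∃ b ∉ S, b.Prime ∧ b ∣ Nat.card G)
    (R : Subgroup G) (hRn : R.Normal) (hRne : R ≠ ⊥) (hRS : IsPiNum S (Nat.card R)) :
    (∃ C : Subgroup G, Cfsg.IsFrobeniusComplement C) ∨
    (∃ (H K : Subgroup G) (_ : H.Normal), K.Normal ∧ H < K ∧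
      (∃ C : Subgroup ↥K, Cfsg.IsFrobeniusComplement C ∧
        Cfsg.frobeniusKernel C = (H.subgroupOf K : Set ↥K)) ∧
      (∃ C : Subgroup (G ⧸ H), Cfsg.IsFrobeniusComplement C ∧
        Cfsg.frobeniusKernel C = (K.map (QuotientGroup.mk' H) : Set (G ⧸ H)))) := by
  classical
  haveI := hsol
  obtain ⟨H, hHn, hHS, hRH, hHmax⟩ := exists_max_normal_pi S R hRn hRS
  haveI := hHn
  have hHne : H ≠ ⊥ := fun h => hRne (le_bot_iff.1 (h ▸ hRH))
  obtain ⟨b, hbS, hbp, hbG⟩ := hb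
  have hHt : H ≠ ⊤ := by
    intro h
    have h1 : IsPiNum S (Nat.card G) := by
      have h2 := hHS
      rw [h, Subgroup.card_top] at h2
      exact h2
    exact hbS (h1 b hbp hbG)
  have hPGq : PGCond S (G ⧸ H) := hPG.quotient H
  obtain ⟨r, R₁, hrp, hrS, hR₁n, hR₁ne, hR₁p⟩ := exists_normal_prime_quot S H hHS hHmax hHt
  haveI : Fact r.Prime := ⟨hrp⟩
  have hR₁S : IsPiNum Sᶜ (Nat.card R₁) := by
    obtain ⟨k, hk⟩ := IsPGroup.iff_card.1 hR₁p
    rw [hk]; exact IsPiNum.prime_pow hrp (Set.mem_compl hrS) k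
  obtain ⟨Kb, hKbn, hKbS, hR₁K, hKbmax⟩ := exists_max_normal_pi Sᶜ R₁ hR₁n hR₁S
  haveI := hKbn
  have hKbne : Kb ≠ ⊥ := fun h => hR₁ne (le_bot_iff.1 (h ▸ hR₁K))
  have hHcard1 : 1 < Nat.card H := by
    rw [Finite.one_lt_card_iff_nontrivial]
    exact (Subgroup.nontrivial_iff_ne_bot H).2 hHne
  have hKbcard1 : 1 < Nat.card Kb := by
    rw [Finite.one_lt_card_iff_nontrivial]
    exact (Subgroup.nontrivial_iff_ne_bot Kb).2 hKbne
  by_cases hKt : Kb = ⊤
  · -- Frobenius case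
    left
    have hidx : IsPiNum Sᶜ H.index := by
      rw [Subgroup.index_eq_card, ← Subgroup.card_top (G := G ⧸ H), ← hKt]; exact hKbS
    obtain ⟨C, -, -, -, -, hF, -⟩ := hall_frob H hHne hHt (IsPiNum.coprime hHS hidx)
      (by
        intro x hx y hx1 hy1 hyo
        exact hPG.no_commute (hHS.of_dvd (Subgroup.orderOf_dvd_natCard H hx))
          (hidx.of_dvd hyo) hx1 hy1)
    exact ⟨C, hF⟩
  · -- 2-Frobenius case
    right
    obtain ⟨K, hKdef⟩ : ∃ K : Subgroup G, K = Kb.comap (QuotientGroup.mk' H) := ⟨_, rfl⟩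
    haveI hKn : K.Normal := by rw [hKdef]; infer_instance
    have hKmem : ∀ x : G, x ∈ K ↔ (QuotientGroup.mk' H) x ∈ Kb := fun x => by
      rw [hKdef]; exact Subgroup.mem_comap
    have hHK : H ≤ K := by
      intro x hx
      rw [hKmem, QuotientGroup.mk'_apply, (QuotientGroup.eq_one_iff x).2 hx]; exact Kb.one_mem
    have hKmap : K.map (QuotientGroup.mk' H) = Kb := by
      rw [hKdef]
      exact Subgroup.map_comap_eq_self_of_surjective (QuotientGroup.mk'_surjective H) Kb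
    have hcardK : Nat.card K = Nat.card Kb * Nat.card H := by
      rw [hKdef]; exact card_comap_mk_quot H Kb
    have hlt : H < K := by
      refine lt_of_le_of_ne hHK ?_
      intro h
      apply hKbne
      rw [eq_bot_iff]
      intro y hy
      obtain ⟨x, rfl⟩ := QuotientGroup.mk'_surjective H y
      have hx : x ∈ K := (hKmem x).2 hy
      rw [← h] at hx
      rw [Subgroup.mem_bot, QuotientGroup.mk'_apply, QuotientGroup.eq_one_iff]; exact hx
    obtain ⟨hcardN, hidxN⟩ := subgroupOf_card_index hHK (Nat.card Kb) hcardK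
    have hNne : H.subgroupOf K ≠ ⊥ := by
      intro h
      rw [h, Subgroup.card_bot] at hcardN
      omega
    have hNnt : H.subgroupOf K ≠ ⊤ := by
      intro h
      rw [h, Subgroup.index_top] at hidxN
      omega
    obtain ⟨C₁, hc₁, hC₁ne, hcardC₁, hfpf₁, hF₁, hker₁⟩ :=
      hall_frob (H.subgroupOf K) hNne hNnt
        (by rw [hcardN, hidxN]; exact IsPiNum.coprime hHS hKbS)
        (by
          intro x hx y hx1 hy1 hyo
          apply (hPG.subgroup K).no_commute _ _ hx1 hy1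
          · exact hHS.of_dvd (by rw [← hcardN]; exact Subgroup.orderOf_dvd_natCard _ hx)
          · exact hKbS.of_dvd (by rw [← hidxN]; exact hyo))
    -- second level
    obtain ⟨r₂, R₂, hr₂p, hr₂S, hR₂n, hR₂ne, hR₂p⟩ :=
      exists_normal_prime_quot (X := G ⧸ H) Sᶜ Kb hKbS hKbmax hKt
    haveI : Fact r₂.Prime := ⟨hr₂p⟩
    haveI := hR₂n
    have hr₂S' : r₂ ∈ S := by
      by_contra h
      exact hr₂S (Set.mem_compl h)
    obtain ⟨M, hMdef⟩ : ∃ M : Subgroup (G ⧸ H), M = R₂.comap (QuotientGroup.mk' Kb) :=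
      ⟨_, rfl⟩
    haveI hMn : M.Normal := by rw [hMdef]; infer_instance
    have hKbM : Kb ≤ M := by
      intro x hx
      rw [hMdef, Subgroup.mem_comap, QuotientGroup.mk'_apply, (QuotientGroup.eq_one_iff x).2 hx]
      exact R₂.one_mem
    have hcardM : Nat.card M = Nat.card R₂ * Nat.card Kb := by
      rw [hMdef]; exact card_comap_mk_quot Kb R₂
    obtain ⟨k₂, hk₂⟩ := IsPGroup.iff_card.1 hR₂p
    have hR₂S : IsPiNum S (Nat.card R₂) := by
      rw [hk₂]; exact IsPiNum.prime_pow hr₂p hr₂S' k₂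
    have hR₂card1 : 1 < Nat.card R₂ := by
      rw [Finite.one_lt_card_iff_nontrivial]
      exact (Subgroup.nontrivial_iff_ne_bot R₂).2 hR₂ne
    obtain ⟨hcardN₂, hidxN₂⟩ := subgroupOf_card_index hKbM (Nat.card R₂) hcardM
    have hN₂ne : Kb.subgroupOf M ≠ ⊥ := by
      intro h
      rw [h, Subgroup.card_bot] at hcardN₂
      omega
    have hN₂nt : Kb.subgroupOf M ≠ ⊤ := by
      intro h
      rw [h, Subgroup.index_top] at hidxN₂
      omega
    obtain ⟨C₂, hc₂, hC₂ne, hcardC₂, hfpf₂, hF₂, hker₂⟩ :=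
      hall_frob (Kb.subgroupOf M) hN₂ne hN₂nt
        (by rw [hcardN₂, hidxN₂]; exact (IsPiNum.coprime hR₂S hKbS).symm)
        (by
          intro x hx y hx1 hy1 hyo hxy
          refine (hPGq.subgroup M).no_commute (x := y) (y := x) ?_ ?_ hy1 hx1 hxy.symm
          · exact hR₂S.of_dvd (by rw [← hidxN₂]; exact hyo)
          · exact hKbS.of_dvd (by rw [← hcardN₂]; exact Subgroup.orderOf_dvd_natCard _ hx))
    obtain ⟨-, -, -, -, hnil₂⟩ := frob_pkg C₂ (Kb.subgroupOf M) hF₂ hker₂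
    obtain ⟨e₁⟩ := compl_equiv_map H K hHK C₁ hc₁
    have e₂ : ↥(K.map (QuotientGroup.mk' H)) ≃* ↥Kb := MulEquiv.subgroupCongr hKmap
    have e₃ : ↥(Kb.subgroupOf M) ≃* ↥Kb := Subgroup.subgroupOfEquivOfLe hKbM
    have e : ↥C₁ ≃* ↥(Kb.subgroupOf M) := (e₁.trans e₂).trans e₃.symm
    obtain ⟨hodd, hcycC₁, hcycC₂⟩ := two_frob_middle (H.subgroupOf K) C₁ hc₁ hNne hfpf₁
      (Kb.subgroupOf M) C₂ hc₂ hN₂ne hfpf₂ hC₂ne hnil₂ e
    have hcycKb : IsCyclic ↥Kb := by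
      haveI := hcycC₁
      exact isCyclic_of_surjective (e₁.trans e₂) (e₁.trans e₂).surjective
    obtain ⟨⟨z, hzK⟩, hzgen⟩ := hcycKb.exists_generator
    have hzpow : ∀ n ∈ Kb, ∃ i : ℤ, z ^ i = n := by
      intro n hn
      obtain ⟨i, hi⟩ := Subgroup.mem_zpowers_iff.1 (hzgen ⟨n, hn⟩)
      refine ⟨i, ?_⟩
      have := congrArg Subtype.val hi
      simpa using this
    have hz1 : z ≠ 1 := by
      intro hz
      apply hKbne
      rw [eq_bot_iff]
      intro n hn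
      obtain ⟨i, hi⟩ := hzpow n hn
      rw [Subgroup.mem_bot, ← hi, hz, one_zpow]
    -- the complement X₁ of Kb in M, inside G ⧸ H
    obtain ⟨X₁, hX₁def⟩ : ∃ X₁ : Subgroup (G ⧸ H), X₁ = C₂.map M.subtype := ⟨_, rfl⟩
    have hX₁M : X₁ ≤ M := by rw [hX₁def]; rintro _ ⟨y, -, rfl⟩; exact y.2
    have hcardX₁ : Nat.card X₁ = Nat.card R₂ := by
      rw [hX₁def, ← hidxN₂, ← hcardC₂]
      exact Nat.card_congr (C₂.equivMapOfInjective M.subtype M.subtype_injective).symm.toEquiv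
    have hX₁S : IsPiNum S (Nat.card X₁) := by rw [hcardX₁]; exact hR₂S
    have hX₁ne : ∃ x ∈ X₁, x ≠ 1 := by
      obtain ⟨⟨c, hcC⟩, hc1⟩ := (Subgroup.ne_bot_iff_exists_ne_one).1 hC₂ne
      refine ⟨((c : ↥M) : G ⧸ H), by rw [hX₁def]; exact ⟨c, hcC, rfl⟩, ?_⟩
      intro h
      exact hc1 (Subtype.ext (Subtype.ext h))
    have hcopXK : (Nat.card X₁).Coprime (Nat.card Kb) := IsPiNum.coprime hX₁S hKbS
    have hnormKb : X₁ ≤ Subgroup.normalizer (Kb : Set (G ⧸ H)) := by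
      rw [Subgroup.normalizer_eq_top_iff.2 hKbn]; exact le_top
    have hsup : Kb ⊔ X₁ = M := by
      apply Subgroup.eq_of_le_of_card_ge (sup_le hKbM hX₁M)
      rw [act_card_sup X₁ Kb hnormKb hcopXK, hcardM, hcardX₁, mul_comm]
    have hXord : ∀ x ∈ X₁, IsPiNum S (orderOf x) := fun x hx =>
      hX₁S.of_dvd (Subgroup.orderOf_dvd_natCard X₁ hx)
    have hKord : ∀ x ∈ Kb, IsPiNum Sᶜ (orderOf x) := fun x hx =>
      hKbS.of_dvd (Subgroup.orderOf_dvd_natCard Kb hx)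
    have hsolKb : Group.IsSolvable ↥Kb := inferInstance
    have hfrat : ∀ g : G ⧸ H, ∃ k ∈ Kb,
        k⁻¹ * g ∈ Subgroup.normalizer (X₁ : Set (G ⧸ H)) := by
      intro g
      have hle : cj g X₁ ≤ Kb ⊔ X₁ := by
        rw [hsup]
        calc cj g X₁ ≤ cj g M := cj_mono g hX₁M
          _ = M := cj_self_of_normal M g
      obtain ⟨k, hkK, hk⟩ := sz_act_conj X₁ Kb hnormKb hcopXK (Or.inr hsolKb) (cj g X₁) hle
        (card_cj' g X₁)
      refine ⟨k, hkK, ?_⟩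
      apply Subgroup.mem_normalizer_iff_map_conj_eq.2
      show cj (k⁻¹ * g) X₁ = X₁
      rw [cj_mul, ← hk, cj_inv_cj']
    obtain ⟨Nn, hNndef⟩ : ∃ Nn : Subgroup (G ⧸ H),
      Nn = Subgroup.normalizer (X₁ : Set (G ⧸ H)) := ⟨_, rfl⟩
    have hNnconj : ∀ n ∈ Nn, ∀ x ∈ X₁, n * x * n⁻¹ ∈ X₁ := by
      intro n hn x hx
      rw [hNndef] at hn
      exact (Subgroup.mem_normalizer_iff.1 hn x).1 hx
    have hX₁Nn : X₁ ≤ Nn := by rw [hNndef]; exact Subgroup.le_normalizer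
    have hNnKb : Kb ⊓ Nn = ⊥ := by
      rw [eq_bot_iff]
      rintro n ⟨hnK, hnN⟩
      rw [Subgroup.mem_bot]
      by_contra hn1
      obtain ⟨x, hxX, hx1⟩ := hX₁ne
      have hw : n * x * n⁻¹ * x⁻¹ ∈ Kb ⊓ X₁ := by
        constructor
        · have h1 : x * n⁻¹ * x⁻¹ ∈ Kb := hKbn.conj_mem _ (Kb.inv_mem hnK) x
          have e : n * x * n⁻¹ * x⁻¹ = n * (x * n⁻¹ * x⁻¹) := by group
          rw [e]; exact Kb.mul_mem hnK h1
        · exact X₁.mul_mem (hNnconj n hnN x hxX) (X₁.inv_mem hxX)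
      rw [act_inf_eq_bot X₁ Kb hcopXK, Subgroup.mem_bot] at hw
      have hcomm : x * n = n * x := by
        have e : n * x = (n * x * n⁻¹ * x⁻¹) * (x * n) := by group
        rw [e, hw, one_mul]
      exact hPGq.no_commute (hXord x hxX) (hKord n hnK) hx1 hn1 hcomm
    have hcompl : Subgroup.IsComplement' Kb Nn := by
      apply Subgroup.isComplement'_of_disjoint_and_mul_eq_univ (disjoint_iff.2 hNnKb)
      rw [Set.eq_univ_iff_forall]
      intro g
      obtain ⟨k, hkK, hk⟩ := hfrat g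
      exact ⟨k, hkK, k⁻¹ * g, by rw [hNndef]; exact hk, by group⟩
    have hfpfN : ∀ n ∈ Nn, n ≠ 1 → Kb ⊓ Subgroup.centralizer {n} = ⊥ := by
      intro n hnN hn1
      rw [eq_bot_iff]
      rintro z₁ ⟨hz₁K, hz₁c⟩
      rw [Subgroup.mem_bot]
      by_contra hz₁1
      have hcomm : z₁ * n = n * z₁ := Subgroup.mem_centralizer_singleton_iff.1 hz₁c
      have hon : orderOf n ≠ 1 := fun h => hn1 (orderOf_eq_one_iff.1 h)
      obtain ⟨q, hq, hqd⟩ := Nat.exists_prime_and_dvd hon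
      obtain ⟨n', hn'def⟩ : ∃ n' : G ⧸ H, n' = n ^ (orderOf n / q) := ⟨_, rfl⟩
      have hn'ord : orderOf n' = q := by
        rw [hn'def, orderOf_pow_of_dvd
          (Nat.div_pos (Nat.le_of_dvd (orderOf_pos n) hqd) hq.pos).ne'
          (Nat.div_dvd_of_dvd hqd), Nat.div_div_self hqd (orderOf_pos n).ne']
      have hn'N : n' ∈ Nn := by rw [hn'def]; exact Nn.pow_mem hnN _
      have hn'1 : n' ≠ 1 := by
        intro h; rw [h, orderOf_one] at hn'ord; exact hq.one_lt.ne' hn'ord.symm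
      have hn'z : n' * z₁ = z₁ * n' := by
        rw [hn'def]
        exact (show Commute n z₁ from hcomm.symm).pow_left _
      have hz₁S : IsPiNum Sᶜ (orderOf z₁) := hKord z₁ hz₁K
      by_cases hqS : q ∈ S
      · have hn'S : IsPiNum S (orderOf n') := by rw [hn'ord]; exact IsPiNum.prime hq hqS
        exact hPGq.no_commute hn'S hz₁S hn'1 hz₁1 hn'z
      · have hn'S : IsPiNum Sᶜ (orderOf n') := by
          rw [hn'ord]; exact IsPiNum.prime hq (Set.mem_compl hqS)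
        have hcent : ∀ x ∈ X₁, n' * x = x * n' := by
          intro x hxX
          by_contra hne
          have hw1 : (x * n')⁻¹ * (n' * x) ≠ 1 := by
            intro h; apply hne; rw [inv_mul_eq_one] at h; exact h.symm
          have hwX : (x * n')⁻¹ * (n' * x) ∈ X₁ := by
            have e : (x * n')⁻¹ * (n' * x) = (n'⁻¹ * x⁻¹ * n'⁻¹⁻¹) * x := by group
            rw [e]
            exact X₁.mul_mem (hNnconj n'⁻¹ (Nn.inv_mem hn'N) x⁻¹ (X₁.inv_mem hxX)) hxX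
          have hwz := comm_centralizes_cyclic Kb z hzpow hzK n' x
          exact hPGq.no_commute (hXord _ hwX) (hKord z hzK) hw1 hz1 hwz.symm
        obtain ⟨x, hxX, hx1⟩ := hX₁ne
        exact hPGq.no_commute (hXord x hxX) hn'S hx1 hn'1 (hcent x hxX).symm
    have hNnne : Nn ≠ ⊥ := by
      intro h
      obtain ⟨x, hxX, hx1⟩ := hX₁ne
      have := hX₁Nn hxX
      rw [h, Subgroup.mem_bot] at this
      exact hx1 this
    obtain ⟨hFn, hkern⟩ := pgf_frob_of_fpf Kb Nn hcompl hKbne hNnne hfpfN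
    exact ⟨H, K, hHn, hKn, hlt, ⟨C₁, hF₁, hker₁⟩, ⟨Nn, hFn, by rw [hKmap]; exact hkern⟩⟩

theorem pg_main {G : Type*} [Group G] [Finite G] (hsol : Group.IsSolvable G)
    (hdisc : (∃ A : Set ℕ, (∃ a ∈ A, a.Prime ∧ a ∣ Nat.card G) ∧
      (∃ b ∉ A, b.Prime ∧ b ∣ Nat.card G) ∧
      ∀ a ∈ A, ∀ b ∉ A, a.Prime → b.Prime → a ∣ Nat.card G → b ∣ Nat.card G →
        ¬ ∃ g : G, orderOf g = a * b)) :
    (∃ C : Subgroup G, Cfsg.IsFrobeniusComplement C) ∨
    (∃ (H K : Subgroup G) (_ : H.Normal), K.Normal ∧ H < K ∧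
      (∃ C : Subgroup ↥K, Cfsg.IsFrobeniusComplement C ∧
        Cfsg.frobeniusKernel C = (H.subgroupOf K : Set ↥K)) ∧
      (∃ C : Subgroup (G ⧸ H), Cfsg.IsFrobeniusComplement C ∧
        Cfsg.frobeniusKernel C = (K.map (QuotientGroup.mk' H) : Set (G ⧸ H)))) := by
  classical
  obtain ⟨A, ⟨a, haA, hap, haG⟩, ⟨b, hbA, hbp, hbG⟩, hno⟩ := hdisc
  haveI := hsol
  haveI : Nontrivial G := by
    rw [← Finite.one_lt_card_iff_nontrivial]
    exact lt_of_lt_of_le hap.one_lt (Nat.le_of_dvd Nat.card_pos haG)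
  obtain ⟨r, hrF, R, hRn, hRne, hRp⟩ := exists_normal_pSubgroup_of_solvable (G := G)
  haveI := hrF
  obtain ⟨k, hk⟩ := IsPGroup.iff_card.1 hRp
  by_cases hrA : r ∈ A
  · apply pg_core hsol A ?_ ⟨b, hbA, hbp, hbG⟩ R hRn hRne
      (by rw [hk]; exact IsPiNum.prime_pow hrF.out hrA k)
    intro a' ha' b' hb' hpa' hpb' hex
    obtain ⟨g, hg⟩ := hex
    have h1 : a' ∣ Nat.card G := (dvd_mul_right a' b').trans (hg ▸ orderOf_dvd_natCard g)
    have h2 : b' ∣ Nat.card G := (dvd_mul_left b' a').trans (hg ▸ orderOf_dvd_natCard g)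
    exact hno a' ha' b' hb' hpa' hpb' h1 h2 ⟨g, hg⟩
  · apply pg_core hsol Aᶜ ?_ ⟨a, fun h => h haA, hap, haG⟩ R hRn hRne
      (by rw [hk]; exact IsPiNum.prime_pow hrF.out (Set.mem_compl hrA) k)
    intro a' ha' b' hb' hpa' hpb' hex
    obtain ⟨g, hg⟩ := hex
    have h1 : a' ∣ Nat.card G := (dvd_mul_right a' b').trans (hg ▸ orderOf_dvd_natCard g)
    have h2 : b' ∣ Nat.card G := (dvd_mul_left b' a').trans (hg ▸ orderOf_dvd_natCard g)
    have hb'A : b' ∈ A := by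
      by_contra h
      exact hb' (Set.mem_compl h)
    exact hno b' hb'A a' ha' hpb' hpa' h2 h1 ⟨g, by rw [hg, mul_comm]⟩

end core

end Cfsg.Agent.Lib.Helper4
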