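import Mathlib

set_option autoImplicit false

namespace Cfsg.Agent.Lib.Helper4

/-- The exponent attached to `p` in a list of (prime, exponent) pairs. -/
def ppExpo (l : List (ℕ × ℕ)) (p : ℕ) : ℕ := ((l.filter (fun x => x.1 = p)).map Prod.snd).sum

/-- The product of the prime powers in the list. -/
def ppProd (l : List (ℕ × ℕ)) : ℕ := (l.map (fun x => x.1 ^ x.2)).prod

theorem ppProd_nil : ppProd [] = 1 := rfl

theorem ppProd_cons (x : ℕ × ℕ) (l : List (ℕ × ℕ)) : ppProd (x :: l) = x.1 ^ x.2 * ppProd l := by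
  simp [ppProd]

theorem ppProd_ne_zero (l : List (ℕ × ℕ)) (h : ∀ x ∈ l, x.1.Prime) : ppProd l ≠ 0 := by
  induction l with
  | nil => simp [ppProd]
  | cons x t ih =>
    rw [ppProd_cons]
    have hx : x.1.Prime := h x (by simp)
    have := ih (fun y hy => h y (by simp [hy]))
    exact mul_ne_zero (pow_ne_zero _ hx.ne_zero) this

theorem factorization_ppProd (l : List (ℕ × ℕ)) (h : ∀ x ∈ l, x.1.Prime) (p : ℕ) :
    (ppProd l).factorization p = ppExpo l p := by
  induction l with
  | nil => simp [ppProd, ppExpo]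
  | cons x t ih =>
    have hx : x.1.Prime := h x (by simp)
    have ht : ∀ y ∈ t, y.1.Prime := fun y hy => h y (by simp [hy])
    rw [ppProd_cons, Nat.factorization_mul (pow_ne_zero _ hx.ne_zero) (ppProd_ne_zero t ht),
      Finsupp.add_apply, ih ht, hx.factorization_pow, Finsupp.single_apply]
    unfold ppExpo
    by_cases hxp : x.1 = p
    · simp [List.filter_cons, hxp]
    · simp [List.filter_cons, hxp]

/-- The Boolean check: every odd prime of the list with exponent exactly 3 has its cube below
the 2-part. -/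
def ppCheck (l : List (ℕ × ℕ)) : Bool :=
  l.all (fun x => decide (x.1 = 2 ∨ ppExpo l x.1 ≠ 3 ∨ x.1 ^ 3 < 2 ^ ppExpo l 2))

theorem ppCheck_spec (l : List (ℕ × ℕ)) (h : ∀ x ∈ l, x.1.Prime) (hc : ppCheck l = true)
    (p : ℕ) (hp2 : p ≠ 2) (h3 : (ppProd l).factorization p = 3) :
    p ^ 3 < 2 ^ (ppProd l).factorization 2 := by
  rw [factorization_ppProd l h] at h3 ⊢
  have hex : ∃ x ∈ l, x.1 = p := by
    by_contra hne
    push Not at hne
    have : l.filter (fun x => x.1 = p) = [] := by
      rw [List.filter_eq_nil_iff]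
      intro x hx
      simpa using hne x hx
    unfold ppExpo at h3
    rw [this] at h3
    simp at h3
  obtain ⟨x, hx, rfl⟩ := hex
  unfold ppCheck at hc
  rw [List.all_eq_true] at hc
  have := hc x hx
  rw [decide_eq_true_iff] at this
  rcases this with h1 | h1 | h1
  · exact absurd h1 hp2
  · exact absurd h3 h1
  · exact h1

end Cfsg.Agent.Lib.Helper4
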