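import Cfsg.Agent.Lib.Helper4.PStabNormal
import Cfsg.Agent.Lib.Helper4.MaxNormAb
import Cfsg.Agent.Lib.Helper3.SolvPSolv
import Cfsg.Agent.Lib.Helper4.HH123
import Cfsg.Agent.S1467
import Cfsg.Prelude.Def_OddOrderLocal

/-! The Puig series of a Sylow `p`-subgroup and of `O_p(G)` in a solvable group of odd order. -/

namespace Cfsg.Agent.Lib.Helper4

open scoped commutatorElement

section Puig

universe u

variable {G : Type u} [Group G]

/-- relative Puig step inside `G` -/
def puigRel (R X : Subgroup G) : Subgroup G :=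
  sSup {A : Subgroup G | A ≤ R ∧ (∀ x ∈ A, ∀ y ∈ A, x * y = y * x) ∧
    X ≤ Subgroup.normalizer (A : Set G)}

theorem puigRel_le (R X : Subgroup G) : puigRel R X ≤ R := sSup_le (fun _ hA => hA.1)

theorem puigRel_anti (R : Subgroup G) {X Y : Subgroup G} (h : X ≤ Y) :
    puigRel R Y ≤ puigRel R X :=
  sSup_le_sSup (fun _ hA => ⟨hA.1, hA.2.1, h.trans hA.2.2⟩)

theorem puigRel_mono {R₁ R₂ : Subgroup G} (h : R₁ ≤ R₂) (X : Subgroup G) :
    puigRel R₁ X ≤ puigRel R₂ X :=
  sSup_le_sSup (fun _ hA => ⟨hA.1.trans h, hA.2.1, hA.2.2⟩)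

theorem le_puigRel {R X A : Subgroup G} (hAR : A ≤ R) (hA : ∀ x ∈ A, ∀ y ∈ A, x * y = y * x)
    (hX : X ≤ Subgroup.normalizer (A : Set G)) : A ≤ puigRel R X :=
  le_sSup ⟨hAR, hA, hX⟩

theorem map_puigStep (R : Subgroup G) (X : Subgroup ↥R) :
    (Cfsg.puigStep X).map R.subtype = puigRel R (X.map R.subtype) := by
  unfold Cfsg.puigStep puigRel
  rw [(Subgroup.gc_map_comap R.subtype).l_sSup, ← sSup_image]
  congr 1
  ext B
  constructor
  · rintro ⟨A, ⟨hA, hXA⟩, rfl⟩
    refine ⟨Subgroup.map_subtype_le A, ?_, ?_⟩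
    · rintro _ ⟨x, hx, rfl⟩ _ ⟨y, hy, rfl⟩
      have h1 := hA.is_comm.comm ⟨x, hx⟩ ⟨y, hy⟩
      have h2 := congrArg (fun z : ↥A => ((z : ↥R) : G)) h1
      simpa using h2
    · rintro _ ⟨x, hx, rfl⟩
      exact Subgroup.le_normalizer_map R.subtype ⟨x, hXA hx, rfl⟩
  · rintro ⟨hBR, hBc, hXB⟩
    refine ⟨B.subgroupOf R, ⟨?_, ?_⟩, ?_⟩
    · exact ⟨⟨fun x y => Subtype.ext (Subtype.ext (hBc x.1 x.2 y.1 y.2))⟩⟩
    · intro x hx
      have h1 : (x : G) ∈ Subgroup.normalizer (B : Set G) :=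
        hXB (Subgroup.mem_map_of_mem _ hx)
      rw [Subgroup.mem_normalizer_iff] at h1 ⊢
      intro y
      rw [Subgroup.mem_subgroupOf, Subgroup.mem_subgroupOf]
      exact h1 (y : G)
    · exact Subgroup.map_subgroupOf_eq_of_le hBR

/-- relative Puig series inside `G` -/
def puigSeqRel (R : Subgroup G) : ℕ → Subgroup G
  | 0 => ⊥
  | n + 1 => puigRel R (puigSeqRel R n)

theorem puigSeqRel_zero (R : Subgroup G) : puigSeqRel R 0 = ⊥ := rfl

theorem puigSeqRel_succ (R : Subgroup G) (n : ℕ) :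
    puigSeqRel R (n + 1) = puigRel R (puigSeqRel R n) := rfl

theorem map_puigSeq (R : Subgroup G) (n : ℕ) :
    (Cfsg.puigSeq ↥R n).map R.subtype = puigSeqRel R n := by
  induction n with
  | zero =>
    show (⊥ : Subgroup ↥R).map R.subtype = ⊥
    exact Subgroup.map_bot _
  | succ n ih =>
    show (Cfsg.puigStep (Cfsg.puigSeq ↥R n)).map R.subtype = puigRel R (puigSeqRel R n)
    rw [map_puigStep, ih]

theorem puigSeqRel_le (R : Subgroup G) (n : ℕ) : puigSeqRel R n ≤ R := by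
  cases n with
  | zero => exact bot_le
  | succ n => exact puigRel_le R _

theorem puigRel_normal (R X : Subgroup G) [hR : R.Normal] [hX : X.Normal] :
    (puigRel R X).Normal := by
  have hmap : ∀ g : G, (puigRel R X).map (MulAut.conj g).toMonoidHom ≤ puigRel R X := by
    intro g
    unfold puigRel
    rw [(Subgroup.gc_map_comap _).l_sSup]
    refine iSup₂_le ?_
    intro A hA
    apply le_sSup
    refine ⟨?_, ?_, ?_⟩
    · rintro _ ⟨a, ha, rfl⟩
      exact hR.conj_mem a (hA.1 ha) g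
    · rintro _ ⟨a, ha, rfl⟩ _ ⟨b, hb, rfl⟩
      simp only [MulEquiv.coe_toMonoidHom, MulAut.conj_apply]
      have := hA.2.1 a ha b hb
      calc g * a * g⁻¹ * (g * b * g⁻¹) = g * (a * b) * g⁻¹ := by group
        _ = g * (b * a) * g⁻¹ := by rw [this]
        _ = g * b * g⁻¹ * (g * a * g⁻¹) := by group
    · intro x hx
      rw [← Subgroup.map_equiv_normalizer_eq]
      refine ⟨g⁻¹ * x * g, hA.2.2 ?_, ?_⟩
      · have := hX.conj_mem x hx g⁻¹
        simpa using this
      · simp only [MulEquiv.coe_toMonoidHom, MulAut.conj_apply]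
        group
  constructor
  intro n hn g
  exact hmap g ⟨n, hn, rfl⟩

theorem puigSeqRel_normal (R : Subgroup G) [hR : R.Normal] (n : ℕ) : (puigSeqRel R n).Normal := by
  induction n with
  | zero => rw [puigSeqRel_zero]; infer_instance
  | succ n ih =>
    rw [puigSeqRel_succ]
    haveI := ih
    exact puigRel_normal R _

variable [Finite G]

/-- a normal `p`-subgroup `M ≤ T = O_p(G)` with `C_T(M) ≤ M` has `C_G(M) ≤ T`, when
`C_G(T) ≤ T` -/
theorem puig_centralizer_le (p : ℕ) [Fact p.Prime]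
    (hc : Subgroup.centralizer (Cfsg.pCore p G : Set G) ≤ Cfsg.pCore p G)
    (M : Subgroup G) [hMn : M.Normal] (hMT : M ≤ Cfsg.pCore p G)
    (hCM : Subgroup.centralizer (M : Set G) ⊓ Cfsg.pCore p G ≤ M) :
    Subgroup.centralizer (M : Set G) ≤ Cfsg.pCore p G := by
  have hp := (Fact.out : p.Prime)
  have hTp : IsPGroup p (Cfsg.pCore p G) := pCore_isPGroup
  haveI hTn : (Cfsg.pCore p G).Normal := pCore_normal p
  -- p'-elements of the centralizer are trivial
  have hpp : ∀ c ∈ Subgroup.centralizer (M : Set G), (orderOf c).Coprime p → c = 1 := by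
    intro c hcM hcop
    have hcT : c ∈ Subgroup.centralizer (Cfsg.pCore p G : Set G) := by
      rw [Subgroup.mem_centralizer_iff]
      intro t ht
      -- z = t c t⁻¹ c⁻¹
      have hzT : t * c * t⁻¹ * c⁻¹ ∈ Cfsg.pCore p G := by
        have h1 : c * t⁻¹ * c⁻¹ ∈ Cfsg.pCore p G := hTn.conj_mem _ (Subgroup.inv_mem _ ht) c
        have h2 : t * c * t⁻¹ * c⁻¹ = t * (c * t⁻¹ * c⁻¹) := by group
        rw [h2]; exact Subgroup.mul_mem _ ht h1
      have hzC : t * c * t⁻¹ * c⁻¹ ∈ Subgroup.centralizer (M : Set G) := by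
        have h1 : t * c * t⁻¹ ∈ Subgroup.centralizer (M : Set G) := by
          rw [Subgroup.mem_centralizer_iff]
          intro m hm
          have hm1 : t⁻¹ * m * t ∈ M := by
            have := hMn.conj_mem m hm t⁻¹
            simpa using this
          have h3 := (Subgroup.mem_centralizer_iff.1 hcM) _ hm1
          calc m * (t * c * t⁻¹) = t * ((t⁻¹ * m * t) * c) * t⁻¹ := by group
            _ = t * (c * (t⁻¹ * m * t)) * t⁻¹ := by rw [h3]
            _ = t * c * t⁻¹ * m := by group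
        exact Subgroup.mul_mem _ h1 (Subgroup.inv_mem _ hcM)
      have hzM : t * c * t⁻¹ * c⁻¹ ∈ M := hCM ⟨hzC, hzT⟩
      have hzc : Commute (t * c * t⁻¹ * c⁻¹) c :=
        (Subgroup.mem_centralizer_iff.1 hcM) _ hzM
      have hconj : t * c * t⁻¹ = (t * c * t⁻¹ * c⁻¹) * c := by group
      have hpow : ∀ k : ℕ, t * c ^ k * t⁻¹ = (t * c * t⁻¹ * c⁻¹) ^ k * c ^ k := by
        intro k
        rw [← hzc.mul_pow, ← hconj, conj_pow]
      have h5 := hpow (orderOf c)
      rw [pow_orderOf_eq_one, mul_one, mul_one, mul_inv_cancel] at h5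
      -- z ^ orderOf c = 1 and z is a p-element
      obtain ⟨j, hj⟩ := hTp ⟨_, hzT⟩
      have hj' : (t * c * t⁻¹ * c⁻¹) ^ (p ^ j) = 1 := by simpa using congrArg Subtype.val hj
      have h6 : orderOf (t * c * t⁻¹ * c⁻¹) ∣ orderOf c := orderOf_dvd_of_pow_eq_one h5.symm
      have h7 : orderOf (t * c * t⁻¹ * c⁻¹) ∣ p ^ j := orderOf_dvd_of_pow_eq_one hj'
      have h8 : orderOf (t * c * t⁻¹ * c⁻¹) = 1 :=
        Nat.eq_one_of_dvd_coprimes (Nat.Coprime.pow_right j hcop) h6 h7
      have h9 : t * c * t⁻¹ * c⁻¹ = 1 := orderOf_eq_one_iff.1 h8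
      have h10 : t * c = c * t := by
        calc t * c = (t * c * t⁻¹ * c⁻¹) * (c * t) := by group
          _ = c * t := by rw [h9, one_mul]
      exact h10
    have hcT' := hc hcT
    obtain ⟨j, hj⟩ := hTp ⟨c, hcT'⟩
    have hj' : c ^ (p ^ j) = 1 := by simpa using congrArg Subtype.val hj
    have h7 : orderOf c ∣ p ^ j := orderOf_dvd_of_pow_eq_one hj'
    have h8 : orderOf c = 1 :=
      Nat.eq_one_of_dvd_coprimes (Nat.Coprime.pow_right j hcop) dvd_rfl h7
    exact orderOf_eq_one_iff.1 h8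
  -- hence the centralizer is a p-group
  have hCp : IsPGroup p ↥(Subgroup.centralizer (M : Set G)) := by
    apply IsPGroup.of_card (n := (Nat.card ↥(Subgroup.centralizer (M : Set G))).primeFactorsList.length)
    apply Nat.eq_prime_pow_of_unique_prime_dvd Nat.card_pos.ne'
    intro q hq hqd
    by_contra hne
    haveI : Fact q.Prime := ⟨hq⟩
    obtain ⟨x, hx⟩ := exists_prime_orderOf_dvd_card' (G := ↥(Subgroup.centralizer (M : Set G))) q hqd
    have hx' : orderOf (x : G) = q := by rw [Subgroup.orderOf_coe]; exact hx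
    have h1 : (x : G) = 1 := hpp x x.2 (by
      rw [hx']
      exact (Nat.coprime_primes hq hp).2 hne)
    rw [h1, orderOf_one] at hx'
    exact hq.one_lt.ne hx'
  exact le_sSup ⟨inferInstance, hCp⟩

end Puig

end Cfsg.Agent.Lib.Helper4
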