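import Cfsg.Agent.Lib.Helper4.Puig

/-! The Puig series of a Sylow `p`-subgroup and of `O_p(G)`, part 2. -/

namespace Cfsg.Agent.Lib.Helper4

open scoped commutatorElement

section Puig2

universe u

/-- in a finite `p`-group, odd terms of the Puig series are self-centralizing -/
theorem puig_odd_self_centralizing {P : Type u} [Group P] [Finite P] (p : ℕ) [Fact p.Prime]
    (hP : IsPGroup p P) (n : ℕ) :
    Subgroup.centralizer (Cfsg.puigSeq P (2 * n + 1) : Set P) ≤ Cfsg.puigSeq P (2 * n + 1) := by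
  obtain ⟨-, h1, h3, -⟩ := Cfsg.Agent.S1467.result (G := P)
  have h2 : Cfsg.puigSeq P 2 ≤ Cfsg.puigSeq P (2 * n + 1) := (h3 1 n).2.1
  have hfin : {A : Subgroup P | A.Normal ∧ IsMulCommutative A}.Finite := Set.toFinite _
  have hne : {A : Subgroup P | A.Normal ∧ IsMulCommutative A}.Nonempty :=
    ⟨⊥, inferInstance, inferInstance⟩
  obtain ⟨A₀, ⟨hA₀n, hA₀c⟩, hA₀max⟩ := hfin.exists_maximal hne
  haveI := hA₀n
  have hcent : Subgroup.centralizer (A₀ : Set P) = A₀ := by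
    apply mna_centralizer_eq hP A₀ hA₀c
    intro B hBn hBc hAB
    exact le_antisymm (hA₀max ⟨hBn, hBc⟩ hAB) hAB
  have hA₀2 : A₀ ≤ Cfsg.puigSeq P 2 := by
    show A₀ ≤ Cfsg.puigStep (Cfsg.puigSeq P 1)
    rw [h1]
    apply le_sSup
    refine ⟨hA₀c, ?_⟩
    rw [Subgroup.normalizer_eq_top_iff.2 hA₀n]
  have hA₀M : A₀ ≤ Cfsg.puigSeq P (2 * n + 1) := hA₀2.trans h2
  intro x hx
  have hx' : x ∈ Subgroup.centralizer (A₀ : Set P) :=
    Subgroup.centralizer_le hA₀M hx
  rw [hcent] at hx'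
  exact hA₀M hx'

variable {G : Type u} [Group G] [Finite G]

/-- relative version: `C_T(M) ≤ M` for `M` an odd term of the relative Puig series of a
`p`-subgroup `T` -/
theorem puigSeqRel_odd_self_centralizing (p : ℕ) [Fact p.Prime] (T : Subgroup G)
    (hT : IsPGroup p T) (n : ℕ) :
    Subgroup.centralizer (puigSeqRel T (2 * n + 1) : Set G) ⊓ T ≤ puigSeqRel T (2 * n + 1) := by
  rintro x ⟨hxC, hxT⟩
  rw [← map_puigSeq]
  refine ⟨⟨x, hxT⟩, ?_, rfl⟩
  apply puig_odd_self_centralizing p hT n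
  rw [Subgroup.mem_centralizer_iff]
  intro y hy
  apply Subtype.ext
  have hy' : (y : G) ∈ puigSeqRel T (2 * n + 1) := by
    rw [← map_puigSeq]
    exact ⟨y, hy, rfl⟩
  exact (Subgroup.mem_centralizer_iff.1 hxC) _ hy'

/-- key lemma: an abelian subgroup normalized by a normal `p`-subgroup `M` with `C_G(M) ≤ O_p(G)`
lies in `O_p(G)` (for `G` solvable of odd order, `p` odd). -/
theorem puig_abelian_le_pCore [Group.IsSolvable G] (hodd : Odd (Nat.card G)) (p : ℕ)
    [Fact p.Prime] (hp : p ≠ 2) (M : Subgroup G) [hMn : M.Normal] (hMp : IsPGroup p M)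
    (hCM : Subgroup.centralizer (M : Set G) ≤ Cfsg.pCore p G)
    (A : Subgroup G) (hAc : ∀ x ∈ A, ∀ y ∈ A, x * y = y * x)
    (hMA : M ≤ Subgroup.normalizer (A : Set G)) : A ≤ Cfsg.pCore p G := by
  have hsol : Cfsg.IsPSolvable p G :=
    Cfsg.Agent.Lib.Helper3.isPSolvable_of_isSolvable p _ G rfl inferInstance
  have hno := psn_odd_no_sl23 hodd p
  have hTp : IsPGroup p (Cfsg.pCore p G) := pCore_isPGroup
  intro a ha
  have hq := psn_quadratic_of_abelian M A hAc hMA a ha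
  obtain ⟨D₁, hD₁n, haD₁, hpow⟩ := psn_stable_normal p hp hsol hno M hMp a hq
  have hD₁p : IsPGroup p D₁ := by
    intro d
    obtain ⟨j, hj⟩ := hpow d d.2
    obtain ⟨k, hk⟩ := hTp ⟨_, hCM hj⟩
    refine ⟨j + k, ?_⟩
    apply Subtype.ext
    have hk' : ((d : G) ^ p ^ j) ^ p ^ k = 1 := by simpa using congrArg Subtype.val hk
    rw [pow_add, pow_mul]
    simpa using hk'
  exact (le_sSup (show D₁ ∈ {N : Subgroup G | N.Normal ∧ IsPGroup p N} from ⟨hD₁n, hD₁p⟩)) haD₁

/-- the comparison of the relative Puig series of a Sylow `p`-subgroup and of `O_p(G)` -/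
theorem puigSeqRel_compare [Group.IsSolvable G] (hodd : Odd (Nat.card G)) (p : ℕ)
    [Fact p.Prime] (hp : p ≠ 2) (hO : Cfsg.pPrimeCore p G = ⊥) (S : Sylow p G) (n : ℕ) :
    puigSeqRel (S : Subgroup G) (2 * n) ≤ puigSeqRel (Cfsg.pCore p G) (2 * n) ∧
      puigSeqRel (Cfsg.pCore p G) (2 * n + 1) ≤ puigSeqRel (S : Subgroup G) (2 * n + 1) := by
  have hsol : Cfsg.IsPSolvable p G :=
    Cfsg.Agent.Lib.Helper3.isPSolvable_of_isSolvable p _ G rfl inferInstance
  have hc : Subgroup.centralizer (Cfsg.pCore p G : Set G) ≤ Cfsg.pCore p G :=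
    centralizer_pCore_le_of_psolvable hsol hO
  have hTS : Cfsg.pCore p G ≤ (S : Subgroup G) := pCore_le_sylow S
  have hTp : IsPGroup p (Cfsg.pCore p G) := pCore_isPGroup
  haveI hTn : (Cfsg.pCore p G).Normal := pCore_normal p
  induction n with
  | zero =>
    refine ⟨?_, ?_⟩
    · show puigSeqRel (S : Subgroup G) 0 ≤ _
      rw [puigSeqRel_zero]
      exact bot_le
    · show puigSeqRel (Cfsg.pCore p G) (0 + 1) ≤ puigSeqRel (S : Subgroup G) (0 + 1)
      rw [puigSeqRel_succ, puigSeqRel_succ, puigSeqRel_zero, puigSeqRel_zero]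
      exact puigRel_mono hTS _
  | succ n ih =>
    have e1 : 2 * (n + 1) = 2 * n + 1 + 1 := by ring
    have heven : puigSeqRel (S : Subgroup G) (2 * (n + 1)) ≤
        puigSeqRel (Cfsg.pCore p G) (2 * (n + 1)) := by
      rw [e1, puigSeqRel_succ, puigSeqRel_succ]
      refine (puigRel_anti _ ih.2).trans ?_
      -- M = L_{2n+1}(T)
      haveI hMn : (puigSeqRel (Cfsg.pCore p G) (2 * n + 1)).Normal := puigSeqRel_normal _ _
      have hMT : puigSeqRel (Cfsg.pCore p G) (2 * n + 1) ≤ Cfsg.pCore p G := puigSeqRel_le _ _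
      have hMp : IsPGroup p (puigSeqRel (Cfsg.pCore p G) (2 * n + 1)) := hTp.to_le hMT
      have hCM : Subgroup.centralizer (puigSeqRel (Cfsg.pCore p G) (2 * n + 1) : Set G) ≤
          Cfsg.pCore p G :=
        puig_centralizer_le p hc _ hMT (puigSeqRel_odd_self_centralizing p _ hTp n)
      apply sSup_le
      rintro A ⟨-, hAc, hMA⟩
      exact le_puigRel (puig_abelian_le_pCore hodd p hp _ hMp hCM A hAc hMA) hAc hMA
    refine ⟨heven, ?_⟩
    show puigSeqRel (Cfsg.pCore p G) (2 * (n + 1) + 1) ≤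
      puigSeqRel (S : Subgroup G) (2 * (n + 1) + 1)
    rw [puigSeqRel_succ, puigSeqRel_succ]
    exact (puigRel_anti _ heven).trans (puigRel_mono hTS _)

/-- `L_*(S) ≤ L_*(T) ≤ L(T) ≤ L(S)` inside `G`, for `T = O_p(G)` -/
theorem puig_main [Group.IsSolvable G] (hodd : Odd (Nat.card G)) (p : ℕ)
    [Fact p.Prime] (hp : p ≠ 2) (hO : Cfsg.pPrimeCore p G = ⊥) (S : Sylow p G) :
    (Cfsg.puigLower ↥(S : Subgroup G)).map (S : Subgroup G).subtype ≤
        (Cfsg.puigLower ↥(Cfsg.pCore p G)).map (Cfsg.pCore p G).subtype ∧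
      (Cfsg.puigLower ↥(Cfsg.pCore p G)).map (Cfsg.pCore p G).subtype ≤
        (Cfsg.puigSubgroup ↥(Cfsg.pCore p G)).map (Cfsg.pCore p G).subtype ∧
      (Cfsg.puigSubgroup ↥(Cfsg.pCore p G)).map (Cfsg.pCore p G).subtype ≤
        (Cfsg.puigSubgroup ↥(S : Subgroup G)).map (S : Subgroup G).subtype := by
  have hcmp := puigSeqRel_compare hodd p hp hO S
  refine ⟨?_, ?_, ?_⟩
  · unfold Cfsg.puigLower
    rw [Subgroup.map_iSup, Subgroup.map_iSup]
    apply iSup_le
    intro n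
    rw [map_puigSeq]
    refine (hcmp n).1.trans ?_
    rw [← map_puigSeq]
    exact le_iSup (fun n => (Cfsg.puigSeq ↥(Cfsg.pCore p G) (2 * n)).map
      (Cfsg.pCore p G).subtype) n
  · exact Subgroup.map_mono (Cfsg.Agent.S1467.result (G := ↥(Cfsg.pCore p G))).2.2.2.2.1
  · unfold Cfsg.puigSubgroup
    rw [Subgroup.map_iInf _ (Subgroup.subtype_injective _),
      Subgroup.map_iInf _ (Subgroup.subtype_injective _)]
    apply le_iInf
    intro n
    rw [map_puigSeq]
    refine le_trans ?_ (hcmp n).2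
    rw [← map_puigSeq]
    exact iInf_le (fun n => (Cfsg.puigSeq ↥(Cfsg.pCore p G) (2 * n + 1)).map
      (Cfsg.pCore p G).subtype) n

end Puig2

end Cfsg.Agent.Lib.Helper4
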