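import Cfsg.Agent.Lib.Helper4.Puig2

/-! The Puig subgroup, part 3: transport, relative series facts, `L(S) ≤ R ≤ S`. -/

namespace Cfsg.Agent.Lib.Helper4

open scoped commutatorElement

section Puig3

universe u v

variable {G : Type u} [Group G]

/-- relative `L(R)` inside `G` -/
def puigLRel (R : Subgroup G) : Subgroup G := ⨅ n : ℕ, puigSeqRel R (2 * n + 1)

/-- relative `L_*(R)` inside `G` -/
def puigLowRel (R : Subgroup G) : Subgroup G := ⨆ n : ℕ, puigSeqRel R (2 * n)

/-- relative `Z(L(R))` inside `G` -/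
def puigZRel (R : Subgroup G) : Subgroup G :=
  puigLRel R ⊓ Subgroup.centralizer (puigLRel R : Set G)

theorem puigLRel_le (R : Subgroup G) : puigLRel R ≤ R :=
  (iInf_le (fun n => puigSeqRel R (2 * n + 1)) 0).trans (puigSeqRel_le R _)

theorem puigZRel_le (R : Subgroup G) : puigZRel R ≤ R := inf_le_left.trans (puigLRel_le R)

theorem puigZRel_comm (R : Subgroup G) : ∀ x ∈ puigZRel R, ∀ y ∈ puigZRel R, x * y = y * x := by
  intro x hx y hy
  exact (Subgroup.mem_centralizer_iff.1 hy.2 x hx.1)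

/-- transport of the relative Puig step along a homomorphism injective on `R` -/
theorem map_puigRel {H : Type v} [Group H] (f : G →* H) (R X : Subgroup G)
    (hinj : ∀ x ∈ R, f x = 1 → x = 1) (hXR : X ≤ R) :
    (puigRel R X).map f = puigRel (R.map f) (X.map f) := by
  have hinj2 : ∀ x ∈ R, ∀ y ∈ R, f x = f y → x = y := by
    intro x hx y hy hxy
    have h1 : f (x * y⁻¹) = 1 := by rw [map_mul, map_inv, hxy, mul_inv_cancel]
    have h2 := hinj _ (R.mul_mem hx (R.inv_mem hy)) h1
    exact mul_inv_eq_one.1 h2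
  apply le_antisymm
  · unfold puigRel
    rw [(Subgroup.gc_map_comap f).l_sSup]
    refine iSup₂_le ?_
    intro A hA
    apply le_sSup
    refine ⟨Subgroup.map_mono hA.1, ?_, ?_⟩
    · rintro _ ⟨a, ha, rfl⟩ _ ⟨b, hb, rfl⟩
      rw [← map_mul, ← map_mul, hA.2.1 a ha b hb]
    · rintro _ ⟨x, hx, rfl⟩
      exact Subgroup.le_normalizer_map f ⟨x, hA.2.2 hx, rfl⟩
  · apply sSup_le
    rintro B ⟨hBR, hBc, hXB⟩
    -- A = R ⊓ comap f B
    have hA1 : R ⊓ B.comap f ≤ R := inf_le_left
    have hAB : (R ⊓ B.comap f).map f = B := by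
      apply le_antisymm
      · rintro _ ⟨a, ha, rfl⟩
        exact ha.2
      · intro b hb
        obtain ⟨r, hr, rfl⟩ := hBR hb
        exact ⟨r, ⟨hr, hb⟩, rfl⟩
    have hAc : ∀ x ∈ R ⊓ B.comap f, ∀ y ∈ R ⊓ B.comap f, x * y = y * x := by
      intro x hx y hy
      apply hinj2 _ (R.mul_mem hx.1 hy.1) _ (R.mul_mem hy.1 hx.1)
      rw [map_mul, map_mul]
      exact hBc _ hx.2 _ hy.2
    have hXA : X ≤ Subgroup.normalizer ((R ⊓ B.comap f : Subgroup G) : Set G) := by
      intro x hx
      have hxR := hXR hx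
      have hfx : f x ∈ Subgroup.normalizer (B : Set H) := hXB ⟨x, hx, rfl⟩
      rw [Subgroup.mem_normalizer_iff]
      intro h
      constructor
      · rintro ⟨hhR, hhB⟩
        refine ⟨R.mul_mem (R.mul_mem hxR hhR) (R.inv_mem hxR), ?_⟩
        show f (x * h * x⁻¹) ∈ B
        rw [map_mul, map_mul, map_inv]
        exact (Subgroup.mem_normalizer_iff.1 hfx _).1 hhB
      · rintro ⟨hhR, hhB⟩
        have hhR' : h ∈ R := by
          have : h = x⁻¹ * (x * h * x⁻¹) * x := by group
          rw [this]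
          exact R.mul_mem (R.mul_mem (R.inv_mem hxR) hhR) hxR
        refine ⟨hhR', ?_⟩
        show f h ∈ B
        have h1 : f (x * h * x⁻¹) ∈ B := hhB
        rw [map_mul, map_mul, map_inv] at h1
        exact (Subgroup.mem_normalizer_iff.1 hfx _).2 h1
    rw [← hAB]
    exact Subgroup.map_mono (le_puigRel hA1 hAc hXA)

theorem map_puigSeqRel {H : Type v} [Group H] (f : G →* H) (R : Subgroup G)
    (hinj : ∀ x ∈ R, f x = 1 → x = 1) (n : ℕ) :
    (puigSeqRel R n).map f = puigSeqRel (R.map f) n := by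
  induction n with
  | zero =>
    rw [puigSeqRel_zero, puigSeqRel_zero, Subgroup.map_bot]
  | succ n ih =>
    rw [puigSeqRel_succ, puigSeqRel_succ, map_puigRel f R _ hinj (puigSeqRel_le R n), ih]

variable [Finite G]

theorem map_puigLower (R : Subgroup G) :
    (Cfsg.puigLower ↥R).map R.subtype = puigLowRel R := by
  unfold Cfsg.puigLower puigLowRel
  rw [Subgroup.map_iSup]
  congr 1
  funext n
  exact map_puigSeq R _

theorem map_puigSubgroup (R : Subgroup G) :
    (Cfsg.puigSubgroup ↥R).map R.subtype = puigLRel R := by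
  unfold Cfsg.puigSubgroup puigLRel
  rw [Subgroup.map_iInf _ (Subgroup.subtype_injective _)]
  congr 1
  funext n
  exact map_puigSeq R _

/-- the chain of the relative Puig series -/
theorem puigSeqRel_chain (R : Subgroup G) (n m : ℕ) :
    puigSeqRel R (2 * n) ≤ puigSeqRel R (2 * n + 2) ∧
      puigSeqRel R (2 * n) ≤ puigSeqRel R (2 * m + 1) ∧
      puigSeqRel R (2 * m + 3) ≤ puigSeqRel R (2 * m + 1) := by
  obtain ⟨-, -, h3, -⟩ := Cfsg.Agent.S1467.result (G := ↥R)
  obtain ⟨h1, h2, h4⟩ := h3 n m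
  rw [← map_puigSeq, ← map_puigSeq, ← map_puigSeq, ← map_puigSeq]
  exact ⟨Subgroup.map_mono h1, Subgroup.map_mono h2, Subgroup.map_mono h4⟩

/-- stabilization of the relative Puig series -/
theorem puigSeqRel_stab (R : Subgroup G) :
    ∃ k : ℕ, ∀ n : ℕ, k ≤ n → puigSeqRel R (2 * n) = puigLowRel R ∧
      puigSeqRel R (2 * n + 1) = puigLRel R := by
  obtain ⟨-, -, -, ⟨k, hk⟩, -⟩ := Cfsg.Agent.S1467.result (G := ↥R)
  refine ⟨k, fun n hn => ?_⟩
  obtain ⟨h1, h2⟩ := hk n hn
  rw [← map_puigSeq, ← map_puigSeq, ← map_puigLower, ← map_puigSubgroup, h1, h2]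
  exact ⟨rfl, rfl⟩

theorem puigLowRel_le_puigLRel (R : Subgroup G) : puigLowRel R ≤ puigLRel R := by
  apply iSup_le
  intro n
  apply le_iInf
  intro m
  exact (puigSeqRel_chain R n m).2.1

theorem puigRel_puigLowRel (R : Subgroup G) : puigRel R (puigLowRel R) = puigLRel R := by
  obtain ⟨k, hk⟩ := puigSeqRel_stab R
  obtain ⟨h1, h2⟩ := hk k le_rfl
  rw [← h1, ← h2]
  rfl

theorem puigRel_puigLRel (R : Subgroup G) : puigRel R (puigLRel R) = puigLowRel R := by
  obtain ⟨k, hk⟩ := puigSeqRel_stab R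
  obtain ⟨-, h2⟩ := hk k le_rfl
  obtain ⟨h3, -⟩ := hk (k + 1) (Nat.le_succ k)
  rw [← h2, ← h3]
  rfl

theorem map_puigLRel {H : Type v} [Group H] [Finite H] (f : G →* H) (R : Subgroup G)
    (hinj : ∀ x ∈ R, f x = 1 → x = 1) :
    (puigLRel R).map f = puigLRel (R.map f) := by
  obtain ⟨k, hk⟩ := puigSeqRel_stab R
  obtain ⟨k', hk'⟩ := puigSeqRel_stab (R.map f)
  rw [← (hk (max k k') (le_max_left _ _)).2, ← (hk' (max k k') (le_max_right _ _)).2]
  exact map_puigSeqRel f R hinj _

theorem map_puigZRel {H : Type v} [Group H] [Finite H] (f : G →* H) (R : Subgroup G)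
    (hinj : ∀ x ∈ R, f x = 1 → x = 1) :
    (puigZRel R).map f = puigZRel (R.map f) := by
  have hinj2 : ∀ x ∈ R, ∀ y ∈ R, f x = f y → x = y := by
    intro x hx y hy hxy
    have h1 : f (x * y⁻¹) = 1 := by rw [map_mul, map_inv, hxy, mul_inv_cancel]
    have h2 := hinj _ (R.mul_mem hx (R.inv_mem hy)) h1
    exact mul_inv_eq_one.1 h2
  unfold puigZRel
  rw [← map_puigLRel f R hinj]
  apply le_antisymm
  · rintro _ ⟨x, ⟨hxL, hxC⟩, rfl⟩
    refine ⟨⟨x, hxL, rfl⟩, ?_⟩
    refine Subgroup.mem_centralizer_iff.2 ?_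
    rintro _ ⟨y, hy, rfl⟩
    have hxC' : x ∈ Subgroup.centralizer (puigLRel R : Set G) := hxC
    rw [← map_mul, ← map_mul, Subgroup.mem_centralizer_iff.1 hxC' y hy]
  · rintro _ ⟨⟨x, hxL, rfl⟩, hC⟩
    refine ⟨x, ⟨hxL, ?_⟩, rfl⟩
    have hC' : f x ∈ Subgroup.centralizer ((puigLRel R).map f : Set H) := hC
    refine Subgroup.mem_centralizer_iff.2 ?_
    intro y hy
    have hxR := puigLRel_le R hxL
    have hyR := puigLRel_le R hy
    apply hinj2 _ (R.mul_mem hyR hxR) _ (R.mul_mem hxR hyR)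
    rw [map_mul, map_mul]
    exact Subgroup.mem_centralizer_iff.1 hC' _ ⟨y, hy, rfl⟩

/-- `N_G(R)` normalizes `Z(L(R))` -/
theorem normalizer_le_normalizer_puigZRel (R : Subgroup G) :
    Subgroup.normalizer (R : Set G) ≤ Subgroup.normalizer (puigZRel R : Set G) := by
  intro g hg
  have h1 : R.map (MulAut.conj g).toMonoidHom = R := by
    have := Subgroup.map_equiv_normalizer_eq R (MulAut.conj g)
    ext x
    constructor
    · rintro ⟨r, hr, rfl⟩
      exact (Subgroup.mem_normalizer_iff.1 hg r).1 hr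
    · intro hx
      refine ⟨g⁻¹ * x * g, ?_, ?_⟩
      · rw [Subgroup.mem_normalizer_iff] at hg
        apply (hg _).2
        have : g * (g⁻¹ * x * g) * g⁻¹ = x := by group
        rw [this]; exact hx
      · simp only [MulEquiv.coe_toMonoidHom, MulAut.conj_apply]
        group
  have h2 := map_puigZRel (MulAut.conj g).toMonoidHom R (by
    intro x _ hx
    exact (MulAut.conj g).injective (hx.trans (map_one _).symm))
  rw [h1] at h2
  rw [Subgroup.mem_normalizer_iff]
  intro z
  constructor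
  · intro hz
    rw [← h2]
    exact ⟨z, hz, rfl⟩
  · intro hz
    rw [← h2] at hz
    obtain ⟨z', hz', hzz⟩ := hz
    have : z' = z := by
      simp only [MulEquiv.coe_toMonoidHom, MulAut.conj_apply] at hzz
      have h3 : z' = g⁻¹ * (g * z' * g⁻¹) * g := by group
      rw [h3, hzz]; group
    rw [← this]; exact hz'

/-- if `puigRel S X ≤ R ≤ S` then the Puig steps of `X` in `R` and `S` agree -/
theorem puigRel_eq_of_le {R S X : Subgroup G} (hRS : R ≤ S) (h : puigRel S X ≤ R) :
    puigRel R X = puigRel S X := by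
  apply le_antisymm (puigRel_mono hRS X)
  apply sSup_le
  rintro A ⟨hAS, hAc, hXA⟩
  exact le_puigRel ((le_puigRel hAS hAc hXA).trans h) hAc hXA

/-- `L(S) ≤ R ≤ S` implies `L(R) = L(S)` -/
theorem puigLRel_eq_of_le {R S : Subgroup G} (hRS : R ≤ S) (hL : puigLRel S ≤ R) :
    puigLRel R = puigLRel S := by
  have hlow : puigLowRel S ≤ R := (puigLowRel_le_puigLRel S).trans hL
  have hC2a : puigRel R (puigLowRel S) = puigLRel S := by
    rw [puigRel_eq_of_le hRS (by rw [puigRel_puigLowRel]; exact hL), puigRel_puigLowRel]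
  have hC2b : puigRel R (puigLRel S) = puigLowRel S := by
    rw [puigRel_eq_of_le hRS (by rw [puigRel_puigLRel]; exact hlow), puigRel_puigLRel]
  have hC3 : ∀ n : ℕ, puigSeqRel R (2 * n) ≤ puigLowRel S ∧
      puigLRel S ≤ puigSeqRel R (2 * n + 1) := by
    intro n
    induction n with
    | zero =>
      refine ⟨?_, ?_⟩
      · show puigSeqRel R 0 ≤ _
        rw [puigSeqRel_zero]; exact bot_le
      · show _ ≤ puigSeqRel R (0 + 1)
        rw [puigSeqRel_succ, puigSeqRel_zero, ← hC2a]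
        exact puigRel_anti R bot_le
    | succ n ih =>
      have e1 : 2 * (n + 1) = 2 * n + 1 + 1 := by ring
      have heven : puigSeqRel R (2 * (n + 1)) ≤ puigLowRel S := by
        rw [e1, puigSeqRel_succ, ← hC2b]
        exact puigRel_anti R ih.2
      refine ⟨heven, ?_⟩
      rw [puigSeqRel_succ, ← hC2a]
      exact puigRel_anti R heven
  have hC4 : ∀ n : ℕ, puigSeqRel S (2 * n) ≤ puigSeqRel R (2 * n) ∧
      puigSeqRel R (2 * n + 1) ≤ puigSeqRel S (2 * n + 1) := by
    intro n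
    induction n with
    | zero =>
      refine ⟨?_, ?_⟩
      · show puigSeqRel S 0 ≤ _
        rw [puigSeqRel_zero]; exact bot_le
      · show puigSeqRel R (0 + 1) ≤ puigSeqRel S (0 + 1)
        rw [puigSeqRel_succ, puigSeqRel_succ, puigSeqRel_zero, puigSeqRel_zero]
        exact puigRel_mono hRS _
    | succ n ih =>
      have e1 : 2 * (n + 1) = 2 * n + 1 + 1 := by ring
      have heven : puigSeqRel S (2 * (n + 1)) ≤ puigSeqRel R (2 * (n + 1)) := by
        have hle : puigSeqRel S (2 * (n + 1)) ≤ R :=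
          (le_iSup (fun n => puigSeqRel S (2 * n)) (n + 1)).trans hlow
        rw [e1] at hle ⊢
        rw [puigSeqRel_succ] at hle ⊢
        rw [puigSeqRel_succ]
        apply sSup_le
        rintro A ⟨hAS, hAc, hXA⟩
        exact le_puigRel ((le_puigRel hAS hAc hXA).trans hle) hAc (ih.2.trans hXA)
      refine ⟨heven, ?_⟩
      rw [puigSeqRel_succ, puigSeqRel_succ]
      exact (puigRel_anti R heven).trans (puigRel_mono hRS _)
  apply le_antisymm
  · apply le_iInf
    intro n
    exact (iInf_le (fun n => puigSeqRel R (2 * n + 1)) n).trans (hC4 n).2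
  · apply le_iInf
    intro n
    exact (hC3 n).2

end Puig3

end Cfsg.Agent.Lib.Helper4
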