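import Mathlib
import Cfsg.Agent.Lib.Helper6.QuatSylow
import Cfsg.Agent.Lib.Helper7.PSubFrattini
import Cfsg.Agent.Lib.Helper2.Index

set_option autoImplicit false

namespace Cfsg.Agent.Lib.Helper4

open Subgroup
open scoped commutatorElement

section QuatLocal

variable {G : Type*} [Group G]

theorem card_eq_relIndex_mul_card {A C : Subgroup G} (h : A ≤ C) :
    Nat.card A * A.relIndex C = Nat.card C := by
  have := Subgroup.relIndex_mul_relIndex ⊥ A C bot_le h
  rwa [Subgroup.relIndex_bot_left, Subgroup.relIndex_bot_left] at this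

/-- basic structure of a generalized quaternion subgroup of order at least 16 inside a group -/
theorem quat_local_setup [Finite G] (S : Subgroup G) (m : ℕ) (hm : 4 ≤ m)
    (e : S ≃* QuaternionGroup m) :
    ∃ a ∈ S, orderOf a = 2 * m ∧
      (∀ u ∈ S, u ∈ zpowers a ∨ (u * a * u⁻¹ = a⁻¹ ∧ u ^ 4 = 1)) ∧
      Nat.card S = 4 * m ∧ (∃ u ∈ S, u ∉ zpowers a) ∧
      ⁅S, S⁆ = zpowers (a ^ 2) ∧ S ⊓ centralizer (zpowers (a ^ 2) : Set G) = zpowers a := by
  classical
  haveI : NeZero m := ⟨by omega⟩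
  obtain ⟨a₀, ha₀, hstr₀⟩ := Cfsg.Agent.Lib.Helper6.quaternion_structure m e
  obtain ⟨hao, hstr⟩ := Cfsg.Agent.Lib.Helper6.quaternion_structure_map
    S.subtype (Subgroup.subtype_injective _) m a₀ ha₀ hstr₀
  obtain ⟨a, hadef⟩ : ∃ a : G, a = S.subtype a₀ := ⟨_, rfl⟩
  rw [← hadef] at hao hstr
  have hstrT : ∀ u ∈ S, u ∈ zpowers a ∨ (u * a * u⁻¹ = a⁻¹ ∧ u ^ 4 = 1) := by
    intro u hu
    apply hstr
    rw [Subgroup.range_subtype]
    exact hu
  have haS : a ∈ S := by rw [hadef]; exact a₀.2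
  have hcardS : Nat.card S = 4 * m := by
    rw [Nat.card_congr e.toEquiv, Nat.card_eq_fintype_card, QuaternionGroup.card]
  have hAS : zpowers a ≤ S := by rw [zpowers_le]; exact haS
  have hcardA : Nat.card (zpowers a) = 2 * m := by rw [Nat.card_zpowers, hao]
  have hex : ∃ u ∈ S, u ∉ zpowers a := by
    by_contra hcon
    have hle : S ≤ zpowers a := by
      intro u hu
      by_contra h
      exact hcon ⟨u, hu, h⟩
    have := Subgroup.card_le_of_le hle
    rw [hcardS, hcardA] at this
    omega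
  have ha4 : a ^ 4 ≠ 1 := by
    intro h
    have h2 := orderOf_dvd_of_pow_eq_one h
    rw [hao] at h2
    have := Nat.le_of_dvd (by norm_num) h2
    omega
  have ha2 : a ≠ a⁻¹ := by
    intro h
    apply ha4
    have h1 : a * a = 1 := by
      nth_rewrite 2 [h]
      exact mul_inv_cancel a
    calc a ^ 4 = (a ^ 2) ^ 2 := by rw [← pow_mul]
      _ = 1 := by rw [pow_two a, h1, one_pow]
  have key : ∀ x ∈ S, x ∉ zpowers a → ∀ z ∈ S, z ∉ zpowers a → x * z ∈ zpowers a := by
    intro x hx hxA z hz hzA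
    rcases hstrT x hx with h | ⟨hxa, _⟩
    · exact absurd h hxA
    rcases hstrT z hz with h | ⟨hza, _⟩
    · exact absurd h hzA
    rcases hstrT (x * z) (S.mul_mem hx hz) with h | ⟨hxza, _⟩
    · exact h
    exfalso
    apply ha2
    calc a = (x * a * x⁻¹)⁻¹ := by rw [hxa, inv_inv]
      _ = x * a⁻¹ * x⁻¹ := by group
      _ = x * (z * a * z⁻¹) * x⁻¹ := by rw [hza]
      _ = x * z * a * (x * z)⁻¹ := by group
      _ = a⁻¹ := hxza
  have hinvA : ∀ u ∈ S, u ∉ zpowers a → ∀ k : ℤ, u * a ^ k * u⁻¹ = (a ^ k)⁻¹ := by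
    intro u hu huA k
    rcases hstrT u hu with h | ⟨hua, _⟩
    · exact absurd h huA
    rw [← conj_zpow, hua, inv_zpow]
  have hconjD : ∀ u ∈ S, u ∉ zpowers a → ∀ d ∈ zpowers (a ^ 2), u * d * u⁻¹ ∈ zpowers (a ^ 2) := by
    intro u hu huA d hd
    have hdA : d ∈ zpowers a :=
      (zpowers_le.2 (Subgroup.pow_mem _ (mem_zpowers a) 2) : zpowers (a ^ 2) ≤ zpowers a) hd
    obtain ⟨l, rfl⟩ := mem_zpowers_iff.1 hdA
    rw [hinvA u hu huA l]
    exact Subgroup.inv_mem _ hd
  have hsq : ∀ k : ℤ, a ^ k * a ^ k = (a ^ 2) ^ k := by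
    intro k
    rw [← zpow_natCast, ← zpow_mul, ← zpow_add]
    congr 1
    push_cast
    ring
  refine ⟨a, haS, hao, hstrT, hcardS, hex, ?_, ?_⟩
  · apply le_antisymm
    · rw [Subgroup.commutator_le]
      intro u hu v hv
      rw [commutatorElement_def]
      by_cases huA : u ∈ zpowers a
      · obtain ⟨i, rfl⟩ := mem_zpowers_iff.1 huA
        by_cases hvA : v ∈ zpowers a
        · obtain ⟨j, rfl⟩ := mem_zpowers_iff.1 hvA
          have hc : Commute (a ^ i) (a ^ j) := Commute.zpow_zpow_self a i j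
          have : a ^ i * a ^ j * (a ^ i)⁻¹ * (a ^ j)⁻¹ = 1 := by
            rw [hc.eq]
            group
          rw [this]
          exact one_mem _
        · have h1 := hinvA v hv hvA (-i)
          have : a ^ i * v * (a ^ i)⁻¹ * v⁻¹ = a ^ i * (v * a ^ (-i) * v⁻¹) := by
            rw [zpow_neg]
            group
          rw [this, h1, zpow_neg, inv_inv, hsq]
          exact zpow_mem (mem_zpowers _) i
      · by_cases hvA : v ∈ zpowers a
        · obtain ⟨j, rfl⟩ := mem_zpowers_iff.1 hvA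
          have h1 := hinvA u hu huA j
          rw [h1, ← mul_inv_rev, hsq]
          exact Subgroup.inv_mem _ (zpow_mem (mem_zpowers _) j)
        · have huinv : u⁻¹ ∉ zpowers a := fun h => huA (by simpa using Subgroup.inv_mem _ h)
          have hw := key u⁻¹ (S.inv_mem hu) huinv v hv hvA
          obtain ⟨k, hk⟩ := mem_zpowers_iff.1 hw
          have hv' : v = u * a ^ k := by rw [hk]; group
          have h1 := hinvA u hu huA k
          have h2 : u * v * u⁻¹ * v⁻¹ = u * ((u * a ^ k * u⁻¹) * (a ^ k)⁻¹) * u⁻¹ := by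
            rw [hv']
            group
          rw [h2, h1, ← mul_inv_rev, hsq]
          exact hconjD u hu huA _ (Subgroup.inv_mem _ (zpow_mem (mem_zpowers _) k))
    · rw [zpowers_le]
      obtain ⟨u₀, hu₀, hu₀A⟩ := hex
      have h1 := hinvA u₀ hu₀ hu₀A (-1)
      have h2 : ⁅u₀, a⁻¹⁆ = a ^ 2 := by
        rw [commutatorElement_def, inv_inv]
        rw [zpow_neg, zpow_one] at h1
        rw [h1, inv_inv, pow_two]
      rw [← h2]
      exact Subgroup.commutator_mem_commutator hu₀ (S.inv_mem haS)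
  · ext u
    rw [mem_inf, mem_centralizer_iff]
    constructor
    · rintro ⟨huS, hc⟩
      by_contra huA
      have h1 := hinvA u huS huA 2
      have h2 := hc (a ^ 2) (mem_zpowers _)
      apply ha4
      have h3 : u * a ^ (2 : ℤ) * u⁻¹ = a ^ (2 : ℤ) := by
        rw [zpow_ofNat, ← h2]
        group
      rw [h3] at h1
      calc a ^ 4 = a ^ (2 : ℤ) * a ^ (2 : ℤ) := by group
        _ = a ^ (2 : ℤ) * (a ^ (2 : ℤ))⁻¹ := by rw [← h1]
        _ = 1 := mul_inv_cancel _
    · intro huA
      refine ⟨hAS huA, ?_⟩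
      intro h hh
      obtain ⟨i, rfl⟩ := mem_zpowers_iff.1 huA
      obtain ⟨j, rfl⟩ := mem_zpowers_iff.1 hh
      have : Commute ((a ^ 2) ^ j) (a ^ i) :=
        ((Commute.refl a).pow_left 2).zpow_zpow j i
      exact this.eq

/-- local structure around the derived subgroup of a generalized quaternion Sylow 2-subgroup -/
theorem quat_local_main [Finite G] (S : Sylow 2 G) (n : ℕ)
    (e : (S : Subgroup G) ≃* QuaternionGroup (2 ^ (n + 2))) (D : Subgroup G)
    (hD : D = ⁅(S : Subgroup G), (S : Subgroup G)⁆) :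
    ∃ K : Subgroup G, Odd (Nat.card K) ∧ K ≤ centralizer (D : Set G) ∧
      normalizer (D : Set G) ≤ normalizer (K : Set G) ∧
      K ⊔ (S : Subgroup G) = normalizer (D : Set G) ∧
      K ⊔ ((S : Subgroup G) ⊓ centralizer (D : Set G)) = centralizer (D : Set G) ∧
      ((centralizer (D : Set G)).subgroupOf (normalizer (D : Set G))).index = 2 := by
  classical
  haveI : Fact (Nat.Prime 2) := ⟨Nat.prime_two⟩
  have hm4 : 4 ≤ 2 ^ (n + 2) := by
    calc 4 = 2 ^ 2 := rfl
      _ ≤ 2 ^ (n + 2) := Nat.pow_le_pow_right (by norm_num) (by omega)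
  obtain ⟨a, haS, hao, hstrT, hcardS, hex, hder, hSC⟩ :=
    quat_local_setup (S : Subgroup G) (2 ^ (n + 2)) hm4 e
  rw [← hD] at hder
  rw [← hder] at hSC
  obtain ⟨C, hCdef⟩ : ∃ C : Subgroup G, C = centralizer (D : Set G) := ⟨_, rfl⟩
  obtain ⟨N, hNdef⟩ : ∃ N : Subgroup G, N = normalizer (D : Set G) := ⟨_, rfl⟩
  rw [← hCdef, ← hNdef]
  rw [← hCdef] at hSC
  have hAS : zpowers a ≤ (S : Subgroup G) := by rw [zpowers_le]; exact haS
  have hAC : zpowers a ≤ C := by rw [← hSC]; exact inf_le_right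
  have hcardA : Nat.card (zpowers a) = 2 * 2 ^ (n + 2) := by rw [Nat.card_zpowers, hao]
  have hCN : C ≤ N := by
    rw [hCdef, hNdef]
    exact Subgroup.centralizer_le_normalizer _
  -- S normalizes D
  have hSN : (S : Subgroup G) ≤ N := by
    intro g hg
    rw [hNdef]
    apply Cfsg.Agent.Lib.Helper7.mem_normalizer_of_conj_mem D g
    intro x hx
    rw [hD]
    rw [hD] at hx
    have h1 : ⁅(S : Subgroup G), (S : Subgroup G)⁆ =
        (⁅(S : Subgroup G), (S : Subgroup G)⁆).map (MulAut.conj g).toMonoidHom := by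
      rw [Subgroup.map_commutator]
      have h2 : (S : Subgroup G).map (MulAut.conj g).toMonoidHom = (S : Subgroup G) := by
        apply le_antisymm
        · rintro _ ⟨y, hy, rfl⟩
          show g * y * g⁻¹ ∈ (S : Subgroup G)
          exact Subgroup.mul_mem _ (Subgroup.mul_mem _ hg hy) (Subgroup.inv_mem _ hg)
        · intro y hy
          refine ⟨g⁻¹ * y * g, Subgroup.mul_mem _ (Subgroup.mul_mem _ (Subgroup.inv_mem _ hg) hy) hg,
            ?_⟩
          show g * (g⁻¹ * y * g) * g⁻¹ = y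
          group
      rw [h2]
    rw [h1]
    exact ⟨x, hx, rfl⟩
  -- C is normalized by N
  have hCnorm : ∀ g ∈ N, ∀ c ∈ C, g * c * g⁻¹ ∈ C := by
    intro g hg c hc
    rw [hCdef, mem_centralizer_iff] at hc ⊢
    intro d hd
    rw [hNdef] at hg
    have hd' : g⁻¹ * d * g ∈ D := by
      have := (mem_normalizer_iff.1 (Subgroup.inv_mem _ hg) d).1 hd
      rwa [inv_inv] at this
    have h1 := hc _ hd'
    calc d * (g * c * g⁻¹) = g * ((g⁻¹ * d * g) * c) * g⁻¹ := by group
      _ = g * (c * (g⁻¹ * d * g)) * g⁻¹ := by rw [h1]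
      _ = g * c * g⁻¹ * d := by group
  have hNC : N ≤ normalizer (C : Set G) := by
    intro g hg
    exact Cfsg.Agent.Lib.Helper7.mem_normalizer_of_conj_mem C g (hCnorm g hg)
  -- the index of A in C is odd
  obtain ⟨r, hrdef⟩ : ∃ r : ℕ, r = (zpowers a).relIndex C := ⟨_, rfl⟩
  have hcardC : Nat.card (zpowers a) * r = Nat.card C := by
    rw [hrdef]; exact card_eq_relIndex_mul_card hAC
  have hrodd : Odd r := by
    have h1 := Cfsg.Agent.Lib.Helper2.card_sup_mul_card_inf (S : Subgroup G) C (hSN.trans hNC)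
    rw [hSC, ← hcardC] at h1
    have h2 : Nat.card ((S : Subgroup G) ⊔ C : Subgroup G) = Nat.card (S : Subgroup G) * r := by
      have hpos : 0 < Nat.card (zpowers a) := Nat.card_pos
      have h3 : Nat.card ((S : Subgroup G) ⊔ C : Subgroup G) * Nat.card (zpowers a) =
          (Nat.card (S : Subgroup G) * r) * Nat.card (zpowers a) := by
        rw [h1]; ring
      exact Nat.eq_of_mul_eq_mul_right hpos h3
    have h4 : Nat.card ((S : Subgroup G) ⊔ C : Subgroup G) ∣ Nat.card G :=
      Subgroup.card_subgroup_dvd_card _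
    rw [h2, ← (S : Subgroup G).card_mul_index] at h4
    have h5 : r ∣ (S : Subgroup G).index :=
      Nat.dvd_of_mul_dvd_mul_left Nat.card_pos h4
    have h6 : ¬ 2 ∣ (S : Subgroup G).index := S.not_dvd_index
    rw [← Nat.not_even_iff_odd, even_iff_two_dvd]
    intro h7
    exact h6 (h7.trans h5)
  -- the Sylow 2-subgroup of C
  have hP2 : IsPGroup 2 ((zpowers a).subgroupOf C) :=
    (IsPGroup.to_le S.isPGroup' hAS).comap_subtype
  have hPidx : ¬ 2 ∣ ((zpowers a).subgroupOf C).index := by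
    show ¬ 2 ∣ (zpowers a).relIndex C
    rw [← hrdef]
    intro h
    have := (Nat.not_even_iff_odd).2 hrodd
    exact this (even_iff_two_dvd.2 h)
  obtain ⟨P, hPdef⟩ : ∃ P : Sylow 2 C, (P : Subgroup C) = (zpowers a).subgroupOf C :=
    ⟨hP2.toSylow hPidx, rfl⟩
  have hPcyc : IsCyclic P := by
    have e1 : ((zpowers a).subgroupOf C) ≃* zpowers a := Subgroup.subgroupOfEquivOfLe hAC
    have e2 : (P : Subgroup C) ≃* ((zpowers a).subgroupOf C) := MulEquiv.subgroupCongr hPdef
    exact isCyclic_of_surjective (e2.trans e1).symm (e2.trans e1).symm.surjective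
  have hminFac : (Nat.card C).minFac = 2 := by
    rw [Nat.minFac_eq_two_iff, ← hcardC, hcardA]
    exact Dvd.dvd.mul_right (Dvd.intro _ rfl) _
  have hcompl := IsCyclic.isComplement' hminFac hPcyc
  obtain ⟨K', hK'def⟩ : ∃ K' : Subgroup C,
      K' = (MonoidHom.transferSylow P (hPcyc.normalizer_le_centralizer hminFac)).ker := ⟨_, rfl⟩
  rw [← hK'def] at hcompl
  haveI hK'n : K'.Normal := by rw [hK'def]; infer_instance
  have hcardP : Nat.card (P : Subgroup C) = Nat.card (zpowers a) := by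
    rw [hPdef]
    exact Nat.card_congr (Subgroup.subgroupOfEquivOfLe hAC).toEquiv
  have hcardK' : Nat.card K' = r := by
    have h1 := hcompl.card_mul_card
    rw [hcardP, ← hcardC] at h1
    have hpos : 0 < Nat.card (zpowers a) := Nat.card_pos
    have : Nat.card K' * Nat.card (zpowers a) = r * Nat.card (zpowers a) := by
      rw [h1]; ring
    exact Nat.eq_of_mul_eq_mul_right hpos this
  obtain ⟨K, hKdef⟩ : ∃ K : Subgroup G, K = K'.map C.subtype := ⟨_, rfl⟩
  have hcardK : Nat.card K = r := by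
    rw [hKdef, Subgroup.card_map_of_injective (Subgroup.subtype_injective C), hcardK']
  have hKC : K ≤ C := by rw [hKdef]; exact Subgroup.map_subtype_le _
  have hKA : K ⊔ zpowers a = C := by
    have h1 : K' ⊔ (P : Subgroup C) = ⊤ := hcompl.sup_eq_top
    have h2 := congrArg (Subgroup.map C.subtype) h1
    rw [Subgroup.map_sup, ← hKdef, hPdef, Subgroup.subgroupOf_map_subtype, inf_of_le_left hAC,
      ← MonoidHom.range_eq_map, Subgroup.range_subtype] at h2
    exact h2
  -- elements of odd order of C lie in K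
  have hoddK : ∀ y ∈ C, Odd (orderOf y) → y ∈ K := by
    intro y hy hyo
    have hidx : K'.index = Nat.card (P : Subgroup C) := hcompl.symm.index_eq_card
    rw [hcardP, hcardA] at hidx
    have h1 : ((⟨y, hy⟩ : C) : C ⧸ K') ^ orderOf y = 1 := by
      rw [← QuotientGroup.mk_pow]
      have : (⟨y, hy⟩ : C) ^ orderOf y = 1 := by
        apply Subtype.ext
        show y ^ orderOf y = 1
        exact pow_orderOf_eq_one y
      rw [this]
      rfl
    have h2 : ((⟨y, hy⟩ : C) : C ⧸ K') ^ (2 * 2 ^ (n + 2)) = 1 := by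
      rw [← hidx, Subgroup.index_eq_card]
      exact pow_card_eq_one'
    have h3 : Nat.Coprime (orderOf y) (2 * 2 ^ (n + 2)) := by
      have : 2 * 2 ^ (n + 2) = 2 ^ (n + 3) := by ring
      rw [this]
      exact Nat.Coprime.pow_right _ ((Nat.coprime_two_right).2 hyo)
    have h4 : ((⟨y, hy⟩ : C) : C ⧸ K') ^ Nat.gcd (orderOf y) (2 * 2 ^ (n + 2)) = 1 :=
      pow_gcd_eq_one.2 ⟨h1, h2⟩
    rw [h3, pow_one, QuotientGroup.eq_one_iff] at h4
    rw [hKdef]
    exact ⟨⟨y, hy⟩, h4, rfl⟩
  have hKodd : Odd (Nat.card K) := by rw [hcardK]; exact hrodd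
  have hNK : N ≤ normalizer (K : Set G) := by
    intro g hg
    apply Cfsg.Agent.Lib.Helper7.mem_normalizer_of_conj_mem K g
    intro x hx
    apply hoddK _ (hCnorm g hg x (hKC hx))
    have hoc : orderOf (g * x * g⁻¹) = orderOf x := by
      rw [← MulAut.conj_apply, MulEquiv.orderOf_eq]
    rw [hoc]
    have h1 : orderOf x ∣ Nat.card K := by
      have := orderOf_dvd_natCard (⟨x, hx⟩ : K)
      rwa [Subgroup.orderOf_mk] at this
    exact Odd.of_dvd_nat hKodd h1
  -- N / C is a 2-group
  have hDcyc : IsCyclic D := by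
    rw [hder]
    infer_instance
  have hcardD : Nat.card D = 2 ^ (n + 2) := by
    rw [hder, Nat.card_zpowers, orderOf_pow_of_dvd (by norm_num) (by rw [hao]; exact Dvd.intro _ rfl),
      hao]
    norm_num
  have hrelNC : C.relIndex N ∣ 2 ^ (n + 1) := by
    have h1 : (D.normalizerMonoidHom).ker.index = Nat.card (D.normalizerMonoidHom).range :=
      Subgroup.index_ker _
    rw [Subgroup.normalizerMonoidHom_ker] at h1
    have h2 : C.relIndex N = Nat.card (D.normalizerMonoidHom).range := by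
      rw [← h1, hCdef, hNdef]
      rfl
    rw [h2]
    have h3 : Nat.card (D.normalizerMonoidHom).range ∣ Nat.card (MulAut D) :=
      Subgroup.card_subgroup_dvd_card _
    have h4 : Nat.card (MulAut D) = 2 ^ (n + 1) := by
      rw [hDcyc.card_mulAut, hcardD, Nat.totient_prime_pow Nat.prime_two (by omega)]
      norm_num
    rw [← h4]
    exact h3
  -- N = C ⊔ S
  have hN : C ⊔ (S : Subgroup G) = N := by
    apply le_antisymm (sup_le hCN hSN)
    rw [← Subgroup.relIndex_eq_one]
    have h1 : (C ⊔ (S : Subgroup G)).relIndex N ∣ C.relIndex N :=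
      Subgroup.relIndex_dvd_of_le_left N le_sup_left
    have h2 : (C ⊔ (S : Subgroup G)).relIndex N ∣ (S : Subgroup G).relIndex N :=
      Subgroup.relIndex_dvd_of_le_left N le_sup_right
    have h3 : (S : Subgroup G).relIndex N ∣ (S : Subgroup G).index :=
      Subgroup.relIndex_dvd_index_of_le hSN
    have h4 : Nat.Coprime (2 ^ (n + 1)) (S : Subgroup G).index := by
      apply Nat.Coprime.pow_left
      rw [Nat.Prime.coprime_iff_not_dvd Nat.prime_two]
      exact S.not_dvd_index
    exact Nat.eq_one_of_dvd_coprimes h4 (h1.trans hrelNC) (h2.trans h3)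
  refine ⟨K, hKodd, hKC, hNK, ?_, ?_, ?_⟩
  · rw [← hN]
    apply le_antisymm
    · exact sup_le (hKC.trans le_sup_left) le_sup_right
    · apply sup_le _ le_sup_right
      rw [← hKA]
      exact sup_le le_sup_left (hAS.trans le_sup_right)
  · rw [hSC]
    exact hKA
  · show C.relIndex N = 2
    have h1 := card_eq_relIndex_mul_card hCN
    have h2 := Cfsg.Agent.Lib.Helper2.card_sup_mul_card_inf (S : Subgroup G) C (hSN.trans hNC)
    rw [sup_comm, hN, hSC, hcardS, hcardA, ← h1] at h2
    have hpos : 0 < Nat.card C := Nat.card_pos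
    have h3 : Nat.card C * (C.relIndex N * (2 * 2 ^ (n + 2))) = Nat.card C * (2 * (2 * 2 ^ (n + 2))) := by
      calc Nat.card C * (C.relIndex N * (2 * 2 ^ (n + 2)))
          = Nat.card C * C.relIndex N * (2 * 2 ^ (n + 2)) := by ring
        _ = 4 * 2 ^ (n + 2) * Nat.card C := h2
        _ = Nat.card C * (2 * (2 * 2 ^ (n + 2))) := by ring
    have h4 := Nat.eq_of_mul_eq_mul_left hpos h3
    have hpos2 : 0 < 2 * 2 ^ (n + 2) := by positivity
    exact Nat.eq_of_mul_eq_mul_right hpos2 h4

end QuatLocal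

end Cfsg.Agent.Lib.Helper4
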