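import Mathlib
import Cfsg.Agent.Lib.Helper4.QuatLocal

set_option autoImplicit false

namespace Cfsg.Agent.Lib.Helper4

open Subgroup
open scoped commutatorElement Pointwise

section QuatLocal2

variable {G : Type*} [Group G]

/-- in a finite cyclic group, divisibility of orders of subgroups gives containment -/
theorem cyc_le_of_card_dvd [Finite G] (w : G) (H J : Subgroup G) (hH : H ≤ zpowers w)
    (hJ : J ≤ zpowers w) (hd : Nat.card H ∣ Nat.card J) : H ≤ J := by
  classical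
  obtain ⟨Z, hZ⟩ : ∃ Z : Subgroup G, Z = zpowers w := ⟨_, rfl⟩
  rw [← hZ] at hH hJ
  haveI : IsCyclic Z := by rw [hZ]; infer_instance
  haveI : Fintype Z := Fintype.ofFinite Z
  obtain ⟨d, hd'⟩ : ∃ d : ℕ, d = Nat.card J := ⟨_, rfl⟩
  have hdpos : 0 < d := by rw [hd']; exact Nat.card_pos
  have h1 : ({x : Z | x ^ d = 1} : Set Z).ncard ≤ d := by
    have := IsCyclic.card_pow_eq_one_le (α := Z) hdpos
    rw [Set.ncard_eq_toFinset_card']
    convert this using 2
    ext x
    simp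
  have h2 : ((J.subgroupOf Z : Subgroup Z) : Set Z) ⊆ {x : Z | x ^ d = 1} := by
    intro x hx
    have hx' : (x : G) ∈ J := mem_subgroupOf.1 hx
    have h3 : (⟨(x : G), hx'⟩ : J) ^ Nat.card J = 1 := pow_card_eq_one'
    have h4 : (x : G) ^ d = 1 := by
      rw [hd']
      exact congrArg Subtype.val h3
    exact Subtype.ext h4
  have h3 : ((J.subgroupOf Z : Subgroup Z) : Set Z).ncard = d := by
    rw [hd']
    have : Nat.card (J.subgroupOf Z) = Nat.card J :=
      Nat.card_congr (Subgroup.subgroupOfEquivOfLe hJ).toEquiv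
    rw [← this]
    exact Nat.card_coe_set_eq _
  have h4 : ((J.subgroupOf Z : Subgroup Z) : Set Z) = {x : Z | x ^ d = 1} :=
    Set.eq_of_subset_of_ncard_le h2 (by rw [h3]; exact h1) (Set.toFinite _)
  intro x hx
  have hxZ : x ∈ Z := hH hx
  have h5 : x ^ d = 1 := by
    have h6 : (⟨x, hx⟩ : H) ^ Nat.card H = 1 := pow_card_eq_one'
    have h7 : x ^ Nat.card H = 1 := congrArg Subtype.val h6
    obtain ⟨k, hk⟩ := hd
    rw [hd', hk, pow_mul, h7, one_pow]
  have h6 : (⟨x, hxZ⟩ : Z) ∈ ((J.subgroupOf Z : Subgroup Z) : Set Z) := by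
    rw [h4]
    exact Subtype.ext h5
  exact mem_subgroupOf.1 h6

/-- a Sylow subgroup meets a subgroup that it normalizes in a Sylow subgroup -/
theorem sylow_inf_of_le_normalizer [Finite G] {p : ℕ} [Fact p.Prime] (S : Sylow p G)
    (C : Subgroup G) (hSNC : (S : Subgroup G) ≤ normalizer (C : Set G)) :
    ∃ P : Sylow p C, (P : Subgroup C) = ((S : Subgroup G) ⊓ C).subgroupOf C := by
  classical
  obtain ⟨A, hAdef⟩ : ∃ A : Subgroup G, A = (S : Subgroup G) ⊓ C := ⟨_, rfl⟩
  rw [← hAdef]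
  have hAC : A ≤ C := hAdef ▸ inf_le_right
  have hAS : A ≤ (S : Subgroup G) := hAdef ▸ inf_le_left
  obtain ⟨r, hrdef⟩ : ∃ r : ℕ, r = A.relIndex C := ⟨_, rfl⟩
  have hcardC : Nat.card A * r = Nat.card C := by
    rw [hrdef]; exact card_eq_relIndex_mul_card hAC
  have hr : ¬ p ∣ r := by
    have h1 := Cfsg.Agent.Lib.Helper2.card_sup_mul_card_inf (S : Subgroup G) C hSNC
    rw [← hAdef, ← hcardC] at h1
    have h2 : Nat.card ((S : Subgroup G) ⊔ C : Subgroup G) = Nat.card (S : Subgroup G) * r := by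
      have hpos : 0 < Nat.card A := Nat.card_pos
      have h3 : Nat.card ((S : Subgroup G) ⊔ C : Subgroup G) * Nat.card A =
          (Nat.card (S : Subgroup G) * r) * Nat.card A := by
        rw [h1]; ring
      exact Nat.eq_of_mul_eq_mul_right hpos h3
    have h4 : Nat.card ((S : Subgroup G) ⊔ C : Subgroup G) ∣ Nat.card G :=
      Subgroup.card_subgroup_dvd_card _
    rw [h2, ← (S : Subgroup G).card_mul_index] at h4
    have h5 : r ∣ (S : Subgroup G).index :=
      Nat.dvd_of_mul_dvd_mul_left Nat.card_pos h4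
    intro h7
    exact S.not_dvd_index (h7.trans h5)
  have hP2 : IsPGroup p (A.subgroupOf C) := (IsPGroup.to_le S.isPGroup' hAS).comap_subtype
  have hPidx : ¬ p ∣ (A.subgroupOf C).index := by
    show ¬ p ∣ A.relIndex C
    rw [← hrdef]
    exact hr
  exact ⟨hP2.toSylow hPidx, rfl⟩

/-- elements of the centralizer of `D = S'` whose order is divisible by `|D|` -/
theorem quat_local_X [Finite G] (S : Sylow 2 G) (n : ℕ)
    (e : (S : Subgroup G) ≃* QuaternionGroup (2 ^ (n + 2))) (D : Subgroup G)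
    (hD : D = ⁅(S : Subgroup G), (S : Subgroup G)⁆) :
    (∀ y : G, y ∈ centralizer (D : Set G) → Nat.card D ∣ orderOf y → D ≤ zpowers y) ∧
    (∀ g y : G, y ∈ centralizer (D : Set G) → Nat.card D ∣ orderOf y →
      g * y * g⁻¹ ∈ centralizer (D : Set G) → g ∈ normalizer (D : Set G)) ∧
    (∀ g y : G, g ∈ normalizer (D : Set G) → y ∈ centralizer (D : Set G) →
      Nat.card D ∣ orderOf y →
      g * y * g⁻¹ ∈ centralizer (D : Set G) ∧ Nat.card D ∣ orderOf (g * y * g⁻¹)) := by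
  classical
  haveI : Fact (Nat.Prime 2) := ⟨Nat.prime_two⟩
  have hm4 : 4 ≤ 2 ^ (n + 2) := by
    calc 4 = 2 ^ 2 := rfl
      _ ≤ 2 ^ (n + 2) := Nat.pow_le_pow_right (by norm_num) (by omega)
  obtain ⟨a, haS, hao, hstrT, hcardS, hex, hder, hSC⟩ :=
    quat_local_setup (S : Subgroup G) (2 ^ (n + 2)) hm4 e
  rw [← hD] at hder
  rw [← hder] at hSC
  obtain ⟨C, hCdef⟩ : ∃ C : Subgroup G, C = centralizer (D : Set G) := ⟨_, rfl⟩
  obtain ⟨N, hNdef⟩ : ∃ N : Subgroup G, N = normalizer (D : Set G) := ⟨_, rfl⟩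
  rw [← hCdef, ← hNdef]
  rw [← hCdef] at hSC
  have hAS : zpowers a ≤ (S : Subgroup G) := by rw [zpowers_le]; exact haS
  have hAC : zpowers a ≤ C := by rw [← hSC]; exact inf_le_right
  have hDA : D ≤ zpowers a := by
    rw [hder, zpowers_le]
    exact Subgroup.pow_mem _ (mem_zpowers a) 2
  have hcardD : Nat.card D = 2 ^ (n + 2) := by
    rw [hder, Nat.card_zpowers, orderOf_pow_of_dvd (by norm_num) (by rw [hao]; exact Dvd.intro _ rfl),
      hao]
    norm_num
  have hCN : C ≤ N := by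
    rw [hCdef, hNdef]
    exact Subgroup.centralizer_le_normalizer _
  have hCnorm : ∀ g ∈ N, ∀ c ∈ C, g * c * g⁻¹ ∈ C := by
    intro g hg c hc
    rw [hCdef, mem_centralizer_iff] at hc ⊢
    intro d hd
    rw [hNdef] at hg
    have hd' : g⁻¹ * d * g ∈ D := by
      have := (mem_normalizer_iff.1 (Subgroup.inv_mem _ hg) d).1 hd
      rwa [inv_inv] at this
    have h1 := hc _ hd'
    calc d * (g * c * g⁻¹) = g * ((g⁻¹ * d * g) * c) * g⁻¹ := by group
      _ = g * (c * (g⁻¹ * d * g)) * g⁻¹ := by rw [h1]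
      _ = g * c * g⁻¹ * d := by group
  have hNC : N ≤ normalizer (C : Set G) := by
    intro g hg
    exact Cfsg.Agent.Lib.Helper7.mem_normalizer_of_conj_mem C g (hCnorm g hg)
  have hSN : (S : Subgroup G) ≤ N := by
    intro g hg
    rw [hNdef]
    apply Cfsg.Agent.Lib.Helper7.mem_normalizer_of_conj_mem D g
    intro x hx
    rw [hD]
    rw [hD] at hx
    have h1 : ⁅(S : Subgroup G), (S : Subgroup G)⁆ =
        (⁅(S : Subgroup G), (S : Subgroup G)⁆).map (MulAut.conj g).toMonoidHom := by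
      rw [Subgroup.map_commutator]
      have h2 : (S : Subgroup G).map (MulAut.conj g).toMonoidHom = (S : Subgroup G) := by
        apply le_antisymm
        · rintro _ ⟨y, hy, rfl⟩
          show g * y * g⁻¹ ∈ (S : Subgroup G)
          exact Subgroup.mul_mem _ (Subgroup.mul_mem _ hg hy) (Subgroup.inv_mem _ hg)
        · intro y hy
          refine ⟨g⁻¹ * y * g, Subgroup.mul_mem _ (Subgroup.mul_mem _ (Subgroup.inv_mem _ hg) hy) hg,
            ?_⟩
          show g * (g⁻¹ * y * g) * g⁻¹ = y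
          group
      rw [h2]
    rw [h1]
    exact ⟨x, hx, rfl⟩
  obtain ⟨P, hPdef⟩ := sylow_inf_of_le_normalizer S C (hSN.trans hNC)
  rw [hSC] at hPdef
  have hoc : ∀ g x : G, orderOf (g * x * g⁻¹) = orderOf x := by
    intro g x
    rw [← MulAut.conj_apply, MulEquiv.orderOf_eq]
  -- part (1)
  have part1 : ∀ y : G, y ∈ C → Nat.card D ∣ orderOf y → D ≤ zpowers y := by
    intro y hyC hdvd
    rw [hcardD] at hdvd
    have hM0 : orderOf y ≠ 0 := (orderOf_pos y).ne'
    obtain ⟨s, t, htodd, hst⟩ := Nat.exists_eq_two_pow_mul_odd hM0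
    have hns : n + 2 ≤ s := by
      have h1 : 2 ^ (n + 2) ∣ 2 ^ s := by
        rw [hst] at hdvd
        exact Nat.Coprime.dvd_of_dvd_mul_right
          (Nat.Coprime.pow_left _ ((Nat.coprime_two_left).2 htodd)) hdvd
      exact (Nat.pow_dvd_pow_iff_le_right (by norm_num)).1 h1
    obtain ⟨y₂, hy₂def⟩ : ∃ y₂ : G, y₂ = y ^ t := ⟨_, rfl⟩
    have ht0 : t ≠ 0 := by
      rintro rfl
      revert htodd
      decide
    have hoy₂ : orderOf y₂ = 2 ^ s := by
      rw [hy₂def, orderOf_pow_of_dvd ht0 (by rw [hst]; exact Dvd.intro_left _ rfl), hst]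
      exact Nat.mul_div_cancel _ (Nat.pos_of_ne_zero ht0)
    have hy₂C : y₂ ∈ C := by rw [hy₂def]; exact Subgroup.pow_mem _ hyC t
    have hP2 : IsPGroup 2 (zpowers (⟨y₂, hy₂C⟩ : C)) := by
      apply IsPGroup.of_card (n := s)
      rw [Nat.card_zpowers, Subgroup.orderOf_mk, hoy₂]
    obtain ⟨Q, hQ⟩ := hP2.exists_le_sylow
    obtain ⟨c, hc⟩ := MulAction.exists_smul_eq C P Q
    have h1 : (⟨y₂, hy₂C⟩ : C) ∈ (Q : Subgroup C) := hQ (mem_zpowers _)
    rw [← hc, Sylow.coe_subgroup_smul, Subgroup.mem_pointwise_smul_iff_inv_smul_mem, hPdef,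
      mem_subgroupOf] at h1
    obtain ⟨z, hzdef⟩ : ∃ z : G, z = (c : G)⁻¹ * y₂ * (c : G) := ⟨_, rfl⟩
    have hzA : z ∈ zpowers a := by
      rw [hzdef]
      have : (((MulAut.conj c)⁻¹ • (⟨y₂, hy₂C⟩ : C) : C) : G) = (c : G)⁻¹ * y₂ * (c : G) := by
        simp [MulAut.smul_def, MulAut.conj_inv_apply]
      rw [← this]
      exact h1
    have hoz : orderOf z = 2 ^ s := by
      have := hoc (c : G)⁻¹ y₂
      rw [inv_inv] at this
      rw [hzdef, this, hoy₂]
    have hDz : D ≤ zpowers z := by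
      apply cyc_le_of_card_dvd a D (zpowers z) hDA (by rw [zpowers_le]; exact hzA)
      rw [hcardD, Nat.card_zpowers, hoz]
      exact pow_dvd_pow 2 hns
    intro d hd
    obtain ⟨i, hi⟩ := mem_zpowers_iff.1 (hDz hd)
    have hcd : (c : G) * d * (c : G)⁻¹ = d := by
      have hcC : ∀ c' : G, c' ∈ C → c' * d * c'⁻¹ = d := by
        intro c' hc'
        rw [hCdef, mem_centralizer_iff] at hc'
        rw [← hc' d hd, mul_inv_cancel_right]
      exact hcC _ c.2
    have h2 : d = y₂ ^ i := by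
      rw [← hcd, ← hi, ← conj_zpow, hzdef]
      congr 1
      group
    rw [h2, hy₂def, ← zpow_natCast, ← zpow_mul]
    exact zpow_mem (mem_zpowers y) _
  refine ⟨part1, ?_, ?_⟩
  · intro g y hyC hdvd hgy
    rw [hNdef]
    apply Cfsg.Agent.Lib.Helper7.mem_normalizer_of_conj_mem D g
    intro x hx
    have h1 := part1 y hyC hdvd
    have h2 : D ≤ zpowers (g * y * g⁻¹) := part1 _ hgy (by rw [hoc]; exact hdvd)
    have h3 : D.map (MulAut.conj g).toMonoidHom ≤ zpowers (g * y * g⁻¹) := by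
      rintro _ ⟨d, hd, rfl⟩
      obtain ⟨i, hi⟩ := mem_zpowers_iff.1 (h1 hd)
      show g * d * g⁻¹ ∈ zpowers (g * y * g⁻¹)
      rw [← hi, ← conj_zpow]
      exact zpow_mem (mem_zpowers _) i
    have h4 : D.map (MulAut.conj g).toMonoidHom ≤ D := by
      apply cyc_le_of_card_dvd (g * y * g⁻¹) _ D h3 h2
      rw [Subgroup.card_map_of_injective (MulAut.conj g).injective]
    exact h4 ⟨x, hx, rfl⟩
  · intro g y hg hyC hdvd
    exact ⟨hCnorm g hg y hyC, by rw [hoc]; exact hdvd⟩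

end QuatLocal2

end Cfsg.Agent.Lib.Helper4
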