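import Cfsg.Agent.Lib.Helper4.Puig3
import Cfsg.Agent.Lib.Helper4.QuatLocal2
import Cfsg.Agent.Lib.Helper3.Subn
import Cfsg.Agent.Lib.Helper3.PComp

/-! The Puig subgroup, part 4: `Z(L(S))` is normal when `O_{p'}(G) = 1`. -/

namespace Cfsg.Agent.Lib.Helper4

open scoped commutatorElement

section Puig4

universe u

variable {G : Type u} [Group G] [Finite G]

/-- `Z(L(R)) ≤ L_*(R)` -/
theorem puigZRel_le_puigLowRel (R : Subgroup G) : puigZRel R ≤ puigLowRel R := by
  rw [← puigRel_puigLRel]
  apply le_puigRel (puigZRel_le R) (puigZRel_comm R)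
  intro x hx
  rw [Subgroup.mem_normalizer_iff]
  intro z
  constructor
  · intro hz
    have h1 : x * z = z * x := Subgroup.mem_centralizer_iff.1 hz.2 x hx
    have h2 : x * z * x⁻¹ = z := by rw [h1]; group
    rw [h2]; exact hz
  · intro hz
    have h1 : x⁻¹ * (x * z * x⁻¹) = (x * z * x⁻¹) * x⁻¹ :=
      Subgroup.mem_centralizer_iff.1 hz.2 x⁻¹ (Subgroup.inv_mem _ hx)
    have h2 : z = x * z * x⁻¹ := by
      calc z = (x⁻¹ * (x * z * x⁻¹)) * x := by group
        _ = ((x * z * x⁻¹) * x⁻¹) * x := by rw [h1]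
        _ = x * z * x⁻¹ := by group
    rw [h2]; exact hz

theorem puigLRel_normal (R : Subgroup G) [R.Normal] : (puigLRel R).Normal :=
  Subgroup.normal_iInf_normal (fun _ => puigSeqRel_normal R _)

theorem puigZRel_normal (R : Subgroup G) [R.Normal] : (puigZRel R).Normal := by
  haveI : (puigLRel R).Normal := puigLRel_normal R
  exact Subgroup.normal_inf_normal _ _

/-- `Z(L(S)) ≤ Z(L(O_p(G)))` -/
theorem puigZRel_le_pCore [Group.IsSolvable G] (hodd : Odd (Nat.card G)) (p : ℕ)
    [Fact p.Prime] (hp : p ≠ 2) (hO : Cfsg.pPrimeCore p G = ⊥) (S : Sylow p G) :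
    puigZRel (S : Subgroup G) ≤ puigZRel (Cfsg.pCore p G) := by
  have hcmp := puigSeqRel_compare hodd p hp hO S
  have h1 : puigLowRel (S : Subgroup G) ≤ puigLowRel (Cfsg.pCore p G) :=
    iSup_mono (fun n => (hcmp n).1)
  have h2 : puigLRel (Cfsg.pCore p G) ≤ puigLRel (S : Subgroup G) :=
    iInf_mono (fun n => (hcmp n).2)
  intro z hz
  have hzT : z ∈ puigLRel (Cfsg.pCore p G) :=
    puigLowRel_le_puigLRel _ (h1 (puigZRel_le_puigLowRel _ hz))
  exact ⟨hzT, Subgroup.centralizer_le h2 hz.2⟩

/-- Puig: `Z(L(S))` is normal in `G` when `O_{p'}(G) = 1` -/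
theorem puigZRel_normal_of_sylow (p : ℕ) [Fact p.Prime] (hp : p ≠ 2) :
    ∀ (n : ℕ) (G : Type u) [Group G] [Finite G] [Group.IsSolvable G], Nat.card G = n →
      Odd (Nat.card G) → Cfsg.pPrimeCore p G = ⊥ → ∀ S : Sylow p G,
      (puigZRel (S : Subgroup G)).Normal := by
  intro n
  induction n using Nat.strong_induction_on with
  | _ n IH =>
  intro G _ _ _ hn hodd hO S
  have hpp : p.Prime := Fact.out
  have hsol : Cfsg.IsPSolvable p G :=
    Cfsg.Agent.Lib.Helper3.isPSolvable_of_isSolvable p _ G rfl inferInstance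
  have hno := psn_odd_no_sl23 hodd p
  haveI hTn : (Cfsg.pCore p G).Normal := pCore_normal p
  have hTp : IsPGroup p (Cfsg.pCore p G) := pCore_isPGroup
  have hTS : Cfsg.pCore p G ≤ (S : Subgroup G) := pCore_le_sylow S
  have hZZT := puigZRel_le_pCore hodd p hp hO S
  haveI hZTn : (puigZRel (Cfsg.pCore p G)).Normal := puigZRel_normal _
  obtain ⟨B, hBdef⟩ : ∃ B : Subgroup G,
    B = Subgroup.normalClosure (puigZRel (S : Subgroup G) : Set G) := ⟨_, rfl⟩
  have hBZT : B ≤ puigZRel (Cfsg.pCore p G) := by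
    rw [hBdef]; exact Subgroup.normalClosure_le_normal hZZT
  haveI hBn : B.Normal := by rw [hBdef]; exact Subgroup.normalClosure_normal
  have hZB : puigZRel (S : Subgroup G) ≤ B := by rw [hBdef]; exact Subgroup.le_normalClosure
  have hBc : ∀ x ∈ B, ∀ y ∈ B, x * y = y * x :=
    fun x hx y hy => puigZRel_comm _ x (hBZT hx) y (hBZT hy)
  have hBT : B ≤ Cfsg.pCore p G := hBZT.trans (puigZRel_le _)
  have hBS : B ≤ (S : Subgroup G) := hBT.trans hTS
  have hBp : IsPGroup p B := hTp.to_le hBT
  have hBlow : B ≤ puigLowRel (S : Subgroup G) := by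
    rw [← puigRel_puigLRel]
    apply le_puigRel hBS hBc
    rw [Subgroup.normalizer_eq_top_iff.2 hBn]; exact le_top
  haveI hCn : (Subgroup.centralizer (B : Set G)).Normal := Subgroup.normal_centralizer
  haveI hQn : (Cfsg.pCore p (G ⧸ Subgroup.centralizer (B : Set G))).Normal := pCore_normal p
  obtain ⟨D, hDdef⟩ : ∃ D : Subgroup G,
    D = (Cfsg.pCore p (G ⧸ Subgroup.centralizer (B : Set G))).comap
      (QuotientGroup.mk' (Subgroup.centralizer (B : Set G))) := ⟨_, rfl⟩
  haveI hDn : D.Normal := by rw [hDdef]; exact hQn.comap _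
  have hLD : puigLRel (S : Subgroup G) ≤ D := by
    rw [← puigRel_puigLowRel]
    apply sSup_le
    rintro A ⟨hAS, hAc, hXA⟩
    intro a ha
    have hq := psn_quadratic_of_abelian B A hAc (hBlow.trans hXA) a ha
    have := psn_stable_normal_mem p hp hsol hno B hBp a hq
    rw [hDdef]; exact this
  -- C normalizes Z
  have hCZ : Subgroup.centralizer (B : Set G) ≤
      Subgroup.normalizer (puigZRel (S : Subgroup G) : Set G) := by
    intro c hc
    rw [Subgroup.mem_normalizer_iff]
    intro z
    have key : ∀ w ∈ B, c * w * c⁻¹ = w := by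
      intro w hw
      have h1 : w * c = c * w := Subgroup.mem_centralizer_iff.1 hc w hw
      rw [← h1]; group
    constructor
    · intro hz
      rw [key z (hZB hz)]; exact hz
    · intro hz
      have h2 := key _ (hZB hz)
      have h3 : c * z * c⁻¹ = z := by
        have : c * (c * z * c⁻¹) * c⁻¹ = c * z * c⁻¹ := h2
        have h4 : c * z * c⁻¹ = c⁻¹ * (c * (c * z * c⁻¹) * c⁻¹) * c := by group
        rw [h4, this]; group
      rw [← h3]; exact hz
  have hSZ : (S : Subgroup G) ≤ Subgroup.normalizer (puigZRel (S : Subgroup G) : Set G) :=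
    Subgroup.le_normalizer.trans (normalizer_le_normalizer_puigZRel _)
  by_cases hDtop : D = ⊤
  · -- G / C is a p-group
    have hQp : IsPGroup p (G ⧸ Subgroup.centralizer (B : Set G)) := by
      intro q
      obtain ⟨g, rfl⟩ := QuotientGroup.mk_surjective q
      have hg : g ∈ D := by rw [hDtop]; exact Subgroup.mem_top g
      rw [hDdef] at hg
      have hg' : (QuotientGroup.mk g : G ⧸ Subgroup.centralizer (B : Set G)) ∈
          Cfsg.pCore p (G ⧸ Subgroup.centralizer (B : Set G)) := hg
      obtain ⟨k, hk⟩ := (pCore_isPGroup (G := G ⧸ Subgroup.centralizer (B : Set G)) (p := p))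
        ⟨_, hg'⟩
      exact ⟨k, by simpa using congrArg Subtype.val hk⟩
    obtain ⟨k, hk⟩ := IsPGroup.iff_card.1 hQp
    have hidx : ((S : Subgroup G) ⊔ Subgroup.centralizer (B : Set G)).index = 1 := by
      have h1 : ((S : Subgroup G) ⊔ Subgroup.centralizer (B : Set G)).index ∣
          (S : Subgroup G).index := Subgroup.index_dvd_of_le le_sup_left
      have h2 : ((S : Subgroup G) ⊔ Subgroup.centralizer (B : Set G)).index ∣ p ^ k := by
        rw [← hk, ← Subgroup.index_eq_card]
        exact Subgroup.index_dvd_of_le le_sup_right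
      obtain ⟨j, -, hj⟩ := (Nat.dvd_prime_pow hpp).1 h2
      rcases Nat.eq_zero_or_pos j with hj0 | hjpos
      · rw [hj, hj0, pow_zero]
      · exfalso
        apply Sylow.not_dvd_index S
        refine dvd_trans ?_ h1
        rw [hj]
        exact dvd_pow_self p hjpos.ne'
    have htop : (S : Subgroup G) ⊔ Subgroup.centralizer (B : Set G) = ⊤ :=
      Subgroup.index_eq_one.1 hidx
    apply Subgroup.normalizer_eq_top_iff.1
    apply top_le_iff.1
    rw [← htop]
    exact sup_le hSZ hCZ
  · -- D is proper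
    obtain ⟨P, hP⟩ := sylow_inf_of_le_normalizer S D (by
      rw [Subgroup.normalizer_eq_top_iff.2 hDn]; exact le_top)
    have hlt : Nat.card ↥D < n := by
      rw [← hn]
      apply lt_of_le_of_ne (Subgroup.card_le_card_group D)
      intro h
      exact hDtop (Subgroup.eq_top_of_card_eq D h)
    have hoddD : Odd (Nat.card ↥D) := Odd.of_dvd_nat hodd (Subgroup.card_subgroup_dvd_card D)
    have hOD : Cfsg.pPrimeCore p ↥D = ⊥ := by
      have h1 := Cfsg.Agent.Lib.Helper3.pPrimeCore_subnormal_le p (hDn.isSubnormal)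
      rw [hO, le_bot_iff] at h1
      exact (Subgroup.map_eq_bot_iff_of_injective _ D.subtype_injective).1 h1
    have hIH := IH (Nat.card ↥D) hlt ↥D rfl hoddD hOD P
    have hmapP : (P : Subgroup ↥D).map D.subtype = (S : Subgroup G) ⊓ D := by
      rw [hP, Subgroup.subgroupOf_map_subtype]
      exact inf_of_le_left inf_le_right
    have hmapZ : (puigZRel (P : Subgroup ↥D)).map D.subtype = puigZRel ((S : Subgroup G) ⊓ D) := by
      rw [map_puigZRel D.subtype (P : Subgroup ↥D) (by
        intro x _ hx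
        exact D.subtype_injective (hx.trans (map_one _).symm)), hmapP]
    have hZeq : puigZRel ((S : Subgroup G) ⊓ D) = puigZRel (S : Subgroup G) := by
      unfold puigZRel
      rw [puigLRel_eq_of_le inf_le_left (le_inf (puigLRel_le _) hLD)]
    have hDZ : D ≤ Subgroup.normalizer (puigZRel (S : Subgroup G) : Set G) := by
      intro d hd
      rw [← hZeq, ← hmapZ]
      have hconj : ∀ e ∈ D, ∀ z ∈ (puigZRel (P : Subgroup ↥D)).map D.subtype,
          e * z * e⁻¹ ∈ (puigZRel (P : Subgroup ↥D)).map D.subtype := by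
        rintro e he _ ⟨z', hz', rfl⟩
        exact ⟨⟨e, he⟩ * z' * ⟨e, he⟩⁻¹, hIH.conj_mem z' hz' ⟨e, he⟩, rfl⟩
      rw [Subgroup.mem_normalizer_iff]
      intro z
      constructor
      · exact hconj d hd z
      · intro hz
        have := hconj d⁻¹ (D.inv_mem hd) _ hz
        have h4 : d⁻¹ * (d * z * d⁻¹) * d⁻¹⁻¹ = z := by group
        rw [h4] at this
        exact this
    have hfr := Sylow.normalizer_sup_eq_top P
    rw [hmapP] at hfr
    have hNZ : Subgroup.normalizer (((S : Subgroup G) ⊓ D : Subgroup G) : Set G) ≤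
        Subgroup.normalizer (puigZRel (S : Subgroup G) : Set G) := by
      rw [← hZeq]
      exact normalizer_le_normalizer_puigZRel _
    apply Subgroup.normalizer_eq_top_iff.1
    apply top_le_iff.1
    rw [← hfr]
    exact sup_le hNZ hDZ

end Puig4

end Cfsg.Agent.Lib.Helper4
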