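import Cfsg.Agent.Lib.Helper4.Puig4
import Cfsg.Agent.Lib.Helper1.Fitting

/-! The Puig subgroup, part 5: `G = O_{p'}(G) N_G(Z(L(S)))`. -/

namespace Cfsg.Agent.Lib.Helper4

open scoped commutatorElement

section Puig5

universe u

variable {G : Type u} [Group G]

theorem map_center_subtype (H : Subgroup G) :
    (Subgroup.center ↥H).map H.subtype = H ⊓ Subgroup.centralizer (H : Set G) := by
  ext x
  constructor
  · rintro ⟨z, hz, rfl⟩
    refine ⟨z.2, ?_⟩
    refine Subgroup.mem_centralizer_iff.2 ?_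
    intro h hh
    have := Subgroup.mem_center_iff.1 hz ⟨h, hh⟩
    exact congrArg Subtype.val this
  · rintro ⟨hxH, hxC⟩
    refine ⟨⟨x, hxH⟩, ?_, rfl⟩
    refine Subgroup.mem_center_iff.2 ?_
    intro g
    apply Subtype.ext
    have hxC' : x ∈ Subgroup.centralizer (H : Set G) := hxC
    exact Subgroup.mem_centralizer_iff.1 hxC' g.1 g.2

theorem map_inf_centralizer_subtype (S : Subgroup G) (L : Subgroup ↥S) :
    (L ⊓ Subgroup.centralizer (L : Set ↥S)).map S.subtype =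
      L.map S.subtype ⊓ Subgroup.centralizer ((L.map S.subtype : Subgroup G) : Set G) := by
  ext x
  constructor
  · rintro ⟨y, ⟨hyL, hyC⟩, rfl⟩
    refine ⟨⟨y, hyL, rfl⟩, ?_⟩
    refine Subgroup.mem_centralizer_iff.2 ?_
    rintro _ ⟨w, hw, rfl⟩
    have hyC' : y ∈ Subgroup.centralizer (L : Set ↥S) := hyC
    exact congrArg Subtype.val (Subgroup.mem_centralizer_iff.1 hyC' w hw)
  · rintro ⟨⟨y, hyL, rfl⟩, hC⟩
    refine ⟨y, ⟨hyL, ?_⟩, rfl⟩
    have hC' : S.subtype y ∈ Subgroup.centralizer ((L.map S.subtype : Subgroup G) : Set G) := hC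
    refine Subgroup.mem_centralizer_iff.2 ?_
    intro w hw
    apply Subtype.ext
    exact Subgroup.mem_centralizer_iff.1 hC' _ ⟨w, hw, rfl⟩

variable [Finite G]

/-- the statement's `Z(L(S))` viewed inside `G` is `puigZRel S` -/
theorem puigZ_eq (S : Subgroup G) :
    ((Subgroup.center ↥(Cfsg.puigSubgroup ↥S)).map (Cfsg.puigSubgroup ↥S).subtype).map S.subtype =
      puigZRel S := by
  rw [map_center_subtype, map_inf_centralizer_subtype, map_puigSubgroup]
  rfl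

/-- a `p`-element of `O_{p'}(G)` is trivial -/
theorem pelem_pPrimeCore_eq_one (p : ℕ) [Fact p.Prime] (x : G) (hx : x ∈ Cfsg.pPrimeCore p G)
    (j : ℕ) (hj : x ^ (p ^ j) = 1) : x = 1 := by
  have hcop := Cfsg.Agent.Lib.Helper1.pPrimeCore_coprime (G := G) p
  have h1 : orderOf x ∣ Nat.card ↥(Cfsg.pPrimeCore p G) := by
    have := orderOf_dvd_natCard (⟨x, hx⟩ : ↥(Cfsg.pPrimeCore p G))
    rwa [← Subgroup.orderOf_coe] at this
  have h2 : orderOf x ∣ p ^ j := orderOf_dvd_of_pow_eq_one hj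
  have h3 : orderOf x = 1 := Nat.eq_one_of_dvd_coprimes (Nat.Coprime.pow_right j hcop) h1 h2
  exact orderOf_eq_one_iff.1 h3

/-- Puig: `G = O_{p'}(G) N_G(Z(L(S)))` -/
theorem puig_factorization [Group.IsSolvable G] (hodd : Odd (Nat.card G)) (p : ℕ)
    [Fact p.Prime] (hp : p ≠ 2) (S : Sylow p G) :
    Cfsg.pPrimeCore p G ⊔ Subgroup.normalizer (puigZRel (S : Subgroup G) : Set G) = ⊤ := by
  haveI hKn : (Cfsg.pPrimeCore p G).Normal := pPrimeCore_normal p
  have hSp : IsPGroup p (S : Subgroup G) := S.2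
  have hpel : ∀ x ∈ (S : Subgroup G), ∃ j : ℕ, x ^ (p ^ j) = 1 := by
    intro x hx
    obtain ⟨j, hj⟩ := hSp ⟨x, hx⟩
    exact ⟨j, by simpa using congrArg Subtype.val hj⟩
  have hinj : ∀ x ∈ (S : Subgroup G), (QuotientGroup.mk' (Cfsg.pPrimeCore p G)) x = 1 → x = 1 := by
    intro x hx h1
    have hxK : x ∈ Cfsg.pPrimeCore p G := (QuotientGroup.eq_one_iff x).1 h1
    obtain ⟨j, hj⟩ := hpel x hx
    exact pelem_pPrimeCore_eq_one p x hxK j hj
  have hoddQ : Odd (Nat.card (G ⧸ Cfsg.pPrimeCore p G)) :=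
    Odd.of_dvd_nat hodd (Subgroup.card_quotient_dvd_card _)
  have hOQ : Cfsg.pPrimeCore p (G ⧸ Cfsg.pPrimeCore p G) = ⊥ :=
    Cfsg.Agent.Lib.Helper3.pPrimeCore_quotient_eq_bot p
  have hE := puigZRel_normal_of_sylow p hp _ (G ⧸ Cfsg.pPrimeCore p G) rfl hoddQ hOQ
    (S.mapSurjective (QuotientGroup.mk'_surjective (Cfsg.pPrimeCore p G)))
  rw [Sylow.coe_mapSurjective, ← map_puigZRel _ _ hinj] at hE
  -- N = Z ⊔ K is normal
  have hNn : (puigZRel (S : Subgroup G) ⊔ Cfsg.pPrimeCore p G).Normal := by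
    have h1 := hE.comap (QuotientGroup.mk' (Cfsg.pPrimeCore p G))
    rw [Subgroup.comap_map_eq, QuotientGroup.ker_mk'] at h1
    exact h1
  haveI := hNn
  have hZN : puigZRel (S : Subgroup G) ≤ puigZRel (S : Subgroup G) ⊔ Cfsg.pPrimeCore p G :=
    le_sup_left
  have hZp : IsPGroup p (puigZRel (S : Subgroup G)) := hSp.to_le (puigZRel_le _)
  obtain ⟨Q, hQ⟩ := (hZp.comap_subtype
    (K := puigZRel (S : Subgroup G) ⊔ Cfsg.pPrimeCore p G)).exists_le_sylow
  have hQeq : (Q : Subgroup ↥(puigZRel (S : Subgroup G) ⊔ Cfsg.pPrimeCore p G)).map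
      (puigZRel (S : Subgroup G) ⊔ Cfsg.pPrimeCore p G).subtype = puigZRel (S : Subgroup G) := by
    have hZQ : puigZRel (S : Subgroup G) ≤
        (Q : Subgroup ↥(puigZRel (S : Subgroup G) ⊔ Cfsg.pPrimeCore p G)).map
          (puigZRel (S : Subgroup G) ⊔ Cfsg.pPrimeCore p G).subtype := by
      intro z hz
      exact ⟨⟨z, hZN hz⟩, hQ (Subgroup.mem_subgroupOf.2 hz), rfl⟩
    apply le_antisymm _ hZQ
    rintro _ ⟨q, hq, rfl⟩
    have hqN : (q : G) ∈ ((puigZRel (S : Subgroup G) ⊔ Cfsg.pPrimeCore p G : Subgroup G) : Set G) :=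
      q.2
    rw [Subgroup.mul_normal] at hqN
    obtain ⟨z, hz, k, hk, hzk⟩ := Set.mem_mul.1 hqN
    -- k is a p-element of K
    have hzN := hZN hz
    have hkN : k ∈ puigZRel (S : Subgroup G) ⊔ Cfsg.pPrimeCore p G :=
      (le_sup_right : Cfsg.pPrimeCore p G ≤ _) hk
    have hkQ : (⟨k, hkN⟩ : ↥(puigZRel (S : Subgroup G) ⊔ Cfsg.pPrimeCore p G)) ∈ Q := by
      have h1 : (⟨k, hkN⟩ : ↥(puigZRel (S : Subgroup G) ⊔ Cfsg.pPrimeCore p G)) =
          (⟨z, hzN⟩)⁻¹ * q := by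
        apply Subtype.ext
        show k = z⁻¹ * (q : G)
        rw [← hzk]; group
      rw [h1]
      exact Subgroup.mul_mem _ (Subgroup.inv_mem _ (hQ (Subgroup.mem_subgroupOf.2 hz))) hq
    obtain ⟨j, hj⟩ := Q.2 ⟨_, hkQ⟩
    have hj' : k ^ (p ^ j) = 1 := by
      have := congrArg (fun t : ↥(Q : Subgroup ↥(puigZRel (S : Subgroup G) ⊔
        Cfsg.pPrimeCore p G)) => ((t : ↥(puigZRel (S : Subgroup G) ⊔ Cfsg.pPrimeCore p G)) : G)) hj
      simpa using this
    have hk1 := pelem_pPrimeCore_eq_one p k hk j hj'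
    rw [hk1, mul_one] at hzk
    show (q : G) ∈ puigZRel (S : Subgroup G)
    rw [← hzk]; exact hz
  have hfr := Sylow.normalizer_sup_eq_top Q
  rw [hQeq] at hfr
  apply top_le_iff.1
  rw [← hfr]
  apply sup_le le_sup_right
  apply sup_le (Subgroup.le_normalizer.trans le_sup_right) le_sup_left

end Puig5

end Cfsg.Agent.Lib.Helper4
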