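import Mathlib

set_option autoImplicit false
open scoped BigOperators

namespace Cfsg.Agent.Lib.Helper4

section QuadCount

variable {G : Type*} [Group G]

open Classical in
/-- sign of the squaring map -/
noncomputable def qchi (x : G) : ℤ := if x * x = 1 then 1 else -1

open Classical in
/-- sign of the commutator pairing -/
noncomputable def qbeta (x w : G) : ℤ := if x * w = w * x then 1 else -1

/-- all squares and commutators lie in `{1, z}` with `z` a central involution -/
structure QData (z : G) : Prop where
  ne : z ≠ 1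
  zz : z * z = 1
  zc : ∀ g : G, g * z = z * g
  sq : ∀ g : G, g * g = 1 ∨ g * g = z
  cm : ∀ g h : G, g * h = h * g ∨ g * h = z * (h * g)

variable {z : G}

theorem qchi_of_one {x : G} (h : x * x = 1) : qchi x = 1 := if_pos h

theorem qchi_of_z (hq : QData z) {x : G} (h : x * x = z) : qchi x = -1 :=
  if_neg (by rw [h]; exact hq.ne)

theorem qbeta_of_comm {x w : G} (h : x * w = w * x) : qbeta x w = 1 := if_pos h

theorem qbeta_of_anti (hq : QData z) {x w : G} (h : x * w = z * (w * x)) : qbeta x w = -1 := by
  apply if_neg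
  intro h'
  apply hq.ne
  have h1 : z * (w * x) = 1 * (w * x) := by rw [← h, h', one_mul]
  exact mul_right_cancel h1

theorem qbeta_mul_self (x w : G) : qbeta x w * qbeta x w = 1 := by
  unfold qbeta; split_ifs <;> norm_num

theorem sq_mul_comm {a b : G} (h : a * b = b * a) : (a * b) * (a * b) = (a * a) * (b * b) := by
  calc (a * b) * (a * b) = a * (b * a) * b := by group
    _ = a * (a * b) * b := by rw [← h]
    _ = (a * a) * (b * b) := by group

theorem sq_mul_anti (hq : QData z) {a b : G} (h : a * b = z * (b * a)) :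
    (a * b) * (a * b) = z * ((a * a) * (b * b)) := by
  have h1 : b * a = z * (a * b) := by
    rw [h, ← mul_assoc, hq.zz, one_mul]
  calc (a * b) * (a * b) = a * (b * a) * b := by group
    _ = a * (z * (a * b)) * b := by rw [h1]
    _ = (a * z) * (a * b) * b := by group
    _ = (z * a) * (a * b) * b := by rw [hq.zc a]
    _ = z * ((a * a) * (b * b)) := by group

theorem qchi_mul (hq : QData z) (a b : G) : qchi (a * b) = qchi a * qchi b * qbeta a b := by
  rcases hq.cm a b with hab | hab
  · have hs := sq_mul_comm hab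
    rw [qbeta_of_comm hab]
    rcases hq.sq a with ha | ha <;> rcases hq.sq b with hb | hb
    · rw [qchi_of_one ha, qchi_of_one hb, qchi_of_one (by rw [hs, ha, hb, one_mul])]; norm_num
    · rw [qchi_of_one ha, qchi_of_z hq hb, qchi_of_z hq (by rw [hs, ha, hb, one_mul])]; norm_num
    · rw [qchi_of_z hq ha, qchi_of_one hb, qchi_of_z hq (by rw [hs, ha, hb, mul_one])]; norm_num
    · rw [qchi_of_z hq ha, qchi_of_z hq hb, qchi_of_one (by rw [hs, ha, hb, hq.zz])]; norm_num
  · have hs := sq_mul_anti hq hab
    rw [qbeta_of_anti hq hab]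
    rcases hq.sq a with ha | ha <;> rcases hq.sq b with hb | hb
    · rw [qchi_of_one ha, qchi_of_one hb,
        qchi_of_z hq (by rw [hs, ha, hb, one_mul, mul_one])]; norm_num
    · rw [qchi_of_one ha, qchi_of_z hq hb,
        qchi_of_one (by rw [hs, ha, hb, one_mul, hq.zz])]; norm_num
    · rw [qchi_of_z hq ha, qchi_of_one hb,
        qchi_of_one (by rw [hs, ha, hb, mul_one, hq.zz])]; norm_num
    · rw [qchi_of_z hq ha, qchi_of_z hq hb,
        qchi_of_z hq (by rw [hs, ha, hb, hq.zz, mul_one])]; norm_num

theorem qbeta_mul_left (hq : QData z) (t x w : G) :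
    qbeta (t * x) w = qbeta t w * qbeta x w := by
  rcases hq.cm t w with htw | htw <;> rcases hq.cm x w with hxw | hxw
  · have h : (t * x) * w = w * (t * x) := by
      calc (t * x) * w = t * (x * w) := by group
        _ = t * (w * x) := by rw [hxw]
        _ = (t * w) * x := by group
        _ = (w * t) * x := by rw [htw]
        _ = w * (t * x) := by group
    rw [qbeta_of_comm h, qbeta_of_comm htw, qbeta_of_comm hxw]; norm_num
  · have h : (t * x) * w = z * (w * (t * x)) := by
      calc (t * x) * w = t * (x * w) := by group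
        _ = t * (z * (w * x)) := by rw [hxw]
        _ = (t * z) * (w * x) := by group
        _ = (z * t) * (w * x) := by rw [hq.zc t]
        _ = z * ((t * w) * x) := by group
        _ = z * ((w * t) * x) := by rw [htw]
        _ = z * (w * (t * x)) := by group
    rw [qbeta_of_anti hq h, qbeta_of_comm htw, qbeta_of_anti hq hxw]; norm_num
  · have h : (t * x) * w = z * (w * (t * x)) := by
      calc (t * x) * w = t * (x * w) := by group
        _ = t * (w * x) := by rw [hxw]
        _ = (t * w) * x := by group
        _ = (z * (w * t)) * x := by rw [htw]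
        _ = z * (w * (t * x)) := by group
    rw [qbeta_of_anti hq h, qbeta_of_anti hq htw, qbeta_of_comm hxw]; norm_num
  · have h : (t * x) * w = w * (t * x) := by
      calc (t * x) * w = t * (x * w) := by group
        _ = t * (z * (w * x)) := by rw [hxw]
        _ = (t * z) * (w * x) := by group
        _ = (z * t) * (w * x) := by rw [hq.zc t]
        _ = z * ((t * w) * x) := by group
        _ = z * ((z * (w * t)) * x) := by rw [htw]
        _ = (z * z) * (w * (t * x)) := by group
        _ = w * (t * x) := by rw [hq.zz, one_mul]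
    rw [qbeta_of_comm h, qbeta_of_anti hq htw, qbeta_of_anti hq hxw]; norm_num

theorem qbeta_inv_mul (x w : G) : qbeta x (x⁻¹ * w) = qbeta x w := by
  have hiff : x * (x⁻¹ * w) = x⁻¹ * w * x ↔ x * w = w * x := by
    constructor
    · intro h
      have h1 : x * (x * (x⁻¹ * w)) = x * (x⁻¹ * w * x) := by rw [h]
      calc x * w = x * (x * (x⁻¹ * w)) := by group
        _ = x * (x⁻¹ * w * x) := h1
        _ = w * x := by group
    · intro h
      calc x * (x⁻¹ * w) = x⁻¹ * (x * w) := by group
        _ = x⁻¹ * (w * x) := by rw [h]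
        _ = x⁻¹ * w * x := by group
  by_cases h : x * w = w * x
  · rw [qbeta_of_comm h, qbeta_of_comm (hiff.2 h)]
  · have h' : ¬ (x * (x⁻¹ * w) = x⁻¹ * w * x) := fun h' => h (hiff.1 h')
    unfold qbeta
    rw [if_neg h, if_neg h']

theorem qchi_mul_inv (hq : QData z) (x w : G) :
    qchi x * qchi (x⁻¹ * w) = qchi w * qbeta x w := by
  have h1 := qchi_mul hq x (x⁻¹ * w)
  rw [mul_inv_cancel_left, qbeta_inv_mul] at h1
  rw [h1, mul_assoc, qbeta_mul_self, mul_one]

variable [Fintype G]

open Classical in
theorem sum_qbeta (hq : QData z) (w : G) :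
    ∑ x : G, qbeta x w = if w ∈ Subgroup.center G then (Fintype.card G : ℤ) else 0 := by
  classical
  by_cases hc : w ∈ Subgroup.center G
  · rw [if_pos hc]
    have h1 : ∀ x : G, qbeta x w = 1 := fun x =>
      qbeta_of_comm (Subgroup.mem_center_iff.1 hc x)
    simp only [h1, Finset.sum_const, Finset.card_univ, nsmul_eq_mul, mul_one]
  · rw [if_neg hc]
    rw [Subgroup.mem_center_iff, not_forall] at hc
    obtain ⟨t, ht⟩ := hc
    have htb : qbeta t w = -1 := if_neg ht
    have h1 : ∑ x : G, qbeta x w = ∑ x : G, qbeta (t * x) w :=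
      (Equiv.sum_comp (Equiv.mulLeft t) (fun x => qbeta x w)).symm
    have h2 : ∑ x : G, qbeta (t * x) w = - ∑ x : G, qbeta x w := by
      rw [← Finset.sum_neg_distrib]
      refine Finset.sum_congr rfl (fun x _ => ?_)
      rw [qbeta_mul_left hq, htb]; ring
    linarith

open Classical in
theorem qsum_sq (hq : QData z) :
    (∑ x : G, qchi x) * (∑ x : G, qchi x)
      = (Fintype.card G : ℤ) * ∑ w : G, (if w ∈ Subgroup.center G then qchi w else 0) := by
  classical
  rw [Fintype.sum_mul_sum]
  have h1 : ∀ x : G, ∑ y : G, qchi x * qchi y = ∑ w : G, qchi w * qbeta x w := by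
    intro x
    rw [← Equiv.sum_comp (Equiv.mulLeft x⁻¹) (fun y => qchi x * qchi y)]
    refine Finset.sum_congr rfl (fun w _ => ?_)
    exact qchi_mul_inv hq x w
  simp_rw [h1]
  rw [Finset.sum_comm]
  simp_rw [← Finset.mul_sum, sum_qbeta hq]
  rw [Finset.mul_sum]
  refine Finset.sum_congr rfl (fun w _ => ?_)
  split_ifs <;> ring

open Classical in
theorem qsum_center (hq : QData z) :
    (∑ w : G, (if w ∈ Subgroup.center G then qchi w else 0)) = 0 ∨
    ((∑ w : G, (if w ∈ Subgroup.center G then qchi w else 0)) = (Nat.card (Subgroup.center G) : ℤ)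
      ∧ ∀ w ∈ Subgroup.center G, w * w = 1) := by
  classical
  by_cases h : ∃ w0 ∈ Subgroup.center G, w0 * w0 ≠ 1
  · left
    obtain ⟨w0, hw0, hne⟩ := h
    have hw0z : qchi w0 = -1 := if_neg hne
    have h1 : (∑ w : G, (if w ∈ Subgroup.center G then qchi w else 0))
        = ∑ w : G, (if w0 * w ∈ Subgroup.center G then qchi (w0 * w) else 0) :=
      (Equiv.sum_comp (Equiv.mulLeft w0)
        (fun w => if w ∈ Subgroup.center G then qchi w else 0)).symm
    have h2 : ∑ w : G, (if w0 * w ∈ Subgroup.center G then qchi (w0 * w) else 0)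
        = - ∑ w : G, (if w ∈ Subgroup.center G then qchi w else 0) := by
      rw [← Finset.sum_neg_distrib]
      refine Finset.sum_congr rfl (fun w _ => ?_)
      have hiff : w0 * w ∈ Subgroup.center G ↔ w ∈ Subgroup.center G :=
        Subgroup.mul_mem_cancel_left _ hw0
      have hcomm : w0 * w = w * w0 := (Subgroup.mem_center_iff.1 hw0 w).symm
      rw [qchi_mul hq, qbeta_of_comm hcomm, hw0z]
      by_cases hw : w ∈ Subgroup.center G
      · rw [if_pos (hiff.2 hw), if_pos hw]; ring
      · rw [if_neg (fun h' => hw (hiff.1 h')), if_neg hw]; ring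
    linarith
  · right
    have hall : ∀ w ∈ Subgroup.center G, w * w = 1 := by
      intro w hw
      by_contra hne
      exact h ⟨w, hw, hne⟩
    refine ⟨?_, hall⟩
    have h1 : ∀ w : G, (if w ∈ Subgroup.center G then qchi w else 0)
        = (if w ∈ Subgroup.center G then (1 : ℤ) else 0) := by
      intro w
      by_cases hw : w ∈ Subgroup.center G
      · rw [if_pos hw, if_pos hw, qchi_of_one (hall w hw)]
      · rw [if_neg hw, if_neg hw]
    simp_rw [h1]
    rw [Finset.sum_boole, Nat.card_eq_fintype_card, Fintype.card_subtype]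

theorem qsum_eq_count :
    (∑ x : G, qchi x) = 2 * (Nat.card {x : G // x ^ 2 = 1} : ℤ) - (Fintype.card G : ℤ) := by
  classical
  have h1 : ∀ x : G, qchi x = 2 * (if x ^ 2 = 1 then (1 : ℤ) else 0) - 1 := by
    intro x
    unfold qchi
    rw [pow_two]
    split_ifs <;> norm_num
  simp_rw [h1]
  rw [Finset.sum_sub_distrib, ← Finset.mul_sum, Finset.sum_boole, Finset.sum_const,
    Finset.card_univ, Nat.card_eq_fintype_card, Fintype.card_subtype]
  simp

end QuadCount

end Cfsg.Agent.Lib.Helper4
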