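import Mathlib
import Cfsg.Prelude.Def_Transfer
import Cfsg.Agent.Lib.Helper1.PGroupMax
import Cfsg.Agent.Lib.Helper4.QuadCount

set_option autoImplicit false
open scoped BigOperators

namespace Cfsg.Agent.Lib.Helper4

open scoped commutatorElement

section QuadCount2

variable {G : Type*} [Group G] [Finite G]

/-- an elementary abelian 2-group has trivial Frattini subgroup (element form) -/
theorem not_mem_frattini_of_exp_two (hall : ∀ x : G, x * x = 1) (z : G) (hz : z ≠ 1) :
    z ∉ frattini G := by
  classical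
  intro hzΦ
  have hinv : ∀ x : G, x⁻¹ = x := fun x => inv_eq_of_mul_eq_one_left (hall x)
  have hcomm : ∀ x y : G, x * y = y * x := by
    intro x y
    have h1 : (x * y)⁻¹ = x * y := hinv _
    rw [mul_inv_rev, hinv, hinv] at h1
    exact h1.symm
  letI : CommGroup G := { ‹Group G› with mul_comm := hcomm }
  obtain ⟨M, hM, hmax⟩ := Set.exists_max_image {M : Subgroup G | z ∉ M}
    (fun M => Nat.card M) (Set.toFinite _) ⟨⊥, fun h => hz (Subgroup.mem_bot.1 h)⟩
  have hMz : z ∉ M := hM
  have hstruct : ∀ g : G, g ∉ M → ∃ m ∈ M, g = m * z := by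
    intro g hg
    have hlt : M < M ⊔ Subgroup.zpowers g := by
      apply lt_of_le_of_ne le_sup_left
      intro h
      apply hg
      rw [h]
      exact (le_sup_right : Subgroup.zpowers g ≤ M ⊔ Subgroup.zpowers g) (Subgroup.mem_zpowers g)
    have hzin : z ∈ M ⊔ Subgroup.zpowers g := by
      by_contra hnot
      have h1 := hmax (M ⊔ Subgroup.zpowers g) hnot
      have h2 : Nat.card M < Nat.card (M ⊔ Subgroup.zpowers g : Subgroup G) := by
        apply lt_of_le_of_ne (Subgroup.card_le_of_le hlt.le)
        intro heq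
        exact hlt.ne (Subgroup.eq_of_le_of_card_ge hlt.le heq.ge)
      omega
    rw [Subgroup.mem_sup] at hzin
    obtain ⟨m, hm, y, hy, hmy⟩ := hzin
    rw [Subgroup.mem_zpowers_iff] at hy
    obtain ⟨k, hk⟩ := hy
    have hy' : y = 1 ∨ y = g := by
      rcases Int.even_or_odd k with ⟨t, ht⟩ | ⟨t, ht⟩
      · left
        rw [← hk, ht, ← two_mul, zpow_mul, zpow_two, hall, one_zpow]
      · right
        rw [← hk, ht, zpow_add, zpow_mul, zpow_two, hall, one_zpow, one_mul, zpow_one]
    rcases hy' with hy1 | hy1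
    · exfalso
      rw [hy1, mul_one] at hmy
      exact hMz (hmy ▸ hm)
    · refine ⟨m⁻¹, M.inv_mem hm, ?_⟩
      rw [← hmy, hy1]; group
  have hco : IsCoatom M := by
    refine ⟨fun h => hMz (h ▸ Subgroup.mem_top z), ?_⟩
    intro K hK
    obtain ⟨g, hgK, hgM⟩ := SetLike.exists_of_lt hK
    obtain ⟨m, hm, hgm⟩ := hstruct g hgM
    have hzK : z ∈ K := by
      have : z = m⁻¹ * g := by rw [hgm]; group
      rw [this]
      exact K.mul_mem (K.inv_mem (hK.le hm)) hgK
    rw [eq_top_iff]
    intro g' _
    by_cases hg' : g' ∈ M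
    · exact hK.le hg'
    · obtain ⟨m', hm', hg'm⟩ := hstruct g' hg'
      rw [hg'm]
      exact K.mul_mem (hK.le hm') hzK
  exact hMz (frattini_le_coatom hco hzΦ)

theorem invol_count_frattini_two (hG : IsPGroup 2 G) (hΦ : Nat.card (frattini G) = 2) (d : ℕ)
    (hd : (frattini G).index = 2 ^ d) :
    (Nat.card {x : G // x ^ 2 = 1} = 2 ^ d ∨ ∃ r : ℕ, 1 ≤ r ∧ 2 * r ≤ d ∧
      (Nat.card {x : G // x ^ 2 = 1} = 2 ^ d + 2 ^ (d - r) ∨
        Nat.card {x : G // x ^ 2 = 1} + 2 ^ (d - r) = 2 ^ d)) ∧
    (∀ r : ℕ, d = 2 * r →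
      (Nat.card {x : G // x ^ 2 = 1} = 2 ^ d + 2 ^ r ∨
        Nat.card {x : G // x ^ 2 = 1} + 2 ^ r = 2 ^ d) → Cfsg.IsExtraspecial 2 G) := by
  classical
  haveI : Fact (Nat.Prime 2) := ⟨Nat.prime_two⟩
  haveI : Fintype G := Fintype.ofFinite G
  -- the element z
  have hΦne : frattini G ≠ ⊥ := by
    intro h
    rw [h, Subgroup.card_bot] at hΦ
    omega
  obtain ⟨⟨z, hzΦ⟩, hzne⟩ := Subgroup.ne_bot_iff_exists_ne_one.1 hΦne
  have hz1 : z ≠ 1 := fun h => hzne (Subtype.ext h)
  have hmem : ∀ w ∈ frattini G, w = 1 ∨ w = z := by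
    intro w hw
    by_cases hw1 : w = 1
    · exact Or.inl hw1
    · right
      obtain ⟨y, _, hy2⟩ := (Nat.card_eq_two_iff' (1 : frattini G)).1 hΦ
      have e1 : (⟨w, hw⟩ : frattini G) = y := hy2 _ (fun h => hw1 (congrArg Subtype.val h))
      have e2 : (⟨z, hzΦ⟩ : frattini G) = y := hy2 _ hzne
      have := e1.trans e2.symm
      exact congrArg Subtype.val this
  have hsqmem : ∀ g : G, g * g ∈ frattini G := by
    intro g
    unfold frattini Order.radical
    simp only [Subgroup.mem_iInf]
    intro M hM
    have hco : IsCoatom M := hM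
    have := Cfsg.Agent.Lib.Helper1.pow_mem_coatom_of_isPGroup hG hco g
    rwa [pow_two] at this
  have hcmmem : ∀ g h : G, ⁅g, h⁆ ∈ frattini G := by
    intro g h
    unfold frattini Order.radical
    simp only [Subgroup.mem_iInf]
    intro M hM
    have hco : IsCoatom M := hM
    exact Cfsg.Agent.Lib.Helper1.commutator_le_coatom_of_isPGroup hG hco
      (Subgroup.commutator_mem_commutator (Subgroup.mem_top _) (Subgroup.mem_top _))
  have hzz : z * z = 1 := by
    rcases hmem _ (hsqmem z) with h | h
    · exact h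
    · exfalso
      apply hz1
      have : z * z = z * 1 := by rw [h, mul_one]
      exact mul_left_cancel this
  have hzc : ∀ g : G, g * z = z * g := by
    intro g
    have hn : (frattini G).Normal := inferInstance
    have h1 : g * z * g⁻¹ ∈ frattini G := hn.conj_mem z hzΦ g
    rcases hmem _ h1 with h | h
    · exfalso
      apply hz1
      have : z = g⁻¹ * (g * z * g⁻¹) * g := by group
      rw [this, h]; group
    · calc g * z = (g * z * g⁻¹) * g := by group
        _ = z * g := by rw [h]
  have hq : QData z := by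
    refine ⟨hz1, hzz, hzc, fun g => hmem _ (hsqmem g), ?_⟩
    intro g h
    have h1 := hcmmem g h
    rw [commutatorElement_def] at h1
    rcases hmem _ h1 with h2 | h2
    · left
      calc g * h = (g * h * g⁻¹ * h⁻¹) * (h * g) := by group
        _ = h * g := by rw [h2, one_mul]
    · right
      calc g * h = (g * h * g⁻¹ * h⁻¹) * (h * g) := by group
        _ = z * (h * g) := by rw [h2]
  -- not all squares are trivial
  have hF5 : ∃ x : G, x * x ≠ 1 := by
    by_contra hno
    have hall : ∀ x : G, x * x = 1 := by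
      intro x
      by_contra hx
      exact hno ⟨x, hx⟩
    exact not_mem_frattini_of_exp_two hall z hz1 hzΦ
  -- cardinalities
  have hcardG : Nat.card G = 2 ^ (d + 1) := by
    rw [← (frattini G).card_mul_index, hΦ, hd, pow_succ, mul_comm]
  have hFc : (Fintype.card G : ℤ) = 2 ^ (d + 1) := by
    rw [← Nat.card_eq_fintype_card, hcardG]; norm_num
  obtain ⟨j, hjdef⟩ : ∃ j : ℕ, j = Nat.card {x : G // x ^ 2 = 1} := ⟨_, rfl⟩
  rw [← hjdef]
  have hj1 : 1 ≤ j := by
    rw [hjdef]
    haveI : Nonempty {x : G // x ^ 2 = 1} := ⟨⟨1, one_pow 2⟩⟩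
    exact Nat.card_pos
  obtain ⟨S, hSdef⟩ : ∃ S : ℤ, S = ∑ x : G, qchi x := ⟨_, rfl⟩
  have hS1 : S = 2 * (j : ℤ) - 2 ^ (d + 1) := by
    rw [hSdef, qsum_eq_count, hFc, hjdef]
  have hS2 := qsum_sq hq
  rw [← hSdef, hFc] at hS2
  have hpow : (2 : ℤ) ^ (d + 1) = 2 * 2 ^ d := by rw [pow_succ]; ring
  rcases qsum_center hq with hT | ⟨hT, hcs⟩
  · -- S = 0
    rw [hT, mul_zero] at hS2
    have hS0 : S = 0 := by
      rcases mul_eq_zero.1 hS2 with h | h <;> exact h
    have hj : (j : ℤ) = 2 ^ d := by
      rw [hS1, hpow] at hS0; linarith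
    have hjn : j = 2 ^ d := by exact_mod_cast hj
    refine ⟨Or.inl hjn, ?_⟩
    intro r _ hr
    exfalso
    have hpos : 0 < 2 ^ r := Nat.pow_pos (by norm_num)
    rcases hr with hr | hr <;> omega
  · -- S * S = |G| |Z|
    have hnc : ¬ (∀ x y : G, x * y = y * x) := by
      intro hc
      obtain ⟨x, hx⟩ := hF5
      apply hx
      apply hcs x
      rw [Subgroup.mem_center_iff]
      intro g
      exact hc g x
    obtain ⟨c, hc⟩ := IsPGroup.iff_card.1 (hG.to_subgroup (Subgroup.center G))
    obtain ⟨e, he⟩ := IsPGroup.iff_card.1 (hG.to_quotient (Subgroup.center G))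
    have hce : c + e = d + 1 := by
      have h1 := (Subgroup.center G).card_mul_index
      rw [hc, hcardG] at h1
      have h2 : (Subgroup.center G).index = 2 ^ e := he
      rw [h2, ← pow_add] at h1
      exact Nat.pow_right_injective (le_refl 2) h1
    have he2 : 2 ≤ e := by
      by_contra hlt
      apply hnc
      have hcyc : IsCyclic (G ⧸ Subgroup.center G) := by
        have he' : e = 0 ∨ e = 1 := by omega
        rcases he' with h | h
        · rw [h, pow_zero] at he
          haveI : Subsingleton (G ⧸ Subgroup.center G) :=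
            (Nat.card_eq_one_iff_unique.1 he).1
          exact isCyclic_of_subsingleton
        · rw [h, pow_one] at he
          exact isCyclic_of_prime_card he
      haveI := hcyc
      have hmc : IsMulCommutative G := isMulCommutative_of_isCyclic_quotient_center_self G
      intro x y
      exact mul_comm' x y
    have hc1 : 1 ≤ c := by
      rcases Nat.eq_zero_or_pos c with h | h
      · exfalso
        rw [h, pow_zero] at hc
        have hbot : Subgroup.center G = ⊥ := Subgroup.card_eq_one.1 hc
        have hzcen : z ∈ Subgroup.center G := by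
          rw [Subgroup.mem_center_iff]; exact hzc
        rw [hbot] at hzcen
        exact hz1 (Subgroup.mem_bot.1 hzcen)
      · exact h
    rw [hT, hc] at hS2
    have hS2' : S * S = 2 ^ (d + 1 + c) := by
      rw [hS2]; push_cast; ring
    -- natAbs
    obtain ⟨s0, hs0⟩ : ∃ s0 : ℕ, s0 = S.natAbs := ⟨_, rfl⟩
    have hs0sq : s0 * s0 = 2 ^ (d + 1 + c) := by
      have h1 : ((s0 * s0 : ℕ) : ℤ) = 2 ^ (d + 1 + c) := by
        rw [hs0, Nat.cast_mul, Int.natAbs_mul_self' ]
        exact hS2'
      exact_mod_cast h1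
    obtain ⟨m, _, hm⟩ := (Nat.dvd_prime_pow Nat.prime_two).1 (Dvd.intro s0 hs0sq)
    have hmm : m + m = d + 1 + c := by
      rw [hm, ← pow_add] at hs0sq
      exact Nat.pow_right_injective (le_refl 2) hs0sq
    have hSabs : S = 2 ^ m ∨ S = -2 ^ m := by
      have h1 := Int.natAbs_eq S
      rw [← hs0, hm] at h1
      rcases h1 with h | h
      · left; rw [h]; norm_num
      · right; rw [h]; norm_num
    have hm1 : 1 ≤ m := by omega
    have hmd : m ≤ d := by omega
    obtain ⟨m', hm'⟩ : ∃ m' : ℕ, m = m' + 1 := ⟨m - 1, by omega⟩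
    have hpm : (2 : ℤ) ^ m = 2 * 2 ^ m' := by rw [hm', pow_succ]; ring
    constructor
    · right
      refine ⟨d + 1 - m, by omega, by omega, ?_⟩
      have hdr : d - (d + 1 - m) = m' := by omega
      rw [hdr]
      rcases hSabs with h | h
      · left
        have h1 : (j : ℤ) = 2 ^ d + 2 ^ m' := by
          rw [hS1, hpow, hpm] at h; linarith
        exact_mod_cast h1
      · right
        have h1 : (j : ℤ) + 2 ^ m' = 2 ^ d := by
          rw [hS1, hpow, hpm] at h; linarith
        exact_mod_cast h1
    · intro r hdr hr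
      have hSr : S = 2 * 2 ^ r ∨ S = -(2 * 2 ^ r) := by
        rcases hr with hr | hr
        · left
          have h1 : (j : ℤ) = 2 ^ d + 2 ^ r := by exact_mod_cast hr
          rw [hS1, hpow, h1]; ring
        · right
          have h1 : (j : ℤ) + 2 ^ r = 2 ^ d := by exact_mod_cast hr
          rw [hS1, hpow, ← h1]; ring
      have hSS : S * S = 2 ^ (2 * r + 2) := by
        rcases hSr with h | h <;> rw [h] <;> ring
      have hexp : (2 : ℤ) ^ (d + 1 + c) = 2 ^ (2 * r + 2) := by rw [← hS2', hSS]
      have hexp' : (2 : ℕ) ^ (d + 1 + c) = 2 ^ (2 * r + 2) := by exact_mod_cast hexp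
      have hc' : d + 1 + c = 2 * r + 2 := Nat.pow_right_injective (le_refl 2) hexp'
      have hc1' : c = 1 := by omega
      have hZcard : Nat.card (Subgroup.center G) = 2 := by rw [hc, hc1']; norm_num
      have hΦZ : frattini G = Subgroup.center G := by
        apply Subgroup.eq_of_le_of_card_ge
        · intro w hw
          rcases hmem w hw with h | h
          · rw [h]; exact Subgroup.one_mem _
          · rw [h, Subgroup.mem_center_iff]; exact hzc
        · rw [hZcard, hΦ]
      have hcomΦ : commutator G = frattini G := by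
        apply Subgroup.eq_of_le_of_card_ge
        · rw [commutator_def, Subgroup.commutator_le]
          intro g _ h _
          exact hcmmem g h
        · rw [hΦ]
          have hne : commutator G ≠ ⊥ := by
            intro hbot
            apply hnc
            intro x y
            have h1 : ⁅x, y⁆ ∈ commutator G :=
              Subgroup.commutator_mem_commutator (Subgroup.mem_top _) (Subgroup.mem_top _)
            rw [hbot, Subgroup.mem_bot, commutatorElement_def] at h1
            calc x * y = (x * y * x⁻¹ * y⁻¹) * (y * x) := by group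
              _ = y * x := by rw [h1, one_mul]
          have h1 : Nat.card (commutator G) ≠ 1 := fun h => hne (Subgroup.card_eq_one.1 h)
          have h2 : 0 < Nat.card (commutator G) := Nat.card_pos
          omega
      exact ⟨⟨hG, hΦZ, hcomΦ.trans hΦZ⟩, hZcard⟩

end QuadCount2

end Cfsg.Agent.Lib.Helper4
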