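import Mathlib

/-! Quadratic pairs: two unipotent quadratic operators whose product is unipotent generate a p-group. -/

namespace Cfsg.Agent.Lib.Helper4

section QuadPairA

variable {K : Type*} [Field K] {W : Type*} [AddCommGroup W] [Module K W]

/-- The descending chain `F 0 = ⊤`, `F (i+1) = A (F i) + B (F i)`. -/
def qpF (A B : Module.End K W) : ℕ → Submodule K W
  | 0 => ⊤
  | (i+1) => (qpF A B i).map A ⊔ (qpF A B i).map B

theorem qpF_succ (A B : Module.End K W) (i : ℕ) :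
    qpF A B (i+1) = (qpF A B i).map A ⊔ (qpF A B i).map B := rfl

theorem qpF_anti (A B : Module.End K W) (i : ℕ) : qpF A B (i+1) ≤ qpF A B i := by
  induction i with
  | zero => exact le_top
  | succ i ih =>
    rw [qpF_succ A B (i+1), qpF_succ A B i]
    exact sup_le_sup (Submodule.map_mono ih) (Submodule.map_mono ih)

theorem qpF_memA (A B : Module.End K W) (i : ℕ) {x : W} (hx : x ∈ qpF A B i) :
    A x ∈ qpF A B (i+1) := by
  rw [qpF_succ]
  exact Submodule.mem_sup_left (Submodule.mem_map_of_mem hx)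

theorem qpF_memB (A B : Module.End K W) (i : ℕ) {x : W} (hx : x ∈ qpF A B i) :
    B x ∈ qpF A B (i+1) := by
  rw [qpF_succ]
  exact Submodule.mem_sup_right (Submodule.mem_map_of_mem hx)

theorem qpF_step (A B : Module.End K W) (hA : A * A = 0) (hB : B * B = 0) (i : ℕ) :
    qpF A B (i+3) ≤ (qpF A B (i+1)).map (A * B + B * A) := by
  intro x hx
  have hAA : ∀ y, A (A y) = 0 := fun y => by
    have := LinearMap.congr_fun hA y
    simpa using this
  have hBB : ∀ y, B (B y) = 0 := fun y => by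
    have := LinearMap.congr_fun hB y
    simpa using this
  rw [qpF_succ A B (i+2)] at hx
  obtain ⟨x1, hx1, x2, hx2, rfl⟩ := Submodule.mem_sup.1 hx
  obtain ⟨y1, hy1, rfl⟩ := Submodule.mem_map.1 hx1
  obtain ⟨y2, hy2, rfl⟩ := Submodule.mem_map.1 hx2
  rw [qpF_succ A B (i+1)] at hy1 hy2
  obtain ⟨u1, hu1, u2, hu2, rfl⟩ := Submodule.mem_sup.1 hy1
  obtain ⟨z1, hz1, rfl⟩ := Submodule.mem_map.1 hu1
  obtain ⟨z2, hz2, rfl⟩ := Submodule.mem_map.1 hu2
  obtain ⟨u3, hu3, u4, hu4, rfl⟩ := Submodule.mem_sup.1 hy2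
  obtain ⟨z3, hz3, rfl⟩ := Submodule.mem_map.1 hu3
  obtain ⟨z4, hz4, rfl⟩ := Submodule.mem_map.1 hu4
  rw [qpF_succ A B i] at hz2 hz3
  obtain ⟨s1, hs1, s2, hs2, rfl⟩ := Submodule.mem_sup.1 hz2
  obtain ⟨t1, ht1, rfl⟩ := Submodule.mem_map.1 hs1
  obtain ⟨t2, ht2, rfl⟩ := Submodule.mem_map.1 hs2
  obtain ⟨s3, hs3, s4, hs4, rfl⟩ := Submodule.mem_sup.1 hz3
  obtain ⟨t3, ht3, rfl⟩ := Submodule.mem_map.1 hs3
  obtain ⟨t4, ht4, rfl⟩ := Submodule.mem_map.1 hs4
  refine Submodule.mem_map.2 ⟨A t1 + B t4, ?_, ?_⟩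
  · exact add_mem (qpF_memA A B i ht1) (qpF_memB A B i ht4)
  · simp only [LinearMap.add_apply, Module.End.mul_apply, map_add, hAA, hBB, add_zero, zero_add, map_zero]

theorem qpF_le_range (A B : Module.End K W) (hA : A * A = 0) (hB : B * B = 0) (k : ℕ) :
    qpF A B (2*k+1) ≤ LinearMap.range ((A * B + B * A)^k) := by
  induction k with
  | zero =>
    rw [pow_zero]
    intro x _
    exact ⟨x, rfl⟩
  | succ k ih =>
    have h1 : 2*(k+1)+1 = (2*k) + 3 := by ring
    rw [h1]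
    refine (qpF_step A B hA hB (2*k)).trans ?_
    refine (Submodule.map_mono ih).trans ?_
    intro x hx
    obtain ⟨y, ⟨z, rfl⟩, rfl⟩ := Submodule.mem_map.1 hx
    exact ⟨z, by rw [pow_succ', Module.End.mul_apply]⟩

/-- The group of automorphisms acting trivially on the factors of the chain. -/
def qpU (A B : Module.End K W) : Subgroup (W ≃ₗ[K] W) where
  carrier := {h | (∀ i x, x ∈ qpF A B i → h x - x ∈ qpF A B (i+1)) ∧
    (∀ i x, x ∈ qpF A B i → h⁻¹ x - x ∈ qpF A B (i+1))}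
  mul_mem' := by
    have aux : ∀ f g : W ≃ₗ[K] W, (∀ i x, x ∈ qpF A B i → f x - x ∈ qpF A B (i+1)) →
        (∀ i x, x ∈ qpF A B i → g x - x ∈ qpF A B (i+1)) →
        ∀ i x, x ∈ qpF A B i → f (g x) - x ∈ qpF A B (i+1) := by
      intro f g hf hg i x hx
      have h1 := hg i x hx
      have h2 := hf (i+1) _ h1
      have h3 := hf i x hx
      have h4 : f (g x) - x = (f (g x - x) - (g x - x)) + (g x - x) + (f x - x) := by
        rw [map_sub]; abel
      rw [h4]
      exact add_mem (add_mem (qpF_anti A B (i+1) h2) h1) h3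
    rintro f g ⟨hf1, hf2⟩ ⟨hg1, hg2⟩
    refine ⟨fun i x hx => aux f g hf1 hg1 i x hx, fun i x hx => ?_⟩
    have : (f * g)⁻¹ = g⁻¹ * f⁻¹ := mul_inv_rev f g
    rw [this]
    exact aux g⁻¹ f⁻¹ hg2 hf2 i x hx
  one_mem' := by
    refine ⟨fun i x _ => ?_, fun i x _ => ?_⟩
    · simp
    · simp
  inv_mem' := by
    rintro h ⟨h1, h2⟩
    refine ⟨h2, ?_⟩
    rw [inv_inv]
    exact h1

theorem qpU_pow_mem (A B : Module.End K W) {h : W ≃ₗ[K] W} (hh : h ∈ qpU A B) (i : ℕ) (x : W) :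
    (((h : W →ₗ[K] W) - 1 : Module.End K W)^i) x ∈ qpF A B i := by
  induction i with
  | zero => exact Submodule.mem_top
  | succ i ih =>
    rw [pow_succ', Module.End.mul_apply]
    have := hh.1 i _ ih
    simpa using this

theorem qpU_isPGroup (p : ℕ) [Fact p.Prime] [CharP K p] [Nontrivial W] (A B : Module.End K W)
    (M : ℕ) (hM : qpF A B M = ⊥) : IsPGroup p (qpU A B) := by
  haveI : CharP (Module.End K W) p := by
    apply charP_of_injective_algebraMap (R := K) (A := Module.End K W) _ p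
    intro c d hcd
    obtain ⟨w, hw⟩ := exists_ne (0 : W)
    have := LinearMap.congr_fun hcd w
    simp only [Module.algebraMap_end_apply] at this
    have h2 : (c - d) • w = 0 := by rw [sub_smul, this, sub_self]
    rcases smul_eq_zero.1 h2 with h | h
    · exact sub_eq_zero.1 h
    · exact absurd h hw
  rintro ⟨h, hh⟩
  have hp : p.Prime := Fact.out
  refine ⟨M, ?_⟩
  apply Subtype.ext
  show h ^ (p^M) = 1
  have h0 : (((h : W →ₗ[K] W) - 1 : Module.End K W)^M) = 0 := by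
    ext x
    have := qpU_pow_mem A B hh M x
    rw [hM] at this
    simpa using this
  have h1 : (((h : W →ₗ[K] W) - 1 : Module.End K W)^(p^M)) = 0 :=
    pow_eq_zero_of_le (Nat.lt_pow_self hp.one_lt).le h0
  have h2 : (((h : W →ₗ[K] W) - 1 : Module.End K W)^(p^M)) = ((h : W →ₗ[K] W) : Module.End K W)^(p^M) - 1 := by
    rw [sub_pow_char_pow_of_commute p M (Commute.one_right _), one_pow]
  rw [h2, sub_eq_zero] at h1
  apply LinearEquiv.toLinearMap_injective
  have h3 : ((h ^ (p^M) : W ≃ₗ[K] W) : W →ₗ[K] W) = ((h : W →ₗ[K] W) : Module.End K W)^(p^M) :=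
    map_pow (LinearEquiv.automorphismGroup.toLinearMapMonoidHom (R := K) (M := W)) h (p^M)
  rw [h3, h1]
  rfl

end QuadPairA

end Cfsg.Agent.Lib.Helper4
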