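import Cfsg.Agent.Lib.Helper4.QuadPair1

/-! Quadratic pairs: the unipotent case and the eigenvalue dichotomy. -/

namespace Cfsg.Agent.Lib.Helper4

open Polynomial

section QuadPairB

variable {K : Type*} [Field K] {W : Type*} [AddCommGroup W] [Module K W]

theorem qp_sq_apply (a : W ≃ₗ[K] W) (ha : ∀ w, a (a w - w) = a w - w) (x : W) :
    a (a x) = a x + a x - x := by
  have := ha x
  rw [map_sub, sub_eq_iff_eq_add] at this
  rw [this]; abel

theorem qp_inv_apply (a : W ≃ₗ[K] W) (ha : ∀ w, a (a w - w) = a w - w) (x : W) :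
    a⁻¹ x = x + x - a x := by
  show a.symm x = _
  rw [LinearEquiv.symm_apply_eq, map_sub, map_add, qp_sq_apply a ha x]
  abel

theorem qp_unipotent (p : ℕ) [Fact p.Prime] [CharP K p] [Nontrivial W] (a b : W ≃ₗ[K] W)
    (ha : ∀ w, a (a w - w) = a w - w) (hb : ∀ w, b (b w - w) = b w - w) (N : ℕ)
    (hN : ((((a * b : W ≃ₗ[K] W) : W →ₗ[K] W) - 1 : Module.End K W))^N = 0) :
    IsPGroup p (Subgroup.closure ({a, b} : Set (W ≃ₗ[K] W))) := by
  obtain ⟨A, hAdef⟩ : ∃ A : Module.End K W, A = (a : W →ₗ[K] W) - 1 := ⟨_, rfl⟩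
  obtain ⟨B, hBdef⟩ : ∃ B : Module.End K W, B = (b : W →ₗ[K] W) - 1 := ⟨_, rfl⟩
  obtain ⟨g, hgdef⟩ : ∃ g : Module.End K W, g = ((a * b : W ≃ₗ[K] W) : W →ₗ[K] W) := ⟨_, rfl⟩
  obtain ⟨g', hg'def⟩ : ∃ g' : Module.End K W, g' = (((a * b)⁻¹ : W ≃ₗ[K] W) : W →ₗ[K] W) :=
    ⟨_, rfl⟩
  have hAapp : ∀ w, A w = a w - w := fun w => by rw [hAdef]; rfl
  have hBapp : ∀ w, B w = b w - w := fun w => by rw [hBdef]; rfl
  have hgapp : ∀ w, g w = a (b w) := fun w => by rw [hgdef]; rfl
  have hg'app : ∀ w, g' w = b⁻¹ (a⁻¹ w) := fun w => by rw [hg'def, mul_inv_rev]; rfl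
  have hA : A * A = 0 := by
    ext w
    rw [Module.End.mul_apply, hAapp, hAapp, ha w, sub_self]; rfl
  have hB : B * B = 0 := by
    ext w
    rw [Module.End.mul_apply, hBapp, hBapp, hb w, sub_self]; rfl
  have hg'g : g' * g = 1 := by
    ext w
    rw [Module.End.mul_apply, hg'app, hgapp]
    show b.symm (a.symm (a (b w))) = w
    rw [LinearEquiv.symm_apply_apply, LinearEquiv.symm_apply_apply]
  have hgg' : g * g' = 1 := by
    ext w
    rw [Module.End.mul_apply, hg'app, hgapp]
    show a (b (b.symm (a.symm w))) = w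
    rw [LinearEquiv.apply_symm_apply, LinearEquiv.apply_symm_apply]
  have hC : A * B + B * A = g + g' - 1 - 1 := by
    ext w
    simp only [LinearMap.add_apply, LinearMap.sub_apply, Module.End.mul_apply, hAapp, hBapp,
      hgapp, hg'app, Module.End.one_apply]
    rw [qp_inv_apply a ha w, qp_inv_apply b hb]
    simp only [map_sub, map_add]
    abel
  have hC2 : A * B + B * A = g' * ((g - 1) * (g - 1)) := by
    rw [hC]
    have : g' * ((g - 1) * (g - 1)) = (g' * g) * g - (g' * g) - (g' * g) + g' := by noncomm_ring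
    rw [this, hg'g, one_mul]
    abel
  have hcomm1 : Commute g' g := by
    show g' * g = g * g'
    rw [hg'g, hgg']
  have hcomm2 : Commute g' (g - 1) := hcomm1.sub_right (Commute.one_right _)
  have hcomm : Commute g' ((g - 1) * (g - 1)) := hcomm2.mul_right hcomm2
  have hN' : (g - 1)^N = 0 := by rw [hgdef]; exact hN
  have hCN : (A * B + B * A)^N = 0 := by
    rw [hC2, hcomm.mul_pow, (Commute.refl (g - 1)).mul_pow, hN', mul_zero, mul_zero]
  have hF : qpF A B (2*N+1) = ⊥ := by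
    rw [eq_bot_iff]
    refine (qpF_le_range A B hA hB N).trans ?_
    rw [hCN]
    intro x hx
    obtain ⟨y, rfl⟩ := hx
    simp
  refine (qpU_isPGroup p A B (2*N+1) hF).to_le ?_
  rw [Subgroup.closure_le]
  intro h hh
  rcases hh with rfl | hh
  · refine ⟨fun i x hx => ?_, fun i x hx => ?_⟩
    · rw [← hAapp x]; exact qpF_memA A B i hx
    · rw [qp_inv_apply h ha x]
      have : x + x - h x - x = A (-x) := by rw [hAapp, map_neg]; abel
      rw [this]
      exact qpF_memA A B i (neg_mem hx)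
  · rw [Set.mem_singleton_iff] at hh
    subst hh
    refine ⟨fun i x hx => ?_, fun i x hx => ?_⟩
    · rw [← hBapp x]; exact qpF_memB A B i hx
    · rw [qp_inv_apply h hb x]
      have : x + x - h x - x = B (-x) := by rw [hBapp, map_neg]; abel
      rw [this]
      exact qpF_memB A B i (neg_mem hx)

theorem qp_dichotomy [Fintype K] (p : ℕ) [Fact p.Prime] [CharP K p] [FiniteDimensional K W]
    [Nontrivial W]
    (g : W ≃ₗ[K] W) (e k : ℕ) (hg : g^(p^e*k) = 1) (hk : k ∣ Fintype.card K - 1) :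
    (∃ (ν : K) (v : W), ν ≠ 1 ∧ v ≠ 0 ∧ g v = ν • v) ∨
      ∃ N, (((g : W →ₗ[K] W) - 1 : Module.End K W))^N = 0 := by
  haveI : CharP (Module.End K W) p := by
    apply charP_of_injective_algebraMap (R := K) (A := Module.End K W) _ p
    intro c d hcd
    obtain ⟨w, hw⟩ := exists_ne (0 : W)
    have := LinearMap.congr_fun hcd w
    simp only [Module.algebraMap_end_apply] at this
    have h2 : (c - d) • w = 0 := by rw [sub_smul, this, sub_self]
    rcases smul_eq_zero.1 h2 with h | h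
    · exact sub_eq_zero.1 h
    · exact absurd h hw
  obtain ⟨T, hTdef⟩ : ∃ T : Module.End K W, T = (g : W →ₗ[K] W) := ⟨_, rfl⟩
  obtain ⟨q, hqdef⟩ : ∃ q : ℕ, q = Fintype.card K := ⟨_, rfl⟩
  have hq1 : 1 < q := hqdef ▸ Fintype.one_lt_card
  have hTpow : ∀ n : ℕ, T^n = ((g^n : W ≃ₗ[K] W) : W →ₗ[K] W) := fun n => by
    rw [hTdef]
    exact (map_pow (LinearEquiv.automorphismGroup.toLinearMapMonoidHom (R := K) (M := W)) g n).symm
  have hT1 : T^(p^e*k) = 1 := by rw [hTpow, hg]; rfl
  obtain ⟨c, hc⟩ := hk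
  have hs : (T^(p^e))^q = T^(p^e) := by
    have h1 : q = k * c + 1 := by rw [← hc, hqdef]; omega
    rw [h1, pow_succ, pow_mul, ← pow_mul T, hT1, one_pow, one_mul]
  have haeval : aeval T ((X^q - X : K[X])^(p^e)) = 0 := by
    rw [map_pow, map_sub, map_pow, aeval_X]
    rw [sub_pow_char_pow_of_commute p e ((Commute.refl T).pow_left q), ← pow_mul, mul_comm, pow_mul,
      hs, sub_self]
  have hint : IsIntegral K T := Algebra.IsIntegral.isIntegral T
  have hdvd : minpoly K T ∣ (X^q - X : K[X])^(p^e) := minpoly.dvd K T haeval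
  have hQ0 : ((X^q - X : K[X])^(p^e)) ≠ 0 := pow_ne_zero _ (FiniteField.X_pow_card_sub_X_ne_zero K hq1)
  have hsp0 : Splits (X^q - X : K[X]) := by
    rw [splits_iff_card_roots, hqdef, FiniteField.roots_X_pow_card_sub_X,
      FiniteField.X_pow_card_sub_X_natDegree_eq K (hqdef ▸ hq1)]
    simp
  have hsp : Splits (minpoly K T) := Splits.of_dvd (hsp0.pow _) hQ0 hdvd
  have hmonic : (minpoly K T).Monic := minpoly.monic hint
  have hP0 : minpoly K T ≠ 0 := hmonic.ne_zero
  by_cases hex : ∃ ν ∈ (minpoly K T).roots, ν ≠ 1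
  · left
    obtain ⟨ν, hν, hν1⟩ := hex
    have hroot : (minpoly K T).IsRoot ν := (mem_roots hP0).1 hν
    have hev : Module.End.HasEigenvalue T ν := Module.End.hasEigenvalue_of_isRoot hroot
    obtain ⟨v, hv⟩ := hev.exists_hasEigenvector
    refine ⟨ν, v, hν1, hv.2, ?_⟩
    have := hv.apply_eq_smul
    rw [hTdef] at this
    exact this
  · right
    have hall : ∀ ν ∈ (minpoly K T).roots, ν = 1 := by
      intro ν hν
      by_contra h
      exact hex ⟨ν, hν, h⟩
    have hrep : (minpoly K T).roots = Multiset.replicate (Multiset.card (minpoly K T).roots) 1 :=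
      Multiset.eq_replicate.2 ⟨rfl, hall⟩
    have hP := hsp.eq_prod_roots_of_monic hmonic
    rw [hrep, Multiset.map_replicate, Multiset.prod_replicate] at hP
    refine ⟨Multiset.card (minpoly K T).roots, ?_⟩
    have h0 := minpoly.aeval K T
    rw [hP, map_pow, map_sub, aeval_X, aeval_C, map_one] at h0
    rw [← hTdef]
    exact h0

end QuadPairB

end Cfsg.Agent.Lib.Helper4
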