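import Cfsg.Agent.Lib.Helper4.QuadPair2

/-! Quadratic pairs: the homomorphism to SL2 from an eigenvector of the product. -/

namespace Cfsg.Agent.Lib.Helper4

open Module

section QuadPairC

variable {K : Type*} [Field K] {W : Type*} [AddCommGroup W] [Module K W]

theorem qp_eig_one (a : W ≃ₗ[K] W) (ha : ∀ w, a (a w - w) = a w - w) (v : W) (hv : v ≠ 0)
    (c : K) (hc : a v = c • v) : c = 1 := by
  have h1 := ha v
  rw [hc] at h1
  have h2 : a (c • v - v) = (c - 1) • (c • v) := by
    rw [show c • v - v = (c - 1) • v by rw [sub_smul, one_smul], map_smul, hc]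
  rw [h2] at h1
  have h3 : ((c - 1) * (c - 1)) • v = 0 := by
    have : (c - 1) • (c • v) - (c • v - v) = 0 := sub_eq_zero.2 h1
    rw [← this]
    module
  rcases smul_eq_zero.1 h3 with h | h
  · exact sub_eq_zero.1 (mul_self_eq_zero.1 h)
  · exact absurd h hv

theorem qp_not_smul (a b : W ≃ₗ[K] W) (ha : ∀ w, a (a w - w) = a w - w)
    (hb : ∀ w, b (b w - w) = b w - w) (v : W) (hv : v ≠ 0) (lam : K) (hlam : lam ≠ 1)
    (hab : a (b v) = lam • v) (c : K) : b v ≠ c • v := by
  intro hc
  have hc1 : c = 1 := qp_eig_one b hb v hv c hc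
  rw [hc1, one_smul] at hc
  rw [hc] at hab
  exact hlam (qp_eig_one a ha v hv lam hab)

/-- The stabilizer of a subspace. -/
def qpStab (U : Submodule K W) : Subgroup (W ≃ₗ[K] W) where
  carrier := {h | (∀ x ∈ U, h x ∈ U) ∧ (∀ x ∈ U, h⁻¹ x ∈ U)}
  mul_mem' := by
    rintro f g ⟨hf1, hf2⟩ ⟨hg1, hg2⟩
    refine ⟨fun x hx => hf1 _ (hg1 x hx), fun x hx => ?_⟩
    rw [mul_inv_rev]
    exact hg2 _ (hf2 x hx)
  one_mem' := ⟨fun x hx => hx, fun x hx => by simpa using hx⟩
  inv_mem' := by
    rintro h ⟨h1, h2⟩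
    exact ⟨h2, by rw [inv_inv]; exact h1⟩

/-- Restriction to the subspace. -/
def qpRes (U : Submodule K W) : qpStab U →* Module.End K U where
  toFun h := (h.1 : W →ₗ[K] W).restrict h.2.1
  map_one' := by ext x; rfl
  map_mul' := by intro f g; ext x; rfl

theorem qpRes_coe (U : Submodule K W) (h : qpStab U) (x : U) :
    ((qpRes U h x : U) : W) = h.1 (x : W) := rfl

/-- The matrix of the restriction. -/
noncomputable def qpMat (U : Submodule K W) (bU : Basis (Fin 2) K U) :
    qpStab U →* Matrix (Fin 2) (Fin 2) K where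
  toFun h := LinearMap.toMatrix bU bU (qpRes U h)
  map_one' := by rw [map_one]; exact LinearMap.toMatrix_one bU
  map_mul' := by intro f g; rw [map_mul]; exact LinearMap.toMatrix_mul bU _ _

theorem qp_repr {v w : W} (hli : LinearIndependent K ![v, w]) (α β : K)
    (x : Submodule.span K (Set.range ![v, w])) (hx : (x : W) = α • v + β • w) :
    (Basis.span hli).repr x 0 = α ∧ (Basis.span hli).repr x 1 = β := by
  have hx' : x = α • (Basis.span hli 0) + β • (Basis.span hli 1) := by
    apply Subtype.ext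
    rw [hx]
    simp [Basis.span_apply]
  rw [hx']
  constructor
  · simp only [map_add, map_smul, Basis.repr_self, Finsupp.add_apply, Finsupp.smul_apply,
      Finsupp.single_apply, smul_eq_mul]
    simp
  · simp only [map_add, map_smul, Basis.repr_self, Finsupp.add_apply, Finsupp.smul_apply,
      Finsupp.single_apply, smul_eq_mul]
    simp

theorem qpMat_det {v w : W} (hli : LinearIndependent K ![v, w])
    (h : qpStab (Submodule.span K (Set.range ![v, w]))) (α β γ δ : K)
    (h1 : h.1 v = α • v + β • w) (h2 : h.1 w = γ • v + δ • w) :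
    (qpMat _ (Basis.span hli) h).det = α * δ - γ * β := by
  rw [Matrix.det_fin_two]
  have e0 : ((qpRes _ h (Basis.span hli 0) : Submodule.span K (Set.range ![v, w])) : W)
      = α • v + β • w := by
    rw [qpRes_coe, Basis.coe_span_apply]; exact h1
  have e1 : ((qpRes _ h (Basis.span hli 1) : Submodule.span K (Set.range ![v, w])) : W)
      = γ • v + δ • w := by
    rw [qpRes_coe, Basis.coe_span_apply]; exact h2
  have r0 := qp_repr hli α β _ e0
  have r1 := qp_repr hli γ δ _ e1
  show LinearMap.toMatrix _ _ _ 0 0 * LinearMap.toMatrix _ _ _ 1 1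
    - LinearMap.toMatrix _ _ _ 0 1 * LinearMap.toMatrix _ _ _ 1 0 = _
  rw [LinearMap.toMatrix_apply, LinearMap.toMatrix_apply, LinearMap.toMatrix_apply,
    LinearMap.toMatrix_apply, r0.1, r0.2, r1.1, r1.2]

theorem qp_hom (p : ℕ) [Fact p.Prime] [CharP K p] (a b : W ≃ₗ[K] W)
    (ha : ∀ w, a (a w - w) = a w - w) (hb : ∀ w, b (b w - w) = b w - w)
    (v : W) (hv : v ≠ 0) (lam : K) (hlam : lam ≠ 1) (hab : a (b v) = lam • v) :
    ∃ φ : Subgroup.closure ({a, b} : Set (W ≃ₗ[K] W)) →* Matrix.SpecialLinearGroup (Fin 2) K,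
      ¬ IsPGroup p φ.range := by
  obtain ⟨w, hwdef⟩ : ∃ w : W, w = b v := ⟨_, rfl⟩
  have hlam0 : lam ≠ 0 := by
    intro h0
    rw [h0, zero_smul] at hab
    have h1 : b v = 0 := by
      have := congrArg a.symm hab
      simpa using this
    have h2 : v = 0 := by
      have := congrArg b.symm h1
      simpa using this
    exact hv h2
  have hbv : b v = (0:K) • v + (1:K) • w := by rw [hwdef]; simp
  have hbw : b w = (-1:K) • v + (2:K) • w := by
    rw [hwdef, qp_sq_apply b hb v]; module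
  have haw : a w = lam • v + (0:K) • w := by rw [hwdef, hab]; simp
  have hav : a v = (2:K) • v + (-lam⁻¹) • w := by
    have h1 : v = lam⁻¹ • a w := by rw [haw]; simp [smul_smul, inv_mul_cancel₀ hlam0]
    have h2 : a v = lam⁻¹ • a (a w) := by rw [← map_smul, ← h1]
    rw [h2, qp_sq_apply a ha w, haw]
    simp only [zero_smul, add_zero, smul_sub, smul_add, smul_smul, inv_mul_cancel₀ hlam0, one_smul]
    module
  have hli : LinearIndependent K ![v, w] :=
    (LinearIndependent.pair_iff' hv).2 (fun c hc =>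
      qp_not_smul a b ha hb v hv lam hlam hab c (by rw [← hwdef]; exact hc.symm))
  obtain ⟨U, hUdef⟩ : ∃ U : Submodule K W, U = Submodule.span K (Set.range ![v, w]) := ⟨_, rfl⟩
  have hvU : v ∈ U := by
    rw [hUdef]; exact Submodule.subset_span ⟨0, rfl⟩
  have hwU : w ∈ U := by
    rw [hUdef]; exact Submodule.subset_span ⟨1, rfl⟩
  have hUle : ∀ f : W ≃ₗ[K] W, f v ∈ U → f w ∈ U → ∀ x ∈ U, f x ∈ U := by
    intro f hfv hfw x hx
    have : U ≤ U.comap (f : W →ₗ[K] W) := by
      conv_lhs => rw [hUdef]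
      rw [Submodule.span_le]
      rintro y ⟨i, rfl⟩
      fin_cases i
      · exact hfv
      · exact hfw
    exact this hx
  have haU : ∀ x ∈ U, a x ∈ U := hUle a
    (by rw [hav]; exact add_mem (U.smul_mem _ hvU) (U.smul_mem _ hwU))
    (by rw [haw]; exact add_mem (U.smul_mem _ hvU) (U.smul_mem _ hwU))
  have hbU : ∀ x ∈ U, b x ∈ U := hUle b
    (by rw [hbv]; exact add_mem (U.smul_mem _ hvU) (U.smul_mem _ hwU))
    (by rw [hbw]; exact add_mem (U.smul_mem _ hvU) (U.smul_mem _ hwU))
  have haS : a ∈ qpStab U := ⟨haU, fun x hx => by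
    rw [qp_inv_apply a ha x]; exact sub_mem (add_mem hx hx) (haU x hx)⟩
  have hbS : b ∈ qpStab U := ⟨hbU, fun x hx => by
    rw [qp_inv_apply b hb x]; exact sub_mem (add_mem hx hx) (hbU x hx)⟩
  have hH : Subgroup.closure ({a, b} : Set (W ≃ₗ[K] W)) ≤ qpStab U := by
    rw [Subgroup.closure_le]
    intro h hh
    rcases hh with rfl | hh
    · exact haS
    · rw [Set.mem_singleton_iff] at hh; subst hh; exact hbS
  subst hUdef
  have hdeta : (qpMat _ (Basis.span hli) ⟨a, haS⟩).det = 1 := by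
    rw [qpMat_det hli ⟨a, haS⟩ 2 (-lam⁻¹) lam 0 hav haw]
    rw [mul_neg, mul_inv_cancel₀ hlam0]
    ring
  have hdetb : (qpMat _ (Basis.span hli) ⟨b, hbS⟩).det = 1 := by
    rw [qpMat_det hli ⟨b, hbS⟩ 0 1 (-1) 2 hbv hbw]
    ring
  have hdet : ∀ h (hh : h ∈ Subgroup.closure ({a, b} : Set (W ≃ₗ[K] W))),
      (qpMat _ (Basis.span hli) ⟨h, hH hh⟩).det = 1 := by
    intro h hh
    induction hh using Subgroup.closure_induction with
    | mem x hx =>
      rcases hx with rfl | hx
      · exact hdeta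
      · rw [Set.mem_singleton_iff] at hx; subst hx; exact hdetb
    | one =>
      show (qpMat _ (Basis.span hli) 1).det = 1
      rw [map_one, Matrix.det_one]
    | mul x y hx hy ihx ihy =>
      have : (⟨x * y, hH (mul_mem hx hy)⟩ : qpStab _) = ⟨x, hH hx⟩ * ⟨y, hH hy⟩ := rfl
      rw [this, map_mul, Matrix.det_mul, ihx, ihy, one_mul]
    | inv x hx ih =>
      have : (⟨x⁻¹, hH (inv_mem hx)⟩ : qpStab _) = (⟨x, hH hx⟩ : qpStab _)⁻¹ := rfl
      have h1 : qpMat _ (Basis.span hli) ((⟨x, hH hx⟩ : qpStab _)⁻¹)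
          * qpMat _ (Basis.span hli) ⟨x, hH hx⟩ = 1 := by
        rw [← map_mul, inv_mul_cancel, map_one]
      have h2 := congrArg Matrix.det h1
      rw [Matrix.det_mul, ih, mul_one, Matrix.det_one] at h2
      rw [this]; exact h2
  let φ : Subgroup.closure ({a, b} : Set (W ≃ₗ[K] W)) →* Matrix.SpecialLinearGroup (Fin 2) K :=
    { toFun := fun h => ⟨qpMat _ (Basis.span hli) ⟨h.1, hH h.2⟩, hdet h.1 h.2⟩
      map_one' := by
        apply Subtype.ext
        show qpMat _ (Basis.span hli) 1 = 1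
        exact map_one _
      map_mul' := by
        intro f g
        apply Subtype.ext
        show qpMat _ (Basis.span hli) (⟨f.1, hH f.2⟩ * ⟨g.1, hH g.2⟩) = _
        rw [map_mul]
        rfl }
  refine ⟨φ, ?_⟩
  intro hP
  have hp : p.Prime := Fact.out
  obtain ⟨γ, hγdef⟩ : ∃ γ : Subgroup.closure ({a, b} : Set (W ≃ₗ[K] W)), γ.1 = a * b :=
    ⟨⟨a * b, mul_mem (Subgroup.subset_closure (by simp)) (Subgroup.subset_closure (by simp))⟩, rfl⟩
  obtain ⟨j, hj⟩ := hP ⟨φ γ, γ, rfl⟩
  have hj1 : (φ γ)^(p^j) = 1 := by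
    have := congrArg Subtype.val hj
    simpa using this
  rw [← map_pow] at hj1
  have hj2 : qpMat _ (Basis.span hli) ⟨(γ^(p^j)).1, hH (γ^(p^j)).2⟩ = 1 := by
    have := congrArg Subtype.val hj1
    exact this
  have hj3 : qpRes _ ⟨(γ^(p^j)).1, hH (γ^(p^j)).2⟩ = 1 := by
    apply (LinearMap.toMatrix (Basis.span hli) (Basis.span hli)).injective
    rw [LinearMap.toMatrix_one]
    exact hj2
  have hj4 : (γ^(p^j)).1 v = v := by
    have := congrArg (fun f : Module.End K _ => ((f (Basis.span hli 0) : _) : W)) hj3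
    simp only [qpRes_coe, Module.End.one_apply, Basis.coe_span_apply] at this
    exact this
  have hpow : ∀ n : ℕ, ((a * b)^n) v = lam^n • v := by
    intro n
    induction n with
    | zero => simp
    | succ n ih =>
      rw [pow_succ, LinearEquiv.mul_apply, LinearEquiv.mul_apply, hab, map_smul, ih, smul_smul,
        pow_succ, mul_comm]
  rw [Subgroup.coe_pow, hγdef, hpow] at hj4
  have h5 : (lam^(p^j) - 1) • v = 0 := by rw [sub_smul, one_smul, hj4, sub_self]
  rcases smul_eq_zero.1 h5 with h | h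
  · have h6 : (lam - 1)^(p^j) = 0 := by rw [sub_pow_char_pow, one_pow]; exact h
    exact hlam (sub_eq_zero.1 (pow_eq_zero_iff (pow_ne_zero _ hp.ne_zero) |>.1 h6))
  · exact hv h

end QuadPairC

end Cfsg.Agent.Lib.Helper4
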