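import Cfsg.Agent.Lib.Helper4.QuadPair3
import Mathlib

/-! Quadratic pairs over the prime field: base change to a finite field that splits the
product, and the resulting homomorphism to SL2. -/

namespace Cfsg.Agent.Lib.Helper4

open TensorProduct

section QuadPairD

theorem qp_pow_apply {K : Type*} [Field K] {W : Type*} [AddCommGroup W] [Module K W]
    (a : W ≃ₗ[K] W) (ha : ∀ w, a (a w - w) = a w - w) (n : ℕ) (w : W) :
    (a ^ n) w = w + n • (a w - w) := by
  induction n with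
  | zero => simp
  | succ n ih =>
    rw [pow_succ', LinearEquiv.mul_apply, ih, map_add, map_nsmul, ha w, succ_nsmul]
    abel

theorem qp_pow_char (p : ℕ) [Fact p.Prime] {W : Type*} [AddCommGroup W] [Module (ZMod p) W]
    (a : W ≃ₗ[ZMod p] W) (ha : ∀ w, a (a w - w) = a w - w) : a ^ p = 1 := by
  ext w
  rw [qp_pow_apply a ha p w, ZModModule.char_nsmul_eq_zero p, add_zero]
  rfl

variable (p : ℕ) [Fact p.Prime] (K : Type*) [Field K] [Algebra (ZMod p) K]
  {W : Type*} [AddCommGroup W] [Module (ZMod p) W]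

/-- Base change of linear automorphisms, as a group homomorphism. -/
noncomputable def qpBC : (W ≃ₗ[ZMod p] W) →* ((K ⊗[ZMod p] W) ≃ₗ[K] (K ⊗[ZMod p] W)) where
  toFun e := LinearEquiv.baseChange (ZMod p) K W W e
  map_one' := LinearEquiv.baseChange_one (ZMod p) K W
  map_mul' e f := LinearEquiv.baseChange_mul (ZMod p) K W e f

theorem qpBC_tmul (e : W ≃ₗ[ZMod p] W) (c : K) (w : W) :
    qpBC p K e (c ⊗ₜ[ZMod p] w) = c ⊗ₜ[ZMod p] e w :=
  LinearEquiv.baseChange_tmul (ZMod p) K W W c w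

theorem qpBC_injective : Function.Injective (qpBC p K (W := W)) := by
  rw [injective_iff_map_eq_one]
  intro e he
  ext w
  have h1 : qpBC p K e ((1 : K) ⊗ₜ[ZMod p] w) = (1 : K) ⊗ₜ[ZMod p] w := by rw [he]; rfl
  rw [qpBC_tmul] at h1
  exact Module.Flat.tensorProduct_mk_injective (ZMod p) W K h1

theorem qpBC_quadratic (e : W ≃ₗ[ZMod p] W) (he : ∀ w, e (e w - w) = e w - w)
    (x : K ⊗[ZMod p] W) : qpBC p K e (qpBC p K e x - x) = qpBC p K e x - x := by
  induction x using TensorProduct.induction_on with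
  | zero => simp
  | tmul c w =>
    rw [qpBC_tmul, ← TensorProduct.tmul_sub, qpBC_tmul, he w]
  | add x y hx hy =>
    have h1 : qpBC p K e (x + y) - (x + y) = (qpBC p K e x - x) + (qpBC p K e y - y) := by
      rw [map_add]; abel
    rw [h1, map_add, hx, hy]

theorem qp_sl2_hom_aux (p : ℕ) [Fact p.Prime] (K : Type*) [Field K] [Fintype K] [CharP K p]
    [Algebra (ZMod p) K] {Γ : Type*} [Group Γ] [Finite Γ]
    {W : Type*} [AddCommGroup W] [Module (ZMod p) W] [Finite W]
    (ρ : Γ →* (W ≃ₗ[ZMod p] W)) (hρ : Function.Injective ρ) (a b : Γ)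
    (ha : ∀ w, ρ a (ρ a w - w) = ρ a w - w) (hb : ∀ w, ρ b (ρ b w - w) = ρ b w - w)
    (hnp : ¬ IsPGroup p (Subgroup.closure ({a, b} : Set Γ)))
    (e k : ℕ) (hek : orderOf (a * b) = p ^ e * k) (hkdvd : k ∣ Fintype.card K - 1) :
    ∃ φ : Subgroup.closure ({a, b} : Set Γ) →* Matrix.SpecialLinearGroup (Fin 2) K,
      ¬ IsPGroup p φ.range := by
  haveI : Nontrivial W := by
    by_contra hW
    rw [not_nontrivial_iff_subsingleton] at hW
    apply hnp
    intro x
    refine ⟨0, ?_⟩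
    rw [pow_zero, pow_one]
    apply Subtype.ext
    apply hρ
    ext w
    exact Subsingleton.elim _ _
  obtain ⟨f, hf⟩ : ∃ f : Γ →* ((K ⊗[ZMod p] W) ≃ₗ[K] (K ⊗[ZMod p] W)),
    f = (qpBC p K).comp ρ := ⟨_, rfl⟩
  have hfinj : Function.Injective f := by rw [hf]; exact (qpBC_injective p K).comp hρ
  have ha' : ∀ x, f a (f a x - x) = f a x - x := by
    rw [hf]; exact qpBC_quadratic p K (ρ a) ha
  have hb' : ∀ x, f b (f b x - x) = f b x - x := by
    rw [hf]; exact qpBC_quadratic p K (ρ b) hb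
  have hg : (f a * f b) ^ (p ^ e * k) = 1 := by
    rw [← map_mul, ← map_pow, ← hek, pow_orderOf_eq_one, map_one]
  haveI : Nontrivial (K ⊗[ZMod p] W) := by
    obtain ⟨w, hw⟩ := exists_ne (0 : W)
    refine ⟨⟨(1:K) ⊗ₜ[ZMod p] w, 0, ?_⟩⟩
    intro h
    apply hw
    apply Module.Flat.tensorProduct_mk_injective (ZMod p) W K
    rw [map_zero]; exact h
  have hle : Subgroup.closure ({a, b} : Set Γ) ≤ (Subgroup.closure {f a, f b}).comap f := by
    rw [Subgroup.closure_le]
    intro x hx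
    rcases hx with rfl | rfl
    · exact Subgroup.subset_closure (Set.mem_insert _ _)
    · exact Subgroup.subset_closure (Set.mem_insert_of_mem _ rfl)
  obtain ⟨ψ, hψ⟩ : ∃ ψ : Subgroup.closure ({a, b} : Set Γ) →* Subgroup.closure {f a, f b},
      ∀ x, (ψ x : (K ⊗[ZMod p] W) ≃ₗ[K] (K ⊗[ZMod p] W)) = f x :=
    ⟨(f.comp (Subgroup.closure ({a, b} : Set Γ)).subtype).codRestrict
      (Subgroup.closure {f a, f b}) (fun x => hle x.2), fun x => rfl⟩
  have hψinj : Function.Injective ψ := by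
    intro x y hxy
    apply Subtype.ext
    apply hfinj
    rw [← hψ, ← hψ, hxy]
  have hψsurj : Function.Surjective ψ := by
    rintro ⟨y, hy⟩
    have : Subgroup.closure {f a, f b} ≤ (Subgroup.closure ({a, b} : Set Γ)).map f := by
      rw [Subgroup.closure_le]
      intro z hz
      rcases hz with rfl | rfl
      · exact ⟨a, Subgroup.subset_closure (Set.mem_insert _ _), rfl⟩
      · exact ⟨b, Subgroup.subset_closure (Set.mem_insert_of_mem _ rfl), rfl⟩
    obtain ⟨x, hx, hxy⟩ := this hy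
    exact ⟨⟨x, hx⟩, Subtype.ext (by rw [hψ]; exact hxy)⟩
  rcases qp_dichotomy p (f a * f b) e k hg hkdvd with ⟨ν, v, hν, hv, hgv⟩ | ⟨N, hN⟩
  · obtain ⟨φ', hφ'⟩ := qp_hom p (f a) (f b) ha' hb' v hv ν hν hgv
    refine ⟨φ'.comp ψ, ?_⟩
    intro hP
    apply hφ'
    rintro ⟨y, z, rfl⟩
    obtain ⟨x, rfl⟩ := hψsurj z
    obtain ⟨j, hj⟩ := hP ⟨φ' (ψ x), x, rfl⟩
    exact ⟨j, Subtype.ext (by simpa using congrArg Subtype.val hj)⟩
  · exfalso
    apply hnp
    exact IsPGroup.of_injective (qp_unipotent p (f a) (f b) ha' hb' N hN) ψ hψinj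

/-- **T1**: two quadratic elements of a faithful `F_p`-representation generating a group that is
not a `p`-group yield a homomorphism to `SL(2, K)`, `K` a finite field of characteristic `p`,
whose image is not a `p`-group. -/
theorem qp_sl2_hom (p : ℕ) [Fact p.Prime] {Γ : Type*} [Group Γ] [Finite Γ]
    {W : Type*} [AddCommGroup W] [Module (ZMod p) W] [Finite W]
    (ρ : Γ →* (W ≃ₗ[ZMod p] W)) (hρ : Function.Injective ρ) (a b : Γ)
    (ha : ∀ w, ρ a (ρ a w - w) = ρ a w - w) (hb : ∀ w, ρ b (ρ b w - w) = ρ b w - w)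
    (hnp : ¬ IsPGroup p (Subgroup.closure ({a, b} : Set Γ))) :
    ∃ (K : Type) (_ : Field K) (_ : Fintype K) (_ : CharP K p)
      (φ : Subgroup.closure ({a, b} : Set Γ) →* Matrix.SpecialLinearGroup (Fin 2) K),
      ¬ IsPGroup p φ.range := by
  have hp := (Fact.out : p.Prime)
  obtain ⟨e, k, hpk, hek⟩ :=
    Nat.exists_eq_pow_mul_and_not_dvd (orderOf_pos (a * b)).ne' p hp.ne_one
  have hk0 : k ≠ 0 := by rintro rfl; exact hpk (dvd_zero p)
  have hcop : Nat.Coprime p k := (Nat.Prime.coprime_iff_not_dvd hp).2 hpk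
  have hn0 : Nat.totient k ≠ 0 := (Nat.totient_pos.2 (Nat.pos_of_ne_zero hk0)).ne'
  letI : Fintype (GaloisField p (Nat.totient k)) := Fintype.ofFinite _
  have hcard : Fintype.card (GaloisField p (Nat.totient k)) = p ^ (Nat.totient k) := by
    rw [← Nat.card_eq_fintype_card]; exact GaloisField.card p _ hn0
  have hkdvd : k ∣ Fintype.card (GaloisField p (Nat.totient k)) - 1 := by
    rw [hcard]
    exact (Nat.modEq_iff_dvd' (Nat.one_le_pow _ _ hp.pos)).1 (Nat.ModEq.pow_totient hcop).symm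
  obtain ⟨φ, hφ⟩ := qp_sl2_hom_aux p (GaloisField p (Nat.totient k)) ρ hρ a b ha hb hnp e k hek hkdvd
  exact ⟨GaloisField p (Nat.totient k), inferInstance, inferInstance, inferInstance, φ, hφ⟩

end QuadPairD

end Cfsg.Agent.Lib.Helper4
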