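import Mathlib

set_option autoImplicit false

namespace Cfsg.Agent.Lib.Helper4

section QuatSquare

theorem card_inf_ker_mul_card_map {V W : Type*} [Group V] [Group W] [Finite V] (f : V →* W)
    (M : Subgroup V) :
    Nat.card (M ⊓ f.ker : Subgroup V) * Nat.card (M.map f) = Nat.card M := by
  obtain ⟨g, hg⟩ : ∃ g : M →* W, g = f.comp M.subtype := ⟨_, rfl⟩
  have h1 : Nat.card g.ker * g.ker.index = Nat.card M := Subgroup.card_mul_index g.ker
  have h2 : g.ker.index = Nat.card g.range := Subgroup.index_ker g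
  have h3 : g.range = M.map f := by
    rw [hg, ← MonoidHom.map_range, Subgroup.range_subtype]
  have h4 : Nat.card g.ker = Nat.card (M ⊓ f.ker : Subgroup V) := by
    have : g.ker = (M ⊓ f.ker).subgroupOf M := by
      ext x
      rw [hg, MonoidHom.mem_ker, Subgroup.mem_subgroupOf, Subgroup.mem_inf, MonoidHom.mem_ker]
      constructor
      · intro h; exact ⟨x.2, h⟩
      · intro h; exact h.2
    rw [this]
    exact Nat.card_congr (Subgroup.subgroupOfEquivOfLe inf_le_left).toEquiv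
  rw [h4, h2, h3] at h1
  exact h1

theorem quat_card_sq_aux {V : Type*} [CommGroup V] [Finite V] (α β : V →* V)
    (hα : ∀ v, α (α v) = v⁻¹) (hβ : ∀ v, β (β v) = v⁻¹)
    (hαβ : ∀ v, α (β v) = (β (α v))⁻¹) :
    ∀ n : ℕ, ∀ M : Subgroup V, Nat.card M = n → Odd n → (∀ v ∈ M, α v ∈ M) →
      (∀ v ∈ M, β v ∈ M) → IsSquare n := by
  intro n
  induction n using Nat.strong_induction_on with
  | _ n ih =>
  intro M hM hodd hMα hMβ
  by_cases hn1 : n = 1
  · rw [hn1]; exact ⟨1, rfl⟩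
  obtain ⟨r, hr, hrn⟩ := Nat.exists_prime_and_dvd hn1
  haveI : Fact r.Prime := ⟨hr⟩
  obtain ⟨f, hf⟩ : ∃ f : V →* V, f = powMonoidHom r := ⟨_, rfl⟩
  have hfapply : ∀ v, f v = v ^ r := fun v => by rw [hf]; rfl
  obtain ⟨M₁, hM₁⟩ : ∃ M₁ : Subgroup V, M₁ = M ⊓ f.ker := ⟨_, rfl⟩
  obtain ⟨M₂, hM₂⟩ : ∃ M₂ : Subgroup V, M₂ = M.map f := ⟨_, rfl⟩
  have hcard : Nat.card M₁ * Nat.card M₂ = n := by
    rw [hM₁, hM₂, card_inf_ker_mul_card_map, hM]
  have hM₁ne : 1 < Nat.card M₁ := by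
    obtain ⟨x, hx⟩ := exists_prime_orderOf_dvd_card' (G := M) r (hM ▸ hrn)
    have hxM₁ : (x : V) ∈ M₁ := by
      rw [hM₁]
      refine Subgroup.mem_inf.mpr ⟨x.2, ?_⟩
      rw [MonoidHom.mem_ker, hfapply]
      have := pow_orderOf_eq_one x
      rw [hx] at this
      have h2 := congrArg Subtype.val this
      simpa using h2
    have hx1 : (x : V) ≠ 1 := by
      intro h
      have : x = 1 := Subtype.ext h
      rw [this, orderOf_one] at hx
      exact hr.one_lt.ne hx
    by_contra hle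
    push Not at hle
    have hpos : 0 < Nat.card M₁ := Nat.card_pos
    have h1 : Nat.card M₁ = 1 := by omega
    have := Subgroup.card_eq_one.mp h1
    rw [this, Subgroup.mem_bot] at hxM₁
    exact hx1 hxM₁
  have hnpos : 0 < n := by rcases hodd with ⟨k, hk⟩; omega
  have hM₂lt : Nat.card M₂ < n := by
    have hpos2 : 0 < Nat.card M₂ := Nat.card_pos
    nlinarith
  have hM₁α : ∀ v ∈ M₁, α v ∈ M₁ := by
    intro v hv
    rw [hM₁] at hv ⊢
    obtain ⟨hv1, hv2⟩ := Subgroup.mem_inf.mp hv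
    refine Subgroup.mem_inf.mpr ⟨hMα v hv1, ?_⟩
    rw [MonoidHom.mem_ker, hfapply] at hv2 ⊢
    rw [← map_pow, hv2, map_one]
  have hM₁β : ∀ v ∈ M₁, β v ∈ M₁ := by
    intro v hv
    rw [hM₁] at hv ⊢
    obtain ⟨hv1, hv2⟩ := Subgroup.mem_inf.mp hv
    refine Subgroup.mem_inf.mpr ⟨hMβ v hv1, ?_⟩
    rw [MonoidHom.mem_ker, hfapply] at hv2 ⊢
    rw [← map_pow, hv2, map_one]
  have hM₂α : ∀ v ∈ M₂, α v ∈ M₂ := by
    intro v hv
    rw [hM₂] at hv ⊢
    obtain ⟨m, hm, rfl⟩ := hv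
    exact ⟨α m, hMα m hm, by rw [hfapply, hfapply, map_pow]⟩
  have hM₂β : ∀ v ∈ M₂, β v ∈ M₂ := by
    intro v hv
    rw [hM₂] at hv ⊢
    obtain ⟨m, hm, rfl⟩ := hv
    exact ⟨β m, hMβ m hm, by rw [hfapply, hfapply, map_pow]⟩
  have hodd12 : Odd (Nat.card M₁) ∧ Odd (Nat.card M₂) := Nat.odd_mul.mp (hcard ▸ hodd)
  by_cases hlt : Nat.card M₁ < n
  · have s1 := ih _ hlt M₁ rfl hodd12.1 hM₁α hM₁β
    have s2 := ih _ hM₂lt M₂ rfl hodd12.2 hM₂α hM₂β
    rw [← hcard]; exact s1.mul s2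
  · have hM₁le : M₁ ≤ M := hM₁ ▸ inf_le_left
    have hcardeq : Nat.card M₁ = n := by
      have : Nat.card M₁ ≤ n := by rw [← hM]; exact Subgroup.card_le_of_le hM₁le
      omega
    have hM₁eq : M₁ = M := Subgroup.eq_of_le_of_card_ge hM₁le (by rw [hcardeq, hM])
    have hexp : ∀ v ∈ M, v ^ r = 1 := by
      intro v hv
      rw [← hM₁eq, hM₁] at hv
      have := (Subgroup.mem_inf.mp hv).2
      rwa [MonoidHom.mem_ker, hfapply] at this
    obtain ⟨a, b, hab⟩ := ZMod.sq_add_sq r (-1)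
    obtain ⟨x, hx⟩ : ∃ x : ℕ, x = a.val := ⟨_, rfl⟩
    obtain ⟨y, hy⟩ : ∃ y : ℕ, y = b.val := ⟨_, rfl⟩
    have hxy : r ∣ x * x + y * y + 1 := by
      rw [← ZMod.natCast_eq_zero_iff]
      push_cast
      rw [hx, hy, ZMod.natCast_zmod_val, ZMod.natCast_zmod_val]
      have : a * a + b * b = -1 := by rw [← hab]; ring
      rw [this]; ring
    obtain ⟨T, hT⟩ : ∃ T : V →* V, T = ((powMonoidHom x).comp α) * ((powMonoidHom y).comp β) :=
      ⟨_, rfl⟩
    have hTapply : ∀ v, T v = (α v) ^ x * (β v) ^ y := fun v => by rw [hT]; rfl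
    have hMT : ∀ v ∈ M, T v ∈ M := by
      intro v hv
      rw [hTapply]
      exact M.mul_mem (M.pow_mem (hMα v hv) x) (M.pow_mem (hMβ v hv) y)
    have hβα : ∀ v, β (α v) = (α (β v))⁻¹ := fun v => by rw [hαβ, inv_inv]
    -- T T v = v on M
    have hTT : ∀ v ∈ M, T (T v) = v := by
      intro v hv
      obtain ⟨c, hc⟩ : ∃ c, c = β (α v) := ⟨_, rfl⟩
      have e1 : α (T v) = (v⁻¹) ^ x * (c⁻¹) ^ y := by
        rw [hTapply, map_mul, map_pow, map_pow, hα, hαβ, ← hc]
      have e2 : β (T v) = c ^ x * (v⁻¹) ^ y := by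
        rw [hTapply, map_mul, map_pow, map_pow, hβ, ← hc]
      have e3 : T (T v) = (v⁻¹) ^ (x * x + y * y) := by
        rw [hTapply (T v), e1, e2, mul_pow, mul_pow, ← pow_mul, ← pow_mul, ← pow_mul, ← pow_mul]
        have e4 : (c⁻¹) ^ (y * x) * c ^ (x * y) = 1 := by
          rw [inv_pow, mul_comm y x, inv_mul_cancel]
        calc v⁻¹ ^ (x * x) * c⁻¹ ^ (y * x) * (c ^ (x * y) * v⁻¹ ^ (y * y))
            = v⁻¹ ^ (x * x) * (c⁻¹ ^ (y * x) * c ^ (x * y)) * v⁻¹ ^ (y * y) := by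
              simp only [mul_assoc]
          _ = v⁻¹ ^ (x * x + y * y) := by rw [e4, mul_one, ← pow_add]
      have e5 : v ^ (x * x + y * y + 1) = 1 := by
        obtain ⟨t, ht⟩ := hxy
        rw [ht, pow_mul, hexp v hv, one_pow]
      rw [e3, inv_pow]
      rw [pow_succ] at e5
      exact inv_eq_of_mul_eq_one_right e5
    -- anticommutation of T with γ = α ∘ β
    have hTγ : ∀ v, T (α (β v)) = (α (β (T v)))⁻¹ := by
      intro v
      have e1 : β (α (β v)) = α v := by
        rw [hβα, hβ, map_inv, inv_inv]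
      have e2 : α (β (α v)) = β v := by
        rw [hαβ, hα, map_inv, inv_inv]
      rw [hTapply (α (β v)), hα, e1, hTapply v, map_mul, map_mul, map_pow, map_pow, map_pow,
        map_pow, e2, hβ, map_inv, mul_inv, inv_pow, inv_pow, inv_inv]
    -- the two eigen-subgroups
    obtain ⟨ψ, hψ⟩ : ∃ ψ : V →* V, ψ = MonoidHom.id V * T := ⟨_, rfl⟩
    have hψapply : ∀ v, ψ v = v * T v := fun v => by rw [hψ]; rfl
    obtain ⟨Mm, hMm⟩ : ∃ Mm : Subgroup V, Mm = M ⊓ ψ.ker := ⟨_, rfl⟩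
    obtain ⟨Mp, hMp⟩ : ∃ Mp : Subgroup V, Mp = M.map ψ := ⟨_, rfl⟩
    have hcard2 : Nat.card Mm * Nat.card Mp = n := by
      rw [hMm, hMp, card_inf_ker_mul_card_map, hM]
    have hMm_iff : ∀ v, v ∈ Mm ↔ v ∈ M ∧ T v = v⁻¹ := by
      intro v
      rw [hMm, Subgroup.mem_inf, MonoidHom.mem_ker, hψapply]
      constructor
      · rintro ⟨h1, h2⟩
        exact ⟨h1, (inv_eq_of_mul_eq_one_right h2).symm⟩
      · rintro ⟨h1, h2⟩
        exact ⟨h1, by rw [h2, mul_inv_cancel]⟩
    have hMp_iff : ∀ v, v ∈ Mp ↔ v ∈ M ∧ T v = v := by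
      intro v
      rw [hMp]
      constructor
      · rintro ⟨w, hw, rfl⟩
        refine ⟨?_, ?_⟩
        · rw [hψapply]; exact M.mul_mem hw (hMT w hw)
        · rw [hψapply, map_mul, hTT w hw, mul_comm]
      · rintro ⟨h1, h2⟩
        obtain ⟨k, hk⟩ := hodd
        refine ⟨v ^ (k + 1), M.pow_mem h1 _, ?_⟩
        rw [hψapply, map_pow, h2, ← pow_add]
        have e : k + 1 + (k + 1) = n + 1 := by omega
        have hvn : v ^ n = 1 := by
          have := pow_card_eq_one' (G := M) (x := ⟨v, h1⟩)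
          rw [hM] at this
          have h3 := congrArg Subtype.val this
          simpa using h3
        rw [e, pow_succ, hvn, one_mul]
    have hαinj : Function.Injective α := by
      intro a b hab
      have := congrArg α hab
      rw [hα, hα] at this
      exact inv_injective this
    have hβinj : Function.Injective β := by
      intro a b hab
      have := congrArg β hab
      rw [hβ, hβ] at this
      exact inv_injective this
    have h1 : Nat.card Mp ≤ Nat.card Mm := by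
      have hmem : ∀ v : Mp, α (β (v : V)) ∈ Mm := by
        intro v
        obtain ⟨hv1, hv2⟩ := (hMp_iff v).mp v.2
        rw [hMm_iff]
        refine ⟨hMα _ (hMβ _ hv1), ?_⟩
        rw [hTγ, hv2]
      apply Nat.card_le_card_of_injective (fun v : Mp => (⟨α (β (v : V)), hmem v⟩ : Mm))
      intro a b hab
      have := congrArg Subtype.val hab
      exact Subtype.ext (hβinj (hαinj this))
    have h2 : Nat.card Mm ≤ Nat.card Mp := by
      have hmem : ∀ v : Mm, α (β (v : V)) ∈ Mp := by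
        intro v
        obtain ⟨hv1, hv2⟩ := (hMm_iff v).mp v.2
        rw [hMp_iff]
        refine ⟨hMα _ (hMβ _ hv1), ?_⟩
        rw [hTγ, hv2, map_inv, map_inv, inv_inv]
      apply Nat.card_le_card_of_injective (fun v : Mm => (⟨α (β (v : V)), hmem v⟩ : Mp))
      intro a b hab
      have := congrArg Subtype.val hab
      exact Subtype.ext (hβinj (hαinj this))
    have h3 : Nat.card Mm = Nat.card Mp := le_antisymm h2 h1
    rw [← hcard2, h3]
    exact ⟨_, rfl⟩

/-- an abelian group of odd order admitting a quaternion-like action has square order. -/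
theorem quat_card_sq {V : Type*} [Group V] [Finite V] (hcomm : ∀ a b : V, a * b = b * a)
    (α β : V →* V)
    (hα : ∀ v, α (α v) = v⁻¹) (hβ : ∀ v, β (β v) = v⁻¹)
    (hαβ : ∀ v, α (β v) = (β (α v))⁻¹) (hodd : Odd (Nat.card V)) : IsSquare (Nat.card V) := by
  letI : CommGroup V := { (inferInstance : Group V) with mul_comm := hcomm }
  have := quat_card_sq_aux (V := V) α β hα hβ hαβ (Nat.card V) ⊤ Subgroup.card_top hodd
    (fun _ _ => trivial) (fun _ _ => trivial)
  exact this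

end QuatSquare

end Cfsg.Agent.Lib.Helper4
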