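import Mathlib
import Cfsg.Agent.S2427
import Cfsg.Agent.Lib.Helper6.QuatRec
import Cfsg.Agent.Lib.Helper4.QuatSquare

set_option autoImplicit false

namespace Cfsg.Agent.Lib.Helper4

open Subgroup

/-- two internal semidirect products by cyclic groups with matching data are isomorphic -/
theorem sd_iso {L L' : Type*} [Group L] [Group L'] (N : Subgroup L) [hN : N.Normal] (t : L)
    (N' : Subgroup L') [hN' : N'.Normal] (t' : L')
    (hc : N.IsComplement' (zpowers t)) (hc' : N'.IsComplement' (zpowers t'))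
    (ho : orderOf t = orderOf t') (fn : N ≃* N')
    (hcompat : ∀ n : N,
      ((fn ⟨t * n * t⁻¹, hN.conj_mem _ n.2 t⟩ : N') : L') = t' * fn n * t'⁻¹) :
    Nonempty (L ≃* L') := by
  classical
  obtain ⟨T, hT⟩ : ∃ T : zpowers t, T = ⟨t, mem_zpowers t⟩ := ⟨_, rfl⟩
  obtain ⟨T', hT'⟩ : ∃ T' : zpowers t', T' = ⟨t', mem_zpowers t'⟩ := ⟨_, rfl⟩
  have hg : ∀ x : zpowers t, x ∈ zpowers T := by
    rintro ⟨x, k, rfl⟩
    refine ⟨k, ?_⟩
    apply Subtype.ext
    rw [hT]
    simp
  have hg' : ∀ x : zpowers t', x ∈ zpowers T' := by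
    rintro ⟨x, k, rfl⟩
    refine ⟨k, ?_⟩
    apply Subtype.ext
    rw [hT']
    simp
  have hoT : orderOf T = orderOf T' := by
    rw [hT, hT', Subgroup.orderOf_mk, Subgroup.orderOf_mk, ho]
  obtain ⟨fg, hfg⟩ : ∃ fg : zpowers t ≃* zpowers t', fg T = T' :=
    ⟨mulEquivOfOrderOfEq hg hg' hoT, mulEquivOfOrderOfEq_apply_gen hg hg' hoT⟩
  have h : ∀ g : zpowers t,
      (((N.normalizerMonoidHom).comp
        (inclusion (N.normalizer_eq_top ▸ le_top : zpowers t ≤ normalizer (N : Set L)))) g).trans fn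
      = fn.trans (((N'.normalizerMonoidHom).comp
        (inclusion (N'.normalizer_eq_top ▸ le_top : zpowers t' ≤ normalizer (N' : Set L'))))
          (fg g)) := by
    have hAB : ((MulAut.congr fn).toMonoidHom.comp ((N.normalizerMonoidHom).comp
        (inclusion (N.normalizer_eq_top ▸ le_top : zpowers t ≤ normalizer (N : Set L)))))
        = ((N'.normalizerMonoidHom).comp
        (inclusion (N'.normalizer_eq_top ▸ le_top : zpowers t' ≤ normalizer (N' : Set L')))).comp
          fg.toMonoidHom := by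
      rw [MonoidHom.eq_iff_eq_on_generator hg]
      apply MulEquiv.ext
      intro x
      apply Subtype.ext
      have h1 := hcompat (fn.symm x)
      rw [MulEquiv.apply_symm_apply] at h1
      simp only [MonoidHom.comp_apply, MulEquiv.coe_toMonoidHom, hfg]
      rw [hT, hT']
      exact h1
    intro g
    have h2 : (MulAut.congr fn) (((N.normalizerMonoidHom).comp
        (inclusion (N.normalizer_eq_top ▸ le_top : zpowers t ≤ normalizer (N : Set L)))) g)
        = ((N'.normalizerMonoidHom).comp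
        (inclusion (N'.normalizer_eq_top ▸ le_top : zpowers t' ≤ normalizer (N' : Set L'))))
          (fg g) := DFunLike.congr_fun hAB g
    rw [← h2]
    apply MulEquiv.ext
    intro x
    simp [MulAut.congr]
  exact ⟨(SemidirectProduct.mulEquivSubgroup hc).symm.trans
    ((SemidirectProduct.congr fn fg h).trans (SemidirectProduct.mulEquivSubgroup hc'))⟩

open Cfsg.Agent.Lib.Helper6 in
/-- recognition of generalized quaternion groups with control of the generators -/
theorem quat_iso_control {G : Type*} [Group G] [Finite G] (m : ℕ) [NeZero m] (α β : G)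
    (hα : orderOf α = 2 * m) (hβ2 : β ^ 2 = α ^ m) (hconj : β * α * β⁻¹ = α⁻¹)
    (hβ : β ∉ Subgroup.zpowers α) (hcard : Nat.card G = 4 * m) :
    ∃ e : QuaternionGroup m ≃* G, e (QuaternionGroup.a 1) = α ∧ e (QuaternionGroup.xa 0) = β := by
  have hc : ∀ i : ZMod (2 * m), zpN (2 * m) α i * β = β * (zpN (2 * m) α i)⁻¹ := by
    intro i
    unfold zpN
    have h1 : β * α ^ (ZMod.cast i : ℤ) * β⁻¹ = (α ^ (ZMod.cast i : ℤ))⁻¹ := by
      rw [← conj_zpow, hconj, inv_zpow]
    calc α ^ (ZMod.cast i : ℤ) * β = ((α ^ (ZMod.cast i : ℤ))⁻¹)⁻¹ * β := by rw [inv_inv]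
      _ = (β * α ^ (ZMod.cast i : ℤ) * β⁻¹)⁻¹ * β := by rw [h1]
      _ = β * (α ^ (ZMod.cast i : ℤ))⁻¹ := by group
  have hm : zpN (2 * m) α (m : ZMod (2 * m)) = β * β := by
    rw [zpN_natCast hα, ← hβ2, pow_two]
  let f : QuaternionGroup m →* G := MonoidHom.mk'
    (fun g => match g with
      | QuaternionGroup.a i => zpN (2 * m) α i
      | QuaternionGroup.xa i => β * zpN (2 * m) α i)
    (by
      intro x y
      rcases x with i | i <;> rcases y with j | j
      · show zpN (2 * m) α (i + j) = _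
        rw [zpN_add hα]
      · show β * zpN (2 * m) α (j - i) = zpN (2 * m) α i * (β * zpN (2 * m) α j)
        rw [zpN_sub hα, ← mul_assoc, ← mul_assoc, hc i]
      · show β * zpN (2 * m) α (i + j) = β * zpN (2 * m) α i * zpN (2 * m) α j
        rw [zpN_add hα, mul_assoc]
      · show zpN (2 * m) α (m + j - i) = β * zpN (2 * m) α i * (β * zpN (2 * m) α j)
        rw [add_sub_assoc, zpN_add hα, zpN_sub hα, hm]
        have := hc i
        calc β * β * ((zpN (2 * m) α i)⁻¹ * zpN (2 * m) α j)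
            = β * (β * (zpN (2 * m) α i)⁻¹) * zpN (2 * m) α j := by group
          _ = β * (zpN (2 * m) α i * β) * zpN (2 * m) α j := by rw [this]
          _ = β * zpN (2 * m) α i * (β * zpN (2 * m) α j) := by group)
  have hfa : ∀ i, f (QuaternionGroup.a i) = zpN (2 * m) α i := fun i => rfl
  have hfxa : ∀ i, f (QuaternionGroup.xa i) = β * zpN (2 * m) α i := fun i => rfl
  have hinj : Function.Injective f := by
    rw [injective_iff_map_eq_one]
    intro g hg
    rcases g with i | i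
    · rw [hfa] at hg
      rw [zpN_eq_one hα i hg]
      rfl
    · exfalso
      rw [hfxa] at hg
      apply hβ
      have h1 : β = (zpN (2 * m) α i)⁻¹ := eq_inv_of_mul_eq_one_left hg
      rw [h1]
      exact Subgroup.inv_mem _ (zpN_mem_zpowers _ _ _)
  have hbij : Function.Bijective f := by
    rw [Nat.bijective_iff_injective_and_card]
    refine ⟨hinj, ?_⟩
    rw [Nat.card_eq_fintype_card, QuaternionGroup.card, hcard]
  refine ⟨MulEquiv.ofBijective f hbij, ?_, ?_⟩
  · show f (QuaternionGroup.a 1) = α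
    rw [hfa]
    have := zpN_natCast hα 1
    rw [pow_one, Nat.cast_one] at this
    exact this
  · show f (QuaternionGroup.xa 0) = β
    rw [hfxa]
    have := zpN_natCast hα 0
    rw [pow_zero, Nat.cast_zero] at this
    rw [this, mul_one]

/-- the quaternion group is generated by `a 1` and `xa 0` -/
theorem quat_closure (m : ℕ) [NeZero m] :
    Subgroup.closure ({QuaternionGroup.a 1, QuaternionGroup.xa 0} : Set (QuaternionGroup m)) = ⊤ := by
  rw [eq_top_iff]
  intro u _
  have ha : ∀ k : ZMod (2 * m), (QuaternionGroup.a k : QuaternionGroup m) ∈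
      Subgroup.closure ({QuaternionGroup.a 1, QuaternionGroup.xa 0} : Set (QuaternionGroup m)) := by
    intro k
    have h1 : (QuaternionGroup.a 1 : QuaternionGroup m) ∈
        Subgroup.closure ({QuaternionGroup.a 1, QuaternionGroup.xa 0} : Set (QuaternionGroup m)) :=
      Subgroup.subset_closure (by simp)
    have h2 : (QuaternionGroup.a k : QuaternionGroup m)
        = (QuaternionGroup.a 1) ^ k.val := by
      rw [QuaternionGroup.a_one_pow, ZMod.natCast_zmod_val]
    rw [h2]
    exact Subgroup.pow_mem _ h1 _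
  rcases u with k | k
  · exact ha k
  · have h3 : (QuaternionGroup.xa k : QuaternionGroup m)
        = QuaternionGroup.xa 0 * QuaternionGroup.a k := by
      rw [QuaternionGroup.xa_mul_a, zero_add]
    rw [h3]
    exact Subgroup.mul_mem _ (Subgroup.subset_closure (by simp)) (ha k)

/-- an element inverting `α` with `α ^ 2 ≠ 1` is not a power of `α` -/
theorem not_mem_zpowers_of_inverts {G : Type*} [Group G] {α β : G} (hconj : β * α * β⁻¹ = α⁻¹)
    (hα : α ^ 2 ≠ 1) : β ∉ Subgroup.zpowers α := by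
  intro h
  obtain ⟨k, rfl⟩ := Subgroup.mem_zpowers_iff.1 h
  apply hα
  have h1 : α ^ k * α * (α ^ k)⁻¹ = α := by
    rw [← zpow_add_one, ← zpow_neg, ← zpow_add]
    simp
  rw [h1] at hconj
  calc α ^ 2 = α * α := pow_two α
    _ = α * α⁻¹ := by rw [← hconj]
    _ = 1 := mul_inv_cancel α

set_option maxRecDepth 100000 in
open Cfsg.Agent.S2427 in
/-- recognition of `SL(2,3)` as a semidirect product, normalized form -/
theorem sl23_iso_aux {L : Type*} [Group L] (N : Subgroup L) [hN : N.Normal] (t i : L)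
    (hcard : Nat.card N = 8) (hi : i ∈ N) (hi4 : orderOf i = 4) (ht : orderOf t = 3)
    (hj2 : (t * i * t⁻¹) ^ 2 = i ^ 2) (hconj : (t * i * t⁻¹) * i * (t * i * t⁻¹)⁻¹ = i⁻¹)
    (hk : t * (t * i * t⁻¹) * t⁻¹ = i⁻¹ * (t * i * t⁻¹))
    (hsup : N ⊔ zpowers t = ⊤) : Nonempty (L ≃* G23) := by
  classical
  haveI : Finite N := Nat.finite_of_card_ne_zero (by rw [hcard]; norm_num)
  haveI : Fact (Nat.Prime 3) := ⟨Nat.prime_three⟩
  have hjN : t * i * t⁻¹ ∈ N := hN.conj_mem _ hi t
  have hi2 : i ^ 2 ≠ 1 := by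
    intro h
    have := orderOf_dvd_of_pow_eq_one h
    rw [hi4] at this
    omega
  obtain ⟨e, heI, heJ⟩ : ∃ e : QuaternionGroup 2 ≃* N,
      e (QuaternionGroup.a 1) = ⟨i, hi⟩ ∧ e (QuaternionGroup.xa 0) = ⟨t * i * t⁻¹, hjN⟩ := by
    apply quat_iso_control 2
    · rw [Subgroup.orderOf_mk, hi4]
    · apply Subtype.ext
      exact hj2
    · apply Subtype.ext
      exact hconj
    · apply not_mem_zpowers_of_inverts
      · apply Subtype.ext
        exact hconj
      · intro h
        apply hi2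
        exact congrArg Subtype.val h
    · rw [hcard]
  have heI4 : orderOf eI = 4 := by
    have : orderOf eI = 2 ^ (1 + 1) :=
      orderOf_eq_prime_pow (p := 2) (n := 1) (by decide) (by decide)
    rw [this]
    norm_num
  have heG3 : orderOf eG = 3 := orderOf_eq_prime (by decide) (by decide)
  have hI'mem : eI ∈ Q8 := by rw [mem_Q8]; decide
  have hJ'mem : eG * eI * eG⁻¹ ∈ Q8 := by rw [mem_Q8]; decide
  haveI : Finite Q8 := Nat.finite_of_card_ne_zero (by rw [card_Q8]; norm_num)
  obtain ⟨e', he'I, he'J⟩ : ∃ e' : QuaternionGroup 2 ≃* Q8,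
      e' (QuaternionGroup.a 1) = ⟨eI, hI'mem⟩ ∧
      e' (QuaternionGroup.xa 0) = ⟨eG * eI * eG⁻¹, hJ'mem⟩ := by
    apply quat_iso_control 2
    · rw [Subgroup.orderOf_mk, heI4]
    · apply Subtype.ext
      show (eG * eI * eG⁻¹) ^ 2 = eI ^ 2
      decide
    · apply Subtype.ext
      show (eG * eI * eG⁻¹) * eI * (eG * eI * eG⁻¹)⁻¹ = eI⁻¹
      decide
    · apply not_mem_zpowers_of_inverts
      · apply Subtype.ext
        show (eG * eI * eG⁻¹) * eI * (eG * eI * eG⁻¹)⁻¹ = eI⁻¹
        decide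
      · intro h
        have h2 : eI ^ 2 = 1 := congrArg Subtype.val h
        revert h2
        decide
    · rw [card_Q8]
  haveI : Q8.Normal := by rw [Q8_eq_commutator]; infer_instance
  have hc : N.IsComplement' (zpowers t) := by
    apply Subgroup.isComplement'_of_disjoint_and_mul_eq_univ
    · apply Subgroup.disjoint_of_coprime_natCard
      rw [hcard, Nat.card_zpowers, ht]
      decide
    · rw [← Subgroup.normal_mul, hsup]
      rfl
  have hc' : Q8.IsComplement' (zpowers eG) := by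
    apply Subgroup.isComplement'_of_coprime
    · rw [card_Q8, Nat.card_zpowers, heG3, Nat.card_eq_fintype_card, card_G23]
    · rw [card_Q8, Nat.card_zpowers, heG3]
      decide
  have hF : (Q8.subtype.comp ((e.symm.trans e').toMonoidHom.comp
        ((MulAut.conjNormal t : MulAut N).toMonoidHom.comp e.toMonoidHom)))
      = (MulAut.conj eG).toMonoidHom.comp
        (Q8.subtype.comp ((e.symm.trans e').toMonoidHom.comp e.toMonoidHom)) := by
    apply MonoidHom.eq_of_eqOn_dense (quat_closure 2)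
    intro u hu
    rcases hu with rfl | rfl
    · simp only [MonoidHom.comp_apply, MulEquiv.coe_toMonoidHom, MulEquiv.trans_apply,
        MulEquiv.symm_apply_apply, Subgroup.coe_subtype, MulAut.conj_apply]
      rw [heI, he'I]
      have h1 : (MulAut.conjNormal t : MulAut N) ⟨i, hi⟩ = ⟨t * i * t⁻¹, hjN⟩ := by
        apply Subtype.ext
        rw [MulAut.conjNormal_apply]
      rw [h1, ← heJ, MulEquiv.symm_apply_apply, he'J]
    · simp only [MonoidHom.comp_apply, MulEquiv.coe_toMonoidHom, MulEquiv.trans_apply,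
        MulEquiv.symm_apply_apply, Subgroup.coe_subtype, MulAut.conj_apply]
      rw [heJ, he'J]
      have h1 : (MulAut.conjNormal t : MulAut N) ⟨t * i * t⁻¹, hjN⟩
          = (e (QuaternionGroup.a 1))⁻¹ * e (QuaternionGroup.xa 0) := by
        apply Subtype.ext
        rw [MulAut.conjNormal_apply, heI, heJ]
        exact hk
      rw [h1, ← map_inv, ← map_mul, MulEquiv.symm_apply_apply, map_mul, map_inv, he'I, he'J]
      show (eI)⁻¹ * (eG * eI * eG⁻¹) = eG * (eG * eI * eG⁻¹) * eG⁻¹
      decide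
  apply sd_iso N t Q8 eG hc hc' (ht.trans heG3.symm) (e.symm.trans e')
  intro n
  have h1 := DFunLike.congr_fun hF (e.symm n)
  simp only [MonoidHom.comp_apply, MulEquiv.coe_toMonoidHom, MulEquiv.trans_apply,
    MulEquiv.apply_symm_apply, Subgroup.coe_subtype, MulAut.conj_apply] at h1
  show ((e' (e.symm ⟨t * n * t⁻¹, _⟩) : Q8) : G23) = eG * (e' (e.symm n) : Q8) * eG⁻¹
  rw [← h1]
  have h2 : (MulAut.conjNormal t : MulAut N) n = ⟨t * n * t⁻¹, hN.conj_mem _ n.2 t⟩ := by
    apply Subtype.ext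
    rw [MulAut.conjNormal_apply]
  rw [h2]

open Cfsg.Agent.S2427 in
/-- a quaternion subgroup of order 8 together with an element of odd order permuting its
cyclic subgroups of order 4 gives a section isomorphic to `SL(2,3)` -/
theorem sl23_section {G : Type*} [Group G] [Finite G] (Q : Subgroup G) (g i : G)
    (hcard : Nat.card Q = 8) (hi : i ∈ Q) (hi4 : orderOf i = 4)
    (hgQ : g ∈ normalizer (Q : Set G)) (hodd : Odd (orderOf g))
    (hj2 : (g * i * g⁻¹) ^ 2 = i ^ 2) (hconj : (g * i * g⁻¹) * i * (g * i * g⁻¹)⁻¹ = i⁻¹)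
    (hk : g * (g * i * g⁻¹) * g⁻¹ = i⁻¹ * (g * i * g⁻¹))
    (hg3 : ∀ q ∈ Q, g ^ 3 * q = q * g ^ 3) :
    ∃ (H K : Subgroup G) (_ : (K.subgroupOf H).Normal),
      Nonempty ((H ⧸ K.subgroupOf H) ≃* G23) := by
  classical
  haveI : Fact (Nat.Prime 3) := ⟨Nat.prime_three⟩
  obtain ⟨H, hH⟩ : ∃ H : Subgroup G, H = Q ⊔ zpowers g := ⟨_, rfl⟩
  obtain ⟨K, hKdef⟩ : ∃ K : Subgroup G, K = zpowers (g ^ 3) := ⟨_, rfl⟩
  have hQH : Q ≤ H := hH ▸ le_sup_left
  have hgH : g ∈ H := hH ▸ (le_sup_right : zpowers g ≤ Q ⊔ zpowers g) (mem_zpowers g)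
  have hKH : K ≤ H := by rw [hKdef, zpowers_le]; exact H.pow_mem hgH 3
  have hi2 : i ^ 2 ≠ 1 := by
    intro h
    have := orderOf_dvd_of_pow_eq_one h
    rw [hi4] at this
    omega
  have hcent : ∀ h ∈ H, Commute h (g ^ 3) := by
    have hle : H ≤ centralizer {g ^ 3} := by
      rw [hH, sup_le_iff]
      constructor
      · intro q hq
        rw [mem_centralizer_iff]
        intro x hx
        rw [Set.mem_singleton_iff] at hx
        subst hx
        exact hg3 q hq
      · rw [zpowers_le, mem_centralizer_iff]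
        intro x hx
        rw [Set.mem_singleton_iff] at hx
        subst hx
        rw [← pow_succ, ← pow_succ']
    intro h hh
    have := hle hh
    rw [mem_centralizer_iff] at this
    exact (this _ rfl).symm
  have hcentK : ∀ h ∈ H, ∀ n ∈ K, h * n * h⁻¹ = n := by
    intro h hh n hn
    rw [hKdef] at hn
    obtain ⟨k, rfl⟩ := mem_zpowers_iff.1 hn
    have hc : Commute h ((g ^ 3) ^ k) := (hcent h hh).zpow_right k
    rw [hc.eq, mul_inv_cancel_right]
  have hK : (K.subgroupOf H).Normal := by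
    constructor
    intro n hn h
    rw [mem_subgroupOf] at hn ⊢
    have h1 : ((h * n * h⁻¹ : H) : G) = (h : G) * n * (h : G)⁻¹ := rfl
    rw [h1, hcentK h h.2 n hn]
    exact hn
  refine ⟨H, K, hK, ?_⟩
  obtain ⟨π, hπ⟩ : ∃ π : H →* H ⧸ K.subgroupOf H, π = QuotientGroup.mk' (K.subgroupOf H) :=
    ⟨_, rfl⟩
  have hπker : π.ker = K.subgroupOf H := by rw [hπ]; exact QuotientGroup.ker_mk' _
  have hπsurj : Function.Surjective π := by rw [hπ]; exact QuotientGroup.mk'_surjective _
  have hHN : H ≤ normalizer (Q : Set G) := by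
    rw [hH, sup_le_iff]
    exact ⟨le_normalizer, by rw [zpowers_le]; exact hgQ⟩
  haveI hQHn : (Q.subgroupOf H).Normal := Subgroup.normal_subgroupOf_of_le_normalizer hHN
  obtain ⟨N, hNdef⟩ : ∃ N : Subgroup (H ⧸ K.subgroupOf H), N = (Q.subgroupOf H).map π :=
    ⟨_, rfl⟩
  haveI hNn : N.Normal := by rw [hNdef]; exact Subgroup.Normal.map hQHn π hπsurj
  -- coprimality
  have hQK : Disjoint Q K := by
    apply Subgroup.disjoint_of_coprime_natCard
    rw [hcard, hKdef, Nat.card_zpowers]
    have h1 : orderOf (g ^ 3) ∣ orderOf g := orderOf_pow_dvd 3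
    have h2 : Odd (orderOf (g ^ 3)) := Odd.of_dvd_nat hodd h1
    have h3 : Nat.Coprime 2 (orderOf (g ^ 3)) := (Nat.coprime_two_left).2 h2
    exact Nat.Coprime.pow_left 3 h3
  have hinj : ∀ x : H, (x : G) ∈ Q → π x = 1 → x = 1 := by
    intro x hx1 hx2
    have h1 : x ∈ π.ker := hx2
    rw [hπker, mem_subgroupOf] at h1
    have h2 : (x : G) ∈ Q ⊓ K := ⟨hx1, h1⟩
    rw [hQK.eq_bot, mem_bot] at h2
    exact Subtype.ext h2
  have hcardN : Nat.card N = 8 := by
    have h1 := card_inf_ker_mul_card_map π (Q.subgroupOf H)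
    have h2 : (Q.subgroupOf H ⊓ π.ker : Subgroup H) = ⊥ := by
      rw [eq_bot_iff]
      intro x hx
      rw [mem_bot]
      exact hinj x (mem_subgroupOf.1 hx.1) hx.2
    rw [h2, Subgroup.card_bot, one_mul, ← hNdef] at h1
    rw [h1, Nat.card_congr (Subgroup.subgroupOfEquivOfLe hQH).toEquiv, hcard]
  obtain ⟨gH, hgHdef⟩ : ∃ gH : H, gH = ⟨g, hgH⟩ := ⟨_, rfl⟩
  obtain ⟨iH, hiHdef⟩ : ∃ iH : H, iH = ⟨i, hQH hi⟩ := ⟨_, rfl⟩
  have hgHc : (gH : G) = g := by rw [hgHdef]
  have hiHc : (iH : G) = i := by rw [hiHdef]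
  have hīN : π iH ∈ N := by
    rw [hNdef]
    exact Subgroup.mem_map_of_mem π (mem_subgroupOf.2 (by rw [hiHc]; exact hi))
  have hī4 : orderOf (π iH) = 4 := by
    have : orderOf (π iH) = 2 ^ (1 + 1) := by
      apply orderOf_eq_prime_pow (p := 2) (n := 1)
      · intro h
        rw [← map_pow] at h
        have h1 := hinj (iH ^ 2 ^ 1) (by
          show ((iH : G)) ^ 2 ^ 1 ∈ Q
          rw [hiHc]
          exact Q.pow_mem hi _) h
        apply hi2
        have h2 : ((iH ^ 2 ^ 1 : H) : G) = 1 := by rw [h1]; rfl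
        have h3 : ((iH ^ 2 ^ 1 : H) : G) = i ^ 2 := by
          show (iH : G) ^ 2 ^ 1 = i ^ 2
          rw [hiHc]
          norm_num
        rw [← h3, h2]
      · rw [← map_pow]
        have h1 : iH ^ 2 ^ (1 + 1) = 1 := by
          apply Subtype.ext
          show (iH : G) ^ 2 ^ (1 + 1) = 1
          rw [hiHc]
          have : i ^ 4 = 1 := by rw [← hi4]; exact pow_orderOf_eq_one i
          norm_num
          exact this
        rw [h1, map_one]
    rw [this]
    norm_num
  have ht3 : orderOf (π gH) = 3 := by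
    apply orderOf_eq_prime
    · rw [← map_pow]
      have h1 : gH ^ 3 ∈ π.ker := by
        rw [hπker, mem_subgroupOf]
        show (gH : G) ^ 3 ∈ K
        rw [hgHc, hKdef]
        exact mem_zpowers _
      exact h1
    · intro h
      have h1 : gH ∈ π.ker := h
      rw [hπker, mem_subgroupOf, hgHc] at h1
      have h2 := hcentK i (hQH hi) g h1
      apply hi2
      have h3 : g * i * g⁻¹ = i := by
        have : g * i = i * g := by
          calc g * i = (i * g * i⁻¹) * i := by rw [h2]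
            _ = i * g := by group
        rw [this, mul_inv_cancel_right]
      rw [h3] at hconj
      calc i ^ 2 = i * i := pow_two i
        _ = (i * i * i⁻¹) * i := by group
        _ = i⁻¹ * i := by rw [hconj]
        _ = 1 := inv_mul_cancel i
  have hj2' : (π gH * π iH * (π gH)⁻¹) ^ 2 = (π iH) ^ 2 := by
    have h1 : (gH * iH * gH⁻¹) ^ 2 = iH ^ 2 := by
      apply Subtype.ext
      show ((gH : G) * iH * (gH : G)⁻¹) ^ 2 = (iH : G) ^ 2
      rw [hgHc, hiHc]
      exact hj2
    have h2 := congrArg π h1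
    simpa only [map_mul, map_pow, map_inv] using h2
  have hconj' : (π gH * π iH * (π gH)⁻¹) * π iH * (π gH * π iH * (π gH)⁻¹)⁻¹ = (π iH)⁻¹ := by
    have h1 : (gH * iH * gH⁻¹) * iH * (gH * iH * gH⁻¹)⁻¹ = iH⁻¹ := by
      apply Subtype.ext
      show ((gH : G) * iH * (gH : G)⁻¹) * iH * ((gH : G) * iH * (gH : G)⁻¹)⁻¹ = (iH : G)⁻¹
      rw [hgHc, hiHc]
      exact hconj
    have h2 := congrArg π h1
    simpa only [map_mul, map_pow, map_inv] using h2
  have hk' : π gH * (π gH * π iH * (π gH)⁻¹) * (π gH)⁻¹ = (π iH)⁻¹ * (π gH * π iH * (π gH)⁻¹) := by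
    have h1 : gH * (gH * iH * gH⁻¹) * gH⁻¹ = iH⁻¹ * (gH * iH * gH⁻¹) := by
      apply Subtype.ext
      show (gH : G) * ((gH : G) * iH * (gH : G)⁻¹) * (gH : G)⁻¹
        = (iH : G)⁻¹ * ((gH : G) * iH * (gH : G)⁻¹)
      rw [hgHc, hiHc]
      exact hk
    have h2 := congrArg π h1
    simpa only [map_mul, map_pow, map_inv] using h2
  have hsup' : N ⊔ zpowers (π gH) = ⊤ := by
    have h1 : Q.subgroupOf H ⊔ zpowers gH = ⊤ := by
      apply Subgroup.map_injective H.subtype_injective
      rw [Subgroup.map_sup, Subgroup.subgroupOf_map_subtype, MonoidHom.map_zpowers,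
        ← MonoidHom.range_eq_map, Subgroup.range_subtype, Subgroup.coe_subtype, hgHc,
        inf_of_le_left hQH, hH]
    rw [hNdef, ← MonoidHom.map_zpowers, ← Subgroup.map_sup, h1, ← MonoidHom.range_eq_map,
      MonoidHom.range_eq_top]
    exact hπsurj
  exact sl23_iso_aux N (π gH) (π iH) hcardN hīN hī4 ht3 hj2' hconj' hk' hsup'

/-- if a power of `g` with exponent prime to the order commutes with `c`, so does `g` -/
theorem commute_of_pow_commute {G : Type*} [Group G] {g c : G} (s : ℕ)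
    (hs : Nat.Coprime (orderOf g) s) (h : Commute (g ^ s) c) : Commute g c := by
  obtain ⟨r, hr⟩ := exists_pow_eq_self_of_coprime hs.symm
  have h2 : Commute ((g ^ s) ^ r) c := h.pow_left r
  rw [hr] at h2
  exact h2

theorem quat_inverts_xa : ∀ u : QuaternionGroup 2,
    u * QuaternionGroup.xa 0 * u⁻¹ = (QuaternionGroup.xa 0)⁻¹ →
    u = QuaternionGroup.a 1 * QuaternionGroup.xa 0 ∨
    u = (QuaternionGroup.a 1)⁻¹ * QuaternionGroup.xa 0 ∨
    u = QuaternionGroup.a 1 ∨ u = (QuaternionGroup.a 1)⁻¹ := by decide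

open Cfsg.Agent.S2427 in
/-- a quaternion subgroup of order 8 normalized by an element of odd order moving one of its
cyclic subgroups of order 4 gives a section isomorphic to `SL(2,3)` -/
theorem sl23_section_main {G : Type*} [Group G] [Finite G] (Q : Subgroup G) (g c : G)
    (hcard : Nat.card Q = 8) (hc : c ∈ Q) (hc4 : orderOf c = 4)
    (hgQ : g ∈ normalizer (Q : Set G)) (hodd : Odd (orderOf g))
    (hj2 : (g * c * g⁻¹) ^ 2 = c ^ 2) (hconj : (g * c * g⁻¹) * c * (g * c * g⁻¹)⁻¹ = c⁻¹) :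
    ∃ (H K : Subgroup G) (_ : (K.subgroupOf H).Normal),
      Nonempty ((H ⧸ K.subgroupOf H) ≃* G23) := by
  classical
  have hc2 : c ^ 2 ≠ 1 := by
    intro h
    have := orderOf_dvd_of_pow_eq_one h
    rw [hc4] at this
    omega
  have hnorm : ∀ x ∈ Q, g * x * g⁻¹ ∈ Q := fun x hx => (mem_normalizer_iff.1 hgQ x).1 hx
  obtain ⟨j, hjdef⟩ : ∃ j : G, j = g * c * g⁻¹ := ⟨_, rfl⟩
  have hj2' : j ^ 2 = c ^ 2 := by rw [hjdef]; exact hj2
  have hconj' : j * c * j⁻¹ = c⁻¹ := by rw [hjdef]; exact hconj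
  have hjQ : j ∈ Q := by rw [hjdef]; exact hnorm c hc
  obtain ⟨k, hkdef⟩ : ∃ k : G, k = g * j * g⁻¹ := ⟨_, rfl⟩
  have hkQ : k ∈ Q := by rw [hkdef]; exact hnorm j hjQ
  have hkj : k * j * k⁻¹ = j⁻¹ := by
    calc k * j * k⁻¹ = (g * j * g⁻¹) * (g * c * g⁻¹) * (g * j * g⁻¹)⁻¹ := by
          rw [← hjdef, ← hkdef]
      _ = g * (j * c * j⁻¹) * g⁻¹ := by group
      _ = g * c⁻¹ * g⁻¹ := by rw [hconj']
      _ = (g * c * g⁻¹)⁻¹ := by group
      _ = j⁻¹ := by rw [hjdef]
  -- g does not commute with c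
  have hgc : ¬ Commute g c := by
    intro h
    apply hc2
    have h3 : j = c := by rw [hjdef, h.eq, mul_inv_cancel_right]
    rw [h3] at hconj'
    calc c ^ 2 = c * c := pow_two c
      _ = (c * c * c⁻¹) * c := by group
      _ = c⁻¹ * c := by rw [hconj']
      _ = 1 := inv_mul_cancel c
  obtain ⟨e, heI, heJ⟩ : ∃ e : QuaternionGroup 2 ≃* Q,
      e (QuaternionGroup.a 1) = ⟨c, hc⟩ ∧ e (QuaternionGroup.xa 0) = ⟨j, hjQ⟩ := by
    apply quat_iso_control 2
    · rw [Subgroup.orderOf_mk, hc4]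
    · apply Subtype.ext
      exact hj2'
    · apply Subtype.ext
      exact hconj'
    · apply not_mem_zpowers_of_inverts
      · apply Subtype.ext
        exact hconj'
      · intro h
        apply hc2
        exact congrArg Subtype.val h
    · rw [hcard]
  have hu : e.symm ⟨k, hkQ⟩ * QuaternionGroup.xa 0 * (e.symm ⟨k, hkQ⟩)⁻¹
      = (QuaternionGroup.xa 0)⁻¹ := by
    apply e.injective
    rw [map_mul, map_mul, map_inv, map_inv, MulEquiv.apply_symm_apply, heJ]
    apply Subtype.ext
    exact hkj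
  have hke : (⟨k, hkQ⟩ : Q) = e (e.symm ⟨k, hkQ⟩) := (MulEquiv.apply_symm_apply e _).symm
  -- the main case
  have main : (k = c * j ∨ k = c⁻¹ * j) → ∃ (H K : Subgroup G) (_ : (K.subgroupOf H).Normal),
      Nonempty ((H ⧸ K.subgroupOf H) ≃* G23) := by
    intro hk
    have hl : g * k * g⁻¹ = c := by
      rcases hk with hk | hk
      · calc g * k * g⁻¹ = (g * c * g⁻¹) * (g * j * g⁻¹) := by rw [hk]; group
          _ = j * k := by rw [← hjdef, ← hkdef]
          _ = j * (c * j) := by rw [hk]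
          _ = (j * c * j⁻¹) * j ^ 2 := by group
          _ = c⁻¹ * c ^ 2 := by rw [hconj', hj2']
          _ = c := by group
      · calc g * k * g⁻¹ = (g * c * g⁻¹)⁻¹ * (g * j * g⁻¹) := by rw [hk]; group
          _ = j⁻¹ * k := by rw [← hjdef, ← hkdef]
          _ = j⁻¹ * (c⁻¹ * j) := by rw [hk]
          _ = j⁻¹ * ((j * c * j⁻¹) * j) := by rw [hconj']
          _ = c := by group
    have e3 : g ^ 3 = g * g * g := by rw [pow_succ, pow_two]
    have h3c : g ^ 3 * c = c * g ^ 3 := by
      rw [e3]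
      calc g * g * g * c = (g * (g * (g * c * g⁻¹) * g⁻¹) * g⁻¹) * (g * g * g) := by group
        _ = (g * (g * j * g⁻¹) * g⁻¹) * (g * g * g) := by rw [← hjdef]
        _ = (g * k * g⁻¹) * (g * g * g) := by rw [← hkdef]
        _ = c * (g * g * g) := by rw [hl]
    have h3j : g ^ 3 * j = j * g ^ 3 := by
      have h3c' := h3c
      rw [e3] at h3c' ⊢
      calc g * g * g * j = g * g * g * (g * c * g⁻¹) := by rw [hjdef]
        _ = g * (g * g * g * c) * g⁻¹ := by group
        _ = g * (c * (g * g * g)) * g⁻¹ := by rw [h3c']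
        _ = (g * c * g⁻¹) * (g * g * g) := by group
        _ = j * (g * g * g) := by rw [hjdef]
    have hF : (MulAut.conj (g ^ 3)).toMonoidHom.comp (Q.subtype.comp e.toMonoidHom)
        = Q.subtype.comp e.toMonoidHom := by
      apply MonoidHom.eq_of_eqOn_dense (quat_closure 2)
      intro u hu
      rcases hu with rfl | rfl
      · simp only [MonoidHom.comp_apply, MulEquiv.coe_toMonoidHom, Subgroup.coe_subtype,
          MulAut.conj_apply]
        rw [heI]
        show g ^ 3 * c * (g ^ 3)⁻¹ = c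
        rw [h3c, mul_inv_cancel_right]
      · simp only [MonoidHom.comp_apply, MulEquiv.coe_toMonoidHom, Subgroup.coe_subtype,
          MulAut.conj_apply]
        rw [heJ]
        show g ^ 3 * j * (g ^ 3)⁻¹ = j
        rw [h3j, mul_inv_cancel_right]
    have hg3 : ∀ q ∈ Q, g ^ 3 * q = q * g ^ 3 := by
      intro q hq
      have h1 := DFunLike.congr_fun hF (e.symm ⟨q, hq⟩)
      simp only [MonoidHom.comp_apply, MulEquiv.coe_toMonoidHom, Subgroup.coe_subtype,
        MulAut.conj_apply, MulEquiv.apply_symm_apply] at h1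
      calc g ^ 3 * q = (g ^ 3 * q * (g ^ 3)⁻¹) * g ^ 3 := by
            rw [inv_mul_cancel_right]
        _ = q * g ^ 3 := by rw [h1]
    rcases hk with hk | hk
    · -- use c⁻¹
      have hjinv : g * c⁻¹ * g⁻¹ = j⁻¹ := by rw [hjdef]; group
      apply sl23_section Q g c⁻¹ hcard (Q.inv_mem hc) (by rw [orderOf_inv, hc4]) hgQ hodd
      · rw [hjinv, inv_pow, inv_pow, hj2']
      · rw [hjinv, inv_inv, inv_inv]
        calc j⁻¹ * c⁻¹ * j = j⁻¹ * (j * c * j⁻¹) * j := by rw [hconj']
          _ = c := by group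
      · rw [hjinv, inv_inv]
        calc g * j⁻¹ * g⁻¹ = (g * j * g⁻¹)⁻¹ := by group
          _ = (c * j)⁻¹ := by rw [← hkdef, hk]
          _ = j⁻¹ * c⁻¹ := by group
          _ = j⁻¹ * (j * c * j⁻¹) := by rw [hconj']
          _ = c * j⁻¹ := by group
      · exact hg3
    · apply sl23_section Q g c hcard hc hc4 hgQ hodd hj2 hconj
      · rw [← hjdef, ← hkdef, hk]
      · exact hg3
  have hcop2 : Nat.Coprime (orderOf g) 2 := (Nat.coprime_two_right).2 hodd
  rcases quat_inverts_xa _ hu with h | h | h | h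
  · apply main
    left
    rw [h, map_mul, heI, heJ] at hke
    exact congrArg Subtype.val hke
  · apply main
    right
    rw [h, map_mul, map_inv, heI, heJ] at hke
    exact congrArg Subtype.val hke
  · exfalso
    rw [h, heI] at hke
    have hkc : k = c := congrArg Subtype.val hke
    apply hgc
    apply commute_of_pow_commute 2 hcop2
    show g ^ 2 * c = c * g ^ 2
    rw [pow_two]
    calc g * g * c = (g * (g * c * g⁻¹) * g⁻¹) * (g * g) := by group
      _ = (g * j * g⁻¹) * (g * g) := by rw [← hjdef]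
      _ = c * (g * g) := by rw [← hkdef, hkc]
  · exfalso
    rw [h, map_inv, heI] at hke
    have hkc : k = c⁻¹ := congrArg Subtype.val hke
    apply hgc
    apply commute_of_pow_commute 4 (Nat.Coprime.pow_right 2 hcop2 : Nat.Coprime (orderOf g) (2 ^ 2))
    show g ^ 2 ^ 2 * c = c * g ^ 2 ^ 2
    obtain ⟨a, ha⟩ : ∃ a : G, a = g * g := ⟨_, rfl⟩
    have h4 : g ^ 2 ^ 2 = a * a := by
      rw [ha]
      norm_num
      rw [pow_succ, pow_succ, pow_two]
      group
    have h2 : a * c * a⁻¹ = c⁻¹ := by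
      rw [ha]
      calc g * g * c * (g * g)⁻¹ = g * (g * c * g⁻¹) * g⁻¹ := by group
        _ = g * j * g⁻¹ := by rw [← hjdef]
        _ = c⁻¹ := by rw [← hkdef, hkc]
    rw [h4]
    calc a * a * c = (a * (a * c * a⁻¹) * a⁻¹) * (a * a) := by group
      _ = (a * c⁻¹ * a⁻¹) * (a * a) := by rw [h2]
      _ = (a * c * a⁻¹)⁻¹ * (a * a) := by group
      _ = c * (a * a) := by rw [h2, inv_inv]

end Cfsg.Agent.Lib.Helper4
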