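import Cfsg.Agent.Lib.Helper4.QuadSL2c
import Cfsg.Agent.Lib.Helper4.SL23Rec
import Cfsg.Agent.Lib.Helper6.UniqInv2
import Cfsg.Prelude.Def_LocalEven

/-! A unipotent element acting nontrivially on a subgroup of order prime to `p` of `SL2`: `p = 3`
and `SL(2,3)` is involved. -/

namespace Cfsg.Agent.Lib.Helper4

section SL2d

theorem dic_outside {T : Type*} [Group T] [Finite T] (n : ℕ) (hn : 1 ≤ n)
    (hcard : Nat.card T = 2^n) (a b : T) (ha : orderOf a = 2^(n-1))
    (hb : b ∉ Subgroup.zpowers a) (hb2 : b^2 ∈ Subgroup.zpowers a)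
    (hbab : b * a * b⁻¹ = a⁻¹) (y : T) (hy : y ∉ Subgroup.zpowers a) :
    y^2 = b^2 ∧ y * a * y⁻¹ = a⁻¹ := by
  have hidx : (Subgroup.zpowers a).index = 2 := by
    have h1 := Subgroup.card_mul_index (Subgroup.zpowers a)
    rw [Nat.card_zpowers, ha, hcard] at h1
    have h2 : 2^n = 2^(n-1) * 2 := by
      rw [← pow_succ]; congr 1; omega
    rw [h2] at h1
    exact Nat.eq_of_mul_eq_mul_left (by positivity) h1
  have hbinv : b⁻¹ ∉ Subgroup.zpowers a := fun h => hb (by simpa using (Subgroup.zpowers a).inv_mem h)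
  have ha' : b⁻¹ * y ∈ Subgroup.zpowers a := by
    rw [Subgroup.mul_mem_iff_of_index_two hidx]
    exact ⟨fun h => absurd h hbinv, fun h => absurd h hy⟩
  obtain ⟨k, hk⟩ := Subgroup.mem_zpowers_iff.1 ha'
  obtain ⟨j, hj⟩ := Subgroup.mem_zpowers_iff.1 hb2
  have hyk : y = b * a^k := by rw [hk]; group
  have hconj : b * a^k * b⁻¹ = (a^k)⁻¹ := by
    rw [← conj_zpow, hbab, inv_zpow]
  constructor
  · have h1 : y^2 = (b * a^k * b⁻¹) * b^2 * a^k := by rw [hyk, pow_two, pow_two]; group
    rw [h1, hconj, ← hj, ← zpow_neg, ← zpow_add, ← zpow_add]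
    congr 1
    ring
  · have h1 : y * a * y⁻¹ = b * (a^k * a * (a^k)⁻¹) * b⁻¹ := by rw [hyk]; group
    have h2 : a^k * a * (a^k)⁻¹ = a := by
      have : Commute (a^k) a := (Commute.refl a).zpow_left k
      rw [this.eq, mul_assoc, mul_inv_cancel, mul_one]
    rw [h1, h2, hbab]

variable {K : Type*} [Field K] {Γ : Type*} [Group Γ]

theorem qpq_main [Finite Γ] (p : ℕ) [Fact p.Prime] [CharP K p] (hp2 : p ≠ 2)
    (ι : Γ →* Matrix.SpecialLinearGroup (Fin 2) K) (hι : Function.Injective ι)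
    (x : Γ) (hxp : x ^ p = 1) (Q : Subgroup Γ) (hQ : (Nat.card Q).Coprime p)
    (hxN : ∀ q, q ∈ Q ↔ x * q * x⁻¹ ∈ Q) (hnc : ∃ q ∈ Q, x * q ≠ q * x) :
    p = 3 ∧ Cfsg.Involves (Matrix.SpecialLinearGroup (Fin 2) (ZMod 3)) Γ := by
  classical
  have hp : p.Prime := Fact.out
  haveI : Fact (Nat.Prime 2) := ⟨Nat.prime_two⟩
  have h2K : (2:K) ≠ 0 := qp_two_ne_zero p hp2
  have hx1 : x ≠ 1 := by
    rintro rfl
    obtain ⟨q, _, hq⟩ := hnc
    exact hq (by rw [one_mul, mul_one])
  have hxQ : ∀ q ∈ Q, x * q * x⁻¹ ∈ Q := fun q hq => (hxN q).1 hq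
  have hQ2 : IsPGroup 2 Q := qpq_two_group p hp2 ι hι x hxp hx1 Q hQ hxN
  obtain ⟨θ, hθ⟩ : ∃ θ : MulAut ↥Q, θ = qpAut Q x hxN := ⟨_, rfl⟩
  have hθapp : ∀ u : ↥Q, ((θ u : ↥Q) : Γ) = x * u * x⁻¹ := fun u => by rw [hθ]; rfl
  have hstep : ∀ u : ↥Q, θ u * u = u * θ u →
      x * (u : Γ) = (u : Γ) * x ∧ (ι (u : Γ) = 1 ∨ ι (u : Γ) = -1) := by
    intro u hu
    have hcomm : (x * (u : Γ) * x⁻¹) * (u : Γ) = (u : Γ) * (x * (u : Γ) * x⁻¹) := by
      have := congrArg (Subtype.val) hu
      simp only [Subgroup.coe_mul, hθapp] at this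
      exact this
    exact qpq_elt p hp2 ι hι x hxp hx1 Q hQ hxQ (u : Γ) u.2 hcomm
  -- the involution
  obtain ⟨q0, hq0Q, hq0⟩ := hnc
  have hQnt : 1 < Nat.card Q := by
    rw [Finite.one_lt_card_iff_nontrivial]
    refine ⟨⟨⟨q0, hq0Q⟩, 1, ?_⟩⟩
    intro h
    have : q0 = 1 := congrArg Subtype.val h
    exact hq0 (by rw [this, one_mul, mul_one])
  have h2dvd : 2 ∣ Nat.card Q := by
    obtain ⟨k, hk⟩ := (IsPGroup.iff_card).1 hQ2
    rw [hk] at hQnt ⊢
    have hk0 : k ≠ 0 := by
      rintro rfl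
      simp at hQnt
    exact dvd_pow_self 2 hk0
  obtain ⟨z₀, hz₀⟩ := exists_prime_orderOf_dvd_card' (G := ↥Q) 2 h2dvd
  have hz₀1 : z₀ ≠ 1 := by
    rintro rfl
    rw [orderOf_one] at hz₀
    omega
  have hιz₀ : ι (z₀ : Γ) = -1 := by
    have h1 : ι (z₀ : Γ) * ι (z₀ : Γ) = 1 := by
      rw [← map_mul]
      have : z₀ ^ 2 = 1 := by rw [← hz₀]; exact pow_orderOf_eq_one z₀
      have h3 : (z₀ : Γ) * (z₀ : Γ) = 1 := by
        have := congrArg Subtype.val this
        simpa [pow_two] using this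
      rw [h3, map_one]
    rcases sl2_sq_one h2K _ h1 with h | h
    · exfalso
      apply hz₀1
      apply Subtype.ext
      exact hι (by rw [h, Subgroup.coe_one, map_one])
    · exact h
  have hinv : ∀ t : ↥Q, t ^ 2 = 1 → t = 1 ∨ t = z₀ := by
    intro t ht
    have h3 : (t : Γ) * (t : Γ) = 1 := by
      have := congrArg Subtype.val ht
      simpa [pow_two] using this
    have h1 : ι (t : Γ) * ι (t : Γ) = 1 := by rw [← map_mul, h3, map_one]
    rcases sl2_sq_one h2K _ h1 with h | h
    · left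
      apply Subtype.ext
      exact hι (by rw [h, Subgroup.coe_one, map_one])
    · right
      apply Subtype.ext
      exact hι (by rw [h, hιz₀])
  have hncyc : ¬ IsCyclic ↥Q := by
    intro hcyc
    have hcomm : ∀ u v : ↥Q, u * v = v * u := fun u v => by
      letI := hcyc.commGroup
      exact mul_comm u v
    have := (hstep ⟨q0, hq0Q⟩ (hcomm _ _)).1
    exact hq0 this
  obtain ⟨n, hn3, hcard, a, b, ha, hb, hb2, hbab⟩ :=
    Cfsg.Agent.Lib.Helper6.unique_involution_structure hQ2 z₀ hinv hncyc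
  have hθa : θ a ∉ Subgroup.zpowers a := by
    intro hmem
    obtain ⟨k, hk⟩ := Subgroup.mem_zpowers_iff.1 hmem
    have hc : θ a * a = a * θ a := by
      rw [← hk]
      exact ((Commute.refl a).zpow_left k).eq
    obtain ⟨-, h1⟩ := hstep a hc
    have h2 : (a : Γ) * (a : Γ) = 1 := by
      apply hι
      rw [map_mul, map_one]
      rcases h1 with h | h
      · rw [h, one_mul]
      · rw [h, neg_mul_neg, one_mul]
    have h3 : orderOf a ∣ 2 := by
      apply orderOf_dvd_of_pow_eq_one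
      apply Subtype.ext
      rw [pow_two]
      exact h2
    rw [ha] at h3
    have h4 : n - 1 ≤ 1 := by
      have : (2:ℕ)^(n-1) ∣ 2^1 := by simpa using h3
      exact (Nat.pow_dvd_pow_iff_le_right (by norm_num)).1 this
    omega
  have hb2mem : b^2 ∈ Subgroup.zpowers a := by
    rw [hb2]; exact Subgroup.npow_mem_zpowers a _
  obtain ⟨hy2, hyconj⟩ := dic_outside n (by omega) hcard a b ha hb hb2mem hbab (θ a) hθa
  have hn : n = 3 := by
    by_contra hne
    have hord : orderOf (θ a) = 2^(n-1) := by rw [MulEquiv.orderOf_eq θ a, ha]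
    have h4 : (θ a)^4 = 1 := by
      have : (θ a)^4 = ((θ a)^2)^2 := by rw [← pow_mul]
      rw [this, hy2, hb2, ← pow_mul]
      have h5 : 2^(n-2) * 2 = 2^(n-1) := by
        rw [← pow_succ]; congr 1; omega
      rw [h5, ← ha]
      exact pow_orderOf_eq_one a
    have h6 : orderOf (θ a) ∣ 4 := orderOf_dvd_of_pow_eq_one h4
    rw [hord] at h6
    have h7 : n - 1 ≤ 2 := by
      have : (2:ℕ)^(n-1) ∣ 2^2 := by simpa using h6
      exact (Nat.pow_dvd_pow_iff_le_right (by norm_num)).1 this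
    omega
  subst hn
  have hcard8 : Nat.card Q = 8 := by rw [hcard]; norm_num
  have ha4 : orderOf a = 4 := by rw [ha]; norm_num
  have hb2' : b^2 = a^2 := by rw [hb2]; norm_num
  constructor
  · -- p = 3 by counting fixed points
    have hP₀ : IsPGroup p (Subgroup.zpowers θ) := by
      rw [hθ]; exact qpAut_zpowers_isPGroup p Q x hxN hxp
    have hmod := hP₀.card_modEq_card_fixedPoints ↥Q
    have hF : MulAction.fixedPoints (Subgroup.zpowers θ) ↥Q = {1, z₀} := by
      ext u
      constructor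
      · intro hu
        have h1 : θ u = u := hu ⟨θ, Subgroup.mem_zpowers θ⟩
        have h2 := (hstep u (by rw [h1])).2
        rcases h2 with h | h
        · left
          apply Subtype.ext
          exact hι (by rw [h, Subgroup.coe_one, map_one])
        · right
          rw [Set.mem_singleton_iff]
          apply Subtype.ext
          exact hι (by rw [h, hιz₀])
      · intro hu
        rcases hu with rfl | hu
        · intro g
          show (g : MulAut ↥Q) (1 : ↥Q) = 1
          exact map_one _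
        · rw [Set.mem_singleton_iff] at hu
          subst hu
          intro g
          show (g : MulAut ↥Q) u = u
          have h1 : ((g : MulAut ↥Q) u)^2 = 1 := by
            rw [← map_pow]
            have : u ^ 2 = 1 := by rw [← hz₀]; exact pow_orderOf_eq_one u
            rw [this, map_one]
          rcases hinv _ h1 with h | h
          · exfalso
            apply hz₀1
            have := (g : MulAut ↥Q).injective (h.trans (map_one (g : MulAut ↥Q)).symm)
            exact this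
          · exact h
    have hFcard : Nat.card (MulAction.fixedPoints (Subgroup.zpowers θ) ↥Q) = 2 := by
      rw [Nat.card_coe_set_eq, hF]
      exact Set.ncard_pair (Ne.symm hz₀1)
    rw [hFcard, hcard8] at hmod
    have h6 : p ∣ 6 := by
      have := (Nat.modEq_iff_dvd' (by norm_num : 2 ≤ 8)).1 hmod.symm
      simpa using this
    have h7 : p ∣ 2 * 3 := by simpa using h6
    rcases (Nat.Prime.dvd_mul hp).1 h7 with h | h
    · exact absurd ((Nat.prime_dvd_prime_iff_eq hp Nat.prime_two).1 h) hp2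
    · exact (Nat.prime_dvd_prime_iff_eq hp Nat.prime_three).1 h
  · have hxord : orderOf x = p := orderOf_eq_prime hxp hx1
    have hodd : Odd (orderOf x) := by rw [hxord]; exact hp.odd_of_ne_two hp2
    have hc4 : orderOf (a : Γ) = 4 := by rw [Subgroup.orderOf_coe, ha4]
    have hj2 : (x * (a : Γ) * x⁻¹)^2 = (a : Γ)^2 := by
      have h1 := congrArg Subtype.val (hy2.trans hb2')
      simp only [Subgroup.coe_pow, hθapp] at h1
      exact h1
    have hconj : (x * (a : Γ) * x⁻¹) * (a : Γ) * (x * (a : Γ) * x⁻¹)⁻¹ = (a : Γ)⁻¹ := by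
      have h1 := congrArg Subtype.val hyconj
      simp only [Subgroup.coe_mul, Subgroup.coe_inv, hθapp] at h1
      exact h1
    exact sl23_section_main Q x (a : Γ) hcard8 a.2 hc4
      (Subgroup.mem_normalizer_iff.2 hxN) hodd hj2 hconj

end SL2d

end Cfsg.Agent.Lib.Helper4
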