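import Cfsg.Agent.Lib.Helper4.QuadPair4
import Cfsg.Agent.Lib.Helper4.QuadSL2d
import Cfsg.Agent.Lib.Helper3.Sections

/-! Quadratic elements acting nontrivially on a normalised subgroup of order prime to `p`:
`p = 3` and `SL(2,3)` is involved. -/

namespace Cfsg.Agent.Lib.Helper4

open Cfsg.Agent.Lib.Helper3

section QuadPairE

universe u v w

theorem qp_involves_trans {S : Type u} [Group S] {X : Type v} [Group X] {G : Type w} [Group G]
    (h1 : Cfsg.Involves S X) (h2 : Cfsg.Involves X G) : Cfsg.Involves S G := by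
  obtain ⟨K, R, hn, ⟨e⟩⟩ := h1
  haveI := hn
  exact involves_of_equiv e (involves_quotient (involves_subgroup h2 K) _)

/-- the image of a homomorphism defined on a subgroup is a section -/
theorem qp_involves_range {G : Type v} [Group G] {X : Type u} [Group X] (H : Subgroup G)
    (φ : ↥H →* X) : Cfsg.Involves ↥φ.range G := by
  refine involves_of_surjective (X := ↥φ.range) H (φ.ker.map H.subtype) φ.rangeRestrict
    φ.rangeRestrict_surjective ?_
  have h1 : (φ.ker.map H.subtype).subgroupOf H = φ.ker :=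
    Subgroup.comap_map_eq_self_of_injective (Subgroup.subtype_injective H) _
  rw [h1, MonoidHom.ker_rangeRestrict]

/-- a section of a subgroup, written with subgroups of the ambient group -/
theorem qp_involves_explicit {G : Type v} [Group G] (H : Subgroup G) {S : Type u} [Group S]
    (h : Cfsg.Involves S ↥H) :
    ∃ (K L : Subgroup G) (_ : (L.subgroupOf K).Normal), K ≤ H ∧
      Nonempty ((K ⧸ L.subgroupOf K) ≃* S) := by
  obtain ⟨K', R', ψ, hs, hk⟩ := exists_surjective_of_involves h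
  obtain ⟨e, he⟩ : ∃ e : ↥K' ≃* ↥(K'.map H.subtype), ∀ y, ((e y : G)) = ((y : ↥H) : G) :=
    ⟨Subgroup.equivMapOfInjective K' H.subtype H.subtype_injective, fun y => rfl⟩
  obtain ⟨ψ', hψ'⟩ : ∃ ψ' : ↥(K'.map H.subtype) →* S, ψ' = ψ.comp e.symm.toMonoidHom := ⟨_, rfl⟩
  have hs' : Function.Surjective ψ' := by
    rw [hψ']; exact hs.comp e.symm.surjective
  have hk' : ψ'.ker = (R'.map H.subtype).subgroupOf (K'.map H.subtype) := by
    ext x
    rw [MonoidHom.mem_ker, hψ', MonoidHom.comp_apply, ← MonoidHom.mem_ker, hk,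
      Subgroup.mem_subgroupOf, Subgroup.mem_subgroupOf]
    have h1 : (x : G) = H.subtype ((e.symm x : ↥K') : ↥H) := by
      have := he (e.symm x)
      rw [MulEquiv.apply_symm_apply] at this
      exact this
    rw [h1]
    exact (Subgroup.mem_map_iff_mem H.subtype_injective).symm
  haveI hn : ((R'.map H.subtype).subgroupOf (K'.map H.subtype)).Normal := hk' ▸ ψ'.normal_ker
  exact ⟨K'.map H.subtype, R'.map H.subtype, hn, Subgroup.map_subtype_le _,
    ⟨(QuotientGroup.quotientMulEquivOfEq hk'.symm).trans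
      (QuotientGroup.quotientKerEquivOfSurjective ψ' hs')⟩⟩

/-- two commuting elements of order dividing `p` generate a `p`-group -/
theorem qp_comm_pair_isPGroup {G : Type*} [Group G] (p : ℕ) (A B : G)
    (hAB : A * B = B * A) (hA : A ^ p = 1) (hB : B ^ p = 1) :
    ∀ y ∈ Subgroup.closure ({A, B} : Set G), y ^ p = 1 := by
  have hcomm : ∀ y ∈ Subgroup.closure ({A, B} : Set G),
      ∀ z ∈ Subgroup.closure ({A, B} : Set G), Commute y z := by
    have hgen : ∀ y ∈ Subgroup.closure ({A, B} : Set G), Commute y A ∧ Commute y B := by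
      intro y hy
      induction hy using Subgroup.closure_induction with
      | mem z hz =>
        rcases hz with rfl | rfl
        · exact ⟨Commute.refl _, hAB⟩
        · exact ⟨hAB.symm, Commute.refl _⟩
      | one => exact ⟨Commute.one_left _, Commute.one_left _⟩
      | mul y z _ _ ihy ihz => exact ⟨ihy.1.mul_left ihz.1, ihy.2.mul_left ihz.2⟩
      | inv y _ ih => exact ⟨ih.1.inv_left, ih.2.inv_left⟩
    intro y hy z hz
    induction hz using Subgroup.closure_induction with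
    | mem z hz =>
      rcases hz with rfl | rfl
      · exact (hgen y hy).1
      · exact (hgen y hy).2
    | one => exact Commute.one_right _
    | mul z1 z2 _ _ ih1 ih2 => exact ih1.mul_right ih2
    | inv z _ ih => exact ih.inv_right
  intro y hy
  induction hy using Subgroup.closure_induction with
  | mem z hz =>
    rcases hz with rfl | rfl
    · exact hA
    · exact hB
  | one => exact one_pow _
  | mul y z hy hz ihy ihz => rw [(hcomm y hy z hz).mul_pow, ihy, ihz, one_mul]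
  | inv y _ ih => rw [inv_pow, ih, inv_one]

/-- conjugates of quadratic elements are quadratic -/
theorem qp_conj_quadratic {p : ℕ} {Γ : Type*} [Group Γ]
    {W : Type*} [AddCommGroup W] [Module (ZMod p) W]
    (ρ : Γ →* (W ≃ₗ[ZMod p] W)) (a x : Γ)
    (ha : ∀ w, ρ a (ρ a w - w) = ρ a w - w) (w : W) :
    ρ (x * a * x⁻¹) (ρ (x * a * x⁻¹) w - w) = ρ (x * a * x⁻¹) w - w := by
  obtain ⟨w', rfl⟩ : ∃ w', w = ρ x w' :=
    ⟨ρ x⁻¹ w, by rw [← LinearEquiv.mul_apply, ← map_mul, mul_inv_cancel, map_one]; rfl⟩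
  have h1 : ∀ u, ρ (x * a * x⁻¹) (ρ x u) = ρ x (ρ a u) := by
    intro u
    rw [← LinearEquiv.mul_apply, ← map_mul, inv_mul_cancel_right, map_mul]
    rfl
  rw [h1, ← map_sub, h1, ha]

/-- **Abstract form of the `p'`-normal-subgroup theorem.** -/
theorem qp_a594 (p : ℕ) [Fact p.Prime] (hp2 : p ≠ 2) {Γ : Type*} [Group Γ] [Finite Γ]
    {W : Type*} [AddCommGroup W] [Module (ZMod p) W] [Finite W]
    (ρ : Γ →* (W ≃ₗ[ZMod p] W)) (hρ : Function.Injective ρ) (a : Γ)
    (ha : ∀ w, ρ a (ρ a w - w) = ρ a w - w)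
    (Q : Subgroup Γ) (hQ : (Nat.card Q).Coprime p) (haQ : ∀ q, q ∈ Q ↔ a * q * a⁻¹ ∈ Q)
    (x : Γ) (hxQ : x ∈ Q) (hxa : x * a ≠ a * x) :
    p = 3 ∧ Cfsg.Involves (Matrix.SpecialLinearGroup (Fin 2) (ZMod 3)) Γ := by
  have hp := (Fact.out : p.Prime)
  obtain ⟨b, hbdef⟩ : ∃ b, b = x * a * x⁻¹ := ⟨_, rfl⟩
  have hb : ∀ w, ρ b (ρ b w - w) = ρ b w - w := by
    rw [hbdef]; exact qp_conj_quadratic ρ a x ha
  obtain ⟨H₁, hH₁⟩ : ∃ H₁, H₁ = Subgroup.closure ({a, b} : Set Γ) := ⟨_, rfl⟩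
  have haH : a ∈ H₁ := hH₁ ▸ Subgroup.subset_closure (Set.mem_insert _ _)
  have hbH : b ∈ H₁ := hH₁ ▸ Subgroup.subset_closure (Set.mem_insert_of_mem _ rfl)
  obtain ⟨u, hudef⟩ : ∃ u, u = b * a⁻¹ := ⟨_, rfl⟩
  have huQ : u ∈ Q := by
    rw [hudef, hbdef]
    have h1 : a * x⁻¹ * a⁻¹ ∈ Q := (haQ x⁻¹).1 (inv_mem hxQ)
    have h2 : x * a * x⁻¹ * a⁻¹ = x * (a * x⁻¹ * a⁻¹) := by group
    rw [h2]; exact mul_mem hxQ h1
  have huH : u ∈ H₁ := hudef ▸ mul_mem hbH (inv_mem haH)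
  have hu1 : u ≠ 1 := by
    intro h1
    apply hxa
    rw [hudef, mul_inv_eq_one, hbdef] at h1
    calc x * a = (x * a * x⁻¹) * x := by group
      _ = a * x := by rw [h1]
  haveI : Finite Q := inferInstance
  have hnp : ¬ IsPGroup p H₁ := by
    intro hP
    obtain ⟨j, hj⟩ := hP ⟨u, huH⟩
    have hj' : u ^ (p ^ j) = 1 := by simpa using congrArg Subtype.val hj
    exact hu1 (eq_one_of_pow_of_coprime Q (Nat.Coprime.pow_right j hQ) u huQ hj')
  have hap : a ^ p = 1 := by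
    apply hρ
    rw [map_pow, map_one]
    exact qp_pow_char p (ρ a) ha
  have hbp : b ^ p = 1 := by
    rw [hbdef, conj_pow, hap, mul_one, mul_inv_cancel]
  subst hH₁
  obtain ⟨K, _, _, _, φ, hφ⟩ := qp_sl2_hom p ρ hρ a b ha hb hnp
  -- the images
  obtain ⟨A, hA⟩ : ∃ A : ↥φ.range, A = φ.rangeRestrict ⟨a, haH⟩ := ⟨_, rfl⟩
  obtain ⟨B, hB⟩ : ∃ B : ↥φ.range, B = φ.rangeRestrict ⟨b, hbH⟩ := ⟨_, rfl⟩
  obtain ⟨U, hU⟩ : ∃ U : ↥φ.range, U = φ.rangeRestrict ⟨u, huH⟩ := ⟨_, rfl⟩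
  have hUBA : U = B * A⁻¹ := by
    rw [hU, hB, hA, ← map_inv, ← map_mul]
    congr 1
    apply Subtype.ext
    exact hudef
  have hAp : A ^ p = 1 := by
    rw [hA, ← map_pow]
    have : (⟨a, haH⟩ : ↥(Subgroup.closure ({a, b} : Set Γ))) ^ p = 1 := Subtype.ext (by simpa using hap)
    rw [this, map_one]
  have hBp : B ^ p = 1 := by
    rw [hB, ← map_pow]
    have : (⟨b, hbH⟩ : ↥(Subgroup.closure ({a, b} : Set Γ))) ^ p = 1 := Subtype.ext (by simpa using hbp)
    rw [this, map_one]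
  obtain ⟨Q₁, hQ₁⟩ : ∃ Q₁ : Subgroup ↥(Subgroup.closure ({a, b} : Set Γ)),
    Q₁ = Q.subgroupOf (Subgroup.closure ({a, b} : Set Γ)) := ⟨_, rfl⟩
  obtain ⟨Qb, hQb⟩ : ∃ Qb : Subgroup ↥φ.range, Qb = Q₁.map φ.rangeRestrict := ⟨_, rfl⟩
  have hQbcard : (Nat.card Qb).Coprime p := by
    have h1 : Nat.card Qb ∣ Nat.card Q₁ := by rw [hQb]; exact Subgroup.card_map_dvd _ _
    have h2 : Nat.card Q₁ ∣ Nat.card Q := by
      rw [hQ₁]
      have : Q.subgroupOf (Subgroup.closure ({a, b} : Set Γ)) =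
          (Q ⊓ Subgroup.closure ({a, b} : Set Γ)).subgroupOf (Subgroup.closure ({a, b} : Set Γ)) :=
        (Subgroup.inf_subgroupOf_right _ _).symm
      rw [this, Nat.card_congr (Subgroup.subgroupOfEquivOfLe
        (inf_le_right : Q ⊓ Subgroup.closure ({a, b} : Set Γ) ≤ _)).toEquiv]
      exact Subgroup.card_dvd_of_le inf_le_left
    exact Nat.Coprime.coprime_dvd_left (h1.trans h2) hQ
  -- normalisation
  have hnorm1 : ∀ q ∈ Qb, A * q * A⁻¹ ∈ Qb := by
    intro q hq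
    rw [hQb] at hq ⊢
    obtain ⟨q', hq', rfl⟩ := Subgroup.mem_map.1 hq
    refine Subgroup.mem_map.2 ⟨⟨a, haH⟩ * q' * ⟨a, haH⟩⁻¹, ?_, ?_⟩
    · rw [hQ₁, Subgroup.mem_subgroupOf] at hq' ⊢
      exact (haQ _).1 hq'
    · rw [map_mul, map_mul, map_inv, hA]
  have hnorm2 : ∀ q ∈ Qb, A⁻¹ * q * A ∈ Qb := by
    intro q hq
    rw [hQb] at hq ⊢
    obtain ⟨q', hq', rfl⟩ := Subgroup.mem_map.1 hq
    refine Subgroup.mem_map.2 ⟨⟨a, haH⟩⁻¹ * q' * ⟨a, haH⟩, ?_, ?_⟩
    · rw [hQ₁, Subgroup.mem_subgroupOf] at hq' ⊢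
      apply (haQ _).2
      have : a * ((⟨a, haH⟩⁻¹ * q' * ⟨a, haH⟩ : ↥(Subgroup.closure ({a, b} : Set Γ))) : Γ) * a⁻¹
          = (q' : Γ) := by
        simp only [Subgroup.coe_mul, Subgroup.coe_inv]
        group
      rw [this]; exact hq'
    · rw [map_mul, map_mul, map_inv, hA]
  have hxN : ∀ q, q ∈ Qb ↔ A * q * A⁻¹ ∈ Qb := by
    intro q
    refine ⟨hnorm1 q, fun h => ?_⟩
    have := hnorm2 _ h
    have h2 : A⁻¹ * (A * q * A⁻¹) * A = q := by group
    rwa [h2] at this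
  have hUQ : U ∈ Qb := by
    rw [hQb, hU]
    refine Subgroup.mem_map.2 ⟨⟨u, huH⟩, ?_, rfl⟩
    rw [hQ₁, Subgroup.mem_subgroupOf]
    exact huQ
  have hnc : ∃ q ∈ Qb, A * q ≠ q * A := by
    refine ⟨U, hUQ, ?_⟩
    intro hcomm
    -- then A and B commute, and the image is a p-group
    have hAB : A * B = B * A := by
      have hBU : B = U * A := by rw [hUBA]; group
      rw [hBU, ← mul_assoc, hcomm]
    apply hφ
    have hall : ∀ y ∈ Subgroup.closure ({A, B} : Set ↥φ.range), y ^ p = 1 :=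
      qp_comm_pair_isPGroup p A B hAB hAp hBp
    have hrange : ∀ (y : Γ) (hy : y ∈ Subgroup.closure ({a, b} : Set Γ)),
        φ.rangeRestrict ⟨y, hy⟩ ∈ Subgroup.closure ({A, B} : Set ↥φ.range) := by
      intro y hy
      induction hy using Subgroup.closure_induction with
      | mem z hz =>
        rcases hz with rfl | rfl
        · rw [← hA]; exact Subgroup.subset_closure (Set.mem_insert _ _)
        · rw [← hB]; exact Subgroup.subset_closure (Set.mem_insert_of_mem _ rfl)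
      | one =>
        have : (⟨1, one_mem _⟩ : ↥(Subgroup.closure ({a, b} : Set Γ))) = 1 := rfl
        rw [this, map_one]; exact one_mem _
      | mul y z hy hz ihy ihz =>
        have : (⟨y * z, mul_mem hy hz⟩ : ↥(Subgroup.closure ({a, b} : Set Γ))) =
            ⟨y, hy⟩ * ⟨z, hz⟩ := rfl
        rw [this, map_mul]; exact mul_mem ihy ihz
      | inv y hy ih =>
        have : (⟨y⁻¹, inv_mem hy⟩ : ↥(Subgroup.closure ({a, b} : Set Γ))) = ⟨y, hy⟩⁻¹ := rfl
        rw [this, map_inv]; exact inv_mem ih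
    rintro ⟨y, z, rfl⟩
    refine ⟨1, ?_⟩
    rw [pow_one]
    have h1 := hall _ (hrange z.1 z.2)
    have h2 : (φ.rangeRestrict ⟨z.1, z.2⟩ : ↥φ.range) = ⟨φ z, z, rfl⟩ := rfl
    rw [h2] at h1
    exact h1
  obtain ⟨h3, hinv⟩ := qpq_main p hp2 φ.range.subtype φ.range.subtype_injective A hAp Qb hQbcard hxN hnc
  exact ⟨h3, qp_involves_trans hinv (qp_involves_range _ φ)⟩

end QuadPairE

end Cfsg.Agent.Lib.Helper4
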