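import Mathlib
import Cfsg.Prelude.Def_Transfer
import Cfsg.Agent.Lib.Helper7.ElemAbGL

/-! From a faithful conjugation action on an elementary abelian `p`-subgroup to a faithful
linear representation over the prime field; quadratic elements. -/

namespace Cfsg.Agent.Lib.Helper4

open Cfsg.Agent.Lib.Helper7.ElemAbGL
open scoped commutatorElement

section QuadPairF

universe u

variable {G : Type u} [Group G]

/-- conjugation action of a subgroup of the normaliser -/
def qpConj (V H : Subgroup G) (hHV : H ≤ Subgroup.normalizer (V : Set G)) : ↥H →* MulAut ↥V where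
  toFun h :=
    { toFun := fun v => ⟨(h : G) * v * (h : G)⁻¹,
        ((Subgroup.mem_normalizer_iff.1 (hHV h.2)) v).1 v.2⟩
      invFun := fun v => ⟨(h : G)⁻¹ * v * (h : G), by
        have := ((Subgroup.mem_normalizer_iff.1 (hHV (inv_mem h.2))) v).1 v.2
        simpa using this⟩
      left_inv := fun v => by apply Subtype.ext; simp only []; group
      right_inv := fun v => by apply Subtype.ext; simp only []; group
      map_mul' := fun v w => by
        apply Subtype.ext
        simp only [Subgroup.coe_mul]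
        group }
  map_one' := by
    apply MulEquiv.ext
    intro v
    apply Subtype.ext
    simp
  map_mul' h1 h2 := by
    apply MulEquiv.ext
    intro v
    apply Subtype.ext
    simp only [MulAut.mul_apply, MulEquiv.coe_mk, Equiv.coe_fn_mk, Subgroup.coe_mul]
    group

theorem qpConj_coe (V H : Subgroup G) (hHV : H ≤ Subgroup.normalizer (V : Set G)) (h : ↥H)
    (v : ↥V) : ((qpConj V H hHV h v : ↥V) : G) = (h : G) * v * (h : G)⁻¹ := rfl

/-- linearisation of an action by automorphisms -/
def qpLin {Γ A : Type*} [Group Γ] [CommGroup A] (p : ℕ) [Module (ZMod p) (Additive A)]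
    (σ : Γ →* MulAut A) : Γ →* (Additive A ≃ₗ[ZMod p] Additive A) :=
  MonoidHom.mk' (fun h => linOfAdd (MulEquiv.toAdditive (σ h))) (by
    intro h1 h2
    apply LinearEquiv.ext
    intro x
    rw [map_mul]
    show Additive.ofMul ((σ h1 * σ h2) (Additive.toMul x)) = _
    rw [MulAut.mul_apply, LinearEquiv.mul_apply]
    rfl)

theorem qpLin_apply {Γ A : Type*} [Group Γ] [CommGroup A] (p : ℕ) [Module (ZMod p) (Additive A)]
    (σ : Γ →* MulAut A) (h : Γ) (x : Additive A) :
    qpLin p σ h x = Additive.ofMul (σ h (Additive.toMul x)) := rfl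

theorem qpLin_injective {Γ A : Type*} [Group Γ] [CommGroup A] (p : ℕ)
    [Module (ZMod p) (Additive A)] (σ : Γ →* MulAut A) (hσ : Function.Injective σ) :
    Function.Injective (qpLin p σ) := by
  intro h1 h2 h12
  apply hσ
  apply MulEquiv.ext
  intro v
  have h := congrArg (fun T : Additive A ≃ₗ[ZMod p] Additive A => T (Additive.ofMul v)) h12
  exact h

theorem qpConj_injective (V H : Subgroup G) (hHV : H ≤ Subgroup.normalizer (V : Set G))
    (hf : H ⊓ Subgroup.centralizer (V : Set G) = ⊥) : Function.Injective (qpConj V H hHV) := by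
  refine (injective_iff_map_eq_one (qpConj V H hHV)).2 ?_
  intro h hh
  have h1 : (h : G) ∈ H ⊓ Subgroup.centralizer (V : Set G) := by
    refine Subgroup.mem_inf.2 ⟨h.2, ?_⟩
    rw [Subgroup.mem_centralizer_iff]
    intro v hv
    have h3 : (qpConj V H hHV h ⟨v, hv⟩ : ↥V) = ⟨v, hv⟩ := by rw [hh]; rfl
    have h4 := congrArg Subtype.val h3
    rw [qpConj_coe] at h4
    have h5 : (h : G) * v * (h : G)⁻¹ = v := h4
    calc v * (h : G) = ((h : G) * v * (h : G)⁻¹) * h := by rw [h5]
      _ = (h : G) * v := by group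
  rw [hf, Subgroup.mem_bot] at h1
  exact Subtype.ext h1

theorem qp_internal_rep [Finite G] (p : ℕ) [Fact p.Prime] (V H : Subgroup G)
    (hV : Cfsg.IsElementaryAbelian p V) (hHV : H ≤ Subgroup.normalizer (V : Set G))
    (hf : H ⊓ Subgroup.centralizer (V : Set G) = ⊥) :
    ∃ (W : Type u) (_ : AddCommGroup W) (_ : Module (ZMod p) W) (_ : Finite W)
      (ρ : ↥H →* (W ≃ₗ[ZMod p] W)), Function.Injective ρ ∧
      ∀ (a : ↥H), ⁅⁅V, Subgroup.zpowers (a : G)⁆, Subgroup.zpowers (a : G)⁆ = ⊥ →
        ∀ w, ρ a (ρ a w - w) = ρ a w - w := by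
  letI : CommGroup ↥V :=
    { (inferInstance : Group ↥V) with mul_comm := fun x y => hV.1.is_comm.comm x y }
  letI : Module (ZMod p) (Additive ↥V) := AddCommGroup.zmodModule (n := p) (by
    intro x
    have h1 : (Additive.toMul x) ^ p = 1 := by
      apply Subtype.ext
      rw [Subgroup.coe_pow]
      exact hV.2 _ (Additive.toMul x).2
    have h2 : p • x = Additive.ofMul ((Additive.toMul x) ^ p) := rfl
    rw [h2, h1]; rfl)
  haveI : Finite (Additive ↥V) := inferInstanceAs (Finite ↥V)
  refine ⟨Additive ↥V, inferInstance, inferInstance, inferInstance,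
    qpLin p (qpConj V H hHV), ?_, ?_⟩
  · exact qpLin_injective p _ (qpConj_injective V H hHV hf)
  · intro a haq w
    obtain ⟨v, hv⟩ : ∃ v : ↥V, w = Additive.ofMul v := ⟨Additive.toMul w, rfl⟩
    rw [hv]
    have key : qpConj V H hHV a (qpConj V H hHV a v / v) = qpConj V H hHV a v / v := by
      apply Subtype.ext
      rw [qpConj_coe]
      have hc : ⁅(v : G), (a : G)⁆ ∈ ⁅V, Subgroup.zpowers (a : G)⁆ :=
        Subgroup.commutator_mem_commutator v.2 (Subgroup.mem_zpowers _)
      have hcc : ⁅⁅(v : G), (a : G)⁆, (a : G)⁆ ∈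
          ⁅⁅V, Subgroup.zpowers (a : G)⁆, Subgroup.zpowers (a : G)⁆ :=
        Subgroup.commutator_mem_commutator hc (Subgroup.mem_zpowers _)
      rw [haq, Subgroup.mem_bot, commutatorElement_def, commutatorElement_def] at hcc
      have h5 : ((qpConj V H hHV a v / v : ↥V) : G) = (a : G) * v * (a : G)⁻¹ * (v : G)⁻¹ := by
        rw [Subgroup.coe_div, qpConj_coe, div_eq_mul_inv]
      rw [h5]
      -- c = v a v⁻¹ a⁻¹ commutes with a; the element is c⁻¹
      have h6 : (v : G) * a * (v : G)⁻¹ * (a : G)⁻¹ * a =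
          a * ((v : G) * a * (v : G)⁻¹ * (a : G)⁻¹) := by
        have := hcc
        rw [mul_inv_eq_one, mul_inv_eq_iff_eq_mul] at this
        exact this
      have h7 : (a : G) * v * (a : G)⁻¹ * (v : G)⁻¹ = ((v : G) * a * (v : G)⁻¹ * (a : G)⁻¹)⁻¹ := by
        group
      rw [h7]
      have h8 : Commute ((v : G) * a * (v : G)⁻¹ * (a : G)⁻¹) (a : G) := h6
      have h9 : Commute (((v : G) * a * (v : G)⁻¹ * (a : G)⁻¹)⁻¹) (a : G) := h8.inv_left
      rw [← h9.eq, mul_inv_cancel_right]
    exact congrArg Additive.ofMul key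

end QuadPairF

end Cfsg.Agent.Lib.Helper4
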