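import Cfsg.Agent.Lib.Helper4.QuadSL2a
import Cfsg.Agent.Lib.Helper4.PermHeart1

/-! Subgroups of `SL(2, K)` generated by two elements of order `p = char K`:
a nontrivial normal `p`-subgroup forces the whole group to be a `p`-group. -/

namespace Cfsg.Agent.Lib.Helper4

section QuadSL2E

variable {K : Type*} [Field K]

theorem mat2_mulVec_eq (M : Matrix (Fin 2) (Fin 2) K) (v w : Fin 2 → K) :
    Matrix.mulVec M v = w ↔
      M 0 0 * v 0 + M 0 1 * v 1 = w 0 ∧ M 1 0 * v 0 + M 1 1 * v 1 = w 1 := by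
  constructor
  · intro h
    constructor
    · have := congrFun h 0
      simpa [Matrix.mulVec, dotProduct, Fin.sum_univ_two] using this
    · have := congrFun h 1
      simpa [Matrix.mulVec, dotProduct, Fin.sum_univ_two] using this
  · rintro ⟨h0, h1⟩
    ext i
    fin_cases i
    · simpa [Matrix.mulVec, dotProduct, Fin.sum_univ_two] using h0
    · simpa [Matrix.mulVec, dotProduct, Fin.sum_univ_two] using h1

theorem vec2_ne_zero (v : Fin 2 → K) (hv : v ≠ 0) : v 0 ≠ 0 ∨ v 1 ≠ 0 := by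
  by_contra h
  apply hv
  ext i
  fin_cases i
  · by_contra h0; exact h (Or.inl h0)
  · by_contra h1; exact h (Or.inr h1)

theorem sl2_fix_two (g : Matrix.SpecialLinearGroup (Fin 2) K) (v w : Fin 2 → K)
    (hv : Matrix.mulVec (g : Matrix (Fin 2) (Fin 2) K) v = v)
    (hw : Matrix.mulVec (g : Matrix (Fin 2) (Fin 2) K) w = w)
    (hD : v 0 * w 1 - v 1 * w 0 ≠ 0) : g = 1 := by
  obtain ⟨h1, h2⟩ := (mat2_mulVec_eq _ _ _).1 hv
  obtain ⟨h3, h4⟩ := (mat2_mulVec_eq _ _ _).1 hw
  have e00 : (g 0 0 - 1) * (v 0 * w 1 - v 1 * w 0) = 0 := by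
    linear_combination w 1 * h1 - v 1 * h3
  have e01 : g 0 1 * (v 0 * w 1 - v 1 * w 0) = 0 := by
    linear_combination v 0 * h3 - w 0 * h1
  have e10 : g 1 0 * (v 0 * w 1 - v 1 * w 0) = 0 := by
    linear_combination w 1 * h2 - v 1 * h4
  have e11 : (g 1 1 - 1) * (v 0 * w 1 - v 1 * w 0) = 0 := by
    linear_combination v 0 * h4 - w 0 * h2
  have f00 : g 0 0 = 1 := by
    rcases mul_eq_zero.1 e00 with h | h
    · exact sub_eq_zero.1 h
    · exact absurd h hD
  have f01 : g 0 1 = 0 := by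
    rcases mul_eq_zero.1 e01 with h | h
    · exact h
    · exact absurd h hD
  have f10 : g 1 0 = 0 := by
    rcases mul_eq_zero.1 e10 with h | h
    · exact h
    · exact absurd h hD
  have f11 : g 1 1 = 1 := by
    rcases mul_eq_zero.1 e11 with h | h
    · exact sub_eq_zero.1 h
    · exact absurd h hD
  ext i j
  fin_cases i <;> fin_cases j
  · simpa using f00
  · simpa using f01
  · simpa using f10
  · simpa using f11

theorem sl2_eig_unip (g : Matrix.SpecialLinearGroup (Fin 2) K) (htr : sl2tr g = 2)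
    (v : Fin 2 → K) (hv : v ≠ 0) (c : K)
    (h : Matrix.mulVec (g : Matrix (Fin 2) (Fin 2) K) v = c • v) : c = 1 := by
  obtain ⟨h1, h2⟩ := (mat2_mulVec_eq _ _ _).1 h
  simp only [Pi.smul_apply, smul_eq_mul] at h1 h2
  have hdet := sl2_det g
  have htr' : g 0 0 + g 1 1 = 2 := htr
  have e0 : (c - 1) * (c - 1) * v 0 = 0 := by
    linear_combination (g 1 1 - c) * h1 - g 0 1 * h2 - v 0 * hdet + c * v 0 * htr'
  have e1 : (c - 1) * (c - 1) * v 1 = 0 := by
    linear_combination (g 0 0 - c) * h2 - g 1 0 * h1 - v 1 * hdet + c * v 1 * htr'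
  have hsq : (c - 1) * (c - 1) = 0 := by
    rcases vec2_ne_zero v hv with h0 | h0
    · rcases mul_eq_zero.1 e0 with h | h
      · exact h
      · exact absurd h h0
    · rcases mul_eq_zero.1 e1 with h | h
      · exact h
      · exact absurd h h0
  exact sub_eq_zero.1 (mul_self_eq_zero.1 hsq)

theorem sl2_fix_tr (g : Matrix.SpecialLinearGroup (Fin 2) K)
    (v : Fin 2 → K) (hv : v ≠ 0)
    (h : Matrix.mulVec (g : Matrix (Fin 2) (Fin 2) K) v = v) : sl2tr g = 2 := by
  obtain ⟨h1, h2⟩ := (mat2_mulVec_eq _ _ _).1 h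
  have hdet := sl2_det g
  have e0 : (2 - (g 0 0 + g 1 1)) * v 0 = 0 := by
    linear_combination (g 1 1 - 1) * h1 - g 0 1 * h2 - v 0 * hdet
  have e1 : (2 - (g 0 0 + g 1 1)) * v 1 = 0 := by
    linear_combination (g 0 0 - 1) * h2 - g 1 0 * h1 - v 1 * hdet
  have hz : 2 - (g 0 0 + g 1 1) = 0 := by
    rcases vec2_ne_zero v hv with h0 | h0
    · rcases mul_eq_zero.1 e0 with h | h
      · exact h
      · exact absurd h h0
    · rcases mul_eq_zero.1 e1 with h | h
      · exact h
      · exact absurd h h0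
  show g 0 0 + g 1 1 = 2
  exact (sub_eq_zero.1 hz).symm

theorem vec2_dep (v w : Fin 2 → K) (hv : v ≠ 0) (hD : v 0 * w 1 - v 1 * w 0 = 0) :
    ∃ c : K, w = c • v := by
  rcases vec2_ne_zero v hv with h0 | h0
  · refine ⟨w 0 / v 0, ?_⟩
    ext i
    fin_cases i
    · simp only [Pi.smul_apply, smul_eq_mul, Fin.zero_eta, Fin.isValue]
      field_simp
    · simp only [Pi.smul_apply, smul_eq_mul, Fin.mk_one, Fin.isValue]
      field_simp
      linear_combination hD
  · refine ⟨w 1 / v 1, ?_⟩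
    ext i
    fin_cases i
    · simp only [Pi.smul_apply, smul_eq_mul, Fin.zero_eta, Fin.isValue]
      field_simp
      linear_combination -hD
    · simp only [Pi.smul_apply, smul_eq_mul, Fin.mk_one, Fin.isValue]
      field_simp

/-- the representation on column vectors -/
def sl2Rep {L : Type*} [Group L] (ι : L →* Matrix.SpecialLinearGroup (Fin 2) K) :
    Representation K L (Fin 2 → K) where
  toFun g := Matrix.mulVecLin ((ι g : Matrix.SpecialLinearGroup (Fin 2) K) : Matrix (Fin 2) (Fin 2) K)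
  map_one' := by
    rw [map_one, Matrix.SpecialLinearGroup.coe_one, Matrix.mulVecLin_one]
    rfl
  map_mul' g h := by
    rw [map_mul, Matrix.SpecialLinearGroup.coe_mul, Matrix.mulVecLin_mul]
    rfl

theorem sl2Rep_apply {L : Type*} [Group L] (ι : L →* Matrix.SpecialLinearGroup (Fin 2) K)
    (g : L) (v : Fin 2 → K) :
    sl2Rep ι g v = Matrix.mulVec ((ι g : Matrix.SpecialLinearGroup (Fin 2) K) :
      Matrix (Fin 2) (Fin 2) K) v := rfl

theorem sl2_normal_pgroup_trivial {L : Type*} [Group L] [Finite L] (p : ℕ) [Fact p.Prime]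
    [CharP K p] (ι : L →* Matrix.SpecialLinearGroup (Fin 2) K) (hι : Function.Injective ι)
    (A B : L) (hA : A ^ p = 1) (hB : B ^ p = 1)
    (hgen : Subgroup.closure ({A, B} : Set L) = ⊤)
    (hnp : ¬ IsPGroup p L) (P : Subgroup L) [hPn : P.Normal] (hP : IsPGroup p P) : P = ⊥ := by
  by_contra hPne
  have hmul : ∀ (g h : L) (v : Fin 2 → K), sl2Rep ι (g * h) v = sl2Rep ι g (sl2Rep ι h v) := by
    intro g h v
    rw [map_mul]; rfl
  obtain ⟨v, -, hv0, hfix⟩ := pgroup_fixed_vector hP ((sl2Rep ι).comp P.subtype) ⊤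
    (fun _ _ _ => Submodule.mem_top) top_ne_bot
  have hfix' : ∀ z ∈ P, sl2Rep ι z v = v := fun z hz => hfix ⟨z, hz⟩
  -- every element maps v to a multiple of v
  have hline : ∀ g : L, ∃ c : K, sl2Rep ι g v = c • v := by
    intro g
    by_contra hno
    have hD : v 0 * (sl2Rep ι g v) 1 - v 1 * (sl2Rep ι g v) 0 ≠ 0 := by
      intro hD
      exact hno (vec2_dep v _ hv0 hD)
    apply hPne
    rw [eq_bot_iff]
    intro z hz
    rw [Subgroup.mem_bot]
    apply hι
    rw [map_one]
    refine sl2_fix_two (ι z) v (sl2Rep ι g v) (hfix' z hz) ?_ hD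
    have h1 : g⁻¹ * z * g ∈ P := by
      have := hPn.conj_mem z hz g⁻¹
      simpa using this
    have h2 : z * g = g * (g⁻¹ * z * g) := by group
    show sl2Rep ι z (sl2Rep ι g v) = sl2Rep ι g v
    rw [← hmul, h2, hmul, hfix' _ h1]
  have hfixp : ∀ X : L, X ^ p = 1 → sl2Rep ι X v = v := by
    intro X hX
    obtain ⟨c, hc⟩ := hline X
    have htr : sl2tr (ι X) = 2 := sl2_tr_of_pow p (ι X) (by rw [← map_pow, hX, map_one])
    have := sl2_eig_unip (ι X) htr v hv0 c hc
    rw [hc, this, one_smul]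
  -- the stabiliser of v
  let S : Subgroup L :=
    { carrier := {g | sl2Rep ι g v = v}
      mul_mem' := fun {g h} hg hh => by
        show sl2Rep ι (g * h) v = v
        rw [hmul, (show sl2Rep ι h v = v from hh), (show sl2Rep ι g v = v from hg)]
      one_mem' := by
        show sl2Rep ι 1 v = v
        rw [map_one]; rfl
      inv_mem' := fun {g} hg => by
        show sl2Rep ι g⁻¹ v = v
        have h1 : sl2Rep ι g v = v := hg
        have h2 : sl2Rep ι (g⁻¹ * g) v = v := by rw [inv_mul_cancel, map_one]; rfl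
        rw [hmul, h1] at h2
        exact h2 }
  have hS : S = ⊤ := by
    rw [eq_top_iff, ← hgen, Subgroup.closure_le]
    intro X hX
    rcases hX with rfl | rfl
    · exact hfixp _ hA
    · exact hfixp _ hB
  apply hnp
  intro g
  refine ⟨1, ?_⟩
  rw [pow_one]
  apply hι
  rw [map_pow, map_one]
  have hg : g ∈ S := hS ▸ Subgroup.mem_top g
  exact sl2_unip_pow p (ι g) (sl2_fix_tr (ι g) v hv0 hg)

end QuadSL2E

end Cfsg.Agent.Lib.Helper4
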