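import Cfsg.Agent.Lib.Helper4.QuadSL2d
import Cfsg.Agent.Lib.Helper4.QuadSL2e
import Cfsg.Agent.Lib.Helper4.Cores
import Cfsg.Agent.Lib.Helper3.DualCore

/-! `p`-solvable subgroups of `SL(2, K)` generated by two elements of order `p = char K`. -/

namespace Cfsg.Agent.Lib.Helper4

section QuadSL2F

variable {K : Type*} [Field K]

theorem sl2_psolvable_main {L : Type*} [Group L] [Finite L] (p : ℕ) [Fact p.Prime]
    [CharP K p] (hp2 : p ≠ 2)
    (ι : L →* Matrix.SpecialLinearGroup (Fin 2) K) (hι : Function.Injective ι)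
    (A B : L) (hA : A ^ p = 1) (hB : B ^ p = 1)
    (hgen : Subgroup.closure ({A, B} : Set L) = ⊤)
    (hnp : ¬ IsPGroup p L) (hsol : Cfsg.IsPSolvable p L) :
    p = 3 ∧ Cfsg.Involves (Matrix.SpecialLinearGroup (Fin 2) (ZMod 3)) L := by
  haveI : (Cfsg.pCore p L).Normal := pCore_normal p
  have hO : Cfsg.pCore p L = ⊥ :=
    sl2_normal_pgroup_trivial p ι hι A B hA hB hgen hnp _ pCore_isPGroup
  have hC := Cfsg.Agent.Lib.Helper3.centralizer_pPrimeCore_le_of_psolvable hsol hO
  obtain ⟨N, hN⟩ : ∃ N, N = Cfsg.pPrimeCore p L := ⟨_, rfl⟩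
  rw [← hN] at hC
  haveI hNn : N.Normal := hN ▸ pPrimeCore_normal p
  have hNc : (Nat.card N).Coprime p := hN ▸ Cfsg.Agent.Lib.Helper1.pPrimeCore_coprime p
  have hnorm : ∀ X : L, ∀ q, q ∈ N ↔ X * q * X⁻¹ ∈ N := by
    intro X q
    refine ⟨fun h => hNn.conj_mem q h X, fun h => ?_⟩
    have := hNn.conj_mem _ h X⁻¹
    have h2 : X⁻¹ * (X * q * X⁻¹) * X⁻¹⁻¹ = q := by group
    rwa [h2] at this
  -- one of the generators does not centralise N
  have hex : (∃ q ∈ N, A * q ≠ q * A) ∨ (∃ q ∈ N, B * q ≠ q * B) := by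
    by_contra hno
    have hAc : ∀ q ∈ N, A * q = q * A := by
      intro q hq
      by_contra h
      exact hno (Or.inl ⟨q, hq, h⟩)
    have hBc : ∀ q ∈ N, B * q = q * B := by
      intro q hq
      by_contra h
      exact hno (Or.inr ⟨q, hq, h⟩)
    have hAN : A ∈ N := hC (by
      rw [Subgroup.mem_centralizer_iff]
      intro q hq
      exact (hAc q hq).symm)
    have hBN : B ∈ N := hC (by
      rw [Subgroup.mem_centralizer_iff]
      intro q hq
      exact (hBc q hq).symm)
    have hA1 : A = 1 := eq_one_of_pow_of_coprime N hNc A hAN hA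
    have hB1 : B = 1 := eq_one_of_pow_of_coprime N hNc B hBN hB
    apply hnp
    intro g
    refine ⟨0, ?_⟩
    rw [pow_zero, pow_one]
    have hg : g ∈ Subgroup.closure ({A, B} : Set L) := hgen ▸ Subgroup.mem_top g
    rw [hA1, hB1] at hg
    have hle : Subgroup.closure ({1, 1} : Set L) ≤ ⊥ := by
      rw [Subgroup.closure_le]
      intro z hz
      rcases hz with rfl | rfl <;> exact Subgroup.mem_bot.2 rfl
    exact Subgroup.mem_bot.1 (hle hg)
  rcases hex with hnc | hnc
  · exact qpq_main p hp2 ι hι A hA N hNc (hnorm A) hnc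
  · exact qpq_main p hp2 ι hι B hB N hNc (hnorm B) hnc

end QuadSL2F

end Cfsg.Agent.Lib.Helper4
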