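import Cfsg.Agent.Lib.Helper4.QuadPair5
import Cfsg.Agent.Lib.Helper4.QuadSL2f
import Cfsg.Agent.Lib.Helper1.BaerSuzuki
import Cfsg.Agent.Lib.Helper7.PSolvable

/-! A quadratic element outside `O_p` of a `p`-solvable group acting faithfully:
`p = 3` and `SL(2,3)` is involved. -/

namespace Cfsg.Agent.Lib.Helper4

open Cfsg.Agent.Lib.Helper3

section QuadPairG

/-- matrix-level form for a pair of quadratic elements generating a `p`-solvable group that is
not a `p`-group -/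
theorem qp_pair_psolvable (p : ℕ) [Fact p.Prime] (hp2 : p ≠ 2) {Γ : Type*} [Group Γ] [Finite Γ]
    {W : Type*} [AddCommGroup W] [Module (ZMod p) W] [Finite W]
    (ρ : Γ →* (W ≃ₗ[ZMod p] W)) (hρ : Function.Injective ρ) (a b : Γ)
    (ha : ∀ w, ρ a (ρ a w - w) = ρ a w - w) (hb : ∀ w, ρ b (ρ b w - w) = ρ b w - w)
    (hnp : ¬ IsPGroup p (Subgroup.closure ({a, b} : Set Γ)))
    (hsol : Cfsg.IsPSolvable p (Subgroup.closure ({a, b} : Set Γ))) :
    p = 3 ∧ Cfsg.Involves (Matrix.SpecialLinearGroup (Fin 2) (ZMod 3)) Γ := by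
  have hp := (Fact.out : p.Prime)
  have haH : a ∈ Subgroup.closure ({a, b} : Set Γ) :=
    Subgroup.subset_closure (Set.mem_insert _ _)
  have hbH : b ∈ Subgroup.closure ({a, b} : Set Γ) :=
    Subgroup.subset_closure (Set.mem_insert_of_mem _ rfl)
  have hap : a ^ p = 1 := by
    apply hρ
    rw [map_pow, map_one]
    exact qp_pow_char p (ρ a) ha
  have hbp : b ^ p = 1 := by
    apply hρ
    rw [map_pow, map_one]
    exact qp_pow_char p (ρ b) hb
  obtain ⟨K, _, _, _, φ, hφ⟩ := qp_sl2_hom p ρ hρ a b ha hb hnp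
  obtain ⟨ι, hιdef⟩ : ∃ ι : (↥(Subgroup.closure ({a, b} : Set Γ)) ⧸ φ.ker) →*
      Matrix.SpecialLinearGroup (Fin 2) K, ι = QuotientGroup.kerLift φ := ⟨_, rfl⟩
  have hι : Function.Injective ι := hιdef ▸ QuotientGroup.kerLift_injective φ
  have hιmk : ∀ h, ι (QuotientGroup.mk' φ.ker h) = φ h := by
    intro h
    rw [hιdef]; rfl
  obtain ⟨A, hA⟩ : ∃ A, A = QuotientGroup.mk' φ.ker ⟨a, haH⟩ := ⟨_, rfl⟩
  obtain ⟨B, hB⟩ : ∃ B, B = QuotientGroup.mk' φ.ker ⟨b, hbH⟩ := ⟨_, rfl⟩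
  have hAp : A ^ p = 1 := by
    rw [hA, ← map_pow]
    have : (⟨a, haH⟩ : ↥(Subgroup.closure ({a, b} : Set Γ))) ^ p = 1 :=
      Subtype.ext (by simpa using hap)
    rw [this, map_one]
  have hBp : B ^ p = 1 := by
    rw [hB, ← map_pow]
    have : (⟨b, hbH⟩ : ↥(Subgroup.closure ({a, b} : Set Γ))) ^ p = 1 :=
      Subtype.ext (by simpa using hbp)
    rw [this, map_one]
  have hgen : Subgroup.closure ({A, B} : Set (↥(Subgroup.closure ({a, b} : Set Γ)) ⧸ φ.ker)) = ⊤ := by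
    rw [eq_top_iff]
    intro y hyt
    clear hyt
    obtain ⟨⟨y', hy'⟩, rfl⟩ := QuotientGroup.mk'_surjective φ.ker y
    induction hy' using Subgroup.closure_induction with
    | mem z hz =>
      rcases hz with rfl | rfl
      · rw [← hA]; exact Subgroup.subset_closure (Set.mem_insert _ _)
      · rw [← hB]; exact Subgroup.subset_closure (Set.mem_insert_of_mem _ rfl)
    | one =>
      have : (⟨1, one_mem _⟩ : ↥(Subgroup.closure ({a, b} : Set Γ))) = 1 := rfl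
      rw [this, map_one]; exact one_mem _
    | mul y z hy hz ihy ihz =>
      have : (⟨y * z, mul_mem hy hz⟩ : ↥(Subgroup.closure ({a, b} : Set Γ))) =
          ⟨y, hy⟩ * ⟨z, hz⟩ := rfl
      rw [this, map_mul]; exact mul_mem ihy ihz
    | inv y hy ih =>
      have : (⟨y⁻¹, inv_mem hy⟩ : ↥(Subgroup.closure ({a, b} : Set Γ))) = ⟨y, hy⟩⁻¹ := rfl
      rw [this, map_inv]; exact inv_mem ih
  have hnpL : ¬ IsPGroup p (↥(Subgroup.closure ({a, b} : Set Γ)) ⧸ φ.ker) := by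
    intro hP
    apply hφ
    rintro ⟨y, z, rfl⟩
    obtain ⟨k, hk⟩ := hP (QuotientGroup.mk' φ.ker z)
    refine ⟨k, Subtype.ext ?_⟩
    rw [Subgroup.coe_pow, Subgroup.coe_one]
    show (φ z) ^ (p ^ k) = 1
    rw [← hιmk, ← map_pow, hk, map_one]
  have hsolL : Cfsg.IsPSolvable p (↥(Subgroup.closure ({a, b} : Set Γ)) ⧸ φ.ker) :=
    Cfsg.Agent.Lib.Helper7.isPSolvable_quotient hp hsol φ.ker
  obtain ⟨h3, hinv⟩ := sl2_psolvable_main p hp2 ι hι A B hAp hBp hgen hnpL hsolL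
  exact ⟨h3, qp_involves_trans hinv
    (involves_quotient (involves_subgroup involves_self _) φ.ker)⟩

/-- **Abstract form of the `p`-solvable theorem.** -/
theorem qp_a596 (p : ℕ) [Fact p.Prime] (hp2 : p ≠ 2) {Γ : Type*} [Group Γ] [Finite Γ]
    {W : Type*} [AddCommGroup W] [Module (ZMod p) W] [Finite W]
    (ρ : Γ →* (W ≃ₗ[ZMod p] W)) (hρ : Function.Injective ρ)
    (hsol : Cfsg.IsPSolvable p Γ) (a : Γ)
    (ha : ∀ w, ρ a (ρ a w - w) = ρ a w - w) (hna : a ∉ Cfsg.pCore p Γ) :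
    p = 3 ∧ Cfsg.Involves (Matrix.SpecialLinearGroup (Fin 2) (ZMod 3)) Γ := by
  have hp := (Fact.out : p.Prime)
  have hex : ∃ g : Γ, ¬ IsPGroup p (Subgroup.closure ({a, g * a * g⁻¹} : Set Γ)) := by
    by_contra hno
    have hall : ∀ g : Γ, IsPGroup p (Subgroup.closure ({a, g * a * g⁻¹} : Set Γ)) := by
      intro g
      by_contra h
      exact hno ⟨g, h⟩
    obtain ⟨N, hNn, hNp, haN, -⟩ := Cfsg.Agent.Lib.Helper1.baer_suzuki_normal a hall
    apply hna
    have hle : N ≤ Cfsg.pCore p Γ := le_sSup ⟨hNn, hNp⟩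
    exact hle haN
  obtain ⟨g, hg⟩ := hex
  exact qp_pair_psolvable p hp2 ρ hρ a (g * a * g⁻¹) ha (qp_conj_quadratic ρ a g ha) hg
    (Cfsg.Agent.Lib.Helper7.isPSolvable_subgroup hp hsol _)

end QuadPairG

end Cfsg.Agent.Lib.Helper4
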