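import Cfsg.Agent.Lib.Helper4.QuadPair6
import Cfsg.Agent.Lib.Helper4.QuadPair7
import Cfsg.Prelude.Def_PLocal

/-! `p`-stability of the action on a normal elementary abelian subgroup, for `p`-solvable groups. -/

namespace Cfsg.Agent.Lib.Helper4

open Cfsg.Agent.Lib.Helper3
open scoped commutatorElement

section QuadPairH

universe u

variable {G : Type u} [Group G]

/-- conjugation on a normal subgroup -/
def qpConjN (V : Subgroup G) [V.Normal] : G →* MulAut ↥V :=
  (qpConj V ⊤ (by rw [Subgroup.normalizer_eq_top V])).comp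
    (Subgroup.topEquiv (G := G)).symm.toMonoidHom

theorem qpConjN_coe (V : Subgroup G) [V.Normal] (g : G) (v : ↥V) :
    ((qpConjN V g v : ↥V) : G) = g * v * g⁻¹ := rfl

theorem qpConjN_eq_one_iff (V : Subgroup G) [V.Normal] (g : G) :
    qpConjN V g = 1 ↔ g ∈ Subgroup.centralizer (V : Set G) := by
  rw [Subgroup.mem_centralizer_iff]
  constructor
  · intro hh v hv
    have h3 : (qpConjN V g ⟨v, hv⟩ : ↥V) = ⟨v, hv⟩ := by rw [hh]; rfl
    have h4 := congrArg Subtype.val h3
    rw [qpConjN_coe] at h4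
    have h5 : g * v * g⁻¹ = v := h4
    calc v * g = (g * v * g⁻¹) * g := by rw [h5]
      _ = g * v := by group
  · intro hh
    apply MulEquiv.ext
    intro v
    apply Subtype.ext
    rw [qpConjN_coe]
    have := hh v v.2
    show g * v * g⁻¹ = v
    rw [← this]; group

theorem qp_rep_of_mulAut {Γ A : Type*} [Group Γ] [CommGroup A] (p : ℕ)
    [Module (ZMod p) (Additive A)] (σ : Γ →* MulAut A) (N : Subgroup Γ) [N.Normal]
    (hN : ∀ g, σ g = 1 ↔ g ∈ N) :
    ∃ ρ : Γ ⧸ N →* (Additive A ≃ₗ[ZMod p] Additive A), Function.Injective ρ ∧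
      ∀ (g : Γ), (∀ v : A, σ g (σ g v / v) = σ g v / v) →
        ∀ w, ρ (QuotientGroup.mk g) (ρ (QuotientGroup.mk g) w - w) = ρ (QuotientGroup.mk g) w - w := by
  have hker : N ≤ (qpLin p σ).ker := by
    intro g hg
    rw [MonoidHom.mem_ker]
    apply LinearEquiv.ext
    intro x
    rw [qpLin_apply, (hN g).2 hg]
    rfl
  refine ⟨QuotientGroup.lift N (qpLin p σ) hker, ?_, ?_⟩
  · refine (injective_iff_map_eq_one (QuotientGroup.lift N (qpLin p σ) hker)).2 ?_
    intro y hy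
    obtain ⟨g, rfl⟩ := QuotientGroup.mk_surjective y
    rw [QuotientGroup.lift_mk] at hy
    rw [QuotientGroup.eq_one_iff, ← hN]
    apply MulEquiv.ext
    intro v
    have h := congrArg (fun T : Additive A ≃ₗ[ZMod p] Additive A => T (Additive.ofMul v)) hy
    exact h
  · intro g hg w
    rw [QuotientGroup.lift_mk]
    obtain ⟨v, hv⟩ : ∃ v : A, w = Additive.ofMul v := ⟨Additive.toMul w, rfl⟩
    rw [hv]
    exact congrArg Additive.ofMul (hg v)

theorem qp_normal_rep [Finite G] (p : ℕ) [Fact p.Prime] (V : Subgroup G) [V.Normal]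
    (hV : Cfsg.IsElementaryAbelian p V) :
    ∃ (W : Type u) (_ : AddCommGroup W) (_ : Module (ZMod p) W) (_ : Finite W)
      (ρ : (G ⧸ Subgroup.centralizer (V : Set G)) →* (W ≃ₗ[ZMod p] W)), Function.Injective ρ ∧
      ∀ (a : G), ⁅⁅V, Subgroup.zpowers a⁆, Subgroup.zpowers a⁆ = ⊥ →
        ∀ w, ρ (QuotientGroup.mk a) (ρ (QuotientGroup.mk a) w - w) = ρ (QuotientGroup.mk a) w - w := by
  letI : CommGroup ↥V :=
    { (inferInstance : Group ↥V) with mul_comm := fun x y => hV.1.is_comm.comm x y }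
  letI : Module (ZMod p) (Additive ↥V) := AddCommGroup.zmodModule (n := p) (by
    intro x
    have h1 : (Additive.toMul x) ^ p = 1 := by
      apply Subtype.ext
      rw [Subgroup.coe_pow]
      exact hV.2 _ (Additive.toMul x).2
    have h2 : p • x = Additive.ofMul ((Additive.toMul x) ^ p) := rfl
    rw [h2, h1]; rfl)
  haveI : Finite (Additive ↥V) := inferInstanceAs (Finite ↥V)
  obtain ⟨ρ, hρinj, hρq⟩ := qp_rep_of_mulAut p (qpConjN V) (Subgroup.centralizer (V : Set G))
    (qpConjN_eq_one_iff V)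
  refine ⟨Additive ↥V, inferInstance, inferInstance, inferInstance, ρ, hρinj, ?_⟩
  intro a haq
  apply hρq a
  intro v
  apply Subtype.ext
  rw [qpConjN_coe]
  have hc : ⁅(v : G), a⁆ ∈ ⁅V, Subgroup.zpowers a⁆ :=
    Subgroup.commutator_mem_commutator v.2 (Subgroup.mem_zpowers _)
  have hcc : ⁅⁅(v : G), a⁆, a⁆ ∈ ⁅⁅V, Subgroup.zpowers a⁆, Subgroup.zpowers a⁆ :=
    Subgroup.commutator_mem_commutator hc (Subgroup.mem_zpowers _)
  rw [haq, Subgroup.mem_bot, commutatorElement_def, commutatorElement_def] at hcc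
  have h5 : ((qpConjN V a v / v : ↥V) : G) = a * v * a⁻¹ * (v : G)⁻¹ := by
    show ((qpConjN V a v : ↥V) : G) / (v : G) = _
    rw [qpConjN_coe, div_eq_mul_inv]
  rw [h5]
  have h6 : (v : G) * a * (v : G)⁻¹ * a⁻¹ * a = a * ((v : G) * a * (v : G)⁻¹ * a⁻¹) := by
    have := hcc
    rw [mul_inv_eq_one, mul_inv_eq_iff_eq_mul] at this
    exact this
  have h7 : a * v * a⁻¹ * (v : G)⁻¹ = ((v : G) * a * (v : G)⁻¹ * a⁻¹)⁻¹ := by
    group
  rw [h7]
  have h8 : Commute ((v : G) * a * (v : G)⁻¹ * a⁻¹) a := h6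
  have h9 : Commute (((v : G) * a * (v : G)⁻¹ * a⁻¹)⁻¹) a := h8.inv_left
  rw [← h9.eq, mul_inv_cancel_right]

/-- In a `p`-solvable group, an element acting quadratically on a normal elementary abelian
`p`-subgroup maps into `O_p` of the quotient by the centraliser, unless `p = 3` and `SL(2,3)` is
involved. -/
theorem qp_pstable_on [Finite G] (p : ℕ) [Fact p.Prime] (hp2 : p ≠ 2)
    (hsol : Cfsg.IsPSolvable p G) (V : Subgroup G) [V.Normal]
    (hV : Cfsg.IsElementaryAbelian p V) (a : G)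
    (ha : ⁅⁅V, Subgroup.zpowers a⁆, Subgroup.zpowers a⁆ = ⊥)
    (hna : (QuotientGroup.mk a : G ⧸ Subgroup.centralizer (V : Set G)) ∉
      Cfsg.pCore p (G ⧸ Subgroup.centralizer (V : Set G))) :
    p = 3 ∧ Cfsg.Involves (Matrix.SpecialLinearGroup (Fin 2) (ZMod 3)) G := by
  have hp := (Fact.out : p.Prime)
  obtain ⟨W, _, _, _, ρ, hρ, hquad⟩ := qp_normal_rep p V hV
  have hsolq : Cfsg.IsPSolvable p (G ⧸ Subgroup.centralizer (V : Set G)) :=
    Cfsg.Agent.Lib.Helper7.isPSolvable_quotient hp hsol _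
  obtain ⟨h3, hinv⟩ := qp_a596 p hp2 ρ hρ hsolq (QuotientGroup.mk a) (hquad a ha) hna
  exact ⟨h3, qp_involves_trans hinv (involves_quotient involves_self _)⟩

end QuadPairH

end Cfsg.Agent.Lib.Helper4
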