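import Mathlib
import Cfsg.Agent.Lib.Helper2.Index
import Cfsg.Agent.Lib.Helper3.PQ
import Cfsg.Agent.Lib.Helper3.NormAux

set_option autoImplicit false
open scoped commutatorElement

namespace Cfsg.Agent.Lib.Helper4

section Replacement

variable {G : Type*} [Group G]

/-- centralizer of a union of sets. -/
lemma repl_centralizer_union (S T : Set G) :
    Subgroup.centralizer (S ∪ T) = Subgroup.centralizer S ⊓ Subgroup.centralizer T := by
  ext g
  simp only [Subgroup.mem_centralizer_iff, Subgroup.mem_inf, Set.mem_union]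
  constructor
  · intro h
    exact ⟨fun x hx => h x (Or.inl hx), fun x hx => h x (Or.inr hx)⟩
  · rintro ⟨h1, h2⟩ x (hx | hx)
    · exact h1 x hx
    · exact h2 x hx

/-- centralizer of a join. -/
lemma repl_centralizer_sup (X Y : Subgroup G) :
    Subgroup.centralizer ((X ⊔ Y : Subgroup G) : Set G) =
      Subgroup.centralizer (X : Set G) ⊓ Subgroup.centralizer (Y : Set G) := by
  apply le_antisymm
  · exact le_inf (Subgroup.centralizer_le (by exact_mod_cast (le_sup_left : X ≤ X ⊔ Y)))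
      (Subgroup.centralizer_le (by exact_mod_cast (le_sup_right : Y ≤ X ⊔ Y)))
  · rw [Subgroup.le_centralizer_iff]
    exact sup_le (Subgroup.le_centralizer_iff.mp inf_le_left)
      (Subgroup.le_centralizer_iff.mp inf_le_right)

/-- conjugation actions of elements of `A` on `V` commute when `⁅A, A⁆` centralizes `V`. -/
lemma repl_conj_comm {V A : Subgroup G} (hab : ⁅A, A⁆ ≤ Subgroup.centralizer (V : Set G))
    {a b v : G} (ha : a ∈ A) (hb : b ∈ A) (hv : v ∈ V) :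
    b * (a * v * a⁻¹) * b⁻¹ = a * (b * v * b⁻¹) * a⁻¹ := by
  have h1 : ⁅a⁻¹, b⁻¹⁆ ∈ Subgroup.centralizer (V : Set G) :=
    hab (Subgroup.commutator_mem_commutator (A.inv_mem ha) (A.inv_mem hb))
  have h2 := (Subgroup.mem_centralizer_iff.mp h1) v hv
  rw [commutatorElement_def] at h2
  simp only [inv_inv] at h2
  calc b * (a * v * a⁻¹) * b⁻¹ = b * a * (v * (a⁻¹ * b⁻¹ * a * b)) * b⁻¹ * a⁻¹ := by group
    _ = b * a * (a⁻¹ * b⁻¹ * a * b * v) * b⁻¹ * a⁻¹ := by rw [h2]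
    _ = a * (b * v * b⁻¹) * a⁻¹ := by group

lemma repl_symm_aux {u a b x y z : G} (hx : x = a * u * a⁻¹) (hy : y = b * u * b⁻¹)
    (hz1 : z = b * x * b⁻¹) (hz2 : z = a * y * a⁻¹) (hxy : Commute x y) (hxu : Commute x u)
    (huy : Commute u y) (h : b * ⁅u, a⁆ = ⁅u, a⁆ * b) : a * ⁅u, b⁆ = ⁅u, b⁆ * a := by
  have h' : y * z⁻¹ = u * x⁻¹ := by
    have e1 : y * z⁻¹ = b * ⁅u, a⁆ * b⁻¹ := by
      rw [hz1, hy, hx, commutatorElement_def]; group
    have e2 : u * x⁻¹ = ⁅u, a⁆ := by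
      rw [hx, commutatorElement_def]; group
    rw [e1, e2, h]; group
  have hc : Commute x (y⁻¹ * u) := (hxy.inv_right).mul_right hxu
  have key : x * z⁻¹ = u * y⁻¹ := by
    calc x * z⁻¹ = x * y⁻¹ * (y * z⁻¹) := by group
      _ = x * y⁻¹ * (u * x⁻¹) := by rw [h']
      _ = (x * (y⁻¹ * u)) * x⁻¹ := by group
      _ = ((y⁻¹ * u) * x) * x⁻¹ := by rw [hc.eq]
      _ = y⁻¹ * u := by group
      _ = u * y⁻¹ := (huy.inv_right).eq.symm
  have e3 : ⁅u, b⁆ = u * y⁻¹ := by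
    rw [hy, commutatorElement_def]; group
  have e4 : a * ⁅u, b⁆ * a⁻¹ = x * z⁻¹ := by
    rw [hz2, hy, hx, commutatorElement_def]; group
  calc a * ⁅u, b⁆ = (a * ⁅u, b⁆ * a⁻¹) * a := by group
    _ = (x * z⁻¹) * a := by rw [e4]
    _ = (u * y⁻¹) * a := by rw [key]
    _ = ⁅u, b⁆ * a := by rw [e3]

/-- symmetry: `b` commutes with `⁅u, a⁆` iff `a` commutes with `⁅u, b⁆`. -/
lemma repl_symm {V A : Subgroup G} (hVc : V ≤ Subgroup.centralizer (V : Set G))
    (hAV : A ≤ Subgroup.normalizer (V : Set G))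
    (hab : ⁅A, A⁆ ≤ Subgroup.centralizer (V : Set G)) {u a b : G} (hu : u ∈ V) (ha : a ∈ A)
    (hb : b ∈ A) (h : b * ⁅u, a⁆ = ⁅u, a⁆ * b) : a * ⁅u, b⁆ = ⁅u, b⁆ * a := by
  have hcomm : ∀ x ∈ V, ∀ y ∈ V, Commute x y := fun x hx y hy =>
    ((Subgroup.mem_centralizer_iff.mp (hVc hy)) x hx)
  have hxV : a * u * a⁻¹ ∈ V := (Subgroup.mem_normalizer_iff.mp (hAV ha) u).mp hu
  have hyV : b * u * b⁻¹ ∈ V := (Subgroup.mem_normalizer_iff.mp (hAV hb) u).mp hu
  exact repl_symm_aux rfl rfl rfl (repl_conj_comm hab ha hb hu) (hcomm _ hxV _ hyV)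
    (hcomm _ hxV _ hu) (hcomm _ hu _ hyV) h

lemma repl_commutator_mem {V A : Subgroup G} (hAV : A ≤ Subgroup.normalizer (V : Set G))
    {u a : G} (hu : u ∈ V) (ha : a ∈ A) : ⁅u, a⁆ ∈ V := by
  have hxV : a * u * a⁻¹ ∈ V := (Subgroup.mem_normalizer_iff.mp (hAV ha) u).mp hu
  have : ⁅u, a⁆ = u * (a * u * a⁻¹)⁻¹ := by rw [commutatorElement_def]; group
  rw [this]
  exact V.mul_mem hu (V.inv_mem hxV)

/-- `⁅u, c⁆` is fixed by `A` iff `c` centralizes all `⁅u, a⁆`. -/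
lemma repl_mem_fix_iff {V A : Subgroup G} (hVc : V ≤ Subgroup.centralizer (V : Set G))
    (hAV : A ≤ Subgroup.normalizer (V : Set G))
    (hab : ⁅A, A⁆ ≤ Subgroup.centralizer (V : Set G)) {u c : G} (hu : u ∈ V) (hc : c ∈ A) :
    ⁅u, c⁆ ∈ V ⊓ Subgroup.centralizer (A : Set G) ↔
      c ∈ Subgroup.centralizer ({g | ∃ a ∈ A, ⁅u, a⁆ = g} : Set G) := by
  constructor
  · intro h
    rw [Subgroup.mem_centralizer_iff]
    rintro g ⟨a, ha, rfl⟩
    have h1 : a * ⁅u, c⁆ = ⁅u, c⁆ * a :=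
      (Subgroup.mem_centralizer_iff.mp (Subgroup.mem_inf.mp h).2) a ha
    exact (repl_symm hVc hAV hab hu hc ha h1).symm
  · intro h
    refine Subgroup.mem_inf.mpr ⟨repl_commutator_mem hAV hu hc, ?_⟩
    rw [Subgroup.mem_centralizer_iff]
    intro a ha
    have h1 : c * ⁅u, a⁆ = ⁅u, a⁆ * c :=
      ((Subgroup.mem_centralizer_iff.mp h) _ ⟨a, ha, rfl⟩).symm
    exact repl_symm hVc hAV hab hu ha hc h1

/-- the fixed points of `A` are conjugation invariant under `A`. -/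
lemma repl_fix_conj {V A : Subgroup G} {b x : G} (hb : b ∈ A) :
    b * x * b⁻¹ ∈ V ⊓ Subgroup.centralizer (A : Set G) ↔
      x ∈ V ⊓ Subgroup.centralizer (A : Set G) := by
  constructor
  · intro h
    have h1 : b * (b * x * b⁻¹) = (b * x * b⁻¹) * b :=
      (Subgroup.mem_centralizer_iff.mp (Subgroup.mem_inf.mp h).2) b hb
    have h2 : x = b * x * b⁻¹ := by
      calc x = b⁻¹ * ((b * x * b⁻¹) * b) := by group
        _ = b⁻¹ * (b * (b * x * b⁻¹)) := by rw [h1]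
        _ = b * x * b⁻¹ := by group
    rw [h2]; exact h
  · intro h
    have h1 : b * x = x * b :=
      (Subgroup.mem_centralizer_iff.mp (Subgroup.mem_inf.mp h).2) b hb
    have h2 : b * x * b⁻¹ = x := by rw [h1]; group
    rw [h2]; exact h

/-- counting cosets through a map compatible with coset equivalence. -/
lemma repl_card_mul_le [Finite G] {A S Y C : Subgroup G} (hSA : S ≤ A) (hCY : C ≤ Y)
    (g : G → G) (hg : ∀ b ∈ A, g b ∈ Y)
    (h : ∀ b ∈ A, ∀ b' ∈ A, (b⁻¹ * b' ∈ S ↔ (g b)⁻¹ * g b' ∈ C)) :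
    Nat.card A * Nat.card C ≤ Nat.card S * Nat.card Y := by
  have h1 : Nat.card A = Nat.card (↥A ⧸ S.subgroupOf A) * Nat.card S := by
    rw [Subgroup.card_eq_card_quotient_mul_card_subgroup (S.subgroupOf A)]
    congr 1
    exact Nat.card_congr (Subgroup.subgroupOfEquivOfLe hSA).toEquiv
  have h2 : Nat.card Y = Nat.card (↥Y ⧸ C.subgroupOf Y) * Nat.card C := by
    rw [Subgroup.card_eq_card_quotient_mul_card_subgroup (C.subgroupOf Y)]
    congr 1
    exact Nat.card_congr (Subgroup.subgroupOfEquivOfLe hCY).toEquiv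
  let ι : (↥A ⧸ S.subgroupOf A) → (↥Y ⧸ C.subgroupOf Y) :=
    Quotient.map' (fun b : ↥A => (⟨g b, hg b b.2⟩ : ↥Y)) (by
      intro b b' hbb'
      rw [QuotientGroup.leftRel_apply] at hbb' ⊢
      rw [Subgroup.mem_subgroupOf] at hbb' ⊢
      exact (h b b.2 b' b'.2).mp hbb')
  have hι : Function.Injective ι := by
    intro q q' hqq'
    induction q using Quotient.inductionOn' with
    | _ b =>
      induction q' using Quotient.inductionOn' with
      | _ b' =>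
        simp only [ι, Quotient.map'_mk''] at hqq'
        rw [Quotient.eq''] at hqq' ⊢
        rw [QuotientGroup.leftRel_apply, Subgroup.mem_subgroupOf] at hqq' ⊢
        exact (h b b.2 b' b'.2).mpr hqq'
  have h3 : Nat.card (↥A ⧸ S.subgroupOf A) ≤ Nat.card (↥Y ⧸ C.subgroupOf Y) :=
    Nat.card_le_card_of_injective ι hι
  rw [h1, h2]
  calc Nat.card (↥A ⧸ S.subgroupOf A) * Nat.card S * Nat.card C
      ≤ Nat.card (↥Y ⧸ C.subgroupOf Y) * Nat.card S * Nat.card C :=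
        Nat.mul_le_mul_right _ (Nat.mul_le_mul_right _ h3)
    _ = Nat.card S * (Nat.card (↥Y ⧸ C.subgroupOf Y) * Nat.card C) := by ring

/-- coset compatibility for the commutator map `b ↦ ⁅u, b⁆`. -/
lemma repl_coset_iff {V A : Subgroup G} (hVc : V ≤ Subgroup.centralizer (V : Set G))
    (hAV : A ≤ Subgroup.normalizer (V : Set G))
    (hab : ⁅A, A⁆ ≤ Subgroup.centralizer (V : Set G)) {u b b' : G} (hu : u ∈ V) (hb : b ∈ A)
    (hb' : b' ∈ A) :
    b⁻¹ * b' ∈ A ⊓ Subgroup.centralizer ({g | ∃ a ∈ A, ⁅u, a⁆ = g} : Set G) ↔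
      ⁅u, b⁆⁻¹ * ⁅u, b'⁆ ∈ V ⊓ Subgroup.centralizer (A : Set G) := by
  have hid : ⁅u, b⁆⁻¹ * ⁅u, b'⁆ = b * ⁅u, b⁻¹ * b'⁆ * b⁻¹ := by
    simp only [commutatorElement_def]; group
  have hm : b⁻¹ * b' ∈ A := A.mul_mem (A.inv_mem hb) hb'
  rw [hid, repl_fix_conj hb, repl_mem_fix_iff hVc hAV hab hu hm]
  constructor
  · intro h; exact (Subgroup.mem_inf.mp h).2
  · intro h; exact Subgroup.mem_inf.mpr ⟨hm, h⟩

/-- the counting inequality for a single `u`. -/
lemma repl_count [Finite G] {V A : Subgroup G} (hVc : V ≤ Subgroup.centralizer (V : Set G))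
    (hAV : A ≤ Subgroup.normalizer (V : Set G))
    (hab : ⁅A, A⁆ ≤ Subgroup.centralizer (V : Set G)) {u : G} (hu : u ∈ V) :
    Nat.card A * Nat.card ↥(V ⊓ Subgroup.centralizer (A : Set G)) ≤
      Nat.card ↥(A ⊓ Subgroup.centralizer ({g | ∃ a ∈ A, ⁅u, a⁆ = g} : Set G)) *
        Nat.card ↥(Subgroup.closure ({g | ∃ a ∈ A, ⁅u, a⁆ = g} : Set G) ⊔
          (V ⊓ Subgroup.centralizer (A : Set G))) :=
  repl_card_mul_le inf_le_left le_sup_right (fun b => ⁅u, b⁆)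
    (fun b hb => (le_sup_left : Subgroup.closure ({g | ∃ a ∈ A, ⁅u, a⁆ = g} : Set G) ≤ _)
      (Subgroup.subset_closure ⟨b, hb, rfl⟩))
    (fun b hb b' hb' => repl_coset_iff hVc hAV hab hu hb hb')

/-- for a best `A`, the stabilizer of `u` again attains the maximum and its fixed points
are `X_u C_V(A)`. -/
lemma repl_stab [Finite G] {V A : Subgroup G} (hVc : V ≤ Subgroup.centralizer (V : Set G))
    (hAV : A ≤ Subgroup.normalizer (V : Set G))
    (hab : ⁅A, A⁆ ≤ Subgroup.centralizer (V : Set G))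
    (hbest : ∀ B : Subgroup G, B ≤ A →
      Nat.card B * Nat.card ↥(V ⊓ Subgroup.centralizer (B : Set G)) ≤
        Nat.card A * Nat.card ↥(V ⊓ Subgroup.centralizer (A : Set G)))
    {u : G} (hu : u ∈ V) :
    Nat.card ↥(A ⊓ Subgroup.centralizer ({g | ∃ a ∈ A, ⁅u, a⁆ = g} : Set G)) *
        Nat.card ↥(V ⊓ Subgroup.centralizer
          ((A ⊓ Subgroup.centralizer ({g | ∃ a ∈ A, ⁅u, a⁆ = g} : Set G) : Subgroup G) : Set G)) =
      Nat.card A * Nat.card ↥(V ⊓ Subgroup.centralizer (A : Set G)) ∧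
    V ⊓ Subgroup.centralizer
          ((A ⊓ Subgroup.centralizer ({g | ∃ a ∈ A, ⁅u, a⁆ = g} : Set G) : Subgroup G) : Set G) =
      Subgroup.closure ({g | ∃ a ∈ A, ⁅u, a⁆ = g} : Set G) ⊔
          (V ⊓ Subgroup.centralizer (A : Set G)) := by
  obtain ⟨T, hT⟩ : ∃ T : Set G, T = {g | ∃ a ∈ A, ⁅u, a⁆ = g} := ⟨_, rfl⟩
  have hcount := repl_count hVc hAV hab hu
  rw [← hT] at hcount ⊢
  obtain ⟨S, hS⟩ : ∃ S : Subgroup G, S = A ⊓ Subgroup.centralizer T := ⟨_, rfl⟩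
  obtain ⟨C, hC⟩ : ∃ C : Subgroup G, C = V ⊓ Subgroup.centralizer (A : Set G) := ⟨_, rfl⟩
  rw [← hS, ← hC] at hcount ⊢
  have hSA : S ≤ A := hS ▸ inf_le_left
  have hXV : Subgroup.closure T ≤ V := by
    rw [Subgroup.closure_le, hT]
    rintro g ⟨a, ha, rfl⟩
    exact repl_commutator_mem hAV hu ha
  have hXS : Subgroup.closure T ≤ Subgroup.centralizer (S : Set G) := by
    rw [Subgroup.le_centralizer_iff, Subgroup.centralizer_closure, hS]
    exact inf_le_right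
  have hCS : C ≤ V ⊓ Subgroup.centralizer (S : Set G) := by
    rw [hC]
    exact inf_le_inf_left _ (Subgroup.centralizer_le (by exact_mod_cast hSA))
  have hle : Subgroup.closure T ⊔ C ≤ V ⊓ Subgroup.centralizer (S : Set G) :=
    sup_le (le_inf hXV hXS) hCS
  have h2 : Nat.card ↥(Subgroup.closure T ⊔ C) ≤
      Nat.card ↥(V ⊓ Subgroup.centralizer (S : Set G)) := Subgroup.card_le_of_le hle
  have h3 := hbest S hSA
  rw [← hC] at h3
  have hSpos : 0 < Nat.card S := Nat.card_pos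
  have h4 : Nat.card S * Nat.card ↥(Subgroup.closure T ⊔ C) ≤
      Nat.card S * Nat.card ↥(V ⊓ Subgroup.centralizer (S : Set G)) :=
    Nat.mul_le_mul_left _ h2
  have h5 : Nat.card S * Nat.card ↥(V ⊓ Subgroup.centralizer (S : Set G)) =
      Nat.card A * Nat.card C := le_antisymm h3 (hcount.trans h4)
  refine ⟨h5, ?_⟩
  have h6 : Nat.card S * Nat.card ↥(Subgroup.closure T ⊔ C) =
      Nat.card S * Nat.card ↥(V ⊓ Subgroup.centralizer (S : Set G)) :=
    le_antisymm h4 (h5 ▸ hcount)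
  have h7 : Nat.card ↥(Subgroup.closure T ⊔ C) =
      Nat.card ↥(V ⊓ Subgroup.centralizer (S : Set G)) := Nat.eq_of_mul_eq_mul_left hSpos h6
  exact (Subgroup.eq_of_le_of_card_ge hle h7.ge).symm

lemma repl_card_mul_card_le [Finite G] (B D : Subgroup G) :
    Nat.card B * Nat.card D ≤ Nat.card ↥(B ⊔ D) * Nat.card ↥(B ⊓ D) := by
  have h1 : Nat.card ↥(B ⊓ D) * (B ⊓ D).relIndex B = Nat.card B := by
    have := Subgroup.relIndex_mul_relIndex ⊥ (B ⊓ D) B bot_le inf_le_left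
    rwa [Subgroup.relIndex_bot_left, Subgroup.relIndex_bot_left] at this
  have h2 : Nat.card D * D.relIndex (B ⊔ D) = Nat.card ↥(B ⊔ D) := by
    have := Subgroup.relIndex_mul_relIndex ⊥ D (B ⊔ D) bot_le le_sup_right
    rwa [Subgroup.relIndex_bot_left, Subgroup.relIndex_bot_left] at this
  have h3 : (B ⊓ D).relIndex B = D.relIndex B := by
    rw [inf_comm]; exact Subgroup.inf_relIndex_right D B
  have h4 : D.relIndex B ≤ D.relIndex (B ⊔ D) := by
    apply Subgroup.relIndex_le_of_le_right le_sup_left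
    intro h0
    rw [h0, mul_zero] at h2
    exact (Nat.card_pos (α := ↥(B ⊔ D))).ne' h2.symm
  calc Nat.card B * Nat.card D = Nat.card ↥(B ⊓ D) * D.relIndex B * Nat.card D := by
        rw [← h3, h1]
    _ ≤ Nat.card ↥(B ⊓ D) * D.relIndex (B ⊔ D) * Nat.card D :=
        Nat.mul_le_mul_right _ (Nat.mul_le_mul_left _ h4)
    _ = Nat.card ↥(B ⊔ D) * Nat.card ↥(B ⊓ D) := by rw [← h2]; ring

/-- intersection lemma: two subgroups attaining the maximum. -/
lemma repl_inf [Finite G] {V A : Subgroup G} (hVc : V ≤ Subgroup.centralizer (V : Set G))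
    (hbest : ∀ B : Subgroup G, B ≤ A →
      Nat.card B * Nat.card ↥(V ⊓ Subgroup.centralizer (B : Set G)) ≤
        Nat.card A * Nat.card ↥(V ⊓ Subgroup.centralizer (A : Set G)))
    {B D : Subgroup G} (hB : B ≤ A) (hD : D ≤ A)
    (hfB : Nat.card B * Nat.card ↥(V ⊓ Subgroup.centralizer (B : Set G)) =
      Nat.card A * Nat.card ↥(V ⊓ Subgroup.centralizer (A : Set G)))
    (hfD : Nat.card D * Nat.card ↥(V ⊓ Subgroup.centralizer (D : Set G)) =
      Nat.card A * Nat.card ↥(V ⊓ Subgroup.centralizer (A : Set G))) :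
    Nat.card ↥(B ⊓ D) * Nat.card ↥(V ⊓ Subgroup.centralizer ((B ⊓ D : Subgroup G) : Set G)) =
      Nat.card A * Nat.card ↥(V ⊓ Subgroup.centralizer (A : Set G)) ∧
    V ⊓ Subgroup.centralizer ((B ⊓ D : Subgroup G) : Set G) =
      (V ⊓ Subgroup.centralizer (B : Set G)) ⊔ (V ⊓ Subgroup.centralizer (D : Set G)) := by
  obtain ⟨m, hm⟩ : ∃ m : ℕ, m = Nat.card A * Nat.card ↥(V ⊓ Subgroup.centralizer (A : Set G)) :=
    ⟨_, rfl⟩
  rw [← hm] at hfB hfD hbest ⊢
  have hmpos : 0 < m := by rw [hm]; exact Nat.mul_pos Nat.card_pos Nat.card_pos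
  obtain ⟨FB, hFB⟩ : ∃ F : Subgroup G, F = V ⊓ Subgroup.centralizer (B : Set G) := ⟨_, rfl⟩
  obtain ⟨FD, hFD⟩ : ∃ F : Subgroup G, F = V ⊓ Subgroup.centralizer (D : Set G) := ⟨_, rfl⟩
  rw [← hFB] at hfB
  rw [← hFD] at hfD
  rw [← hFB, ← hFD]
  have hnorm : FB ≤ Subgroup.normalizer (FD : Set G) := by
    have h1 : FB ≤ V := hFB ▸ inf_le_left
    have h2 : FD ≤ V := hFD ▸ inf_le_left
    exact h1.trans (hVc.trans ((Subgroup.centralizer_le (by exact_mod_cast h2)).trans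
      (Subgroup.centralizer_le_normalizer _)))
  have e1 : Nat.card ↥(FB ⊔ FD) * Nat.card ↥(FB ⊓ FD) = Nat.card FB * Nat.card FD :=
    Cfsg.Agent.Lib.Helper2.card_sup_mul_card_inf FB FD hnorm
  have e2 : FB ⊓ FD = V ⊓ Subgroup.centralizer ((B ⊔ D : Subgroup G) : Set G) := by
    rw [repl_centralizer_sup, hFB, hFD]
    exact (inf_inf_distrib_left _ _ _).symm
  have e3 := repl_card_mul_card_le B D
  have e4 := hbest (B ⊔ D) (sup_le hB hD)
  rw [← e2] at e4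
  have e5 : FB ⊔ FD ≤ V ⊓ Subgroup.centralizer ((B ⊓ D : Subgroup G) : Set G) := by
    rw [hFB, hFD]
    exact sup_le (inf_le_inf_left _ (Subgroup.centralizer_le
        (by exact_mod_cast (inf_le_left : B ⊓ D ≤ B))))
      (inf_le_inf_left _ (Subgroup.centralizer_le
        (by exact_mod_cast (inf_le_right : B ⊓ D ≤ D))))
  have e6 := hbest (B ⊓ D) (inf_le_left.trans hB)
  obtain ⟨Fi, hFi⟩ : ∃ F : Subgroup G,
    F = V ⊓ Subgroup.centralizer ((B ⊓ D : Subgroup G) : Set G) := ⟨_, rfl⟩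
  rw [← hFi] at e5 e6 ⊢
  have hmm : m * m ≤ m * (Nat.card ↥(B ⊓ D) * Nat.card ↥(FB ⊔ FD)) := by
    calc m * m = (Nat.card B * Nat.card FB) * (Nat.card D * Nat.card FD) := by rw [hfB, hfD]
      _ = (Nat.card B * Nat.card D) * (Nat.card FB * Nat.card FD) := by ring
      _ = (Nat.card B * Nat.card D) * (Nat.card ↥(FB ⊔ FD) * Nat.card ↥(FB ⊓ FD)) := by rw [e1]
      _ ≤ (Nat.card ↥(B ⊔ D) * Nat.card ↥(B ⊓ D)) *
            (Nat.card ↥(FB ⊔ FD) * Nat.card ↥(FB ⊓ FD)) := Nat.mul_le_mul_right _ e3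
      _ = (Nat.card ↥(B ⊔ D) * Nat.card ↥(FB ⊓ FD)) *
            (Nat.card ↥(B ⊓ D) * Nat.card ↥(FB ⊔ FD)) := by ring
      _ ≤ m * (Nat.card ↥(B ⊓ D) * Nat.card ↥(FB ⊔ FD)) := Nat.mul_le_mul_right _ e4
  have h1 : m ≤ Nat.card ↥(B ⊓ D) * Nat.card ↥(FB ⊔ FD) := Nat.le_of_mul_le_mul_left hmm hmpos
  have h2 : Nat.card ↥(B ⊓ D) * Nat.card ↥(FB ⊔ FD) ≤ Nat.card ↥(B ⊓ D) * Nat.card Fi :=
    Nat.mul_le_mul_left _ (Subgroup.card_le_of_le e5)
  have h3 : Nat.card ↥(B ⊓ D) * Nat.card Fi = m := le_antisymm e6 (h1.trans h2)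
  refine ⟨h3, ?_⟩
  have h4 : Nat.card ↥(B ⊓ D) * Nat.card ↥(FB ⊔ FD) = Nat.card ↥(B ⊓ D) * Nat.card Fi :=
    le_antisymm h2 (h3.le.trans h1)
  have h5 : Nat.card ↥(FB ⊔ FD) = Nat.card Fi := Nat.eq_of_mul_eq_mul_left Nat.card_pos h4
  exact (Subgroup.eq_of_le_of_card_ge e5 h5.ge).symm

/-- finset induction step of the replacement theorem. -/
lemma repl_finset [Finite G] {V A : Subgroup G} (hVc : V ≤ Subgroup.centralizer (V : Set G))
    (hAV : A ≤ Subgroup.normalizer (V : Set G))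
    (hab : ⁅A, A⁆ ≤ Subgroup.centralizer (V : Set G))
    (hbest : ∀ B : Subgroup G, B ≤ A →
      Nat.card B * Nat.card ↥(V ⊓ Subgroup.centralizer (B : Set G)) ≤
        Nat.card A * Nat.card ↥(V ⊓ Subgroup.centralizer (A : Set G)))
    (s : Finset G) (hs : ∀ u ∈ s, u ∈ V) :
    Nat.card ↥(A ⊓ Subgroup.centralizer ({g | ∃ u ∈ s, ∃ a ∈ A, ⁅u, a⁆ = g} : Set G)) *
        Nat.card ↥(V ⊓ Subgroup.centralizer
          ((A ⊓ Subgroup.centralizer ({g | ∃ u ∈ s, ∃ a ∈ A, ⁅u, a⁆ = g} : Set G) :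
            Subgroup G) : Set G)) =
      Nat.card A * Nat.card ↥(V ⊓ Subgroup.centralizer (A : Set G)) ∧
    V ⊓ Subgroup.centralizer
          ((A ⊓ Subgroup.centralizer ({g | ∃ u ∈ s, ∃ a ∈ A, ⁅u, a⁆ = g} : Set G) :
            Subgroup G) : Set G) =
      Subgroup.closure ({g | ∃ u ∈ s, ∃ a ∈ A, ⁅u, a⁆ = g} : Set G) ⊔
          (V ⊓ Subgroup.centralizer (A : Set G)) := by
  classical
  induction s using Finset.induction_on with
  | empty =>
    have h0 : ({g | ∃ u ∈ (∅ : Finset G), ∃ a ∈ A, ⁅u, a⁆ = g} : Set G) = ∅ := by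
      ext g; simp
    rw [h0]
    have h1 : A ⊓ Subgroup.centralizer (∅ : Set G) = A := by
      apply le_antisymm inf_le_left
      refine le_inf le_rfl ?_
      intro a _
      rw [Subgroup.mem_centralizer_iff]
      intro x hx
      exact absurd hx (Set.notMem_empty x)
    rw [h1, Subgroup.closure_empty, bot_sup_eq]
    exact ⟨rfl, rfl⟩
  | insert u s hus ih =>
    have hsV : ∀ v ∈ s, v ∈ V := fun v hv => hs v (Finset.mem_insert_of_mem hv)
    have huV : u ∈ V := hs u (Finset.mem_insert_self u s)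
    obtain ⟨ih1, ih2⟩ := ih hsV
    obtain ⟨k1, k2⟩ := repl_stab hVc hAV hab hbest huV
    have hT : ({g | ∃ v ∈ insert u s, ∃ a ∈ A, ⁅v, a⁆ = g} : Set G) =
        {g | ∃ a ∈ A, ⁅u, a⁆ = g} ∪ {g | ∃ v ∈ s, ∃ a ∈ A, ⁅v, a⁆ = g} := by
      ext g
      simp only [Finset.mem_insert, Set.mem_setOf_eq, Set.mem_union]
      constructor
      · rintro ⟨v, (rfl | hv), a, ha, rfl⟩
        · exact Or.inl ⟨a, ha, rfl⟩
        · exact Or.inr ⟨v, hv, a, ha, rfl⟩
      · rintro (⟨a, ha, rfl⟩ | ⟨v, hv, a, ha, rfl⟩)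
        · exact ⟨u, Or.inl rfl, a, ha, rfl⟩
        · exact ⟨v, Or.inr hv, a, ha, rfl⟩
    rw [hT]
    obtain ⟨Tu, hTu⟩ : ∃ T : Set G, T = {g | ∃ a ∈ A, ⁅u, a⁆ = g} := ⟨_, rfl⟩
    obtain ⟨Ts, hTs⟩ : ∃ T : Set G, T = {g | ∃ v ∈ s, ∃ a ∈ A, ⁅v, a⁆ = g} := ⟨_, rfl⟩
    rw [← hTu] at k1 k2 ⊢
    rw [← hTs] at ih1 ih2 ⊢
    have hinf : A ⊓ Subgroup.centralizer (Tu ∪ Ts) =
        (A ⊓ Subgroup.centralizer Tu) ⊓ (A ⊓ Subgroup.centralizer Ts) := by
      rw [repl_centralizer_union]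
      exact inf_inf_distrib_left _ _ _
    rw [hinf]
    obtain ⟨r1, r2⟩ := repl_inf hVc hbest (inf_le_left : A ⊓ Subgroup.centralizer Tu ≤ A)
      (inf_le_left : A ⊓ Subgroup.centralizer Ts ≤ A) k1 ih1
    refine ⟨r1, ?_⟩
    rw [r2, k2, ih2, Subgroup.closure_union, sup_sup_sup_comm, sup_idem]

/-- Thompson/Timmesfeld replacement, main form: for a best `A`, the subgroup
`C_A([U, A])` attains the maximum and has fixed points `[U, A] C_V(A)`. -/
theorem replacement_main [Finite G] {V A : Subgroup G}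
    (hVc : V ≤ Subgroup.centralizer (V : Set G))
    (hAV : A ≤ Subgroup.normalizer (V : Set G))
    (hab : ⁅A, A⁆ ≤ Subgroup.centralizer (V : Set G))
    (hbest : ∀ B : Subgroup G, B ≤ A →
      Nat.card B * Nat.card ↥(V ⊓ Subgroup.centralizer (B : Set G)) ≤
        Nat.card A * Nat.card ↥(V ⊓ Subgroup.centralizer (A : Set G)))
    (U : Subgroup G) (hU : U ≤ V) :
    Nat.card ↥(A ⊓ Subgroup.centralizer ((⁅U, A⁆ : Subgroup G) : Set G)) *
        Nat.card ↥(V ⊓ Subgroup.centralizer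
          ((A ⊓ Subgroup.centralizer ((⁅U, A⁆ : Subgroup G) : Set G) : Subgroup G) : Set G)) =
      Nat.card A * Nat.card ↥(V ⊓ Subgroup.centralizer (A : Set G)) ∧
    V ⊓ Subgroup.centralizer
          ((A ⊓ Subgroup.centralizer ((⁅U, A⁆ : Subgroup G) : Set G) : Subgroup G) : Set G) =
      ⁅U, A⁆ ⊔ (V ⊓ Subgroup.centralizer (A : Set G)) := by
  classical
  have hfin : (U : Set G).Finite := Set.toFinite _
  have key := repl_finset hVc hAV hab hbest hfin.toFinset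
    (fun u hu => hU (by simpa using hu))
  have hT : ({g | ∃ u ∈ hfin.toFinset, ∃ a ∈ A, ⁅u, a⁆ = g} : Set G) =
      {g | ∃ g₁ ∈ U, ∃ g₂ ∈ A, ⁅g₁, g₂⁆ = g} := by
    ext g
    simp only [Set.Finite.mem_toFinset, SetLike.mem_coe, Set.mem_setOf_eq]
  rw [hT] at key
  have hcl : (⁅U, A⁆ : Subgroup G) = Subgroup.closure {g | ∃ g₁ ∈ U, ∃ g₂ ∈ A, ⁅g₁, g₂⁆ = g} :=
    Subgroup.commutator_def U A
  have hcen : Subgroup.centralizer ((⁅U, A⁆ : Subgroup G) : Set G) =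
      Subgroup.centralizer {g | ∃ g₁ ∈ U, ∃ g₂ ∈ A, ⁅g₁, g₂⁆ = g} := by
    rw [hcl, Subgroup.centralizer_closure]
  rw [hcen]
  rw [hcl]
  exact key

/-- if `A / K` has exponent `p`, then `A = S K` for a `p`-subgroup `S` of `A`. -/
lemma repl_sylow_decomp [Finite G] {p : ℕ} [Fact p.Prime] {A K : Subgroup G} (hKA : K ≤ A)
    (hN : A ≤ Subgroup.normalizer (K : Set G)) (hq : ∀ a ∈ A, a ^ p ∈ K) :
    ∃ S : Subgroup G, S ≤ A ∧ IsPGroup p S ∧ ∀ a ∈ A, ∃ s ∈ S, ∃ k ∈ K, a = s * k := by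
  have hp : p.Prime := Fact.out
  obtain ⟨P⟩ : Nonempty (Sylow p ↥A) := inferInstance
  refine ⟨(P : Subgroup ↥A).map A.subtype, Subgroup.map_subtype_le _, P.2.map _, ?_⟩
  obtain ⟨S, hS⟩ : ∃ S : Subgroup G, S = (P : Subgroup ↥A).map A.subtype := ⟨_, rfl⟩
  rw [← hS]
  have hSA : S ≤ A := hS ▸ Subgroup.map_subtype_le _
  have hidx : ¬ p ∣ S.relIndex A := by
    have h1 : S.subgroupOf A = (P : Subgroup ↥A) := by
      rw [hS]
      exact Subgroup.comap_map_eq_self_of_injective (Subgroup.subtype_injective _) _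
    unfold Subgroup.relIndex
    rw [h1]
    exact P.not_dvd_index
  haveI hnorm : (K.subgroupOf A).Normal := (Subgroup.normal_subgroupOf_iff_le_normalizer hKA).2 hN
  have hpq : IsPGroup p (↥A ⧸ K.subgroupOf A) := by
    intro q
    induction q using QuotientGroup.induction_on with
    | H a =>
      refine ⟨1, ?_⟩
      rw [pow_one, ← QuotientGroup.mk_pow, QuotientGroup.eq_one_iff, Subgroup.mem_subgroupOf]
      rw [Subgroup.coe_pow]
      exact hq a a.2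
  obtain ⟨n, hn⟩ := hpq.exists_card_eq
  have hKidx : K.relIndex A = p ^ n := by
    unfold Subgroup.relIndex Subgroup.index
    exact hn
  have hL1 : (S ⊔ K).relIndex A ∣ S.relIndex A := Subgroup.relIndex_dvd_of_le_left A le_sup_left
  have hL2 : (S ⊔ K).relIndex A ∣ p ^ n := by
    rw [← hKidx]; exact Subgroup.relIndex_dvd_of_le_left A le_sup_right
  obtain ⟨j, _, hj⟩ := (Nat.dvd_prime_pow hp).1 hL2
  have hj0 : j = 0 := by
    by_contra hne
    apply hidx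
    refine dvd_trans ?_ hL1
    rw [hj]
    exact dvd_pow_self p hne
  rw [hj0, pow_zero, Subgroup.relIndex_eq_one] at hj
  intro a ha
  exact Cfsg.Agent.Lib.Helper2.exists_mul_of_mem_sup_of_le_normalizer (hSA.trans hN) (hj ha)

/-- nontriviality: if `V = [V, A] C_V(A)` for a `p`-group `V` on which `A / C_A(V)` has
exponent `p`, then `[V, A] = 1`. -/
theorem repl_commutator_eq_bot [Finite G] {p : ℕ} [Fact p.Prime] {V A : Subgroup G}
    (hVc : V ≤ Subgroup.centralizer (V : Set G)) (hVp : IsPGroup p V)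
    (hAV : A ≤ Subgroup.normalizer (V : Set G))
    (hpow : ∀ a ∈ A, a ^ p ∈ Subgroup.centralizer (V : Set G))
    (h : V ≤ ⁅V, A⁆ ⊔ (V ⊓ Subgroup.centralizer (A : Set G))) : ⁅V, A⁆ = ⊥ := by
  obtain ⟨W, hW⟩ : ∃ W : Subgroup G, W = ⁅V, A⁆ := ⟨_, rfl⟩
  rw [← hW] at h ⊢
  have hWV : W ≤ V := by
    rw [hW]; exact Subgroup.le_normalizer_iff_commutator_le_left.mp hAV
  have hcommV : ∀ x ∈ V, ∀ y ∈ V, x * y = y * x := fun x hx y hy =>
    ((Subgroup.mem_centralizer_iff.mp (hVc hy)) x hx)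
  -- step 1 : W ≤ ⁅W, A⁆
  have hWC : W ≤ Subgroup.normalizer ((V ⊓ Subgroup.centralizer (A : Set G) : Subgroup G) : Set G) :=
    hWV.trans (hVc.trans ((Subgroup.centralizer_le
      (by exact_mod_cast (inf_le_left : V ⊓ Subgroup.centralizer (A : Set G) ≤ V))).trans
      (Subgroup.centralizer_le_normalizer _)))
  have h1 : W ≤ ⁅W, A⁆ := by
    conv_lhs => rw [hW]
    rw [Subgroup.commutator_le]
    intro v hv a ha
    obtain ⟨w, hw, c, hc, rfl⟩ :=
      Cfsg.Agent.Lib.Helper2.exists_mul_of_mem_sup_of_le_normalizer hWC (h hv)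
    have hca : a * c = c * a := (Subgroup.mem_centralizer_iff.mp (Subgroup.mem_inf.mp hc).2) a ha
    have : ⁅w * c, a⁆ = ⁅w, a⁆ := by
      rw [commutatorElement_def, commutatorElement_def]
      calc w * c * a * (w * c)⁻¹ * a⁻¹ = w * (c * a) * c⁻¹ * w⁻¹ * a⁻¹ := by group
        _ = w * (a * c) * c⁻¹ * w⁻¹ * a⁻¹ := by rw [hca]
        _ = w * a * w⁻¹ * a⁻¹ := by group
    rw [this]
    exact Subgroup.commutator_mem_commutator hw ha
  -- step 2 : Sylow decomposition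
  have hKN : A ≤ Subgroup.normalizer
      ((A ⊓ Subgroup.centralizer (V : Set G) : Subgroup G) : Set G) :=
    (le_inf Subgroup.le_normalizer
      (hAV.trans (Cfsg.Agent.Lib.Helper3.normalizer_le_normalizer_centralizer V))).trans
      (Cfsg.Agent.Lib.Helper3.normalizer_inf_normalizer_le A _)
  obtain ⟨S, hSA, hSp, hdec⟩ := repl_sylow_decomp (p := p)
    (inf_le_left : A ⊓ Subgroup.centralizer (V : Set G) ≤ A) hKN
    (fun a ha => Subgroup.mem_inf.mpr ⟨A.pow_mem ha p, hpow a ha⟩)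
  have h2 : ⁅W, A⁆ ≤ ⁅W, S⁆ := by
    rw [Subgroup.commutator_le]
    intro w hw a ha
    obtain ⟨s, hs, k, hk, rfl⟩ := hdec a ha
    have hwk : w⁻¹ * k = k * w⁻¹ :=
      (Subgroup.mem_centralizer_iff.mp (Subgroup.mem_inf.mp hk).2) _ (V.inv_mem (hWV hw))
    have : ⁅w, s * k⁆ = ⁅w, s⁆ := by
      rw [commutatorElement_def, commutatorElement_def]
      calc w * (s * k) * w⁻¹ * (s * k)⁻¹ = w * s * (k * w⁻¹) * k⁻¹ * s⁻¹ := by group
        _ = w * s * (w⁻¹ * k) * k⁻¹ * s⁻¹ := by rw [hwk]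
        _ = w * s * w⁻¹ * s⁻¹ := by group
    rw [this]
    exact Subgroup.commutator_mem_commutator hw hs
  -- step 3
  by_contra hne
  have hAW : A ≤ Subgroup.normalizer (W : Set G) := by
    rw [hW]
    exact (le_inf hAV Subgroup.le_normalizer).trans
      (Cfsg.Agent.Lib.Helper3.normalizer_inf_le_normalizer_commutator V A)
  have hlt : ⁅W, S⁆ < W :=
    Cfsg.Agent.Lib.Helper3.commutator_lt_of_pgroup hSp (hVp.to_le hWV) (hSA.trans hAW) hne
  exact lt_irrefl _ (lt_of_le_of_lt (h1.trans h2) hlt)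

end Replacement

end Cfsg.Agent.Lib.Helper4
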