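import Cfsg.Agent.S0624
import Cfsg.Agent.S0622
import Cfsg.Agent.Lib.Helper4.QuadPairB
import Cfsg.Agent.Lib.Helper3.FunctorNPC
import Cfsg.Agent.Lib.Helper3.GTConfig
import Cfsg.Agent.Lib.Helper4.Frobenius

/-! Thompson's normal `p`-complement theorem for the stable normal closure `W(S)`. -/

namespace Cfsg.Agent.Lib.Helper4

open Cfsg.Agent.Lib.Helper3
open scoped commutatorElement

section QuadPairM

universe u

theorem qp_snc_charP (p : ℕ) [Fact p.Prime] :
    Cfsg.IsCharPFunctor.{u} p (fun (Q : Type u) [Group Q] => Cfsg.stableNormalClosure p Q) := by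
  constructor
  · intro Q _ _ hQ hnt
    exact (Cfsg.Agent.S0622.result (p := p) hQ).2.2.2.1 hnt
  · intro Q R _ _ _ hQ φ
    exact (Cfsg.Agent.S0622.result (p := p) hQ).2.2.2.2 R φ

theorem qp_goodW {X : Type u} [Group X] [Finite X] (p : ℕ) [Fact p.Prime] (hp2 : p ≠ 2) :
    GoodW p (fun (Q : Type u) [Group Q] => Cfsg.stableNormalClosure p Q) X := by
  classical
  have hpp := (Fact.out : p.Prime)
  intro T hco hc hK
  obtain ⟨Kb, hKbn, hKbc, hKbq⟩ := exists_normal_hall_of_hasNormalPComplement p hK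
  have hsurj : Function.Surjective (opi p X) := opi_surjective
  haveI hKn : (Kb.comap (opi p X)).Normal := hKbn.comap _
  have hQK : Cfsg.pCore p X ≤ Kb.comap (opi p X) := by
    intro x hx
    rw [Subgroup.mem_comap, opi_eq_one_iff.mpr hx]
    exact Subgroup.one_mem _
  have hmapK : (Kb.comap (opi p X)).map (opi p X) = Kb :=
    Subgroup.map_comap_eq_self_of_surjective hsurj _
  have hGK : IsPGroup p (X ⧸ Kb.comap (opi p X)) := by
    intro y
    induction y using QuotientGroup.induction_on with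
    | H x =>
      obtain ⟨n, hn⟩ := hKbq ((opi p X x : X ⧸ Cfsg.pCore p X) : (X ⧸ Cfsg.pCore p X) ⧸ Kb)
      refine ⟨n, ?_⟩
      rw [← QuotientGroup.mk_pow, QuotientGroup.eq_one_iff]
      rw [← QuotientGroup.mk_pow, QuotientGroup.eq_one_iff, ← map_pow] at hn
      exact hn
  have hcop : (Nat.card ↥((Kb.comap (opi p X)).map (opi p X))).Coprime p := by
    rw [hmapK]; exact hKbc
  have hKP : Kb.comap (opi p X) ⊔ (T : Subgroup X) = ⊤ := sup_sylow_eq_top _ hGK T
  have hsol : Cfsg.IsPSolvable p X := isPSolvable_of_series _ hQK hcop hGK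
  have hmax : ∀ G₁ : Subgroup X, (T : Subgroup X) ≤ G₁ → G₁ = (T : Subgroup X) ∨ G₁ = ⊤ := by
    intro G₁ hle
    rcases eq_or_lt_of_le hle with h | h
    · exact Or.inl h.symm
    · exact Or.inr (hco.2 G₁ h)
  have hconf : GTConf T (Kb.comap (opi p X)) := ⟨hc, hmax, hKn, hQK, hcop, hKP⟩
  have hno : ¬ (p = 3 ∧ Cfsg.Involves (Matrix.SpecialLinearGroup (Fin 2) (ZMod 3)) X) := by
    rintro ⟨h3, hinv⟩
    obtain ⟨y, hy⟩ := qp_order4_of_involves hinv
    -- y lies in K
    have hyK : y ∈ Kb.comap (opi p X) := by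
      obtain ⟨n, hn⟩ := hGK (QuotientGroup.mk y)
      rw [← QuotientGroup.mk_pow, QuotientGroup.eq_one_iff] at hn
      have hc4 : Nat.Coprime (p ^ n) 4 := by
        rw [h3]
        exact Nat.Coprime.pow_left n (by decide)
      obtain ⟨m, -, hm⟩ := Nat.exists_mul_mod_eq_one_of_coprime hc4 (by norm_num)
      have h1 : y ^ (p ^ n * m) = y := by
        rw [← pow_mod_orderOf, hy, hm, pow_one]
      rw [← h1, pow_mul]
      exact Subgroup.pow_mem _ hn m
    have hybK : opi p X y ∈ (Kb.comap (opi p X)).map (opi p X) :=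
      Subgroup.mem_map_of_mem _ hyK
    have hKbnorm := hconf.kb_normal
    let Mb : Subgroup (X ⧸ Cfsg.pCore p X) :=
      { carrier := {k | k ∈ (Kb.comap (opi p X)).map (opi p X) ∧ k ^ 2 = 1}
        mul_mem' := fun {a b} ha hb => by
          refine ⟨mul_mem ha.1 hb.1, ?_⟩
          have hab : Commute a b := hconf.kb_comm a ha.1 b hb.1
          rw [hab.mul_pow, ha.2, hb.2, one_mul]
        one_mem' := ⟨one_mem _, one_pow _⟩
        inv_mem' := fun {a} ha => ⟨inv_mem ha.1, by rw [inv_pow, ha.2, inv_one]⟩ }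
    have hMK : Mb ≤ (Kb.comap (opi p X)).map (opi p X) := fun k hk => hk.1
    have hinvM : ∀ x ∈ (T : Subgroup X).map (opi p X), ∀ m ∈ Mb, x * m * x⁻¹ ∈ Mb := by
      intro x _ m hm
      refine ⟨hKbnorm.conj_mem m hm.1 x, ?_⟩
      rw [conj_pow, hm.2, mul_one, mul_inv_cancel]
    have hy4 : (opi p X y) ^ 4 = 1 := by
      rw [← map_pow, ← hy, pow_orderOf_eq_one, map_one]
    have hy2M : (opi p X y) ^ 2 ∈ Mb := by
      refine ⟨Subgroup.pow_mem _ hybK 2, ?_⟩
      rw [← pow_mul]; exact hy4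
    have hy2 : (opi p X y) ^ 2 = 1 := by
      rcases hconf.irred Mb hMK hinvM with h | h
      · rw [h] at hy2M
        exact Subgroup.mem_bot.1 hy2M
      · have : opi p X y ∈ Mb := by rw [h]; exact hybK
        exact this.2
    have hyQ : y ^ 2 ∈ Cfsg.pCore p X := by
      rw [← opi_eq_one_iff, map_pow]; exact hy2
    obtain ⟨j, hj⟩ := (pCore_isPGroup (p := p) (G := X)) ⟨y ^ 2, hyQ⟩
    have hj' : (y ^ 2) ^ (p ^ j) = 1 := by simpa using congrArg Subtype.val hj
    have ho2 : orderOf (y ^ 2) = 2 := by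
      rw [orderOf_pow_of_dvd (by norm_num) (by rw [hy]; norm_num), hy]
    have h2 : 2 ∣ p ^ j := by
      rw [← ho2]; exact orderOf_dvd_of_pow_eq_one hj'
    have h3' : 2 ∣ p := Nat.Prime.dvd_of_dvd_pow Nat.prime_two h2
    rw [h3] at h3'
    omega
  exact Cfsg.Agent.S0624.result (qp_actionPStable p hp2 hsol hno) hc T

/-- **Thompson's normal `p`-complement theorem, `W(S)`-form.** -/
theorem qp_thompson_W {G : Type u} [Group G] [Finite G] (p : ℕ) [Fact p.Prime] (hp2 : p ≠ 2)
    (S : Sylow p G)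
    (hN : Cfsg.HasNormalPComplement p ↥(Subgroup.normalizer
      (((Cfsg.stableNormalClosure p ↥(S : Subgroup G)).map (S : Subgroup G).subtype) : Set G))) :
    Cfsg.HasNormalPComplement p G :=
  npc_of_functor (qp_snc_charP p) (G₀ := G) (fun X _ _ _ => qp_goodW p hp2) _ G involves_self rfl S hN

end QuadPairM

end Cfsg.Agent.Lib.Helper4
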