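import Mathlib

/-! Elementary facts on 2x2 matrices of determinant one. -/

namespace Cfsg.Agent.Lib.Helper4

open Matrix

section SL2a

variable {K : Type*} [Field K]

/-- the trace -/
def sl2tr (g : Matrix.SpecialLinearGroup (Fin 2) K) : K := g 0 0 + g 1 1

theorem sl2_det (g : Matrix.SpecialLinearGroup (Fin 2) K) :
    g 0 0 * g 1 1 - g 0 1 * g 1 0 = 1 := by
  have := g.det_coe
  rw [Matrix.det_fin_two] at this
  exact this

theorem mat2_ch (M : Matrix (Fin 2) (Fin 2) K) :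
    M * M = (M 0 0 + M 1 1) • M - (M 0 0 * M 1 1 - M 0 1 * M 1 0) • (1 : Matrix (Fin 2) (Fin 2) K) := by
  ext i j
  fin_cases i <;> fin_cases j <;>
    simp [Matrix.mul_apply, Fin.sum_univ_two] <;> ring

theorem sl2_ch (g : Matrix.SpecialLinearGroup (Fin 2) K) :
    (g : Matrix (Fin 2) (Fin 2) K) * g = sl2tr g • (g : Matrix (Fin 2) (Fin 2) K) - 1 := by
  rw [mat2_ch, sl2_det g, one_smul]
  rfl

theorem sl2tr_eq_trace (g : Matrix.SpecialLinearGroup (Fin 2) K) :
    sl2tr g = Matrix.trace (g : Matrix (Fin 2) (Fin 2) K) := by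
  rw [Matrix.trace_fin_two]; rfl

theorem sl2tr_conj (x g : Matrix.SpecialLinearGroup (Fin 2) K) : sl2tr (x * g * x⁻¹) = sl2tr g := by
  rw [sl2tr_eq_trace, sl2tr_eq_trace, Matrix.SpecialLinearGroup.coe_mul,
    Matrix.SpecialLinearGroup.coe_mul, Matrix.trace_mul_comm, ← Matrix.mul_assoc,
    ← Matrix.SpecialLinearGroup.coe_mul, inv_mul_cancel, Matrix.SpecialLinearGroup.coe_one,
    Matrix.one_mul]

theorem sl2_inv_entries (g : Matrix.SpecialLinearGroup (Fin 2) K) :
    (g⁻¹ : Matrix.SpecialLinearGroup (Fin 2) K) 0 0 = g 1 1 ∧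
    (g⁻¹ : Matrix.SpecialLinearGroup (Fin 2) K) 0 1 = - g 0 1 ∧
    (g⁻¹ : Matrix.SpecialLinearGroup (Fin 2) K) 1 0 = - g 1 0 ∧
    (g⁻¹ : Matrix.SpecialLinearGroup (Fin 2) K) 1 1 = g 0 0 := by
  have h : ((g⁻¹ : Matrix.SpecialLinearGroup (Fin 2) K) : Matrix (Fin 2) (Fin 2) K)
      = Matrix.adjugate (g : Matrix (Fin 2) (Fin 2) K) := Matrix.SpecialLinearGroup.coe_inv g
  have h2 := Matrix.adjugate_fin_two (g : Matrix (Fin 2) (Fin 2) K)
  rw [h2] at h
  refine ⟨?_, ?_, ?_, ?_⟩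
  · exact congrFun (congrFun h 0) 0
  · exact congrFun (congrFun h 0) 1
  · exact congrFun (congrFun h 1) 0
  · exact congrFun (congrFun h 1) 1

theorem sl2_add_inv (g : Matrix.SpecialLinearGroup (Fin 2) K) :
    (g : Matrix (Fin 2) (Fin 2) K) + ((g⁻¹ : Matrix.SpecialLinearGroup (Fin 2) K) :
      Matrix (Fin 2) (Fin 2) K) = sl2tr g • (1 : Matrix (Fin 2) (Fin 2) K) := by
  obtain ⟨h00, h01, h10, h11⟩ := sl2_inv_entries g
  ext i j
  fin_cases i <;> fin_cases j
  · simp only [Fin.zero_eta, Fin.isValue, Matrix.add_apply, Matrix.smul_apply, Matrix.one_apply_eq,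
      smul_eq_mul, mul_one]
    rw [show ((g⁻¹ : Matrix.SpecialLinearGroup (Fin 2) K) : Matrix (Fin 2) (Fin 2) K) 0 0 = g 1 1
      from h00]
    rfl
  · simp only [Fin.zero_eta, Fin.isValue, Fin.mk_one, Matrix.add_apply, Matrix.smul_apply,
      smul_eq_mul]
    rw [show ((g⁻¹ : Matrix.SpecialLinearGroup (Fin 2) K) : Matrix (Fin 2) (Fin 2) K) 0 1 = - g 0 1
      from h01]
    simp
  · simp only [Fin.mk_one, Fin.isValue, Fin.zero_eta, Matrix.add_apply, Matrix.smul_apply,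
      smul_eq_mul]
    rw [show ((g⁻¹ : Matrix.SpecialLinearGroup (Fin 2) K) : Matrix (Fin 2) (Fin 2) K) 1 0 = - g 1 0
      from h10]
    simp
  · simp only [Fin.mk_one, Fin.isValue, Matrix.add_apply, Matrix.smul_apply, Matrix.one_apply_eq,
      smul_eq_mul, mul_one]
    rw [show ((g⁻¹ : Matrix.SpecialLinearGroup (Fin 2) K) : Matrix (Fin 2) (Fin 2) K) 1 1 = g 0 0
      from h11]
    rw [sl2tr]; ring

theorem sl2_det_sub_one (w : Matrix.SpecialLinearGroup (Fin 2) K) :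
    Matrix.det ((w : Matrix (Fin 2) (Fin 2) K) - 1) = 2 - sl2tr w := by
  rw [Matrix.det_fin_two]
  simp only [Matrix.sub_apply, Matrix.one_apply_eq, Matrix.one_apply_ne, ne_eq, zero_ne_one,
    not_false_eq_true, one_ne_zero, sub_zero, Fin.isValue]
  rw [sl2tr]
  linear_combination sl2_det w

theorem sl2_sq_one (h2 : (2:K) ≠ 0) (g : Matrix.SpecialLinearGroup (Fin 2) K) (hg : g * g = 1) :
    g = 1 ∨ g = -1 := by
  have hm : (g : Matrix (Fin 2) (Fin 2) K) * g = 1 := by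
    rw [← Matrix.SpecialLinearGroup.coe_mul, hg, Matrix.SpecialLinearGroup.coe_one]
  rw [sl2_ch] at hm
  have e : ∀ i j, sl2tr g * g i j - (1 : Matrix (Fin 2) (Fin 2) K) i j
      = (1 : Matrix (Fin 2) (Fin 2) K) i j := by
    intro i j
    have := congrFun (congrFun hm i) j
    simpa [Matrix.sub_apply, Matrix.smul_apply] using this
  have e00 : sl2tr g * g 0 0 = 2 := by
    have := e 0 0
    simp only [Matrix.one_apply_eq] at this
    linear_combination this
  have e11 : sl2tr g * g 1 1 = 2 := by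
    have := e 1 1
    simp only [Matrix.one_apply_eq] at this
    linear_combination this
  have e01 : sl2tr g * g 0 1 = 0 := by
    have := e 0 1
    simpa using this
  have e10 : sl2tr g * g 1 0 = 0 := by
    have := e 1 0
    simpa using this
  have ht : sl2tr g ≠ 0 := by
    intro h0
    rw [h0, zero_mul] at e00
    exact h2 e00.symm
  have g01 : g 0 1 = 0 := by
    rcases mul_eq_zero.1 e01 with h | h
    · exact absurd h ht
    · exact h
  have g10 : g 1 0 = 0 := by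
    rcases mul_eq_zero.1 e10 with h | h
    · exact absurd h ht
    · exact h
  have hdet := sl2_det g
  rw [g01, zero_mul, sub_zero] at hdet
  have heq : g 0 0 = g 1 1 := by
    apply mul_left_cancel₀ ht
    rw [e00, e11]
  have hsq : g 0 0 * g 0 0 = 1 := by rw [heq] at hdet ⊢; exact hdet
  rcases mul_self_eq_one_iff.1 hsq with h | h
  · left
    ext i j
    fin_cases i <;> fin_cases j
    · simpa using h
    · simpa using g01
    · simpa using g10
    · simpa using (heq ▸ h : g 1 1 = 1)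
  · right
    ext i j
    fin_cases i <;> fin_cases j
    · simpa using h
    · simpa using g01
    · simpa using g10
    · simpa using (heq ▸ h : g 1 1 = -1)

theorem sl2_unip_sq (g : Matrix.SpecialLinearGroup (Fin 2) K) (h : sl2tr g = 2) :
    ((g : Matrix (Fin 2) (Fin 2) K) - 1) * ((g : Matrix (Fin 2) (Fin 2) K) - 1) = 0 := by
  have h1 : ((g : Matrix (Fin 2) (Fin 2) K) - 1) * ((g : Matrix (Fin 2) (Fin 2) K) - 1)
      = (g : Matrix (Fin 2) (Fin 2) K) * g - g - g + 1 := by noncomm_ring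
  rw [h1, sl2_ch, h, two_smul]
  abel

theorem sl2_unip_pow (p : ℕ) [Fact p.Prime] [CharP K p]
    (g : Matrix.SpecialLinearGroup (Fin 2) K) (h : sl2tr g = 2) : g ^ p = 1 := by
  have hp : p.Prime := Fact.out
  have hN := sl2_unip_sq g h
  have h1 : ((g : Matrix (Fin 2) (Fin 2) K) - 1)^p = 0 := by
    have : p = 2 + (p - 2) := by have := hp.two_le; omega
    rw [this, pow_add, pow_two, hN, zero_mul]
  rw [sub_pow_char_of_commute p (Commute.one_right _), one_pow, sub_eq_zero] at h1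
  apply Subtype.ext
  rw [Matrix.SpecialLinearGroup.coe_pow, h1, Matrix.SpecialLinearGroup.coe_one]

theorem sl2_tr_of_pow (p : ℕ) [Fact p.Prime] [CharP K p]
    (g : Matrix.SpecialLinearGroup (Fin 2) K) (hg : g ^ p = 1) : sl2tr g = 2 := by
  have hp : p.Prime := Fact.out
  obtain ⟨N, hNdef⟩ : ∃ N : Matrix (Fin 2) (Fin 2) K, N = (g : Matrix (Fin 2) (Fin 2) K) - 1 :=
    ⟨_, rfl⟩
  have hNp : N ^ p = 0 := by
    rw [hNdef, sub_pow_char_of_commute p (Commute.one_right _), one_pow,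
      ← Matrix.SpecialLinearGroup.coe_pow, hg, Matrix.SpecialLinearGroup.coe_one, sub_self]
  have hdet : N 0 0 * N 1 1 - N 0 1 * N 1 0 = 0 := by
    have h1 : Matrix.det (N ^ p) = 0 := by rw [hNp]; simp
    rw [Matrix.det_pow] at h1
    have h2 := pow_eq_zero_iff (hp.ne_zero) |>.1 h1
    rw [Matrix.det_fin_two] at h2
    exact h2
  have hsq : N * N = (N 0 0 + N 1 1) • N := by
    rw [mat2_ch N, hdet, zero_smul, sub_zero]
  have hpow : ∀ k : ℕ, N ^ (k+1) = (N 0 0 + N 1 1)^k • N := by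
    intro k
    induction k with
    | zero => simp
    | succ k ih =>
      rw [pow_succ, ih, Matrix.smul_mul, hsq, smul_smul, pow_succ]
  have ht : N 0 0 + N 1 1 = 0 := by
    by_contra hne
    have h1 : N ^ (p - 1 + 1) = 0 := by
      rw [Nat.sub_add_cancel hp.one_le]; exact hNp
    rw [hpow] at h1
    have h2 : N = 0 := by
      rcases smul_eq_zero.1 h1 with h | h
      · exact absurd (pow_eq_zero_iff (by have := hp.two_le; omega) |>.1 h) hne
      · exact h
    apply hne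
    rw [h2]; simp
  rw [hNdef] at ht
  simp only [Matrix.sub_apply, Matrix.one_apply_eq] at ht
  rw [sl2tr]
  linear_combination ht

theorem sl2_comm_tr (z z' : Matrix.SpecialLinearGroup (Fin 2) K) (hc : z * z' = z' * z)
    (ht : sl2tr z = sl2tr z') : sl2tr (z⁻¹ * z') = 2 ∨ sl2tr (z * z') = 2 := by
  obtain ⟨Z, hZ⟩ : ∃ Z : Matrix (Fin 2) (Fin 2) K, Z = z := ⟨_, rfl⟩
  obtain ⟨Z', hZ'⟩ : ∃ Z' : Matrix (Fin 2) (Fin 2) K, Z' = z' := ⟨_, rfl⟩
  obtain ⟨Zi, hZi⟩ : ∃ Zi : Matrix (Fin 2) (Fin 2) K,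
      Zi = (z⁻¹ : Matrix.SpecialLinearGroup (Fin 2) K) := ⟨_, rfl⟩
  have h1 : Z + Zi = sl2tr z • (1 : Matrix (Fin 2) (Fin 2) K) := by
    rw [hZ, hZi]; exact sl2_add_inv z
  have h2 : Z * Zi = 1 := by
    rw [hZ, hZi, ← Matrix.SpecialLinearGroup.coe_mul, mul_inv_cancel,
      Matrix.SpecialLinearGroup.coe_one]
  have h2' : Zi * Z = 1 := by
    rw [hZ, hZi, ← Matrix.SpecialLinearGroup.coe_mul, inv_mul_cancel,
      Matrix.SpecialLinearGroup.coe_one]
  have h3 : Z' * Zi = Zi * Z' := by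
    have : z' * z⁻¹ = z⁻¹ * z' := by
      rw [eq_inv_mul_iff_mul_eq, ← mul_assoc, hc, mul_assoc, mul_inv_cancel, mul_one]
    rw [hZ', hZi, ← Matrix.SpecialLinearGroup.coe_mul, this, Matrix.SpecialLinearGroup.coe_mul]
  have h4 : Z' * Z' = sl2tr z • Z' - 1 := by
    rw [hZ', ht]; exact sl2_ch z'
  have h5 : (Z' - Z) * (Z' - Zi) = 0 := by
    have : (Z' - Z) * (Z' - Zi) = Z' * Z' - Z' * Zi - Z * Z' + Z * Zi := by noncomm_ring
    rw [this, h3, h2, h4]
    have : Zi * Z' + Z * Z' = sl2tr z • Z' := by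
      rw [← Matrix.add_mul, add_comm, h1, Matrix.smul_mul, Matrix.one_mul]
    rw [← this]
    abel
  have h6 : Matrix.det (Z' - Z) * Matrix.det (Z' - Zi) = 0 := by
    rw [← Matrix.det_mul, h5]; simp
  have h7 : Matrix.det (Z' - Z) = 2 - sl2tr (z⁻¹ * z') := by
    have : Z' - Z = Z * (((z⁻¹ * z' : Matrix.SpecialLinearGroup (Fin 2) K) :
        Matrix (Fin 2) (Fin 2) K) - 1) := by
      rw [Matrix.SpecialLinearGroup.coe_mul, ← hZi, ← hZ', Matrix.mul_sub, ← Matrix.mul_assoc, h2,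
        Matrix.one_mul, Matrix.mul_one]
    rw [this, Matrix.det_mul, sl2_det_sub_one, hZ, Matrix.SpecialLinearGroup.det_coe, one_mul]
  have h8 : Matrix.det (Z' - Zi) = 2 - sl2tr (z * z') := by
    have : Z' - Zi = Zi * (((z * z' : Matrix.SpecialLinearGroup (Fin 2) K) :
        Matrix (Fin 2) (Fin 2) K) - 1) := by
      rw [Matrix.SpecialLinearGroup.coe_mul, ← hZ, ← hZ', Matrix.mul_sub, ← Matrix.mul_assoc, h2',
        Matrix.one_mul, Matrix.mul_one]
    rw [this, Matrix.det_mul, sl2_det_sub_one, hZi, Matrix.SpecialLinearGroup.det_coe, one_mul]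
  rcases mul_eq_zero.1 h6 with h | h
  · left
    rw [h7] at h
    linear_combination -h
  · right
    rw [h8] at h
    linear_combination -h

theorem sl2_comm_unip (h2 : (2:K) ≠ 0) (x z : Matrix.SpecialLinearGroup (Fin 2) K)
    (hx : sl2tr x = 2) (hx1 : x ≠ 1) (hc : z * x = x * z) : sl2tr z * sl2tr z = 4 := by
  have hm : (z : Matrix (Fin 2) (Fin 2) K) * x = (x : Matrix (Fin 2) (Fin 2) K) * z := by
    rw [← Matrix.SpecialLinearGroup.coe_mul, hc, Matrix.SpecialLinearGroup.coe_mul]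
  have e : ∀ i j, z i 0 * x 0 j + z i 1 * x 1 j = x i 0 * z 0 j + x i 1 * z 1 j := by
    intro i j
    have := congrFun (congrFun hm i) j
    simpa [Matrix.mul_apply, Fin.sum_univ_two] using this
  obtain ⟨a, ha⟩ : ∃ a : K, a = z 0 0 := ⟨_, rfl⟩
  obtain ⟨b, hb⟩ : ∃ b : K, b = z 0 1 := ⟨_, rfl⟩
  obtain ⟨c, hcc⟩ : ∃ c : K, c = z 1 0 := ⟨_, rfl⟩
  obtain ⟨d, hd⟩ : ∃ d : K, d = z 1 1 := ⟨_, rfl⟩
  obtain ⟨n, hn⟩ : ∃ n : K, n = x 0 0 - 1 := ⟨_, rfl⟩
  obtain ⟨m, hmm⟩ : ∃ m : K, m = x 0 1 := ⟨_, rfl⟩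
  obtain ⟨l, hl⟩ : ∃ l : K, l = x 1 0 := ⟨_, rfl⟩
  have hx00 : x 0 0 = 1 + n := by rw [hn]; ring
  have hx11 : x 1 1 = 1 - n := by
    have : x 0 0 + x 1 1 = 2 := hx
    rw [hn]; linear_combination this
  have hdx := sl2_det x
  have hdz := sl2_det z
  rw [hx00, hx11, ← hmm, ← hl] at hdx
  rw [← ha, ← hb, ← hcc, ← hd] at hdz
  have hnn : n * n + m * l = 0 := by linear_combination -hdx
  have e00 := e 0 0
  have e01 := e 0 1
  have e10 := e 1 0
  rw [← ha, ← hb, ← hcc, ← hl, hx00, ← hmm] at e00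
  rw [← ha, ← hb, ← hd, hx00, hx11, ← hmm] at e01
  rw [← ha, ← hcc, ← hd, hx00, hx11, ← hl] at e10
  have E1 : b * l = m * c := by linear_combination e00
  have E2 : m * (a - d) = 2 * n * b := by linear_combination e01
  have E3 : 2 * n * c = l * (a - d) := by linear_combination e10
  have hD : (a - d)^2 + 4 * b * c = 0 := by
    have h1 : ((a - d)^2 + 4 * b * c) * n^2 = 0 := by grind
    have h2 : ((a - d)^2 + 4 * b * c) * m^2 = 0 := by grind
    have h3 : ((a - d)^2 + 4 * b * c) * l^2 = 0 := by grind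
    by_contra hne
    have hn0 : n = 0 := by
      rcases mul_eq_zero.1 h1 with h | h
      · exact absurd h hne
      · exact pow_eq_zero_iff (two_ne_zero) |>.1 h
    have hm0 : m = 0 := by
      rcases mul_eq_zero.1 h2 with h | h
      · exact absurd h hne
      · exact pow_eq_zero_iff (two_ne_zero) |>.1 h
    have hl0 : l = 0 := by
      rcases mul_eq_zero.1 h3 with h | h
      · exact absurd h hne
      · exact pow_eq_zero_iff (two_ne_zero) |>.1 h
    apply hx1
    ext i j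
    fin_cases i <;> fin_cases j
    · simpa [hn0] using hx00
    · simpa [hm0] using hmm.symm
    · simpa [hl0] using hl.symm
    · simpa [hn0] using hx11
  rw [sl2tr, ← ha, ← hd]
  linear_combination hD + 4 * hdz

theorem sl2_central_elt (p : ℕ) [Fact p.Prime] [CharP K p] (h2 : (2:K) ≠ 0)
    (x z : Matrix.SpecialLinearGroup (Fin 2) K)
    (hx : sl2tr x = 2) (hx1 : x ≠ 1) (hc : z * x = x * z) (hz : (orderOf z).Coprime p) :
    z = 1 ∨ z = -1 := by
  have h4 := sl2_comm_unip h2 x z hx hx1 hc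
  have htr : sl2tr (z * z) = 2 := by
    have h5 := sl2_ch z
    have h6 : sl2tr (z * z) = Matrix.trace ((z : Matrix (Fin 2) (Fin 2) K) * (z : Matrix (Fin 2) (Fin 2) K)) := by
      rw [sl2tr_eq_trace, Matrix.SpecialLinearGroup.coe_mul]
    rw [h6, h5, Matrix.trace_sub, Matrix.trace_smul, ← sl2tr_eq_trace, Matrix.trace_one]
    simp only [Fintype.card_fin, Nat.cast_ofNat, smul_eq_mul]
    linear_combination h4
  have hpow := sl2_unip_pow p (z * z) htr
  have hzz : z * z = 1 := by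
    have h7 : orderOf (z * z) ∣ p := orderOf_dvd_of_pow_eq_one hpow
    have h8 : orderOf (z * z) ∣ orderOf z := by
      rw [← pow_two]; exact orderOf_pow_dvd 2
    have h9 : orderOf (z * z) ∣ 1 := by
      have := Nat.dvd_gcd h8 h7
      rwa [Nat.Coprime.gcd_eq_one hz] at this
    exact orderOf_eq_one_iff.1 (Nat.dvd_one.1 h9)
  exact sl2_sq_one h2 z hzz

end SL2a

end Cfsg.Agent.Lib.Helper4
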