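import Cfsg.Agent.Lib.Helper4.QuadSL2a

/-! A unipotent element of `SL2` normalizing a subgroup of order prime to `p`: elementwise control. -/

namespace Cfsg.Agent.Lib.Helper4

open Matrix

section SL2b

variable {K : Type*} [Field K] {Γ : Type*} [Group Γ]

theorem qp_two_ne_zero (p : ℕ) [Fact p.Prime] [CharP K p] (hp2 : p ≠ 2) : (2:K) ≠ 0 := by
  intro h
  have h1 : ((2:ℕ):K) = 0 := by exact_mod_cast h
  rw [CharP.cast_eq_zero_iff K p 2] at h1
  have hp : p.Prime := Fact.out
  exact hp2 ((Nat.prime_dvd_prime_iff_eq hp Nat.prime_two).1 h1)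

theorem eq_one_of_pow_of_coprime {p : ℕ} (Q : Subgroup Γ) [Finite Q]
    (hQ : (Nat.card Q).Coprime p)
    (g : Γ) (hg : g ∈ Q) (hgp : g ^ p = 1) : g = 1 := by
  have h1 : orderOf g ∣ p := orderOf_dvd_of_pow_eq_one hgp
  have h2 : orderOf g ∣ Nat.card Q := by
    have := orderOf_dvd_natCard (⟨g, hg⟩ : Q)
    rwa [Subgroup.orderOf_mk] at this
  have h3 : orderOf g ∣ 1 := by
    have := Nat.dvd_gcd h2 h1
    rwa [Nat.Coprime.gcd_eq_one hQ] at this
  exact orderOf_eq_one_iff.1 (Nat.dvd_one.1 h3)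

theorem qpq_elt (p : ℕ) [Fact p.Prime] [CharP K p] (hp2 : p ≠ 2)
    (ι : Γ →* Matrix.SpecialLinearGroup (Fin 2) K) (hι : Function.Injective ι)
    (x : Γ) (hxp : x ^ p = 1) (hx1 : x ≠ 1) (Q : Subgroup Γ) [Finite Q]
    (hQ : (Nat.card Q).Coprime p)
    (hxQ : ∀ q ∈ Q, x * q * x⁻¹ ∈ Q) (u : Γ) (hu : u ∈ Q)
    (hcomm : (x * u * x⁻¹) * u = u * (x * u * x⁻¹)) :
    x * u = u * x ∧ (ι u = 1 ∨ ι u = -1) := by
  have hp : p.Prime := Fact.out
  have h2 : (2:K) ≠ 0 := qp_two_ne_zero p hp2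
  have hu' : x * u * x⁻¹ ∈ Q := hxQ u hu
  have htr : sl2tr (ι u) = sl2tr (ι (x * u * x⁻¹)) := by
    rw [map_mul, map_mul, map_inv, sl2tr_conj]
  have hc2 : ι u * ι (x * u * x⁻¹) = ι (x * u * x⁻¹) * ι u := by
    rw [← map_mul, ← map_mul, hcomm]
  have hcases : x * u * x⁻¹ = u ∨ x * u * x⁻¹ = u⁻¹ := by
    rcases sl2_comm_tr (ι u) (ι (x * u * x⁻¹)) hc2 htr with h | h
    · left
      have h3 := sl2_unip_pow p _ h
      rw [← map_inv, ← map_mul, ← map_pow] at h3
      have h4 : (u⁻¹ * (x * u * x⁻¹)) ^ p = 1 := hι (by rw [h3, map_one])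
      have h5 := eq_one_of_pow_of_coprime Q hQ _ (Q.mul_mem (Q.inv_mem hu) hu') h4
      exact (inv_mul_eq_one.1 h5).symm
    · right
      have h3 := sl2_unip_pow p _ h
      rw [← map_mul, ← map_pow] at h3
      have h4 : (u * (x * u * x⁻¹)) ^ p = 1 := hι (by rw [h3, map_one])
      have h5 := eq_one_of_pow_of_coprime Q hQ _ (Q.mul_mem hu hu') h4
      exact (eq_inv_of_mul_eq_one_right h5)
  have hsq : (x * x) * u = u * (x * x) := by
    rcases hcases with h | h
    · have h1 : x * u = u * x := by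
        calc x * u = (x * u * x⁻¹) * x := by group
          _ = u * x := by rw [h]
      calc x * x * u = x * (x * u) := by group
        _ = x * (u * x) := by rw [h1]
        _ = (x * u) * x := by group
        _ = u * x * x := by rw [h1]
        _ = u * (x * x) := by group
    · have h1 : x * u = u⁻¹ * x := by
        calc x * u = (x * u * x⁻¹) * x := by group
          _ = u⁻¹ * x := by rw [h]
      have h2 : x * u⁻¹ = u * x := by
        have : x * u⁻¹ * x⁻¹ = u := by
          have h3 : (x * u * x⁻¹)⁻¹ = u := by rw [h, inv_inv]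
          calc x * u⁻¹ * x⁻¹ = (x * u * x⁻¹)⁻¹ := by group
            _ = u := h3
        calc x * u⁻¹ = (x * u⁻¹ * x⁻¹) * x := by group
          _ = u * x := by rw [this]
      calc x * x * u = x * (x * u) := by group
        _ = x * (u⁻¹ * x) := by rw [h1]
        _ = (x * u⁻¹) * x := by group
        _ = u * x * x := by rw [h2]
        _ = u * (x * x) := by group
  have hodd : Odd p := hp.odd_of_ne_two hp2
  obtain ⟨k, hk⟩ := hodd
  have hxk : x = (x * x) ^ (k + 1) := by
    have : (x * x) ^ (k + 1) = x ^ p * x := by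
      rw [← pow_two, ← pow_mul]
      have h2k : 2 * (k + 1) = p + 1 := by omega
      rw [h2k, pow_succ]
    rw [this, hxp, one_mul]
  have hcx : x * u = u * x := by
    have h1 : Commute (x * x) u := hsq
    have h2 : Commute ((x * x) ^ (k + 1)) u := h1.pow_left _
    rw [← hxk] at h2
    exact h2
  refine ⟨hcx, ?_⟩
  have hx2 : sl2tr (ι x) = 2 := sl2_tr_of_pow p _ (by rw [← map_pow, hxp, map_one])
  have hx3 : ι x ≠ 1 := by
    intro h
    exact hx1 (hι (by rw [h, map_one]))
  have hcop : (orderOf (ι u)).Coprime p := by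
    rw [orderOf_injective ι hι]
    have h2 : orderOf u ∣ Nat.card Q := by
      have := orderOf_dvd_natCard (⟨u, hu⟩ : Q)
      rwa [Subgroup.orderOf_mk] at this
    exact Nat.Coprime.coprime_dvd_left h2 hQ
  exact sl2_central_elt p h2 (ι x) (ι u) hx2 hx3 (by rw [← map_mul, ← map_mul, hcx]) hcop

end SL2b

end Cfsg.Agent.Lib.Helper4
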