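import Cfsg.Agent.Lib.Helper4.QuadSL2b

/-! A subgroup of order prime to `p` of `SL2` in characteristic `p` normalized but not centralized by
a unipotent element is a 2-group. -/

namespace Cfsg.Agent.Lib.Helper4

section SL2c

variable {K : Type*} [Field K] {Γ : Type*} [Group Γ]

/-- conjugation automorphism of a normalized subgroup -/
def qpAut (Q : Subgroup Γ) (x : Γ) (hx : ∀ q, q ∈ Q ↔ x * q * x⁻¹ ∈ Q) : MulAut ↥Q where
  toFun q := ⟨x * q * x⁻¹, (hx q).1 q.2⟩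
  invFun q := ⟨x⁻¹ * q * x, (hx _).2 (by
    have : x * (x⁻¹ * q * x) * x⁻¹ = q := by group
    rw [this]; exact q.2)⟩
  left_inv q := Subtype.ext (by show x⁻¹ * (x * q * x⁻¹) * x = q; group)
  right_inv q := Subtype.ext (by show x * (x⁻¹ * q * x) * x⁻¹ = q; group)
  map_mul' a b := Subtype.ext (by
    show x * (a * b) * x⁻¹ = (x * a * x⁻¹) * (x * b * x⁻¹); group)

theorem qpAut_apply (Q : Subgroup Γ) (x : Γ) (hx : ∀ q, q ∈ Q ↔ x * q * x⁻¹ ∈ Q) (q : Q) :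
    ((qpAut Q x hx q : Q) : Γ) = x * q * x⁻¹ := rfl

theorem qpAut_pow (Q : Subgroup Γ) (x : Γ) (hx : ∀ q, q ∈ Q ↔ x * q * x⁻¹ ∈ Q) (n : ℕ) (q : Q) :
    ((((qpAut Q x hx)^n) q : Q) : Γ) = x^n * q * (x^n)⁻¹ := by
  induction n with
  | zero => simp
  | succ n ih =>
    rw [pow_succ', MulAut.mul_apply, qpAut_apply, ih, pow_succ', mul_inv_rev]
    group

theorem qpAut_pow_eq_one (Q : Subgroup Γ) (x : Γ) (hx : ∀ q, q ∈ Q ↔ x * q * x⁻¹ ∈ Q) (n : ℕ)
    (hxn : x ^ n = 1) : (qpAut Q x hx)^n = 1 := by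
  ext q
  rw [qpAut_pow, hxn]
  simp

theorem qpAut_zpowers_isPGroup (p : ℕ) (Q : Subgroup Γ) (x : Γ)
    (hx : ∀ q, q ∈ Q ↔ x * q * x⁻¹ ∈ Q) (hxp : x ^ p = 1) :
    IsPGroup p (Subgroup.zpowers (qpAut Q x hx)) := by
  rintro ⟨g, hg⟩
  obtain ⟨k, rfl⟩ := Subgroup.mem_zpowers_iff.1 hg
  refine ⟨1, ?_⟩
  apply Subtype.ext
  show ((qpAut Q x hx) ^ k) ^ (p ^ 1) = 1
  rw [pow_one, ← zpow_natCast, ← zpow_mul, mul_comm, zpow_mul, zpow_natCast,
    qpAut_pow_eq_one Q x hx p hxp, one_zpow]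

theorem qpq_two_group (p : ℕ) [Fact p.Prime] [CharP K p] (hp2 : p ≠ 2)
    (ι : Γ →* Matrix.SpecialLinearGroup (Fin 2) K) (hι : Function.Injective ι)
    (x : Γ) (hxp : x ^ p = 1) (hx1 : x ≠ 1) (Q : Subgroup Γ) [Finite Q]
    (hQ : (Nat.card Q).Coprime p)
    (hxN : ∀ q, q ∈ Q ↔ x * q * x⁻¹ ∈ Q) : IsPGroup 2 Q := by
  classical
  have hp : p.Prime := Fact.out
  have hxQ : ∀ q ∈ Q, x * q * x⁻¹ ∈ Q := fun q hq => (hxN q).1 hq
  have key : ∀ r : ℕ, r.Prime → r ∣ Nat.card Q → r = 2 := by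
    intro r hr hdvd
    by_contra hr2
    haveI : Fact r.Prime := ⟨hr⟩
    obtain ⟨θ, hθ⟩ : ∃ θ : MulAut ↥Q, θ = qpAut Q x hxN := ⟨_, rfl⟩
    have hP₀ : IsPGroup p (Subgroup.zpowers θ) := by
      rw [hθ]; exact qpAut_zpowers_isPGroup p Q x hxN hxp
    have hmod := hP₀.card_modEq_card_fixedPoints (Sylow r ↥Q)
    have hnd : ¬ p ∣ Nat.card (Sylow r ↥Q) := by
      intro h
      obtain ⟨R0⟩ : Nonempty (Sylow r ↥Q) := inferInstance
      have h1 : Nat.card (Sylow r ↥Q) ∣ Nat.card Q :=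
        (Sylow.card_dvd_index R0).trans (Subgroup.index_dvd_card _)
      have h2 : p ∣ Nat.card Q := h.trans h1
      have h3 : p ∣ 1 := by
        have := Nat.dvd_gcd h2 (dvd_refl p)
        rwa [Nat.Coprime.gcd_eq_one hQ] at this
      exact hp.one_lt.ne' (Nat.dvd_one.1 h3)
    have hne : Nonempty (MulAction.fixedPoints (Subgroup.zpowers θ) (Sylow r ↥Q)) := by
      by_contra hemp
      rw [not_nonempty_iff] at hemp
      have h0 : Nat.card (MulAction.fixedPoints (Subgroup.zpowers θ) (Sylow r ↥Q)) = 0 :=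
        Nat.card_of_isEmpty
      rw [h0] at hmod
      exact hnd ((Nat.modEq_zero_iff_dvd).1 hmod)
    obtain ⟨⟨R, hR⟩⟩ := hne
    have hθR : θ • R = R := hR ⟨θ, Subgroup.mem_zpowers θ⟩
    have hinv : ∀ u : ↥Q, u ∈ R → θ u ∈ R := by
      intro u hu
      have h1 := Subgroup.smul_mem_pointwise_smul u θ (R : Subgroup ↥Q) hu
      rw [← Sylow.pointwise_smul_def, hθR] at h1
      exact h1
    have hRcard : r ∣ Nat.card R := R.dvd_card_of_dvd_card hdvd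
    haveI : Nontrivial ↥(R : Subgroup ↥Q) := by
      rw [← Finite.one_lt_card_iff_nontrivial]
      exact lt_of_lt_of_le hr.one_lt (Nat.le_of_dvd Nat.card_pos hRcard)
    haveI : Nontrivial (Subgroup.center ↥(R : Subgroup ↥Q)) := IsPGroup.center_nontrivial R.2
    obtain ⟨c, hc⟩ := exists_ne (1 : Subgroup.center ↥(R : Subgroup ↥Q))
    obtain ⟨uQ, huQ⟩ : ∃ uQ : ↥Q, uQ = ((c : ↥(R : Subgroup ↥Q)) : ↥Q) := ⟨_, rfl⟩
    have huR : uQ ∈ R := by rw [huQ]; exact (c : ↥(R : Subgroup ↥Q)).2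
    have hθu : θ uQ ∈ R := hinv uQ huR
    have hcomm0 : (⟨θ uQ, hθu⟩ : ↥(R : Subgroup ↥Q)) * (c : ↥(R : Subgroup ↥Q))
        = (c : ↥(R : Subgroup ↥Q)) * ⟨θ uQ, hθu⟩ :=
      (Subgroup.mem_center_iff.1 c.2 ⟨θ uQ, hθu⟩)
    have hcomm1 : θ uQ * uQ = uQ * θ uQ := by
      have := congrArg (Subtype.val) hcomm0
      simp only [Subgroup.coe_mul] at this
      rw [← huQ] at this
      exact this
    have hcomm : (x * (uQ : Γ) * x⁻¹) * (uQ : Γ) = (uQ : Γ) * (x * (uQ : Γ) * x⁻¹) := by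
      have := congrArg (Subtype.val) hcomm1
      rw [hθ] at this
      exact this
    obtain ⟨-, hu2⟩ := qpq_elt p hp2 ι hι x hxp hx1 Q hQ hxQ (uQ : Γ) uQ.2 hcomm
    have husq : (uQ : Γ) * (uQ : Γ) = 1 := by
      apply hι
      rw [map_mul, map_one]
      rcases hu2 with h | h
      · rw [h, one_mul]
      · rw [h, neg_mul_neg, one_mul]
    have huord : orderOf uQ ∣ 2 := by
      apply orderOf_dvd_of_pow_eq_one
      apply Subtype.ext
      rw [pow_two]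
      exact husq
    obtain ⟨k, hk⟩ := (IsPGroup.iff_orderOf.1 R.2) ⟨uQ, huR⟩
    rw [Subgroup.orderOf_mk] at hk
    rw [hk] at huord
    have hk0 : k = 0 := by
      by_contra hk0
      have h1 : r ∣ 2 := (dvd_pow_self r hk0).trans huord
      exact hr2 ((Nat.prime_dvd_prime_iff_eq hr Nat.prime_two).1 h1)
    rw [hk0, pow_zero] at hk
    have hu1 : uQ = 1 := orderOf_eq_one_iff.1 hk
    apply hc
    apply Subtype.ext
    apply Subtype.ext
    rw [← huQ, hu1]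
    rfl
  have hcard : Nat.card Q = 2 ^ (Nat.card Q).primeFactorsList.length :=
    Nat.eq_prime_pow_of_unique_prime_dvd Nat.card_pos.ne' (fun {d} hd hdvd => key d hd hdvd)
  haveI : Fact (Nat.Prime 2) := ⟨Nat.prime_two⟩
  exact IsPGroup.of_card hcard

end SL2c

end Cfsg.Agent.Lib.Helper4
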