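import Cfsg.Agent.Lib.Helper4.QuadSL2d

open Subgroup

/-! A unipotent element acting nontrivially on a subgroup of order prime to `p` of `SL2`:
the structure (`p = 3`, the subgroup is quaternion of order 8), and the recognition of `SL(2,3)`. -/

namespace Cfsg.Agent.Lib.Helper4

section SL2g

variable {K : Type*} [Field K] {Γ : Type*} [Group Γ]

theorem qpq_struct [Finite Γ] (p : ℕ) [Fact p.Prime] [CharP K p] (hp2 : p ≠ 2)
    (ι : Γ →* Matrix.SpecialLinearGroup (Fin 2) K) (hι : Function.Injective ι)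
    (x : Γ) (hxp : x ^ p = 1) (Q : Subgroup Γ) (hQ : (Nat.card Q).Coprime p)
    (hxN : ∀ q, q ∈ Q ↔ x * q * x⁻¹ ∈ Q) (hnc : ∃ q ∈ Q, x * q ≠ q * x) :
    p = 3 ∧ Nat.card Q = 8 ∧ ∃ c ∈ Q, orderOf c = 4 ∧ (x * c * x⁻¹) ^ 2 = c ^ 2 ∧
      (x * c * x⁻¹) * c * (x * c * x⁻¹)⁻¹ = c⁻¹ := by
  classical
  have hp : p.Prime := Fact.out
  haveI : Fact (Nat.Prime 2) := ⟨Nat.prime_two⟩
  have h2K : (2:K) ≠ 0 := qp_two_ne_zero p hp2
  have hx1 : x ≠ 1 := by
    rintro rfl
    obtain ⟨q, _, hq⟩ := hnc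
    exact hq (by rw [one_mul, mul_one])
  have hxQ : ∀ q ∈ Q, x * q * x⁻¹ ∈ Q := fun q hq => (hxN q).1 hq
  have hQ2 : IsPGroup 2 Q := qpq_two_group p hp2 ι hι x hxp hx1 Q hQ hxN
  obtain ⟨θ, hθ⟩ : ∃ θ : MulAut ↥Q, θ = qpAut Q x hxN := ⟨_, rfl⟩
  have hθapp : ∀ u : ↥Q, ((θ u : ↥Q) : Γ) = x * u * x⁻¹ := fun u => by rw [hθ]; rfl
  have hstep : ∀ u : ↥Q, θ u * u = u * θ u →
      x * (u : Γ) = (u : Γ) * x ∧ (ι (u : Γ) = 1 ∨ ι (u : Γ) = -1) := by
    intro u hu
    have hcomm : (x * (u : Γ) * x⁻¹) * (u : Γ) = (u : Γ) * (x * (u : Γ) * x⁻¹) := by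
      have := congrArg (Subtype.val) hu
      simp only [Subgroup.coe_mul, hθapp] at this
      exact this
    exact qpq_elt p hp2 ι hι x hxp hx1 Q hQ hxQ (u : Γ) u.2 hcomm
  -- the involution
  obtain ⟨q0, hq0Q, hq0⟩ := hnc
  have hQnt : 1 < Nat.card Q := by
    rw [Finite.one_lt_card_iff_nontrivial]
    refine ⟨⟨⟨q0, hq0Q⟩, 1, ?_⟩⟩
    intro h
    have : q0 = 1 := congrArg Subtype.val h
    exact hq0 (by rw [this, one_mul, mul_one])
  have h2dvd : 2 ∣ Nat.card Q := by
    obtain ⟨k, hk⟩ := (IsPGroup.iff_card).1 hQ2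
    rw [hk] at hQnt ⊢
    have hk0 : k ≠ 0 := by
      rintro rfl
      simp at hQnt
    exact dvd_pow_self 2 hk0
  obtain ⟨z₀, hz₀⟩ := exists_prime_orderOf_dvd_card' (G := ↥Q) 2 h2dvd
  have hz₀1 : z₀ ≠ 1 := by
    rintro rfl
    rw [orderOf_one] at hz₀
    omega
  have hιz₀ : ι (z₀ : Γ) = -1 := by
    have h1 : ι (z₀ : Γ) * ι (z₀ : Γ) = 1 := by
      rw [← map_mul]
      have : z₀ ^ 2 = 1 := by rw [← hz₀]; exact pow_orderOf_eq_one z₀
      have h3 : (z₀ : Γ) * (z₀ : Γ) = 1 := by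
        have := congrArg Subtype.val this
        simpa [pow_two] using this
      rw [h3, map_one]
    rcases sl2_sq_one h2K _ h1 with h | h
    · exfalso
      apply hz₀1
      apply Subtype.ext
      exact hι (by rw [h, Subgroup.coe_one, map_one])
    · exact h
  have hinv : ∀ t : ↥Q, t ^ 2 = 1 → t = 1 ∨ t = z₀ := by
    intro t ht
    have h3 : (t : Γ) * (t : Γ) = 1 := by
      have := congrArg Subtype.val ht
      simpa [pow_two] using this
    have h1 : ι (t : Γ) * ι (t : Γ) = 1 := by rw [← map_mul, h3, map_one]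
    rcases sl2_sq_one h2K _ h1 with h | h
    · left
      apply Subtype.ext
      exact hι (by rw [h, Subgroup.coe_one, map_one])
    · right
      apply Subtype.ext
      exact hι (by rw [h, hιz₀])
  have hncyc : ¬ IsCyclic ↥Q := by
    intro hcyc
    have hcomm : ∀ u v : ↥Q, u * v = v * u := fun u v => by
      letI := hcyc.commGroup
      exact mul_comm u v
    have := (hstep ⟨q0, hq0Q⟩ (hcomm _ _)).1
    exact hq0 this
  obtain ⟨n, hn3, hcard, a, b, ha, hb, hb2, hbab⟩ :=
    Cfsg.Agent.Lib.Helper6.unique_involution_structure hQ2 z₀ hinv hncyc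
  have hθa : θ a ∉ Subgroup.zpowers a := by
    intro hmem
    obtain ⟨k, hk⟩ := Subgroup.mem_zpowers_iff.1 hmem
    have hc : θ a * a = a * θ a := by
      rw [← hk]
      exact ((Commute.refl a).zpow_left k).eq
    obtain ⟨-, h1⟩ := hstep a hc
    have h2 : (a : Γ) * (a : Γ) = 1 := by
      apply hι
      rw [map_mul, map_one]
      rcases h1 with h | h
      · rw [h, one_mul]
      · rw [h, neg_mul_neg, one_mul]
    have h3 : orderOf a ∣ 2 := by
      apply orderOf_dvd_of_pow_eq_one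
      apply Subtype.ext
      rw [pow_two]
      exact h2
    rw [ha] at h3
    have h4 : n - 1 ≤ 1 := by
      have : (2:ℕ)^(n-1) ∣ 2^1 := by simpa using h3
      exact (Nat.pow_dvd_pow_iff_le_right (by norm_num)).1 this
    omega
  have hb2mem : b^2 ∈ Subgroup.zpowers a := by
    rw [hb2]; exact Subgroup.npow_mem_zpowers a _
  obtain ⟨hy2, hyconj⟩ := dic_outside n (by omega) hcard a b ha hb hb2mem hbab (θ a) hθa
  have hn : n = 3 := by
    by_contra hne
    have hord : orderOf (θ a) = 2^(n-1) := by rw [MulEquiv.orderOf_eq θ a, ha]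
    have h4 : (θ a)^4 = 1 := by
      have : (θ a)^4 = ((θ a)^2)^2 := by rw [← pow_mul]
      rw [this, hy2, hb2, ← pow_mul]
      have h5 : 2^(n-2) * 2 = 2^(n-1) := by
        rw [← pow_succ]; congr 1; omega
      rw [h5, ← ha]
      exact pow_orderOf_eq_one a
    have h6 : orderOf (θ a) ∣ 4 := orderOf_dvd_of_pow_eq_one h4
    rw [hord] at h6
    have h7 : n - 1 ≤ 2 := by
      have : (2:ℕ)^(n-1) ∣ 2^2 := by simpa using h6
      exact (Nat.pow_dvd_pow_iff_le_right (by norm_num)).1 this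
    omega
  subst hn
  have hcard8 : Nat.card Q = 8 := by rw [hcard]; norm_num
  have ha4 : orderOf a = 4 := by rw [ha]; norm_num
  have hb2' : b^2 = a^2 := by rw [hb2]; norm_num
  refine ⟨?_, hcard8, (a : Γ), a.2, ?_, ?_, ?_⟩
  · -- p = 3 by counting fixed points
    have hP₀ : IsPGroup p (Subgroup.zpowers θ) := by
      rw [hθ]; exact qpAut_zpowers_isPGroup p Q x hxN hxp
    have hmod := hP₀.card_modEq_card_fixedPoints ↥Q
    have hF : MulAction.fixedPoints (Subgroup.zpowers θ) ↥Q = {1, z₀} := by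
      ext u
      constructor
      · intro hu
        have h1 : θ u = u := hu ⟨θ, Subgroup.mem_zpowers θ⟩
        have h2 := (hstep u (by rw [h1])).2
        rcases h2 with h | h
        · left
          apply Subtype.ext
          exact hι (by rw [h, Subgroup.coe_one, map_one])
        · right
          rw [Set.mem_singleton_iff]
          apply Subtype.ext
          exact hι (by rw [h, hιz₀])
      · intro hu
        rcases hu with rfl | hu
        · intro g
          show (g : MulAut ↥Q) (1 : ↥Q) = 1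
          exact map_one _
        · rw [Set.mem_singleton_iff] at hu
          subst hu
          intro g
          show (g : MulAut ↥Q) u = u
          have h1 : ((g : MulAut ↥Q) u)^2 = 1 := by
            rw [← map_pow]
            have : u ^ 2 = 1 := by rw [← hz₀]; exact pow_orderOf_eq_one u
            rw [this, map_one]
          rcases hinv _ h1 with h | h
          · exfalso
            apply hz₀1
            have := (g : MulAut ↥Q).injective (h.trans (map_one (g : MulAut ↥Q)).symm)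
            exact this
          · exact h
    have hFcard : Nat.card (MulAction.fixedPoints (Subgroup.zpowers θ) ↥Q) = 2 := by
      rw [Nat.card_coe_set_eq, hF]
      exact Set.ncard_pair (Ne.symm hz₀1)
    rw [hFcard, hcard8] at hmod
    have h6 : p ∣ 6 := by
      have := (Nat.modEq_iff_dvd' (by norm_num : 2 ≤ 8)).1 hmod.symm
      simpa using this
    have h7 : p ∣ 2 * 3 := by simpa using h6
    rcases (Nat.Prime.dvd_mul hp).1 h7 with h | h
    · exact absurd ((Nat.prime_dvd_prime_iff_eq hp Nat.prime_two).1 h) hp2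
    · exact (Nat.prime_dvd_prime_iff_eq hp Nat.prime_three).1 h
  · rw [Subgroup.orderOf_coe, ha4]
  · have h1 := congrArg Subtype.val (hy2.trans hb2')
    simp only [Subgroup.coe_pow, hθapp] at h1
    exact h1
  · have h1 := congrArg Subtype.val hyconj
    simp only [Subgroup.coe_mul, Subgroup.coe_inv, hθapp] at h1
    exact h1


theorem sl2_tr_of_ppow (p : ℕ) [Fact p.Prime] [CharP K p]
    (g : Matrix.SpecialLinearGroup (Fin 2) K) (k : ℕ) (hg : g ^ (p ^ k) = 1) : sl2tr g = 2 := by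
  have hp : p.Prime := Fact.out
  obtain ⟨N, hNdef⟩ : ∃ N : Matrix (Fin 2) (Fin 2) K, N = (g : Matrix (Fin 2) (Fin 2) K) - 1 :=
    ⟨_, rfl⟩
  have hpk0 : p ^ k ≠ 0 := pow_ne_zero _ hp.ne_zero
  have hNp : N ^ (p ^ k) = 0 := by
    rw [hNdef, sub_pow_char_pow_of_commute p k (Commute.one_right _), one_pow,
      ← Matrix.SpecialLinearGroup.coe_pow, hg, Matrix.SpecialLinearGroup.coe_one, sub_self]
  have hdet : N 0 0 * N 1 1 - N 0 1 * N 1 0 = 0 := by
    have h1 : Matrix.det (N ^ (p ^ k)) = 0 := by rw [hNp]; simp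
    rw [Matrix.det_pow] at h1
    have h2 := pow_eq_zero_iff hpk0 |>.1 h1
    rw [Matrix.det_fin_two] at h2
    exact h2
  have hsq : N * N = (N 0 0 + N 1 1) • N := by
    rw [mat2_ch N, hdet, zero_smul, sub_zero]
  have hpow : ∀ m : ℕ, N ^ (m+1) = (N 0 0 + N 1 1)^m • N := by
    intro m
    induction m with
    | zero => simp
    | succ m ih =>
      rw [pow_succ, ih, Matrix.smul_mul, hsq, smul_smul, pow_succ]
  have ht : N 0 0 + N 1 1 = 0 := by
    by_contra hne
    have h1 : N ^ (p ^ k - 1 + 1) = 0 := by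
      rw [Nat.sub_add_cancel (Nat.one_le_iff_ne_zero.2 hpk0)]; exact hNp
    rw [hpow] at h1
    have h2 : N = 0 := by
      rcases smul_eq_zero.1 h1 with h | h
      · exact absurd h (pow_ne_zero _ hne)
      · exact h
    apply hne
    rw [h2]; simp
  rw [hNdef] at ht
  simp only [Matrix.sub_apply, Matrix.one_apply_eq] at ht
  rw [sl2tr]
  linear_combination ht

open Cfsg.Agent.S2427 in
/-- recognition of `SL(2,3)`: a normal quaternion subgroup of order 8 and an element of order 3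
moving one of its cyclic subgroups of order 4, generating the group -/
theorem sl23_iso_main {G : Type*} [Group G] [Finite G] (Q : Subgroup G) [hQn : Q.Normal] (g c : G)
    (hcard : Nat.card Q = 8) (hc : c ∈ Q) (hc4 : orderOf c = 4) (hg3o : orderOf g = 3)
    (hj2 : (g * c * g⁻¹) ^ 2 = c ^ 2) (hconj : (g * c * g⁻¹) * c * (g * c * g⁻¹)⁻¹ = c⁻¹)
    (hsup : Q ⊔ Subgroup.zpowers g = ⊤) : Nonempty (G ≃* G23) := by
  have hodd : Odd (orderOf g) := by rw [hg3o]; decide
  classical
  have hc2 : c ^ 2 ≠ 1 := by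
    intro h
    have := orderOf_dvd_of_pow_eq_one h
    rw [hc4] at this
    omega
  have hnorm : ∀ x ∈ Q, g * x * g⁻¹ ∈ Q := fun x hx => hQn.conj_mem x hx g
  obtain ⟨j, hjdef⟩ : ∃ j : G, j = g * c * g⁻¹ := ⟨_, rfl⟩
  have hj2' : j ^ 2 = c ^ 2 := by rw [hjdef]; exact hj2
  have hconj' : j * c * j⁻¹ = c⁻¹ := by rw [hjdef]; exact hconj
  have hjQ : j ∈ Q := by rw [hjdef]; exact hnorm c hc
  obtain ⟨k, hkdef⟩ : ∃ k : G, k = g * j * g⁻¹ := ⟨_, rfl⟩
  have hkQ : k ∈ Q := by rw [hkdef]; exact hnorm j hjQ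
  have hkj : k * j * k⁻¹ = j⁻¹ := by
    calc k * j * k⁻¹ = (g * j * g⁻¹) * (g * c * g⁻¹) * (g * j * g⁻¹)⁻¹ := by
          rw [← hjdef, ← hkdef]
      _ = g * (j * c * j⁻¹) * g⁻¹ := by group
      _ = g * c⁻¹ * g⁻¹ := by rw [hconj']
      _ = (g * c * g⁻¹)⁻¹ := by group
      _ = j⁻¹ := by rw [hjdef]
  -- g does not commute with c
  have hgc : ¬ Commute g c := by
    intro h
    apply hc2
    have h3 : j = c := by rw [hjdef, h.eq, mul_inv_cancel_right]
    rw [h3] at hconj'
    calc c ^ 2 = c * c := pow_two c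
      _ = (c * c * c⁻¹) * c := by group
      _ = c⁻¹ * c := by rw [hconj']
      _ = 1 := inv_mul_cancel c
  obtain ⟨e, heI, heJ⟩ : ∃ e : QuaternionGroup 2 ≃* Q,
      e (QuaternionGroup.a 1) = ⟨c, hc⟩ ∧ e (QuaternionGroup.xa 0) = ⟨j, hjQ⟩ := by
    apply quat_iso_control 2
    · rw [Subgroup.orderOf_mk, hc4]
    · apply Subtype.ext
      exact hj2'
    · apply Subtype.ext
      exact hconj'
    · apply not_mem_zpowers_of_inverts
      · apply Subtype.ext
        exact hconj'
      · intro h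
        apply hc2
        exact congrArg Subtype.val h
    · rw [hcard]
  have hu : e.symm ⟨k, hkQ⟩ * QuaternionGroup.xa 0 * (e.symm ⟨k, hkQ⟩)⁻¹
      = (QuaternionGroup.xa 0)⁻¹ := by
    apply e.injective
    rw [map_mul, map_mul, map_inv, map_inv, MulEquiv.apply_symm_apply, heJ]
    apply Subtype.ext
    exact hkj
  have hke : (⟨k, hkQ⟩ : Q) = e (e.symm ⟨k, hkQ⟩) := (MulEquiv.apply_symm_apply e _).symm
  -- the main case
  have main : (k = c * j ∨ k = c⁻¹ * j) → Nonempty (G ≃* G23) := by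
    intro hk
    rcases hk with hk | hk
    · -- use c⁻¹
      have hjinv : g * c⁻¹ * g⁻¹ = j⁻¹ := by rw [hjdef]; group
      apply sl23_iso_aux Q g c⁻¹ hcard (Q.inv_mem hc) (by rw [orderOf_inv, hc4]) hg3o
      · rw [hjinv, inv_pow, inv_pow, hj2']
      · rw [hjinv, inv_inv, inv_inv]
        calc j⁻¹ * c⁻¹ * j = j⁻¹ * (j * c * j⁻¹) * j := by rw [hconj']
          _ = c := by group
      · rw [hjinv, inv_inv]
        calc g * j⁻¹ * g⁻¹ = (g * j * g⁻¹)⁻¹ := by group
          _ = (c * j)⁻¹ := by rw [← hkdef, hk]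
          _ = j⁻¹ * c⁻¹ := by group
          _ = j⁻¹ * (j * c * j⁻¹) := by rw [hconj']
          _ = c * j⁻¹ := by group
      · exact hsup
    · apply sl23_iso_aux Q g c hcard hc hc4 hg3o hj2 hconj
      · rw [← hjdef, ← hkdef, hk]
      · exact hsup
  have hcop2 : Nat.Coprime (orderOf g) 2 := (Nat.coprime_two_right).2 hodd
  rcases quat_inverts_xa _ hu with h | h | h | h
  · apply main
    left
    rw [h, map_mul, heI, heJ] at hke
    exact congrArg Subtype.val hke
  · apply main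
    right
    rw [h, map_mul, map_inv, heI, heJ] at hke
    exact congrArg Subtype.val hke
  · exfalso
    rw [h, heI] at hke
    have hkc : k = c := congrArg Subtype.val hke
    apply hgc
    apply commute_of_pow_commute 2 hcop2
    show g ^ 2 * c = c * g ^ 2
    rw [pow_two]
    calc g * g * c = (g * (g * c * g⁻¹) * g⁻¹) * (g * g) := by group
      _ = (g * j * g⁻¹) * (g * g) := by rw [← hjdef]
      _ = c * (g * g) := by rw [← hkdef, hkc]
  · exfalso
    rw [h, map_inv, heI] at hke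
    have hkc : k = c⁻¹ := congrArg Subtype.val hke
    apply hgc
    apply commute_of_pow_commute 4 (Nat.Coprime.pow_right 2 hcop2 : Nat.Coprime (orderOf g) (2 ^ 2))
    show g ^ 2 ^ 2 * c = c * g ^ 2 ^ 2
    obtain ⟨a, ha⟩ : ∃ a : G, a = g * g := ⟨_, rfl⟩
    have h4 : g ^ 2 ^ 2 = a * a := by
      rw [ha]
      norm_num
      rw [pow_succ, pow_succ, pow_two]
      group
    have h2 : a * c * a⁻¹ = c⁻¹ := by
      rw [ha]
      calc g * g * c * (g * g)⁻¹ = g * (g * c * g⁻¹) * g⁻¹ := by group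
        _ = g * j * g⁻¹ := by rw [← hjdef]
        _ = c⁻¹ := by rw [← hkdef, hkc]
    rw [h4]
    calc a * a * c = (a * (a * c * a⁻¹) * a⁻¹) * (a * a) := by group
      _ = (a * c⁻¹ * a⁻¹) * (a * a) := by rw [h2]
      _ = (a * c * a⁻¹)⁻¹ * (a * a) := by group
      _ = c * (a * a) := by rw [h2, inv_inv]


end SL2g

end Cfsg.Agent.Lib.Helper4
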