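import Mathlib
import Cfsg.Prelude.Def_Solvable
import Cfsg.Agent.Lib.Helper4.QuadSL2a
import Cfsg.Agent.S0035

/-!
# Odd-order subgroups of `SL(2,K)` generated by unipotent elements consist of unipotent elements
-/

namespace Cfsg.Agent.Lib.Helper4

section SL2Odd

variable {K : Type*} [Field K]

theorem mat2_comm_entries (g Y : Matrix (Fin 2) (Fin 2) K) (hc : Y * g = g * Y) :
    ∀ i j, Y i 0 * g 0 j + Y i 1 * g 1 j = g i 0 * Y 0 j + g i 1 * Y 1 j := by
  intro i j
  have := congrFun (congrFun hc i) j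
  simpa [Matrix.mul_apply, Fin.sum_univ_two] using this

theorem mat2_eq_of_entries (A B : Matrix (Fin 2) (Fin 2) K) (h00 : A 0 0 = B 0 0)
    (h01 : A 0 1 = B 0 1) (h10 : A 1 0 = B 1 0) (h11 : A 1 1 = B 1 1) : A = B := by
  ext i j
  fin_cases i <;> fin_cases j
  · exact h00
  · exact h01
  · exact h10
  · exact h11

theorem mat2_span_entries (α β : K) (g : Matrix (Fin 2) (Fin 2) K) :
    (α • (1 : Matrix (Fin 2) (Fin 2) K) + β • g) 0 0 = α + β * g 0 0 ∧
    (α • (1 : Matrix (Fin 2) (Fin 2) K) + β • g) 0 1 = β * g 0 1 ∧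
    (α • (1 : Matrix (Fin 2) (Fin 2) K) + β • g) 1 0 = β * g 1 0 ∧
    (α • (1 : Matrix (Fin 2) (Fin 2) K) + β • g) 1 1 = α + β * g 1 1 := by
  refine ⟨?_, ?_, ?_, ?_⟩ <;> simp [Matrix.add_apply, Matrix.smul_apply]

/-- the centraliser of a non-scalar `2 × 2` matrix is spanned by `1` and the matrix -/
theorem mat2_comm_span (g Y : Matrix (Fin 2) (Fin 2) K)
    (hns : g 0 1 ≠ 0 ∨ g 1 0 ≠ 0 ∨ g 0 0 ≠ g 1 1) (hc : Y * g = g * Y) :
    ∃ α β : K, Y = α • (1 : Matrix (Fin 2) (Fin 2) K) + β • g := by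
  have e := mat2_comm_entries g Y hc
  have e00 := e 0 0
  have e01 := e 0 1
  have e10 := e 1 0
  by_cases hb : g 0 1 = 0
  swap
  · obtain ⟨β, hβ⟩ : ∃ β : K, β * g 0 1 = Y 0 1 := ⟨Y 0 1 / g 0 1, div_mul_cancel₀ _ hb⟩
    refine ⟨Y 0 0 - β * g 0 0, β, ?_⟩
    obtain ⟨s00, s01, s10, s11⟩ := mat2_span_entries (Y 0 0 - β * g 0 0) β g
    apply mat2_eq_of_entries
    · rw [s00]; ring
    · rw [s01, hβ]
    · rw [s10]
      apply mul_left_cancel₀ hb
      linear_combination (-1 : K) * e00 - g 1 0 * hβ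
    · rw [s11]
      apply mul_left_cancel₀ hb
      linear_combination (-1 : K) * e01 + (g 0 0 - g 1 1) * hβ
  by_cases hc' : g 1 0 = 0
  swap
  · obtain ⟨β, hβ⟩ : ∃ β : K, β * g 1 0 = Y 1 0 := ⟨Y 1 0 / g 1 0, div_mul_cancel₀ _ hc'⟩
    refine ⟨Y 0 0 - β * g 0 0, β, ?_⟩
    obtain ⟨s00, s01, s10, s11⟩ := mat2_span_entries (Y 0 0 - β * g 0 0) β g
    apply mat2_eq_of_entries
    · rw [s00]; ring
    · rw [s01]
      apply mul_left_cancel₀ hc'
      linear_combination e00 - g 0 1 * hβ
    · rw [s10, hβ]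
    · rw [s11]
      apply mul_left_cancel₀ hc'
      linear_combination e10 + (g 0 0 - g 1 1) * hβ
  have had : g 0 0 ≠ g 1 1 := by
    rcases hns with h | h | h
    · exact absurd hb h
    · exact absurd hc' h
    · exact h
  have hsub : g 0 0 - g 1 1 ≠ 0 := sub_ne_zero.2 had
  rw [hb] at e01
  rw [hc'] at e10
  have hy : Y 0 1 = 0 := by
    have : Y 0 1 * (g 0 0 - g 1 1) = 0 := by linear_combination (-1 : K) * e01
    rcases mul_eq_zero.1 this with h | h
    · exact h
    · exact absurd h hsub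
  have hz : Y 1 0 = 0 := by
    have : Y 1 0 * (g 0 0 - g 1 1) = 0 := by linear_combination e10
    rcases mul_eq_zero.1 this with h | h
    · exact h
    · exact absurd h hsub
  obtain ⟨β, hβ⟩ : ∃ β : K, β * (g 0 0 - g 1 1) = Y 0 0 - Y 1 1 :=
    ⟨(Y 0 0 - Y 1 1) / (g 0 0 - g 1 1), div_mul_cancel₀ _ hsub⟩
  refine ⟨Y 0 0 - β * g 0 0, β, ?_⟩
  obtain ⟨s00, s01, s10, s11⟩ := mat2_span_entries (Y 0 0 - β * g 0 0) β g
  apply mat2_eq_of_entries
  · rw [s00]; ring
  · rw [s01, hy, hb, mul_zero]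
  · rw [s10, hz, hc', mul_zero]
  · rw [s11]
    linear_combination hβ

/-- two matrices commuting with a non-scalar matrix commute -/
theorem mat2_comm_trans (x g g' : Matrix (Fin 2) (Fin 2) K)
    (hns : x 0 1 ≠ 0 ∨ x 1 0 ≠ 0 ∨ x 0 0 ≠ x 1 1) (hc : g * x = x * g) (hc' : g' * x = x * g') :
    g * g' = g' * g := by
  obtain ⟨α, β, rfl⟩ := mat2_comm_span x g hns hc
  obtain ⟨α', β', rfl⟩ := mat2_comm_span x g' hns hc'
  ext i j
  fin_cases i <;> fin_cases j <;>
    simp [Matrix.mul_apply, Fin.sum_univ_two, Matrix.add_apply, Matrix.smul_apply] <;> ring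

/-- powers of a unipotent element are unipotent -/
theorem sl2tr_pow_unip (x : Matrix.SpecialLinearGroup (Fin 2) K) (hx : sl2tr x = 2) (n : ℕ) :
    sl2tr (x ^ n) = 2 := by
  have hNN := sl2_unip_sq x hx
  obtain ⟨N, hNdef⟩ : ∃ N : Matrix (Fin 2) (Fin 2) K, N = (x : Matrix (Fin 2) (Fin 2) K) - 1 :=
    ⟨_, rfl⟩
  rw [← hNdef] at hNN
  have hx' : (x : Matrix (Fin 2) (Fin 2) K) = 1 + N := by rw [hNdef]; abel
  have hmat : ∀ n : ℕ, ((x ^ n : Matrix.SpecialLinearGroup (Fin 2) K) : Matrix (Fin 2) (Fin 2) K)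
      = 1 + (n : K) • N := by
    intro n
    induction n with
    | zero => simp
    | succ n ih =>
      rw [pow_succ, Matrix.SpecialLinearGroup.coe_mul, ih, hx']
      rw [Matrix.add_mul, Matrix.mul_add, Matrix.mul_add, Matrix.one_mul, Matrix.one_mul,
        Matrix.smul_mul, Matrix.mul_one, Matrix.smul_mul, hNN, smul_zero, add_zero]
      push_cast
      rw [add_smul, one_smul]
      abel
  have h00 : (x ^ n) 0 0 = 1 + (n : K) * (x 0 0 - 1) := by
    have := congrFun (congrFun (hmat n) 0) 0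
    rw [hNdef] at this
    simpa [Matrix.add_apply, Matrix.smul_apply, Matrix.sub_apply] using this
  have h11 : (x ^ n) 1 1 = 1 + (n : K) * (x 1 1 - 1) := by
    have := congrFun (congrFun (hmat n) 1) 1
    rw [hNdef] at this
    simpa [Matrix.add_apply, Matrix.smul_apply, Matrix.sub_apply] using this
  unfold sl2tr at hx ⊢
  rw [h00, h11]
  linear_combination (n : K) * hx

/-- a scalar element of `SL(2,K)` squares to one -/
theorem sl2_scalar_sq (x : Matrix.SpecialLinearGroup (Fin 2) K) (h01 : x 0 1 = 0) (h10 : x 1 0 = 0)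
    (hd : x 0 0 = x 1 1) : x * x = 1 := by
  have hdet := sl2_det x
  rw [h01, h10, ← hd] at hdet
  apply Subtype.ext
  rw [Matrix.SpecialLinearGroup.coe_mul, Matrix.SpecialLinearGroup.coe_one]
  apply mat2_eq_of_entries
  · simp only [Matrix.mul_apply, Fin.sum_univ_two, Matrix.one_apply_eq]
    rw [h01, h10]; linear_combination hdet
  · simp only [Matrix.mul_apply, Fin.sum_univ_two]
    rw [h01]; simp
  · simp only [Matrix.mul_apply, Fin.sum_univ_two]
    rw [h10]; simp
  · simp only [Matrix.mul_apply, Fin.sum_univ_two, Matrix.one_apply_eq]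
    rw [h01, h10, ← hd]; linear_combination hdet

/-- **Odd-order subgroups of `SL(2,K)` generated by unipotent elements are unipotent.** -/
theorem sl2_odd_all_unip (h2 : (2 : K) ≠ 0) (L : Subgroup (Matrix.SpecialLinearGroup (Fin 2) K))
    [Finite L] (hodd : Odd (Nat.card L))
    (hgen : Subgroup.closure {u : Matrix.SpecialLinearGroup (Fin 2) K | u ∈ L ∧ sl2tr u = 2} = L) :
    ∀ g ∈ L, sl2tr g = 2 := by
  classical
  by_contra hcon
  simp only [not_forall] at hcon
  obtain ⟨g, hgL, hg2⟩ := hcon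
  -- odd order
  have hoddx : ∀ x ∈ L, Odd (orderOf x) := by
    intro x hx
    have h1 := orderOf_dvd_natCard (⟨x, hx⟩ : L)
    rw [Subgroup.orderOf_mk] at h1
    exact Odd.of_dvd_nat hodd h1
  have hsq1 : ∀ x ∈ L, x * x = 1 → x = 1 := by
    intro x hx hxx
    have h1 : orderOf x ∣ 2 := orderOf_dvd_of_pow_eq_one (by rw [pow_two]; exact hxx)
    have h3 : orderOf x = 1 := by
      rcases (Nat.dvd_prime Nat.prime_two).1 h1 with h | h
      · exact h
      · exfalso
        have := hoddx x hx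
        rw [h] at this
        exact (by decide : ¬ Odd 2) this
    exact orderOf_eq_one_iff.1 h3
  have hns : ∀ x ∈ L, x ≠ 1 → (x 0 1 ≠ 0 ∨ x 1 0 ≠ 0 ∨ x 0 0 ≠ x 1 1) := by
    intro x hx hx1
    by_contra hcon
    simp only [not_or, not_not] at hcon
    exact hx1 (hsq1 x hx (sl2_scalar_sq x hcon.1 hcon.2.1 hcon.2.2))
  -- no element of trace -2
  have hneg : ∀ x ∈ L, sl2tr x * sl2tr x = 4 → sl2tr x = 2 := by
    intro x hx h4
    have htr2 : sl2tr (x * x) = 2 := by
      have h5 := sl2_ch x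
      have h00 := congrFun (congrFun h5 0) 0
      have h11 := congrFun (congrFun h5 1) 1
      simp only [Matrix.sub_apply, Matrix.smul_apply, Matrix.one_apply_eq, smul_eq_mul] at h00 h11
      unfold sl2tr at h4 h00 h11 ⊢
      rw [Matrix.SpecialLinearGroup.coe_mul, h00, h11]
      linear_combination h4
    obtain ⟨m, hm⟩ := hoddx x hx
    have hx2 : x = (x * x) ^ (m + 1) := by
      rw [← pow_two, ← pow_mul]
      have : 2 * (m + 1) = orderOf x + 1 := by omega
      rw [this, pow_succ, pow_orderOf_eq_one, one_mul]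
    rw [hx2]
    exact sl2tr_pow_unip _ htr2 _
  have hg4 : sl2tr g * sl2tr g ≠ 4 := fun h => hg2 (hneg g hgL h)
  have hg1 : g ≠ 1 := by
    rintro rfl
    apply hg2
    unfold sl2tr
    simp
    norm_num
  -- the complement
  obtain ⟨A, hAdef⟩ : ∃ A : Subgroup ↥L, A = Subgroup.centralizer {(⟨g, hgL⟩ : ↥L)} := ⟨_, rfl⟩
  have hmemA : ∀ x : ↥L, x ∈ A ↔ (x : Matrix.SpecialLinearGroup (Fin 2) K) * g = g * x := by
    intro x
    rw [hAdef, Subgroup.mem_centralizer_iff]
    constructor
    · intro h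
      have := h ⟨g, hgL⟩ (Set.mem_singleton _)
      have h1 := congrArg Subtype.val this
      simp only [Subgroup.coe_mul] at h1
      exact h1.symm
    · intro h y hy
      rw [Set.mem_singleton_iff] at hy
      subst hy
      apply Subtype.ext
      simp only [Subgroup.coe_mul]
      exact h.symm
  -- unipotent elements commuting with g are trivial
  have hunip : ∀ w : Matrix.SpecialLinearGroup (Fin 2) K, sl2tr w = 2 → g * w = w * g → w = 1 := by
    intro w hw hc
    by_contra hw1
    exact hg4 (sl2_comm_unip h2 w g hw hw1 hc)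
  have hU1 : ∃ u, u ∈ L ∧ sl2tr u = 2 ∧ u ≠ 1 := by
    by_contra hcon
    simp only [not_exists, not_and, not_not] at hcon
    have h1 : Subgroup.closure {u : Matrix.SpecialLinearGroup (Fin 2) K | u ∈ L ∧ sl2tr u = 2} ≤ ⊥ := by
      rw [Subgroup.closure_le]
      rintro u ⟨hu, hu2⟩
      rw [SetLike.mem_coe, Subgroup.mem_bot]
      exact hcon u hu hu2
    rw [hgen] at h1
    exact hg1 (Subgroup.mem_bot.1 (h1 hgL))
  have hfrob : Cfsg.IsFrobeniusComplement A := by
    refine ⟨?_, ?_, ?_⟩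
    · intro hbot
      have h1 : (⟨g, hgL⟩ : ↥L) ∈ A := (hmemA _).2 rfl
      rw [hbot, Subgroup.mem_bot] at h1
      exact hg1 (congrArg Subtype.val h1)
    · intro htop
      obtain ⟨u, huL, hu2, hu1⟩ := hU1
      have h1 : (⟨u, huL⟩ : ↥L) ∈ A := by rw [htop]; exact Subgroup.mem_top _
      have h3 := (hmemA _).1 h1
      exact hu1 (hunip u hu2 h3.symm)
    · intro h hhA
      rw [eq_bot_iff]
      intro x hx
      rw [Subgroup.mem_bot]
      by_contra hx1
      obtain ⟨hxA, hxc⟩ := Subgroup.mem_inf.1 hx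
      rw [Subgroup.mem_pointwise_smul_iff_inv_smul_mem] at hxc
      have hxc' : h⁻¹ * x * h ∈ A := by
        have : (MulAut.conj h)⁻¹ • x = h⁻¹ * x * h := by
          rw [← map_inv, MulAut.smul_def, MulAut.conj_apply, inv_inv]
        rw [this] at hxc
        exact hxc
      have e1 := (hmemA _).1 hxA
      have e2 := (hmemA _).1 hxc'
      simp only [Subgroup.coe_mul, Subgroup.coe_inv] at e2
      obtain ⟨x0, hx0⟩ : ∃ x0 : Matrix.SpecialLinearGroup (Fin 2) K, x0 = (x : _) := ⟨_, rfl⟩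
      obtain ⟨h0, hh0⟩ : ∃ h0 : Matrix.SpecialLinearGroup (Fin 2) K, h0 = (h : _) := ⟨_, rfl⟩
      rw [← hx0] at e1
      rw [← hx0, ← hh0] at e2
      have hx01 : x0 ≠ 1 := by
        intro h1
        apply hx1
        apply Subtype.ext
        rw [← hx0, h1]
        rfl
      have hx0L : x0 ∈ L := hx0 ▸ x.2
      have hh0L : h0 ∈ L := hh0 ▸ h.2
      -- g' = h0 g h0⁻¹ commutes with x0
      have tomat : ∀ a b c d : Matrix.SpecialLinearGroup (Fin 2) K, a * b = c * d →
          (a : Matrix (Fin 2) (Fin 2) K) * (b : Matrix (Fin 2) (Fin 2) K) =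
            (c : Matrix (Fin 2) (Fin 2) K) * (d : Matrix (Fin 2) (Fin 2) K) := by
        intro a b c d h
        rw [← Matrix.SpecialLinearGroup.coe_mul, ← Matrix.SpecialLinearGroup.coe_mul, h]
      obtain ⟨g', hg'⟩ : ∃ g' : Matrix.SpecialLinearGroup (Fin 2) K, g' = h0 * g * h0⁻¹ :=
        ⟨_, rfl⟩
      have e3 : g' * x0 = x0 * g' := by
        have h1 : x0 * (h0 * g * h0⁻¹) = h0 * ((h0⁻¹ * x0 * h0) * g) * h0⁻¹ := by group
        have h2 : h0 * (g * (h0⁻¹ * x0 * h0)) * h0⁻¹ = (h0 * g * h0⁻¹) * x0 := by group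
        rw [hg', ← h2, ← e2, h1]
      have hcomm : g * g' = g' * g := by
        apply Subtype.ext
        rw [Matrix.SpecialLinearGroup.coe_mul, Matrix.SpecialLinearGroup.coe_mul]
        exact mat2_comm_trans (x0 : Matrix (Fin 2) (Fin 2) K) _ _ (hns x0 hx0L hx01)
          (tomat _ _ _ _ e1.symm) (tomat _ _ _ _ e3)
      have htr : sl2tr g = sl2tr g' := by rw [hg']; exact (sl2tr_conj h0 g).symm
      have hh0A : h0 * g = g * h0 → False := by
        intro hc
        apply hhA
        rw [hmemA, ← hh0]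
        exact hc
      rcases sl2_comm_tr g g' hcomm htr with hw | hw
      · have hc1 : g * (g⁻¹ * g') = (g⁻¹ * g') * g := by
          calc g * (g⁻¹ * g') = g⁻¹ * (g * g') := by group
            _ = g⁻¹ * (g' * g) := by rw [hcomm]
            _ = (g⁻¹ * g') * g := by group
        have h1 := hunip _ hw hc1
        have hgg' : g' = g := by
          have : g' = g * (g⁻¹ * g') := by group
          rw [this, h1, mul_one]
        apply hh0A
        have : h0 * g = (h0 * g * h0⁻¹) * h0 := by group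
        rw [this, ← hg', hgg']
      · have hc1 : g * (g * g') = (g * g') * g := by
          calc g * (g * g') = g * (g' * g) := by rw [hcomm]
            _ = (g * g') * g := by group
        have h1 := hunip _ hw hc1
        have hinv : h0 * g * h0⁻¹ = g⁻¹ := by
          have : g' = g⁻¹ * (g * g') := by group
          rw [← hg', this, h1, mul_one]
        have hinv2 : h0 * g⁻¹ * h0⁻¹ = g := by
          have : h0 * g⁻¹ * h0⁻¹ = (h0 * g * h0⁻¹)⁻¹ := by group
          rw [this, hinv, inv_inv]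
        have hc2 : Commute (h0 * h0) g := by
          show h0 * h0 * g = g * (h0 * h0)
          have h3 : h0 * h0 * g = h0 * (h0 * g * h0⁻¹) * h0 := by group
          rw [h3, hinv]
          have h4 : h0 * g⁻¹ * h0 = (h0 * g⁻¹ * h0⁻¹) * (h0 * h0) := by group
          rw [h4, hinv2]
        obtain ⟨m, hm⟩ := hoddx h0 hh0L
        have hh2 : h0 = (h0 * h0) ^ (m + 1) := by
          rw [← pow_two, ← pow_mul]
          have : 2 * (m + 1) = orderOf h0 + 1 := by omega
          rw [this, pow_succ, pow_orderOf_eq_one, one_mul]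
        have hc3 : Commute h0 g := by
          rw [hh2]
          exact hc2.pow_left _
        exact hh0A hc3
  obtain ⟨N, hNset, hNn, hNcomp⟩ := Cfsg.Agent.S0035.result A hfrob
  -- unipotent elements lie in the kernel
  have hUN : ∀ u : ↥L, sl2tr (u : Matrix.SpecialLinearGroup (Fin 2) K) = 2 → u ∈ N := by
    intro u hu
    have : u ∈ (N : Set ↥L) := by
      rw [hNset]
      by_cases hu1 : u = 1
      · exact Or.inl hu1
      · right
        intro h hmem
        rw [Subgroup.mem_pointwise_smul_iff_inv_smul_mem] at hmem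
        have hmem' : h⁻¹ * u * h ∈ A := by
          have : (MulAut.conj h)⁻¹ • u = h⁻¹ * u * h := by
            rw [← map_inv, MulAut.smul_def, MulAut.conj_apply, inv_inv]
          rw [this] at hmem
          exact hmem
        have e2 := (hmemA _).1 hmem'
        simp only [Subgroup.coe_mul, Subgroup.coe_inv] at e2
        obtain ⟨u0, hu0⟩ : ∃ u0 : Matrix.SpecialLinearGroup (Fin 2) K, u0 = (u : _) := ⟨_, rfl⟩
        obtain ⟨h0, hh0⟩ : ∃ h0 : Matrix.SpecialLinearGroup (Fin 2) K, h0 = (h : _) := ⟨_, rfl⟩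
        rw [← hu0, ← hh0] at e2
        rw [← hu0] at hu
        have htr : sl2tr (h0⁻¹ * u0 * h0) = 2 := by
          have := sl2tr_conj (h0⁻¹) u0
          rw [inv_inv] at this
          rw [this, hu]
        have h1 := hunip _ htr e2.symm
        apply hu1
        apply Subtype.ext
        have h5 : u0 = h0 * (h0⁻¹ * u0 * h0) * h0⁻¹ := by group
        rw [← hu0, h5, h1]
        simp
    exact this
  have hNtop : N = ⊤ := by
    rw [eq_top_iff]
    have hcl : Subgroup.closure {u : ↥L | sl2tr (u : Matrix.SpecialLinearGroup (Fin 2) K) = 2} = ⊤ := by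
      apply Subgroup.map_injective L.subtype_injective
      have hS : (L.subtype '' {u : ↥L | sl2tr (u : Matrix.SpecialLinearGroup (Fin 2) K) = 2}) =
          {u : Matrix.SpecialLinearGroup (Fin 2) K | u ∈ L ∧ sl2tr u = 2} := by
        ext u
        constructor
        · rintro ⟨u', hu', rfl⟩
          exact ⟨u'.2, hu'⟩
        · rintro ⟨huL, hu2⟩
          exact ⟨⟨u, huL⟩, hu2, rfl⟩
      rw [MonoidHom.map_closure, hS, hgen, ← MonoidHom.range_eq_map, Subgroup.range_subtype]
    rw [← hcl, Subgroup.closure_le]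
    intro u hu
    exact hUN u hu
  have hcard := hNcomp.card_mul_card
  rw [hNtop, Subgroup.card_top] at hcard
  have hpos : 0 < Nat.card ↥L := Nat.card_pos
  have hA1 : Nat.card A = 1 := by
    have : Nat.card ↥L * Nat.card A = Nat.card ↥L * 1 := by rw [hcard, mul_one]
    exact Nat.eq_of_mul_eq_mul_left hpos this
  exact hfrob.1 (Subgroup.card_eq_one.1 hA1)

end SL2Odd

end Cfsg.Agent.Lib.Helper4
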