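import Mathlib
import Cfsg.Agent.Lib.Helper4.SL2Odd
import Cfsg.Agent.Lib.Helper4.QuadPair4
import Cfsg.Agent.Lib.Helper4.QuadPair5
import Cfsg.Agent.Lib.Helper6.UniqInv
import Cfsg.Agent.Lib.Helper1.BaerSuzuki
import Cfsg.Agent.S0219

/-!
# Two quadratic elements generating a non-`p`-group force non-abelian Sylow `2`-subgroups
-/

namespace Cfsg.Agent.Lib.Helper4

section QuadSylow2

/-- A finite subgroup of `SL(2,K)` (odd characteristic `p`) generated by unipotent elements which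
is not a `p`-group has non-abelian Sylow `2`-subgroups. -/
theorem sl2_sylow2_nonabelian {K : Type*} [Field K] (p : ℕ) [Fact p.Prime] [CharP K p]
    (hp2 : p ≠ 2) (L : Subgroup (Matrix.SpecialLinearGroup (Fin 2) K)) [Finite L]
    (hgen : Subgroup.closure {u : Matrix.SpecialLinearGroup (Fin 2) K | u ∈ L ∧ sl2tr u = 2} = L)
    (hnp : ¬ IsPGroup p L) (S : Sylow 2 ↥L) :
    ¬ ∀ x y : ↥(S : Subgroup ↥L), x * y = y * x := by
  classical
  have hpp := (Fact.out : p.Prime)
  have h2 : (2 : K) ≠ 0 := by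
    intro h
    have h1 : ((2 : ℕ) : K) = 0 := by exact_mod_cast h
    rw [CharP.cast_eq_zero_iff K p] at h1
    exact hp2 ((Nat.prime_dvd_prime_iff_eq hpp Nat.prime_two).1 h1)
  intro hcomm
  -- S is cyclic
  have hScyc : IsCyclic ↥(S : Subgroup ↥L) := by
    by_cases hz : ∃ z : ↥(S : Subgroup ↥L),
        ((z : ↥L) : Matrix.SpecialLinearGroup (Fin 2) K) = -1
    · obtain ⟨z, hz⟩ := hz
      apply Cfsg.Agent.Lib.Helper6.isCyclic_of_comm_of_unique_involution S.2 hcomm z
      intro x hx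
      have hx' : ((x : ↥L) : Matrix.SpecialLinearGroup (Fin 2) K) *
          ((x : ↥L) : Matrix.SpecialLinearGroup (Fin 2) K) = 1 := by
        have := congrArg (fun y : ↥(S : Subgroup ↥L) =>
          ((y : ↥L) : Matrix.SpecialLinearGroup (Fin 2) K)) hx
        simpa [pow_two] using this
      rcases sl2_sq_one h2 _ hx' with h | h
      · left
        apply Subtype.ext
        apply Subtype.ext
        exact h
      · right
        apply Subtype.ext
        apply Subtype.ext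
        rw [h, hz]
    · apply Cfsg.Agent.Lib.Helper6.isCyclic_of_comm_of_unique_involution S.2 hcomm 1
      intro x hx
      have hx' : ((x : ↥L) : Matrix.SpecialLinearGroup (Fin 2) K) *
          ((x : ↥L) : Matrix.SpecialLinearGroup (Fin 2) K) = 1 := by
        have := congrArg (fun y : ↥(S : Subgroup ↥L) =>
          ((y : ↥L) : Matrix.SpecialLinearGroup (Fin 2) K)) hx
        simpa [pow_two] using this
      rcases sl2_sq_one h2 _ hx' with h | h
      · left
        apply Subtype.ext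
        apply Subtype.ext
        exact h
      · exact absurd ⟨x, h⟩ hz
  -- generation inside `↥L`
  have hcl : Subgroup.closure {u : ↥L | sl2tr (u : Matrix.SpecialLinearGroup (Fin 2) K) = 2} = ⊤ := by
    apply Subgroup.map_injective L.subtype_injective
    have hS : (L.subtype '' {u : ↥L | sl2tr (u : Matrix.SpecialLinearGroup (Fin 2) K) = 2}) =
        {u : Matrix.SpecialLinearGroup (Fin 2) K | u ∈ L ∧ sl2tr u = 2} := by
      ext u
      constructor
      · rintro ⟨u', hu', rfl⟩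
        exact ⟨u'.2, hu'⟩
      · rintro ⟨huL, hu2⟩
        exact ⟨⟨u, huL⟩, hu2, rfl⟩
    rw [MonoidHom.map_closure, hS, hgen, ← MonoidHom.range_eq_map, Subgroup.range_subtype]
  -- the order of L is odd
  have hodd : Odd (Nat.card ↥L) := by
    by_contra hne
    rw [Nat.not_odd_iff_even] at hne
    obtain ⟨M, hM⟩ := Cfsg.Agent.S0219.result hne S hScyc
    have hle : Subgroup.closure {u : ↥L | sl2tr (u : Matrix.SpecialLinearGroup (Fin 2) K) = 2} ≤ M := by
      rw [Subgroup.closure_le]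
      intro u hu
      have hup : (u : Matrix.SpecialLinearGroup (Fin 2) K) ^ p = 1 := sl2_unip_pow p _ hu
      have hup' : u ^ p = 1 := by
        apply Subtype.ext
        rw [Subgroup.coe_pow, hup]
        rfl
      have hsq : u ^ 2 ∈ M := Subgroup.sq_mem_of_index_two hM u
      obtain ⟨m, hm⟩ := hpp.eq_two_or_odd'.resolve_left hp2
      have hu2 : u = (u ^ 2) ^ (m + 1) := by
        rw [← pow_mul]
        have : 2 * (m + 1) = p + 1 := by omega
        rw [this, pow_succ, hup', one_mul]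
      rw [SetLike.mem_coe, hu2]
      exact Subgroup.pow_mem _ hsq _
    rw [hcl, top_le_iff] at hle
    rw [hle, Subgroup.index_top] at hM
    exact absurd hM (by norm_num)
  have hall := sl2_odd_all_unip h2 L hodd hgen
  apply hnp
  rintro ⟨x, hx⟩
  refine ⟨1, ?_⟩
  apply Subtype.ext
  rw [Subgroup.coe_pow, pow_one, sl2_unip_pow p x (hall x hx)]
  rfl

variable (p : ℕ) [Fact p.Prime] {Γ : Type*} [Group Γ] [Finite Γ]
  {W : Type*} [AddCommGroup W] [Module (ZMod p) W] [Finite W]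

/-- every `2`-subgroup is abelian if some Sylow `2`-subgroup is -/
theorem two_subgroup_comm (T : Sylow 2 Γ) (hT : ∀ x y : ↥(T : Subgroup Γ), x * y = y * x)
    (R : Subgroup Γ) (hR : IsPGroup 2 R) : ∀ x ∈ R, ∀ y ∈ R, x * y = y * x := by
  obtain ⟨Q, hQ⟩ := hR.exists_le_sylow
  obtain ⟨g, hg⟩ := MulAction.exists_smul_eq Γ T Q
  intro x hx y hy
  have hxQ : x ∈ (g • T : Sylow 2 Γ) := hg ▸ hQ hx
  have hyQ : y ∈ (g • T : Sylow 2 Γ) := hg ▸ hQ hy
  rw [Cfsg.Agent.Lib.Helper1.mem_sylow_smul_iff] at hxQ hyQ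
  have := hT ⟨_, hxQ⟩ ⟨_, hyQ⟩
  have h1 := congrArg Subtype.val this
  simp only [Subgroup.coe_mul] at h1
  have h2 : x * y = g * ((g⁻¹ * x * g) * (g⁻¹ * y * g)) * g⁻¹ := by group
  have h3 : y * x = g * ((g⁻¹ * y * g) * (g⁻¹ * x * g)) * g⁻¹ := by group
  rw [h2, h3, h1]

/-- **Two quadratic elements generating a non-`p`-group force non-abelian Sylow `2`-subgroups.** -/
theorem qp_sylow2_nonabelian (hp2 : p ≠ 2)
    (ρ : Γ →* (W ≃ₗ[ZMod p] W)) (hρ : Function.Injective ρ) (a b : Γ)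
    (ha : ∀ w, ρ a (ρ a w - w) = ρ a w - w) (hb : ∀ w, ρ b (ρ b w - w) = ρ b w - w)
    (hnp : ¬ IsPGroup p (Subgroup.closure ({a, b} : Set Γ))) (T : Sylow 2 Γ) :
    ¬ ∀ x y : ↥(T : Subgroup Γ), x * y = y * x := by
  classical
  intro hT
  obtain ⟨K, _, _, _, φ, hφ⟩ := qp_sl2_hom p ρ hρ a b ha hb hnp
  -- generators have order p
  have hpow : ∀ c : Γ, (∀ w, ρ c (ρ c w - w) = ρ c w - w) → c ^ p = 1 := by
    intro c hc
    apply hρ
    rw [map_pow, map_one]
    exact qp_pow_char p (ρ c) hc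
  have hgenΛ : Subgroup.closure (((↑) : ↥(Subgroup.closure ({a, b} : Set Γ)) → Γ) ⁻¹' ({a, b} : Set Γ)) = ⊤ :=
    Subgroup.closure_closure_coe_preimage
  have hgen : Subgroup.closure {u : Matrix.SpecialLinearGroup (Fin 2) K |
      u ∈ φ.range ∧ sl2tr u = 2} = φ.range := by
    apply le_antisymm
    · rw [Subgroup.closure_le]
      rintro u ⟨hu, -⟩
      exact hu
    · have h1 : φ.range = Subgroup.closure (φ ''
          (((↑) : ↥(Subgroup.closure ({a, b} : Set Γ)) → Γ) ⁻¹' ({a, b} : Set Γ))) := by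
        rw [MonoidHom.range_eq_map, ← hgenΛ, MonoidHom.map_closure]
      have hsub : (φ '' (((↑) : ↥(Subgroup.closure ({a, b} : Set Γ)) → Γ) ⁻¹' ({a, b} : Set Γ))) ⊆
          {u : Matrix.SpecialLinearGroup (Fin 2) K | u ∈ φ.range ∧ sl2tr u = 2} := by
        rintro u ⟨x, hx, rfl⟩
        refine ⟨⟨x, rfl⟩, ?_⟩
        have hxp : x ^ p = 1 := by
          apply Subtype.ext
          rw [Subgroup.coe_pow, Subgroup.coe_one]
          rcases hx with h | h
          · rw [h]; exact hpow a ha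
          · rw [Set.mem_singleton_iff] at h
            rw [h]; exact hpow b hb
        apply sl2_tr_of_pow p
        rw [← map_pow, hxp, map_one]
      intro u hu
      have hu' : u ∈ Subgroup.closure (φ ''
          (((↑) : ↥(Subgroup.closure ({a, b} : Set Γ)) → Γ) ⁻¹' ({a, b} : Set Γ))) := h1 ▸ hu
      exact Subgroup.closure_mono hsub hu'
  haveI : Finite ↥φ.range := Finite.of_surjective φ.rangeRestrict φ.rangeRestrict_surjective
  obtain ⟨S⟩ : Nonempty (Sylow 2 ↥φ.range) := inferInstance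
  apply sl2_sylow2_nonabelian p hp2 φ.range hgen hφ S
  obtain ⟨P₂, hP₂⟩ := Sylow.mapSurjective_surjective φ.rangeRestrict_surjective 2 S
  have hP₂R : IsPGroup 2 ((P₂ : Subgroup ↥(Subgroup.closure ({a, b} : Set Γ))).map
      (Subgroup.closure ({a, b} : Set Γ)).subtype) := P₂.2.map _
  have hcR := two_subgroup_comm T hT _ hP₂R
  intro x y
  have hx : (x : ↥φ.range) ∈ (P₂.mapSurjective φ.rangeRestrict_surjective : Sylow 2 ↥φ.range) := by
    rw [hP₂]; exact x.2
  have hy : (y : ↥φ.range) ∈ (P₂.mapSurjective φ.rangeRestrict_surjective : Sylow 2 ↥φ.range) := by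
    rw [hP₂]; exact y.2
  obtain ⟨x', hx', hxx⟩ := Subgroup.mem_map.1 hx
  obtain ⟨y', hy', hyy⟩ := Subgroup.mem_map.1 hy
  have hc := hcR x' (Subgroup.mem_map.2 ⟨x', hx', rfl⟩) y' (Subgroup.mem_map.2 ⟨y', hy', rfl⟩)
  have hc' : x' * y' = y' * x' := Subtype.ext hc
  apply Subtype.ext
  rw [Subgroup.coe_mul, Subgroup.coe_mul, ← hxx, ← hyy, ← map_mul, ← map_mul, hc']

/-- **A quadratic element outside `O_p` forces non-abelian Sylow `2`-subgroups.** -/
theorem qp_a595 (hp2 : p ≠ 2)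
    (ρ : Γ →* (W ≃ₗ[ZMod p] W)) (hρ : Function.Injective ρ) (a : Γ)
    (ha : ∀ w, ρ a (ρ a w - w) = ρ a w - w) (hna : a ∉ Cfsg.pCore p Γ) (T : Sylow 2 Γ) :
    ¬ ∀ x y : ↥(T : Subgroup Γ), x * y = y * x := by
  have hex : ∃ g : Γ, ¬ IsPGroup p (Subgroup.closure ({a, g * a * g⁻¹} : Set Γ)) := by
    by_contra hno
    have hall : ∀ g : Γ, IsPGroup p (Subgroup.closure ({a, g * a * g⁻¹} : Set Γ)) := by
      intro g
      by_contra h
      exact hno ⟨g, h⟩
    obtain ⟨N, hNn, hNp, haN, -⟩ := Cfsg.Agent.Lib.Helper1.baer_suzuki_normal a hall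
    apply hna
    have hle : N ≤ Cfsg.pCore p Γ := le_sSup ⟨hNn, hNp⟩
    exact hle haN
  obtain ⟨g, hg⟩ := hex
  exact qp_sylow2_nonabelian p hp2 ρ hρ a (g * a * g⁻¹) ha (qp_conj_quadratic ρ a g ha) hg T

end QuadSylow2

end Cfsg.Agent.Lib.Helper4
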