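import Cfsg.Agent.Lib.Helper4.QuadSylow2
import Cfsg.Agent.Lib.Helper4.QuadPairB

/-! Groups with abelian Sylow `2`-subgroups are `p`-stable in the action sense, for odd `p`. -/

namespace Cfsg.Agent.Lib.Helper4

open Cfsg.Agent.Lib.Helper3
open scoped commutatorElement

section QuadSylow3

universe u

/-- all `2`-subgroups are abelian -/
def AllTwoComm (X : Type*) [Group X] : Prop :=
  ∀ R : Subgroup X, IsPGroup 2 R → ∀ x ∈ R, ∀ y ∈ R, x * y = y * x

theorem allTwoComm_of_sylow {X : Type*} [Group X] [Finite X]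
    (hab : ∀ T : Sylow 2 X, IsMulCommutative T) : AllTwoComm X := by
  obtain ⟨T⟩ : Nonempty (Sylow 2 X) := inferInstance
  intro R hR
  have hT := hab T
  exact two_subgroup_comm T (fun x y => hT.is_comm.comm x y) R hR

theorem allTwoComm_subgroup {X : Type*} [Group X] (h : AllTwoComm X) (H : Subgroup X) :
    AllTwoComm ↥H := by
  intro R hR x hx y hy
  have h1 : IsPGroup 2 (R.map H.subtype) := hR.map _
  have := h _ h1 x (Subgroup.mem_map.2 ⟨x, hx, rfl⟩) y (Subgroup.mem_map.2 ⟨y, hy, rfl⟩)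
  exact Subtype.ext this

theorem allTwoComm_quotient {X : Type*} [Group X] [Finite X] (h : AllTwoComm X)
    (N : Subgroup X) [N.Normal] : AllTwoComm (X ⧸ N) := by
  intro R hR x hx y hy
  obtain ⟨Q, hQ⟩ := hR.exists_le_sylow
  obtain ⟨T, hT⟩ := Sylow.mapSurjective_surjective (QuotientGroup.mk'_surjective N) 2 Q
  have hxQ : x ∈ (T.mapSurjective (QuotientGroup.mk'_surjective N) : Sylow 2 (X ⧸ N)) := by
    rw [hT]; exact hQ hx
  have hyQ : y ∈ (T.mapSurjective (QuotientGroup.mk'_surjective N) : Sylow 2 (X ⧸ N)) := by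
    rw [hT]; exact hQ hy
  obtain ⟨x', hx', rfl⟩ := Subgroup.mem_map.1 hxQ
  obtain ⟨y', hy', rfl⟩ := Subgroup.mem_map.1 hyQ
  rw [← map_mul, ← map_mul, h _ T.2 x' hx' y' hy']

theorem qp_pstable_on2 {X : Type u} [Group X] [Finite X] (p : ℕ) [Fact p.Prime] (hp2 : p ≠ 2)
    (hX : AllTwoComm X)
    (V : Subgroup X) [V.Normal] (hV : Cfsg.IsElementaryAbelian p V) : Cfsg.IsPStableOn p V := by
  intro a ha
  by_contra hna
  obtain ⟨W, _, _, _, ρ, hρ, hquad⟩ := qp_normal_rep p V hV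
  obtain ⟨T⟩ : Nonempty (Sylow 2 (X ⧸ Subgroup.centralizer (V : Set X))) := inferInstance
  apply qp_a595 p hp2 ρ hρ (QuotientGroup.mk a) (hquad a ha) hna T
  intro x y
  have := allTwoComm_quotient hX (Subgroup.centralizer (V : Set X)) _ T.2 x x.2 y y.2
  exact Subtype.ext this

theorem qp_pstable_section2 {G : Type u} [Group G] [Finite G] (p : ℕ) [Fact p.Prime] (hp2 : p ≠ 2)
    (hG : AllTwoComm G)
    (P : Subgroup G) [P.Normal] (hP : IsPGroup p P) :
    Cfsg.IsPStableOnSection p P ((frattini ↥P).map P.subtype) := by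
  have hp := (Fact.out : p.Prime)
  intro a ha
  obtain ⟨F, hF⟩ : ∃ F : Subgroup G, F = (frattini ↥P).map P.subtype := ⟨_, rfl⟩
  haveI hFn : F.Normal := hF ▸ inferInstance
  obtain ⟨hcF, hpF⟩ := qp_frattini_facts p P hP
  rw [← hF] at hcF hpF ha
  have hsec : Cfsg.sectionKernel P ((frattini ↥P).map P.subtype) = Cfsg.sectionKernel P F := by
    subst hF; rfl
  rw [hsec]
  obtain ⟨Vb, hVbdef⟩ : ∃ Vb : Subgroup (G ⧸ F), Vb = P.map (QuotientGroup.mk' F) := ⟨_, rfl⟩
  haveI hVbn : Vb.Normal :=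
    hVbdef ▸ Subgroup.Normal.map inferInstance _ (QuotientGroup.mk'_surjective F)
  have hVb : Cfsg.IsElementaryAbelian p Vb := by
    apply qp_isElementaryAbelian_of
    · intro x hx y hy
      rw [hVbdef] at hx hy
      obtain ⟨x', hx', rfl⟩ := Subgroup.mem_map.1 hx
      obtain ⟨y', hy', rfl⟩ := Subgroup.mem_map.1 hy
      rw [← map_mul, ← map_mul]
      apply (QuotientGroup.eq).2
      have h1 : (x' * y')⁻¹ * (y' * x') = ⁅y'⁻¹, x'⁻¹⁆ := by
        rw [commutatorElement_def]; group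
      rw [h1]
      exact hcF _ (inv_mem hy') _ (inv_mem hx')
    · intro x hx
      rw [hVbdef] at hx
      obtain ⟨x', hx', rfl⟩ := Subgroup.mem_map.1 hx
      rw [← map_pow]
      exact (QuotientGroup.eq_one_iff _).2 (hpF x' hx')
  have hquad : ⁅⁅Vb, Subgroup.zpowers (QuotientGroup.mk' F a)⁆,
      Subgroup.zpowers (QuotientGroup.mk' F a)⁆ = ⊥ := by
    rw [hVbdef, ← MonoidHom.map_zpowers, ← Subgroup.map_commutator, ← Subgroup.map_commutator,
      eq_bot_iff]
    calc Subgroup.map (QuotientGroup.mk' F) ⁅⁅P, Subgroup.zpowers a⁆, Subgroup.zpowers a⁆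
        ≤ F.map (QuotientGroup.mk' F) := Subgroup.map_mono ha
      _ = ⊥ := QuotientGroup.map_mk'_self F
  have hmem : (QuotientGroup.mk (QuotientGroup.mk' F a) :
      (G ⧸ F) ⧸ Subgroup.centralizer (Vb : Set (G ⧸ F))) ∈
      Cfsg.pCore p ((G ⧸ F) ⧸ Subgroup.centralizer (Vb : Set (G ⧸ F))) :=
    qp_pstable_on2 p hp2 (allTwoComm_quotient hG F) Vb hVb (QuotientGroup.mk' F a) hquad
  obtain ⟨π, hπ⟩ : ∃ π : G →* (G ⧸ F) ⧸ Subgroup.centralizer (Vb : Set (G ⧸ F)),
      π = (QuotientGroup.mk' (Subgroup.centralizer (Vb : Set (G ⧸ F)))).comp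
        (QuotientGroup.mk' F) := ⟨_, rfl⟩
  have hπs : Function.Surjective π := by
    rw [hπ]
    exact (QuotientGroup.mk'_surjective _).comp (QuotientGroup.mk'_surjective F)
  have hker : Cfsg.sectionKernel P F = (⊥ : Subgroup _).comap π := by
    ext x
    unfold Cfsg.sectionKernel
    rw [Subgroup.mem_comap, Subgroup.mem_comap, Subgroup.mem_bot, hπ, MonoidHom.comp_apply,
      ← hVbdef]
    exact (QuotientGroup.eq_one_iff _).symm
  refine ⟨(Cfsg.pCore p _).comap π, (Cfsg.pCore_normal p _).comap π, ?_, ?_, ?_⟩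
  · rw [hker]
    exact Subgroup.comap_mono bot_le
  · rw [hker, Subgroup.relIndex_comap, Subgroup.relIndex_bot_left,
      Subgroup.map_comap_eq_self_of_surjective hπs]
    exact IsPGroup.iff_card.1 pCore_isPGroup
  · rw [Subgroup.mem_comap, hπ]
    exact hmem

theorem qp_actionPStable2 {G : Type u} [Group G] [Finite G] (p : ℕ) [Fact p.Prime] (hp2 : p ≠ 2)
    (hG : AllTwoComm G) :
    Cfsg.IsActionPStable p G := by
  classical
  have hpp := (Fact.out : p.Prime)
  refine ⟨fun V _ hV => qp_pstable_on2 p hp2 hG V hV, ?_, ?_⟩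
  · exact qp_pstable_section2 p hp2 hG (Cfsg.pCore p G) pCore_isPGroup
  · intro S V _ hle
    apply qp_pstable_on2 p hp2 (allTwoComm_subgroup hG _) V
    obtain ⟨J, hJ⟩ : ∃ J : Subgroup ↥(S : Subgroup G), J = Cfsg.thompsonSubgroup p ↥(S : Subgroup G) :=
      ⟨_, rfl⟩
    have hZ : Cfsg.omegaCenterThompson p ↥(S : Subgroup G) =
        Subgroup.closure {x : ↥(S : Subgroup G) |
          x ∈ J ⊓ Subgroup.centralizer (J : Set ↥(S : Subgroup G)) ∧ x ^ p = 1} := by
      rw [hJ]; rfl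
    obtain ⟨hc, hpw⟩ := qp_closure_elemAb p
      {x : ↥(S : Subgroup G) | x ∈ J ⊓ Subgroup.centralizer (J : Set ↥(S : Subgroup G)) ∧ x ^ p = 1}
      (by
        rintro x ⟨hx, -⟩ y ⟨hy, -⟩
        have h1 : y ∈ Subgroup.centralizer (J : Set ↥(S : Subgroup G)) := hy.2
        rw [Subgroup.mem_centralizer_iff] at h1
        exact h1 x hx.1)
      (fun x hx => hx.2)
    rw [← hZ] at hc hpw
    apply qp_isElementaryAbelian_of
    · intro x hx y hy
      obtain ⟨x', hx', hxx⟩ := Subgroup.mem_map.1 (hle (Subgroup.mem_map.2 ⟨x, hx, rfl⟩))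
      obtain ⟨y', hy', hyy⟩ := Subgroup.mem_map.1 (hle (Subgroup.mem_map.2 ⟨y, hy, rfl⟩))
      apply Subtype.ext
      have h1 := congrArg (fun z : ↥(S : Subgroup G) => (z : G)) (hc x' hx' y' hy')
      simp only [Subgroup.coe_mul] at h1
      have hxx' : (x' : G) = (x : G) := hxx
      have hyy' : (y' : G) = (y : G) := hyy
      rw [hxx', hyy'] at h1
      simpa using h1
    · intro x hx
      obtain ⟨x', hx', hxx⟩ := Subgroup.mem_map.1 (hle (Subgroup.mem_map.2 ⟨x, hx, rfl⟩))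
      apply Subtype.ext
      have h1 := congrArg (fun z : ↥(S : Subgroup G) => (z : G)) (hpw x' hx')
      simp only [Subgroup.coe_pow, Subgroup.coe_one] at h1
      have hxx' : (x' : G) = (x : G) := hxx
      rw [hxx'] at h1
      simpa using h1

end QuadSylow3

end Cfsg.Agent.Lib.Helper4
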