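import Mathlib

set_option autoImplicit false

namespace Cfsg.Agent.Lib.Helper4

section QuatData

/-- the quaternion action on a plane over a prime field. -/
theorem quat_data_prime (p : ℕ) (hp : p.Prime) :
    ∃ (A B : ZMod p × ZMod p →+ ZMod p × ZMod p),
      (∀ v, A (A v) = -v) ∧ (∀ v, B (B v) = -v) ∧ (∀ v, B (A v) = -(A (B v))) := by
  haveI : Fact p.Prime := ⟨hp⟩
  obtain ⟨x, y, hxy⟩ := ZMod.sq_add_sq p (-1)
  refine ⟨{ toFun := fun v => (-v.2, v.1), map_zero' := by simp, map_add' := ?_ },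
    { toFun := fun v => (x * v.1 + y * v.2, y * v.1 - x * v.2), map_zero' := by simp,
      map_add' := ?_ }, ?_, ?_, ?_⟩
  · intro a b
    ext
    · simp only [Prod.snd_add, Prod.fst_add, neg_add_rev]; ring
    · simp
  · intro a b
    ext
    · simp only [Prod.fst_add, Prod.snd_add]; ring
    · simp only [Prod.fst_add, Prod.snd_add]; ring
  · intro v
    ext
    · simp
    · simp
  · intro v
    ext
    · simp only [AddMonoidHom.coe_mk, ZeroHom.coe_mk, Prod.fst_neg]
      linear_combination v.1 * hxy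
    · simp only [AddMonoidHom.coe_mk, ZeroHom.coe_mk, Prod.snd_neg]
      linear_combination v.2 * hxy
  · intro v
    ext
    · simp only [AddMonoidHom.coe_mk, ZeroHom.coe_mk, Prod.fst_neg]; ring
    · simp only [AddMonoidHom.coe_mk, ZeroHom.coe_mk, Prod.snd_neg]; ring

/-- additive quaternion data of order `k * k` for every odd `k`. -/
theorem quat_data (k : ℕ) (hk : Odd k) :
    ∃ (V : Type) (_ : AddCommGroup V) (_ : Finite V) (A B : V →+ V), Nat.card V = k * k ∧
      (∀ v, A (A v) = -v) ∧ (∀ v, B (B v) = -v) ∧ (∀ v, B (A v) = -(A (B v))) := by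
  induction k using Nat.recOnMul with
  | zero => exact absurd hk (by decide)
  | one =>
    refine ⟨PUnit, inferInstance, inferInstance, 0, 0, by simp, ?_, ?_, ?_⟩ <;>
      intro v <;> exact Subsingleton.elim _ _
  | prime p hp =>
    obtain ⟨A, B, h1, h2, h3⟩ := quat_data_prime p hp
    haveI : Fact p.Prime := ⟨hp⟩
    refine ⟨ZMod p × ZMod p, inferInstance, inferInstance, A, B, ?_, h1, h2, h3⟩
    rw [Nat.card_prod, Nat.card_zmod]
  | mul a b iha ihb =>
    have hab := Nat.odd_mul.mp hk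
    obtain ⟨V₁, i₁, f₁, A₁, B₁, c₁, h1, h2, h3⟩ := iha hab.1
    obtain ⟨V₂, i₂, f₂, A₂, B₂, c₂, g1, g2, g3⟩ := ihb hab.2
    refine ⟨V₁ × V₂, inferInstance, inferInstance, A₁.prodMap A₂, B₁.prodMap B₂, ?_, ?_, ?_, ?_⟩
    · rw [Nat.card_prod, c₁, c₂]; ring
    · intro v
      ext
      · simp [h1]
      · simp [g1]
    · intro v
      ext
      · simp [h2]
      · simp [g2]
    · intro v
      ext
      · simp [h3]
      · simp [g3]

/-- in a group of odd order only the identity equals its inverse. -/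
theorem eq_one_of_inv_eq_of_odd {W : Type*} [Group W] [Finite W] (hodd : Odd (Nat.card W))
    (w : W) (h : w⁻¹ = w) : w = 1 := by
  have h2 : w ^ 2 = 1 := by
    rw [pow_two]
    nth_rewrite 1 [← h]
    exact inv_mul_cancel w
  have h3 : orderOf w ∣ 2 := orderOf_dvd_of_pow_eq_one h2
  have h4 : orderOf w ∣ Nat.card W := orderOf_dvd_natCard w
  have h5 : orderOf w ∣ Nat.gcd 2 (Nat.card W) := Nat.dvd_gcd h3 h4
  have h6 : Nat.gcd 2 (Nat.card W) = 1 := by
    rw [Nat.coprime_two_left.mpr hodd]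
  rw [h6, Nat.dvd_one] at h5
  exact orderOf_eq_one_iff.mp h5

end QuatData

end Cfsg.Agent.Lib.Helper4
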