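import Cfsg.Agent.Lib.Helper3.Replacement
import Cfsg.Agent.S0649
import Cfsg.Prelude.Def_PLocal

/-! Glauberman's replacement theorem in the strong form (exponent and rank statements). -/

namespace Cfsg.Agent.Lib.Helper4

open scoped commutatorElement

section Replace

universe u

variable {G : Type u} [Group G]

theorem mem_omegaOne_of_comm (p : ℕ) (M : Subgroup G)
    (hM : ∀ x ∈ M, ∀ y ∈ M, x * y = y * x) (x : G) :
    x ∈ Cfsg.omegaOne p M ↔ x ∈ M ∧ x ^ p = 1 := by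
  constructor
  · intro hx
    unfold Cfsg.omegaOne at hx
    refine Subgroup.closure_induction (p := fun x _ => x ∈ M ∧ x ^ p = 1) ?_ ?_ ?_ ?_ hx
    · intro y hy; exact hy
    · exact ⟨one_mem _, one_pow _⟩
    · intro y z _ _ hy hz
      refine ⟨M.mul_mem hy.1 hz.1, ?_⟩
      have hc : Commute y z := hM y hy.1 z hz.1
      rw [hc.mul_pow, hy.2, hz.2, one_mul]
    · intro y _ hy
      exact ⟨M.inv_mem hy.1, by rw [inv_pow, hy.2, inv_one]⟩
  · intro hx
    exact Subgroup.subset_closure hx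

variable [Finite G]

theorem omega_count (p : ℕ) (M Ms D : Subgroup G)
    (hM : ∀ x ∈ M, ∀ y ∈ M, x * y = y * x) (hMs : ∀ x ∈ Ms, ∀ y ∈ Ms, x * y = y * x)
    (hDM : D ≤ M) (hDMs : D ≤ Ms) (ρ : G → G)
    (h1 : ∀ a ∈ M, ρ a ∈ Ms)
    (h2 : ∀ a ∈ M, ∀ a' ∈ M, ∃ c ∈ D, ρ (a * a') = ρ a * ρ a' * c)
    (h3 : ∀ a ∈ M, (ρ a ∈ D ↔ a ∈ D))
    (h4 : ∀ a ∈ M, a ^ p = 1 → (ρ a) ^ p = 1) :
    Nat.card (Cfsg.omegaOne p M) ≤ Nat.card (Cfsg.omegaOne p Ms) := by
  have hW := mem_omegaOne_of_comm p M hM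
  have hWs := mem_omegaOne_of_comm p Ms hMs
  have hKeq : D ⊓ Cfsg.omegaOne p Ms = D ⊓ Cfsg.omegaOne p M := by
    ext x
    constructor
    · rintro ⟨hxD, hxW⟩
      exact ⟨hxD, (hW x).2 ⟨hDM hxD, ((hWs x).1 hxW).2⟩⟩
    · rintro ⟨hxD, hxW⟩
      exact ⟨hxD, (hWs x).2 ⟨hDMs hxD, ((hW x).1 hxW).2⟩⟩
  have c1 := Subgroup.card_eq_card_quotient_mul_card_subgroup
    ((D ⊓ Cfsg.omegaOne p M).subgroupOf (Cfsg.omegaOne p M))
  have c2 := Subgroup.card_eq_card_quotient_mul_card_subgroup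
    ((D ⊓ Cfsg.omegaOne p Ms).subgroupOf (Cfsg.omegaOne p Ms))
  have c3 : Nat.card ((D ⊓ Cfsg.omegaOne p M).subgroupOf (Cfsg.omegaOne p M)) =
      Nat.card ↥(D ⊓ Cfsg.omegaOne p M) :=
    Nat.card_congr (Subgroup.subgroupOfEquivOfLe inf_le_right).toEquiv
  have c4 : Nat.card ((D ⊓ Cfsg.omegaOne p Ms).subgroupOf (Cfsg.omegaOne p Ms)) =
      Nat.card ↥(D ⊓ Cfsg.omegaOne p M) := by
    rw [Nat.card_congr (Subgroup.subgroupOfEquivOfLe
      (inf_le_right : D ⊓ Cfsg.omegaOne p Ms ≤ _)).toEquiv, hKeq]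
  -- the injection on cosets
  have hρW : ∀ w : ↥(Cfsg.omegaOne p M), ρ (w : G) ∈ Cfsg.omegaOne p Ms := by
    intro w
    have := (hW w).1 w.2
    exact (hWs _).2 ⟨h1 _ this.1, h4 _ this.1 this.2⟩
  have hinj : Function.Injective
      (fun q : ↥(Cfsg.omegaOne p M) ⧸ (D ⊓ Cfsg.omegaOne p M).subgroupOf (Cfsg.omegaOne p M) =>
        (QuotientGroup.mk (⟨ρ ((Quotient.out q : ↥(Cfsg.omegaOne p M)) : G), hρW _⟩ :
          ↥(Cfsg.omegaOne p Ms)) :
          ↥(Cfsg.omegaOne p Ms) ⧸ (D ⊓ Cfsg.omegaOne p Ms).subgroupOf (Cfsg.omegaOne p Ms))) := by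
    intro q₁ q₂ hq
    simp only at hq
    rw [QuotientGroup.eq, Subgroup.mem_subgroupOf] at hq
    have hq' : (ρ ((Quotient.out q₁ : ↥(Cfsg.omegaOne p M)) : G))⁻¹ *
        ρ ((Quotient.out q₂ : ↥(Cfsg.omegaOne p M)) : G) ∈ D := hq.1
    have ho₁ := (hW _).1 (Quotient.out q₁ : ↥(Cfsg.omegaOne p M)).2
    have ho₂ := (hW _).1 (Quotient.out q₂ : ↥(Cfsg.omegaOne p M)).2
    have hmem : ((Quotient.out q₁ : ↥(Cfsg.omegaOne p M)) : G)⁻¹ *
        ((Quotient.out q₂ : ↥(Cfsg.omegaOne p M)) : G) ∈ M :=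
      M.mul_mem (M.inv_mem ho₁.1) ho₂.1
    obtain ⟨c, hc, hce⟩ := h2 _ ho₁.1 _ hmem
    rw [mul_inv_cancel_left] at hce
    have h5 : ρ (((Quotient.out q₁ : ↥(Cfsg.omegaOne p M)) : G)⁻¹ *
        ((Quotient.out q₂ : ↥(Cfsg.omegaOne p M)) : G)) ∈ D := by
      have e : ρ (((Quotient.out q₁ : ↥(Cfsg.omegaOne p M)) : G)⁻¹ *
          ((Quotient.out q₂ : ↥(Cfsg.omegaOne p M)) : G)) =
          ((ρ ((Quotient.out q₁ : ↥(Cfsg.omegaOne p M)) : G))⁻¹ *
            ρ ((Quotient.out q₂ : ↥(Cfsg.omegaOne p M)) : G)) * c⁻¹ := by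
        rw [hce]; group
      rw [e]
      exact D.mul_mem hq' (D.inv_mem hc)
    have h6 := (h3 _ hmem).1 h5
    have h7 : (Quotient.out q₁ : ↥(Cfsg.omegaOne p M))⁻¹ * (Quotient.out q₂) ∈
        (D ⊓ Cfsg.omegaOne p M).subgroupOf (Cfsg.omegaOne p M) := by
      rw [Subgroup.mem_subgroupOf]
      exact ⟨h6, (Cfsg.omegaOne p M).mul_mem ((Cfsg.omegaOne p M).inv_mem (Quotient.out q₁).2)
        (Quotient.out q₂).2⟩
    have h8 : (QuotientGroup.mk (Quotient.out q₁) :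
        ↥(Cfsg.omegaOne p M) ⧸ (D ⊓ Cfsg.omegaOne p M).subgroupOf (Cfsg.omegaOne p M)) =
        QuotientGroup.mk (Quotient.out q₂) := QuotientGroup.eq.2 h7
    rw [QuotientGroup.out_eq', QuotientGroup.out_eq'] at h8
    exact h8
  have c5 := Nat.card_le_card_of_injective _ hinj
  rw [c1, c2, c3, c4]
  exact Nat.mul_le_mul_right _ c5

omit [Finite G] in
theorem normalizer_lift (H A : Subgroup G) (hAH : A ≤ H) (x : ↥H)
    (hx : x ∈ Subgroup.normalizer ((A.subgroupOf H : Subgroup ↥H) : Set ↥H)) :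
    (x : G) ∈ Subgroup.normalizer (A : Set G) := by
  rw [Subgroup.mem_normalizer_iff] at hx ⊢
  intro g
  constructor
  · intro hg
    have := (hx ⟨g, hAH hg⟩).1 (Subgroup.mem_subgroupOf.2 hg)
    exact Subgroup.mem_subgroupOf.1 this
  · intro hg
    have hgH : g ∈ H := by
      have e : g = (x : G)⁻¹ * ((x : G) * g * (x : G)⁻¹) * (x : G) := by group
      rw [e]
      exact H.mul_mem (H.mul_mem (H.inv_mem x.2) (hAH hg)) x.2
    have := (hx ⟨g, hgH⟩).2 (Subgroup.mem_subgroupOf.2 hg)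
    exact Subgroup.mem_subgroupOf.1 this

open Cfsg.Agent.Lib.Helper3 in
/-- Glauberman's replacement theorem, strong form -/
theorem replacement_strong {p : ℕ} [Fact p.Prime] (hp : p ≠ 2) (hG : IsPGroup p G)
    (A B : Subgroup G) (hA : IsMulCommutative A) (hBA : ⁅B, B⁆ ≤ A)
    (hAB : A ≤ Subgroup.normalizer (B : Set G))
    (hBnA : ¬ B ≤ Subgroup.normalizer (A : Set G)) :
    ∃ Astar : Subgroup G, IsMulCommutative Astar ∧ Nat.card Astar = Nat.card A ∧
      A ⊓ B < Astar ⊓ B ∧ Astar ≤ Subgroup.normalizer (A : Set G) ∧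
      Astar ≤ Subgroup.normalClosure (A : Set G) ∧
      Monoid.exponent Astar ∣ Monoid.exponent A ∧
      Nat.card (Cfsg.omegaOne p A) ≤ Nat.card (Cfsg.omegaOne p Astar) := by
  have hpp : p.Prime := Fact.out
  have hAcomm : ∀ x ∈ A, ∀ y ∈ A, x * y = y * x := by
    intro x hx y hy
    exact congrArg Subtype.val (hA.is_comm.comm ⟨x, hx⟩ ⟨y, hy⟩)
  obtain ⟨H, hHdef⟩ : ∃ H : Subgroup G, H = A ⊔ B := ⟨_, rfl⟩
  have hAH : A ≤ H := hHdef ▸ le_sup_left
  have hBH : B ≤ H := hHdef ▸ le_sup_right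
  have hHN : H ≤ Subgroup.normalizer (B : Set G) := by
    rw [hHdef]; exact sup_le hAB Subgroup.le_normalizer
  have hS : IsPGroup p ↥H := hG.to_subgroup H
  haveI hBn : (B.subgroupOf H).Normal := by
    constructor
    intro n hn g
    rw [Subgroup.mem_subgroupOf] at hn ⊢
    exact (Subgroup.mem_normalizer_iff.1 (hHN g.2) _).1 hn
  have hA' : IsMulCommutative (A.subgroupOf H) :=
    ⟨⟨fun x y => Subtype.ext (Subtype.ext (hAcomm _ x.2 _ y.2))⟩⟩
  have hA'comm : ∀ x ∈ A.subgroupOf H, ∀ y ∈ A.subgroupOf H, x * y = y * x := by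
    intro x hx y hy
    exact Subtype.ext (hAcomm _ hx _ hy)
  have hBA' : ⁅B.subgroupOf H, B.subgroupOf H⁆ ≤ A.subgroupOf H := by
    rw [Subgroup.commutator_le]
    intro x hx y hy
    rw [Subgroup.mem_subgroupOf] at hx hy ⊢
    have : ((⁅x, y⁆ : ↥H) : G) = ⁅(x : G), (y : G)⁆ := by
      simp [commutatorElement_def]
    rw [this]
    exact hBA (Subgroup.commutator_mem_commutator hx hy)
  have hnot' : ¬ B.subgroupOf H ≤
      Subgroup.normalizer ((A.subgroupOf H : Subgroup ↥H) : Set ↥H) := by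
    intro hle
    apply hBnA
    intro b hb
    exact normalizer_lift H A hAH ⟨b, hBH hb⟩ (hle (Subgroup.mem_subgroupOf.2 hb))
  obtain ⟨b, hb, hbNN, hbN⟩ := Cfsg.Agent.S0649.result hS (B.subgroupOf H)
    (fun h => absurd h hp) (A.subgroupOf H) hA' hBA' hnot'
  have h : RepHyp (A.subgroupOf H) (B.subgroupOf H) b :=
    { comm := hA'comm, normal := hBn, der := hBA', hb := hb, hbN := hbNN }
  have hstar_comm := h.rStar_comm (h.rX_comm_of_odd hS hp)
  have hinjs : Function.Injective H.subtype := H.subtype_injective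
  -- membership transport
  have hmemA : ∀ x : ↥H, x ∈ A.subgroupOf H ↔ (x : G) ∈ A := fun x => Subgroup.mem_subgroupOf
  refine ⟨(rStar (A.subgroupOf H) b).map H.subtype, ?_, ?_, ?_, ?_, ?_, ?_, ?_⟩
  · -- commutative
    refine ⟨⟨fun x y => ?_⟩⟩
    obtain ⟨x', hx', hxe⟩ := x.2
    obtain ⟨y', hy', hye⟩ := y.2
    apply Subtype.ext
    show (x : G) * (y : G) = (y : G) * (x : G)
    rw [← hxe, ← hye]
    exact congrArg Subtype.val (hstar_comm x' hx' y' hy')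
  · rw [Subgroup.card_map_of_injective hinjs, h.card_rStar]
    exact Nat.card_congr (Subgroup.subgroupOfEquivOfLe hAH).toEquiv
  · have hlt := h.inf_lt hbN
    rw [SetLike.lt_iff_le_and_exists] at hlt ⊢
    obtain ⟨hle, y, hy, hny⟩ := hlt
    refine ⟨?_, (y : G), ?_, ?_⟩
    · rintro x ⟨hxA, hxB⟩
      have hxH := hAH hxA
      have := hle (show (⟨x, hxH⟩ : ↥H) ∈ A.subgroupOf H ⊓ B.subgroupOf H from
        ⟨Subgroup.mem_subgroupOf.2 hxA, Subgroup.mem_subgroupOf.2 hxB⟩)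
      exact ⟨⟨_, this.1, rfl⟩, hxB⟩
    · exact ⟨⟨y, hy.1, rfl⟩, Subgroup.mem_subgroupOf.1 hy.2⟩
    · rintro ⟨hyA, hyB⟩
      exact hny ⟨Subgroup.mem_subgroupOf.2 hyA, Subgroup.mem_subgroupOf.2 hyB⟩
  · rintro _ ⟨x', hx', rfl⟩
    exact normalizer_lift H A hAH x' (h.rStar_le_normalizer hx')
  · rintro _ ⟨x', hx', rfl⟩
    obtain ⟨d, hd, a, ha, rfl⟩ := h.mem_rStar_iff.1 hx'
    have hdA : (d : G) ∈ A := Subgroup.mem_subgroupOf.1 (rD_le _ _ hd)
    have haA : (a : G) ∈ A := Subgroup.mem_subgroupOf.1 ha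
    haveI : (Subgroup.normalClosure (A : Set G)).Normal := Subgroup.normalClosure_normal
    have hle : A ≤ Subgroup.normalClosure (A : Set G) := Subgroup.le_normalClosure
    have e : H.subtype (d * rphi b a) =
        (d : G) * ((a : G) * ((b : G)⁻¹ * (a : G)⁻¹ * ((b : G)⁻¹)⁻¹)) := by
      rw [rphi_eq]
      simp only [map_mul, map_inv, Subgroup.coe_subtype]
      group
    rw [e]
    exact Subgroup.mul_mem _ (hle hdA) (Subgroup.mul_mem _ (hle haA)
      (Subgroup.Normal.conj_mem inferInstance _ (Subgroup.inv_mem _ (hle haA)) _))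
  · apply Monoid.exponent_dvd_of_forall_pow_eq_one
    intro y
    obtain ⟨x', hx', hxe⟩ := y.2
    have h1 := h.pow_eq_one_of_mem_rStar hS hp hx'
    have h2 : Monoid.exponent ↥(A.subgroupOf H) ∣ Monoid.exponent ↥A := by
      apply Monoid.exponent_dvd_of_forall_pow_eq_one
      intro a'
      have h3 := Monoid.pow_exponent_eq_one (⟨((a' : ↥H) : G), Subgroup.mem_subgroupOf.1 a'.2⟩ : ↥A)
      apply Subtype.ext
      apply Subtype.ext
      have h4 := congrArg Subtype.val h3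
      simpa using h4
    obtain ⟨k, hk⟩ := h2
    have h5 : x' ^ Monoid.exponent ↥A = 1 := by rw [hk, pow_mul, h1, one_pow]
    apply Subtype.ext
    have h6 : ((x' ^ Monoid.exponent ↥A : ↥H) : G) = 1 := by rw [h5]; rfl
    rw [Subgroup.coe_pow, Subgroup.coe_one, ← hxe]
    simpa using h6
  · -- rank
    have hstarG : ∀ x ∈ (rStar (A.subgroupOf H) b).map H.subtype,
        ∀ y ∈ (rStar (A.subgroupOf H) b).map H.subtype, x * y = y * x := by
      rintro _ ⟨x', hx', rfl⟩ _ ⟨y', hy', rfl⟩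
      exact congrArg Subtype.val (hstar_comm x' hx' y' hy')
    refine omega_count p A ((rStar (A.subgroupOf H) b).map H.subtype)
      ((rD (A.subgroupOf H) b).map H.subtype) hAcomm hstarG ?_ ?_
      (fun g => rphi (b : G) g) ?_ ?_ ?_ ?_
    · rintro _ ⟨d, hd, rfl⟩
      exact Subgroup.mem_subgroupOf.1 (rD_le _ _ hd)
    · exact Subgroup.map_mono (rD_le_rStar _ _)
    · intro a ha
      exact ⟨rphi b ⟨a, hAH ha⟩, rphi_mem_rStar (Subgroup.mem_subgroupOf.2 ha), rfl⟩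
    · intro a ha a' ha'
      obtain ⟨c, hc, e⟩ := h.rphi_mul (a := ⟨a, hAH ha⟩) (a' := ⟨a', hAH ha'⟩)
        (Subgroup.mem_subgroupOf.2 ha) (Subgroup.mem_subgroupOf.2 ha')
      exact ⟨(c : G), ⟨c, hc, rfl⟩, congrArg Subtype.val e⟩
    · intro a ha
      have h1 := h.rphi_mem_rD_iff (a := ⟨a, hAH ha⟩) (Subgroup.mem_subgroupOf.2 ha)
      have e1 : rphi (b : G) a = H.subtype (rphi b ⟨a, hAH ha⟩) := rfl
      have e2 : a = H.subtype ⟨a, hAH ha⟩ := rfl
      constructor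
      · intro hmem
        rw [e1, Subgroup.mem_map_iff_mem hinjs] at hmem
        rw [e2, Subgroup.mem_map_iff_mem hinjs]
        exact h1.1 hmem
      · intro hmem
        rw [e2, Subgroup.mem_map_iff_mem hinjs] at hmem
        rw [e1, Subgroup.mem_map_iff_mem hinjs]
        exact h1.2 hmem
    · intro a ha hap
      -- work in H
      obtain ⟨a', ha'def⟩ : ∃ a' : ↥H, a' = ⟨a, hAH ha⟩ := ⟨_, rfl⟩
      have ha' : a' ∈ A.subgroupOf H := by rw [ha'def]; exact Subgroup.mem_subgroupOf.2 ha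
      have hap' : a' ^ p = 1 := by
        rw [ha'def]; apply Subtype.ext; simpa using hap
      have hy : (b⁻¹ * a' * b)⁻¹ ∈ rA1 (A.subgroupOf H) b :=
        (rA1 _ b).inv_mem (conj_inv_mem_rA1 ha')
      have hc : ⁅(b⁻¹ * a' * b)⁻¹, a'⁆ ∈ rD (A.subgroupOf H) b := by
        have := (rD (A.subgroupOf H) b).inv_mem (h.comm_mem_rD ha' hy)
        rwa [commutatorElement_inv] at this
      have hcomm1 : Commute ⁅(b⁻¹ * a' * b)⁻¹, a'⁆ a' := h.rD_comm_A hc ha'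
      have hcomm2 : Commute ⁅(b⁻¹ * a' * b)⁻¹, a'⁆ (b⁻¹ * a' * b)⁻¹ := h.rD_comm_A1 hc hy
      have hcj : (b⁻¹ * a' * b) ^ p = b⁻¹ * a' ^ p * b := by
        have := conj_pow (a := b⁻¹) (b := a') (i := p)
        simpa only [inv_inv] using this
      have hyp : ((b⁻¹ * a' * b)⁻¹) ^ p = 1 := by
        rw [inv_pow, hcj, hap', mul_one, inv_mul_cancel, inv_one]
      have hcp : ⁅(b⁻¹ * a' * b)⁻¹, a'⁆ ^ p = 1 := by
        have hca : ⁅(b⁻¹ * a' * b)⁻¹, a'⁆ * a' =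
            (b⁻¹ * a' * b)⁻¹ * a' * ((b⁻¹ * a' * b)⁻¹)⁻¹ := by
          simp only [commutatorElement_def]; group
        have h1 : (⁅(b⁻¹ * a' * b)⁻¹, a'⁆ * a') ^ p = 1 := by
          rw [hca, conj_pow, hap', mul_one, mul_inv_cancel]
        rw [hcomm1.mul_pow, hap', mul_one] at h1
        exact h1
      have hchoose : p ∣ p.choose 2 := by
        apply Nat.Prime.dvd_choose_self hpp (by norm_num)
        have := hpp.two_le
        omega
      obtain ⟨k, hk⟩ := hchoose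
      have hphi : rphi b a' ^ p = 1 := by
        rw [rphi_eq, mul_pow_of_commute_comm a' (b⁻¹ * a' * b)⁻¹ hcomm1 hcomm2 p, hap', hyp,
          hk, pow_mul, hcp, one_pow, one_mul, one_mul]
      have h7 : ((rphi b a' : ↥H) : G) ^ p = 1 := by
        rw [← Subgroup.coe_pow, hphi]; rfl
      rw [ha'def] at h7
      exact h7

end Replace

end Cfsg.Agent.Lib.Helper4
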