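import Mathlib

set_option autoImplicit false

namespace Cfsg.Agent.Lib.Helper4

open Matrix

/-- The `k`-th shift matrix: ones on the `k`-th superdiagonal. -/
def shiftMat (F : Type*) [Zero F] [One F] (m k : ℕ) : Matrix (Fin m) (Fin m) F :=
  Matrix.of fun i j => if j.val = i.val + k then (1 : F) else 0

theorem shiftMat_apply (F : Type*) [Zero F] [One F] (m k : ℕ) (i j : Fin m) :
    shiftMat F m k i j = if j.val = i.val + k then (1 : F) else 0 := rfl

theorem shiftMat_mul_one (F : Type*) [Semiring F] (m k : ℕ) :
    shiftMat F m k * shiftMat F m 1 = shiftMat F m (k + 1) := by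
  ext i j
  rw [Matrix.mul_apply, shiftMat_apply]
  by_cases h : i.val + k < m
  · rw [Finset.sum_eq_single (⟨i.val + k, h⟩ : Fin m)]
    · simp only [shiftMat_apply]
      rw [if_pos trivial, one_mul]
      have : (i.val + k + 1) = i.val + (k + 1) := by ring
      simp only [this]
    · intro l _ hl
      rw [shiftMat_apply, if_neg, zero_mul]
      intro hl'
      exact hl (Fin.ext hl')
    · intro hmem
      exact absurd (Finset.mem_univ _) hmem
  · rw [Finset.sum_eq_zero, if_neg]
    · have := j.isLt
      omega
    · intro l _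
      rw [shiftMat_apply, if_neg, zero_mul]
      have := l.isLt
      omega

theorem shiftMat_one_pow (F : Type*) [Semiring F] (m : ℕ) (k : ℕ) :
    shiftMat F m 1 ^ k = shiftMat F m k := by
  induction k with
  | zero =>
    ext i j
    rw [pow_zero, shiftMat_apply, Matrix.one_apply]
    simp only [add_zero]
    by_cases h : i = j
    · rw [if_pos h, if_pos (by rw [h])]
    · rw [if_neg h, if_neg (fun h' => h (Fin.ext h'.symm))]
  | succ k ih => rw [pow_succ, ih, shiftMat_mul_one]

theorem shiftMat_self_eq_zero (F : Type*) [Semiring F] (m : ℕ) : shiftMat F m m = 0 := by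
  ext i j
  rw [shiftMat_apply, if_neg, Matrix.zero_apply]
  have := j.isLt
  omega

theorem shiftMat_pred_ne_zero (F : Type*) [Semiring F] [Nontrivial F] (m : ℕ) (hm : 1 ≤ m) :
    shiftMat F m (m - 1) ≠ 0 := by
  intro h
  have h1 := congrFun (congrFun h ⟨0, hm⟩) ⟨m - 1, by omega⟩
  rw [shiftMat_apply, if_pos (by simp), Matrix.zero_apply] at h1
  exact one_ne_zero h1

end Cfsg.Agent.Lib.Helper4
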