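import Mathlib

set_option autoImplicit false
open scoped BigOperators

namespace Cfsg.Agent.Lib.Helper4

section TwoTransDesign

variable {G Ω : Type*} [Group G] [MulAction G Ω]

open Classical in
/-- rational indicator that `ω` lies in the block `g • O`, where `ξ = gH`. -/
noncomputable def dsc (H : Subgroup G) (O : Set Ω) (ω : Ω) (ξ : G ⧸ H) : ℚ :=
  if (Quotient.out ξ)⁻¹ • ω ∈ O then 1 else 0

open Classical in
lemma dsc_mk (H : Subgroup G) (O : Set Ω) (hO : ∀ h ∈ H, ∀ ω ∈ O, h • ω ∈ O) (ω : Ω) (g : G) :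
    dsc H O ω (g : G ⧸ H) = if g⁻¹ • ω ∈ O then 1 else 0 := by
  unfold dsc
  obtain ⟨h, hh⟩ := QuotientGroup.mk_out_eq_mul H g
  have hiff : (Quotient.out (g : G ⧸ H))⁻¹ • ω ∈ O ↔ g⁻¹ • ω ∈ O := by
    rw [hh, mul_inv_rev, mul_smul]
    constructor
    · intro h1
      have h2 := hO (h : G) h.2 _ h1
      rwa [smul_inv_smul] at h2
    · intro h1
      exact hO ((h : G))⁻¹ (H.inv_mem h.2) _ h1
  simp only [hiff]

lemma dsc_mul_self (H : Subgroup G) (O : Set Ω) (ω : Ω) (ξ : G ⧸ H) :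
    dsc H O ω ξ * dsc H O ω ξ = dsc H O ω ξ := by
  unfold dsc; split_ifs <;> simp

lemma dsc_nonneg (H : Subgroup G) (O : Set Ω) (ω : Ω) (ξ : G ⧸ H) : 0 ≤ dsc H O ω ξ := by
  unfold dsc; split_ifs <;> simp

lemma dsc_le_one (H : Subgroup G) (O : Set Ω) (ω : Ω) (ξ : G ⧸ H) : dsc H O ω ξ ≤ 1 := by
  unfold dsc; split_ifs <;> simp

lemma dsc_smul (H : Subgroup G) (O : Set Ω) (hO : ∀ h ∈ H, ∀ ω ∈ O, h • ω ∈ O) (g : G) (ω : Ω)
    (ξ : G ⧸ H) : dsc H O (g • ω) (g • ξ) = dsc H O ω ξ := by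
  induction ξ using QuotientGroup.induction_on with
  | H a =>
    rw [MulAction.Quotient.smul_mk, dsc_mk H O hO, dsc_mk H O hO, smul_eq_mul, mul_inv_rev,
      mul_smul, inv_smul_smul]

lemma gram_smul (H : Subgroup G) [Fintype (G ⧸ H)] (O O' : Set Ω)
    (hO : ∀ h ∈ H, ∀ ω ∈ O, h • ω ∈ O) (hO' : ∀ h ∈ H, ∀ ω ∈ O', h • ω ∈ O') (g : G) (ω ω' : Ω) :
    ∑ ξ : G ⧸ H, dsc H O (g • ω) ξ * dsc H O' (g • ω') ξ
      = ∑ ξ : G ⧸ H, dsc H O ω ξ * dsc H O' ω' ξ := by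
  calc ∑ ξ : G ⧸ H, dsc H O (g • ω) ξ * dsc H O' (g • ω') ξ
      = ∑ ξ : G ⧸ H, dsc H O (g • ω) (g • ξ) * dsc H O' (g • ω') (g • ξ) :=
        (Equiv.sum_comp (MulAction.toPerm g : Equiv.Perm (G ⧸ H))
          (fun ξ => dsc H O (g • ω) ξ * dsc H O' (g • ω') ξ)).symm
    _ = _ := Finset.sum_congr rfl (fun ξ _ => by rw [dsc_smul H O hO, dsc_smul H O' hO'])

theorem two_trans_union [Finite G] [Finite Ω] (h2 : MulAction.IsMultiplyPretransitive G Ω 2)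
    (H : Subgroup G) (hidx : H.index = Nat.card Ω) (O₁ O₂ : Set Ω)
    (h₁ : ∀ h ∈ H, ∀ ω ∈ O₁, h • ω ∈ O₁) (h₂ : ∀ h ∈ H, ∀ ω ∈ O₂, h • ω ∈ O₂)
    (hdisj : ∀ ω, ω ∈ O₁ → ω ∉ O₂) (ω₁ ω₂ : Ω) (hω₁ : ω₁ ∈ O₁) (hω₂ : ω₂ ∈ O₂) :
    ∀ ω, ω ∈ O₁ ∨ ω ∈ O₂ := by
  classical
  haveI : Fintype Ω := Fintype.ofFinite Ω
  haveI : Fintype (G ⧸ H) := Fintype.ofFinite _
  have h2' : ∀ a b c d : Ω, a ≠ b → c ≠ d → ∃ g : G, g • a = c ∧ g • b = d :=
    fun a b c d hab hcd => MulAction.is_two_pretransitive_iff.1 h2 hab hcd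
  haveI htr : MulAction.IsPretransitive G Ω := MulAction.isPretransitive_of_is_two_pretransitive
  have hne12 : ω₁ ≠ ω₂ := fun h => hdisj ω₁ hω₁ (h ▸ hω₂)
  have hω₂' : ω₂ ∉ O₁ := fun hh => hdisj ω₂ hh hω₂
  obtain ⟨r, hrdef⟩ : ∃ r : ℚ, r = ∑ ξ : G ⧸ H, dsc H O₁ ω₁ ξ * dsc H O₁ ω₁ ξ := ⟨_, rfl⟩
  obtain ⟨lam, hlamdef⟩ : ∃ lam : ℚ, lam = ∑ ξ : G ⧸ H, dsc H O₁ ω₁ ξ * dsc H O₁ ω₂ ξ := ⟨_, rfl⟩
  obtain ⟨e, hedef⟩ : ∃ e : ℚ, e = ∑ ξ : G ⧸ H, dsc H O₁ ω₁ ξ * dsc H O₂ ω₂ ξ := ⟨_, rfl⟩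
  have hr : ∀ ω, ∑ ξ : G ⧸ H, dsc H O₁ ω ξ * dsc H O₁ ω ξ = r := by
    intro ω
    obtain ⟨g, rfl⟩ := MulAction.exists_smul_eq G ω₁ ω
    rw [hrdef]
    exact gram_smul H O₁ O₁ h₁ h₁ g ω₁ ω₁
  have hlam : ∀ ω ω', ω ≠ ω' → ∑ ξ : G ⧸ H, dsc H O₁ ω ξ * dsc H O₁ ω' ξ = lam := by
    intro ω ω' hne
    obtain ⟨g, rfl, rfl⟩ := h2' _ _ _ _ hne12 hne
    rw [hlamdef]
    exact gram_smul H O₁ O₁ h₁ h₁ g ω₁ ω₂
  have he : ∀ ω ω', ω ≠ ω' → ∑ ξ : G ⧸ H, dsc H O₁ ω ξ * dsc H O₂ ω' ξ = e := by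
    intro ω ω' hne
    obtain ⟨g, rfl, rfl⟩ := h2' _ _ _ _ hne12 hne
    rw [hedef]
    exact gram_smul H O₁ O₂ h₁ h₂ g ω₁ ω₂
  have hzero : ∀ ω, ∑ ξ : G ⧸ H, dsc H O₁ ω ξ * dsc H O₂ ω ξ = 0 := by
    intro ω
    apply Finset.sum_eq_zero
    intro ξ _
    induction ξ using QuotientGroup.induction_on with
    | H a =>
      rw [dsc_mk H O₁ h₁, dsc_mk H O₂ h₂]
      by_cases hh : a⁻¹ • ω ∈ O₁
      · simp [hh, hdisj _ hh]
      · simp [hh]
  have hsum1 : ∀ ω, ∑ ξ : G ⧸ H, dsc H O₁ ω ξ = r := by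
    intro ω
    rw [← hr ω]
    exact Finset.sum_congr rfl (fun ξ _ => (dsc_mul_self H O₁ ω ξ).symm)
  have hlam_nonneg : 0 ≤ lam := by
    rw [hlamdef]
    exact Finset.sum_nonneg (fun ξ _ => mul_nonneg (dsc_nonneg _ _ _ _) (dsc_nonneg _ _ _ _))
  have hrl : 0 < r - lam := by
    have hexp : r - lam = ∑ ξ : G ⧸ H, dsc H O₁ ω₁ ξ * (1 - dsc H O₁ ω₂ ξ) := by
      simp only [mul_sub, mul_one, Finset.sum_sub_distrib]
      rw [hsum1 ω₁, hlamdef]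
    rw [hexp]
    have hterm : dsc H O₁ ω₁ ((1 : G) : G ⧸ H) * (1 - dsc H O₁ ω₂ ((1 : G) : G ⧸ H)) = 1 := by
      rw [dsc_mk H O₁ h₁, dsc_mk H O₁ h₁]
      simp [hω₁, hω₂']
    calc (0 : ℚ) < 1 := one_pos
      _ = _ := hterm.symm
      _ ≤ _ := Finset.single_le_sum
          (f := fun ξ : G ⧸ H => dsc H O₁ ω₁ ξ * (1 - dsc H O₁ ω₂ ξ))
          (fun ξ _ => mul_nonneg (dsc_nonneg _ _ _ _) (sub_nonneg.2 (dsc_le_one _ _ _ _)))
          (Finset.mem_univ _)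
  let A : (Ω → ℚ) →ₗ[ℚ] ((G ⧸ H) → ℚ) :=
    { toFun := fun v ξ => ∑ ω : Ω, dsc H O₁ ω ξ * v ω
      map_add' := by
        intro v w; ext ξ; simp [mul_add, Finset.sum_add_distrib]
      map_smul' := by
        intro a v; ext ξ; simp [Finset.mul_sum, mul_left_comm] }
  have hAapp : ∀ v ξ, A v ξ = ∑ ω : Ω, dsc H O₁ ω ξ * v ω := fun v ξ => rfl
  have hgram : ∀ (v : Ω → ℚ) (w : (G ⧸ H) → ℚ) ,
      ∑ ξ : G ⧸ H, (A v ξ) * w ξ = ∑ ω : Ω, v ω * ∑ ξ : G ⧸ H, dsc H O₁ ω ξ * w ξ := by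
    intro v w
    simp_rw [hAapp, Finset.sum_mul, Finset.mul_sum]
    rw [Finset.sum_comm]
    exact Finset.sum_congr rfl (fun ω _ => Finset.sum_congr rfl (fun ξ _ => by ring))
  have hAinj : Function.Injective A := by
    rw [← LinearMap.ker_eq_bot, LinearMap.ker_eq_bot']
    intro v hv
    have hkey : ∀ ω', (r - lam) * v ω' + lam * ∑ ω : Ω, v ω = 0 := by
      intro ω'
      have h0 : ∑ ξ : G ⧸ H, (A v ξ) * dsc H O₁ ω' ξ = 0 := by
        rw [hv]; simp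
      rw [hgram] at h0
      have hterm : ∀ ω : Ω, v ω * ∑ ξ : G ⧸ H, dsc H O₁ ω ξ * dsc H O₁ ω' ξ
          = (if ω = ω' then (r - lam) * v ω' else 0) + lam * v ω := by
        intro ω
        by_cases h : ω = ω'
        · subst h
          rw [hr, if_pos rfl]; ring
        · rw [hlam ω ω' h, if_neg h]; ring
      simp_rw [hterm] at h0
      rw [Finset.sum_add_distrib, Finset.sum_ite_eq', ← Finset.mul_sum] at h0
      simpa using h0
    have hS : ∑ ω : Ω, v ω = 0 := by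
      have hsum : ∑ ω' : Ω, ((r - lam) * v ω' + lam * ∑ ω : Ω, v ω) = 0 :=
        Finset.sum_eq_zero (fun ω' _ => hkey ω')
      rw [Finset.sum_add_distrib, ← Finset.mul_sum, Finset.sum_const, Finset.card_univ,
        nsmul_eq_mul] at hsum
      have hpos : 0 < (r - lam) + (Fintype.card Ω : ℚ) * lam :=
        add_pos_of_pos_of_nonneg hrl (mul_nonneg (Nat.cast_nonneg _) hlam_nonneg)
      have hmul : ((r - lam) + (Fintype.card Ω : ℚ) * lam) * ∑ ω : Ω, v ω = 0 := by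
        rw [← hsum]; ring
      rcases mul_eq_zero.1 hmul with h | h
      · exact absurd h hpos.ne'
      · exact h
    funext ω'
    have h := hkey ω'
    rw [hS, mul_zero, add_zero] at h
    rcases mul_eq_zero.1 h with h | h
    · exact absurd h hrl.ne'
    · exact h
  have hAsurj : Function.Surjective A := by
    have hfr : Module.finrank ℚ (Ω → ℚ) = Module.finrank ℚ ((G ⧸ H) → ℚ) := by
      rw [Module.finrank_fintype_fun_eq_card, Module.finrank_fintype_fun_eq_card,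
        ← Nat.card_eq_fintype_card, ← Nat.card_eq_fintype_card, ← hidx]
      rfl
    exact (LinearMap.injective_iff_surjective_of_finrank_eq_finrank hfr).1 hAinj
  intro ω
  obtain ⟨x, hxdef⟩ : ∃ x : ℚ, x = e / (r - lam) := ⟨_, rfl⟩
  have hxmul : x * (r - lam) = e := by rw [hxdef]; exact div_mul_cancel₀ _ hrl.ne'
  obtain ⟨d, hddef⟩ : ∃ d : (G ⧸ H) → ℚ,
      d = fun ξ => dsc H O₂ ω ξ - x * (1 - dsc H O₁ ω ξ) := ⟨_, rfl⟩
  have hdapp : ∀ ξ, d ξ = dsc H O₂ ω ξ - x * (1 - dsc H O₁ ω ξ) := fun ξ => by rw [hddef]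
  have hperp : ∀ ω', ∑ ξ : G ⧸ H, dsc H O₁ ω' ξ * d ξ = 0 := by
    intro ω'
    have hexp : ∑ ξ : G ⧸ H, dsc H O₁ ω' ξ * d ξ
        = (∑ ξ : G ⧸ H, dsc H O₁ ω' ξ * dsc H O₂ ω ξ)
          - x * ((∑ ξ : G ⧸ H, dsc H O₁ ω' ξ) - ∑ ξ : G ⧸ H, dsc H O₁ ω' ξ * dsc H O₁ ω ξ) := by
      rw [← Finset.sum_sub_distrib, Finset.mul_sum, ← Finset.sum_sub_distrib]
      exact Finset.sum_congr rfl (fun ξ _ => by rw [hdapp]; ring)
    rw [hexp]
    by_cases h : ω' = ω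
    · subst h
      rw [hzero, hsum1, hr]; ring
    · rw [he ω' ω h, hsum1, hlam ω' ω h, hxmul]; ring
  obtain ⟨v, hv⟩ := hAsurj d
  have hdd : ∑ ξ : G ⧸ H, d ξ * d ξ = 0 := by
    have h := hgram v d
    rw [hv] at h
    rw [h]
    exact Finset.sum_eq_zero (fun ω' _ => by rw [hperp ω', mul_zero])
  have hd0 : ∀ ξ, d ξ = 0 := by
    intro ξ
    have h := (Finset.sum_eq_zero_iff_of_nonneg (fun ξ _ => mul_self_nonneg (d ξ))).1 hdd ξ
      (Finset.mem_univ _)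
    exact mul_self_eq_zero.1 h
  obtain ⟨g, hg⟩ := MulAction.exists_smul_eq G ω₂ ω
  have hgi : g⁻¹ • ω = ω₂ := by rw [← hg, inv_smul_smul]
  have hx : x = 1 := by
    have h := hd0 (g : G ⧸ H)
    rw [hdapp, dsc_mk H O₂ h₂, dsc_mk H O₁ h₁, hgi, if_pos hω₂, if_neg hω₂'] at h
    linarith
  have h1 := hd0 ((1 : G) : G ⧸ H)
  rw [hdapp, dsc_mk H O₂ h₂, dsc_mk H O₁ h₁, hx] at h1
  simp only [inv_one, one_smul] at h1
  by_contra hcon
  rw [not_or] at hcon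
  rw [if_neg hcon.2, if_neg hcon.1] at h1
  norm_num at h1

theorem two_orbits_of_index [Finite G] [Finite Ω]
    (h2 : MulAction.IsMultiplyPretransitive G Ω 2) (H : Subgroup G)
    (hidx : H.index = Nat.card Ω) (hnt : ¬ MulAction.IsPretransitive H Ω) :
    Nat.card (MulAction.orbitRel.Quotient H Ω) = 2 := by
  classical
  haveI : Finite (MulAction.orbitRel.Quotient H Ω) := Quotient.finite _
  haveI : Fintype (MulAction.orbitRel.Quotient H Ω) := Fintype.ofFinite _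
  have hinv : ∀ ω₀ : Ω, ∀ h ∈ H, ∀ ω ∈ MulAction.orbit H ω₀, h • ω ∈ MulAction.orbit H ω₀ := by
    intro ω₀ h hh ω hω
    obtain ⟨k, rfl⟩ := hω
    refine ⟨⟨h, hh⟩ * k, ?_⟩
    show (⟨h, hh⟩ * k : H) • ω₀ = h • (k • ω₀)
    rw [mul_smul]
    rfl
  have hdis : ∀ a b : Ω, (Quotient.mk'' a : MulAction.orbitRel.Quotient H Ω) ≠ Quotient.mk'' b →
      ∀ ω, ω ∈ MulAction.orbit H a → ω ∉ MulAction.orbit H b := by
    intro a b hab ω h1 h2
    apply hab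
    have e1 : (Quotient.mk'' ω : MulAction.orbitRel.Quotient H Ω) = Quotient.mk'' a :=
      Quotient.sound' h1
    have e2 : (Quotient.mk'' ω : MulAction.orbitRel.Quotient H Ω) = Quotient.mk'' b :=
      Quotient.sound' h2
    rw [← e1, e2]
  by_contra hne
  have hcases : Nat.card (MulAction.orbitRel.Quotient H Ω) ≤ 1 ∨
      2 < Nat.card (MulAction.orbitRel.Quotient H Ω) := by omega
  rcases hcases with hle | hgt
  · apply hnt
    haveI : Subsingleton (MulAction.orbitRel.Quotient H Ω) :=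
      Finite.card_le_one_iff_subsingleton.1 hle
    constructor
    intro a b
    have hab : (Quotient.mk'' b : MulAction.orbitRel.Quotient H Ω) = Quotient.mk'' a :=
      Subsingleton.elim _ _
    have hmem : b ∈ MulAction.orbit H a := Quotient.exact' hab
    obtain ⟨k, hk⟩ := hmem
    exact ⟨k, hk⟩
  · rw [Nat.card_eq_fintype_card, Fintype.two_lt_card_iff] at hgt
    obtain ⟨q₁, q₂, q₃, h12, h13, h23⟩ := hgt
    induction q₁ using Quotient.inductionOn' with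
    | h a =>
      induction q₂ using Quotient.inductionOn' with
      | h b =>
        induction q₃ using Quotient.inductionOn' with
        | h c =>
          have hunion := two_trans_union h2 H hidx (MulAction.orbit H a) (MulAction.orbit H b)
            (hinv a) (hinv b) (hdis a b h12) a b (MulAction.mem_orbit_self a)
            (MulAction.mem_orbit_self b) c
          rcases hunion with hc | hc
          · exact hdis c a (Ne.symm h13) c (MulAction.mem_orbit_self c) hc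
          · exact hdis c b (Ne.symm h23) c (MulAction.mem_orbit_self c) hc

end TwoTransDesign

end Cfsg.Agent.Lib.Helper4
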