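import Mathlib
import Cfsg.Agent.S0540

set_option maxHeartbeats 1000000

open Pointwise

namespace Cfsg.Agent.Lib.Helper4

universe u

theorem wc_conj_inv_smul {G : Type*} [Group G] (g y : G) :
    (MulAut.conj g)⁻¹ • y = g⁻¹ * y * g := by
  rw [MulAut.smul_def, MulAut.conj_inv_apply]

theorem wc_mem_conj_smul {G : Type*} [Group G] (g y : G) (A : Subgroup G) :
    y ∈ MulAut.conj g • A ↔ g⁻¹ * y * g ∈ A := by
  rw [Subgroup.mem_pointwise_smul_iff_inv_smul_mem, wc_conj_inv_smul]

/-- The hypothesis of Wielandt's criterion is inherited by subgroups. -/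
theorem wc_inherit {G : Type*} [Group G] (A K : Subgroup G) (hAK : A ≤ K) (k : K)
    (h : (A.subgroupOf (A ⊔ MulAut.conj (k : G) • A)).IsSubnormal) :
    ((A.subgroupOf K).subgroupOf
      ((A.subgroupOf K) ⊔ MulAut.conj k • (A.subgroupOf K))).IsSubnormal := by
  have hJ : ∀ x : K, x ∈ (A.subgroupOf K) ⊔ MulAut.conj k • (A.subgroupOf K) →
      (x : G) ∈ A ⊔ MulAut.conj (k : G) • A := by
    have h1 : ((A.subgroupOf K) ⊔ MulAut.conj k • (A.subgroupOf K)).map K.subtype ≤
        A ⊔ MulAut.conj (k : G) • A := by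
      rw [Subgroup.map_sup]
      apply sup_le_sup
      · rw [Subgroup.map_subgroupOf_eq_of_le hAK]
      · intro y hy
        obtain ⟨x, hx, rfl⟩ := Subgroup.mem_map.1 hy
        rw [wc_mem_conj_smul] at hx ⊢
        exact hx
    intro x hx
    exact h1 (Subgroup.mem_map_of_mem _ hx)
  let f : ↥((A.subgroupOf K) ⊔ MulAut.conj k • (A.subgroupOf K)) →*
      ↥(A ⊔ MulAut.conj (k : G) • A) :=
    { toFun := fun x => ⟨x.1.1, hJ x.1 x.2⟩, map_one' := rfl, map_mul' := fun _ _ => rfl }
  have h2 := h.comap f
  have e : (A.subgroupOf (A ⊔ MulAut.conj (k : G) • A)).comap f =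
      (A.subgroupOf K).subgroupOf ((A.subgroupOf K) ⊔ MulAut.conj k • (A.subgroupOf K)) := by
    ext x
    rw [Subgroup.mem_comap, Subgroup.mem_subgroupOf, Subgroup.mem_subgroupOf,
      Subgroup.mem_subgroupOf]
    rfl
  rw [← e]; exact h2

/-- subnormality in an intermediate subgroup -/
theorem wc_subnormal_mid {G : Type*} [Group G] (A T V : Subgroup G) (hTV : T ≤ V)
    (h : (A.subgroupOf V).IsSubnormal) : (A.subgroupOf T).IsSubnormal := by
  have h2 := h.comap (Subgroup.inclusion hTV)
  have e : (A.subgroupOf V).comap (Subgroup.inclusion hTV) = A.subgroupOf T := by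
    ext x
    rw [Subgroup.mem_comap, Subgroup.mem_subgroupOf, Subgroup.mem_subgroupOf]
    rfl
  rw [← e]; exact h2

/-- conjugation transport -/
theorem wc_conj_transport {G : Type*} [Group G] (A V : Subgroup G) (g : G)
    (h : (A.subgroupOf (V.comap (MulAut.conj g).toMonoidHom)).IsSubnormal) :
    ((MulAut.conj g • A).subgroupOf V).IsSubnormal := by
  have hmem : ∀ y : V, g⁻¹ * (y : G) * g ∈ V.comap (MulAut.conj g).toMonoidHom := by
    intro y
    rw [Subgroup.mem_comap]
    have e : (MulAut.conj g).toMonoidHom (g⁻¹ * (y : G) * g) = (y : G) := by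
      simp [MulAut.conj_apply, mul_assoc]
    rw [e]; exact y.2
  let f : ↥V →* ↥(V.comap (MulAut.conj g).toMonoidHom) :=
    { toFun := fun y => ⟨g⁻¹ * (y : G) * g, hmem y⟩
      map_one' := by apply Subtype.ext; simp
      map_mul' := fun x y => by
        apply Subtype.ext
        show g⁻¹ * ((x : G) * (y : G)) * g = (g⁻¹ * (x : G) * g) * (g⁻¹ * (y : G) * g)
        group }
  have h2 := h.comap f
  have e : (A.subgroupOf (V.comap (MulAut.conj g).toMonoidHom)).comap f =
      (MulAut.conj g • A).subgroupOf V := by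
    ext y
    rw [Subgroup.mem_comap, Subgroup.mem_subgroupOf, Subgroup.mem_subgroupOf, wc_mem_conj_smul]
    rfl
  rw [← e]; exact h2

theorem wc_top {G : Type*} [Group G] (A : Subgroup G)
    (h : (A.subgroupOf (⊤ : Subgroup G)).IsSubnormal) : A.IsSubnormal :=
  Subgroup.IsSubnormal.trans le_top h Subgroup.IsSubnormal.top

theorem wielandt_criterion_aux : ∀ (n : ℕ) (G : Type u) [Group G] [Finite G], Nat.card G = n →
    ∀ A : Subgroup G, (∀ g : G, (A.subgroupOf (A ⊔ MulAut.conj g • A)).IsSubnormal) →
      A.IsSubnormal := by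
  intro n
  induction n using Nat.strong_induction_on with
  | _ n ih =>
    intro G _ _ hn A h
    -- A is subnormal in every proper subgroup containing it
    have hW1 : ∀ K : Subgroup G, A ≤ K → K ≠ ⊤ → (A.subgroupOf K).IsSubnormal := by
      intro K hAK hK
      have hlt : Nat.card K < n := by
        rw [← hn]
        by_contra hc
        apply hK
        exact Subgroup.eq_top_of_card_eq K (le_antisymm (Subgroup.card_le_card_group K)
          (not_lt.1 hc))
      apply ih (Nat.card K) hlt ↥K rfl (A.subgroupOf K)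
      intro k
      exact wc_inherit A K hAK k (h k)
    by_contra hns
    let U : Set (Subgroup G) := {V | A ≤ V ∧ V ≠ ⊤}
    let S : Subgroup G → Set (Subgroup G) := fun V =>
      {B | (∃ g : G, B = MulAut.conj g • A) ∧ B ≤ V ∧ (B.subgroupOf V).IsSubnormal}
    have hAU : A ∈ U := by
      refine ⟨le_refl A, ?_⟩
      intro hA
      apply hns
      rw [hA]; exact Subgroup.IsSubnormal.top
    have h1 : ∀ V ∈ U, A ∈ S V := by
      intro V hV
      refine ⟨⟨1, by simp⟩, hV.1, hW1 V hV.1 hV.2⟩
    have h2 : ∀ V ∈ U, ∀ W ∈ U, ∀ B ∈ S W, B ≤ V → B ∈ S V := by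
      intro V hV W _ B hB hBV
      obtain ⟨⟨g, rfl⟩, _, _⟩ := hB
      refine ⟨⟨g, rfl⟩, hBV, ?_⟩
      apply wc_conj_transport
      apply hW1
      · intro a ha
        rw [Subgroup.mem_comap]
        apply hBV
        rw [wc_mem_conj_smul]
        have e : g⁻¹ * (MulAut.conj g).toMonoidHom a * g = a := by
          simp [MulAut.conj_apply, mul_assoc]
        rw [e]; exact ha
      · intro hc
        apply hV.2
        rw [Subgroup.eq_top_iff']
        intro y
        have h3 : g⁻¹ * y * g ∈ V.comap (MulAut.conj g).toMonoidHom := by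
          rw [hc]; exact Subgroup.mem_top _
        rw [Subgroup.mem_comap] at h3
        have e : (MulAut.conj g).toMonoidHom (g⁻¹ * y * g) = y := by
          simp [MulAut.conj_apply, mul_assoc]
        rw [e] at h3; exact h3
    have h3 : ∀ V ∈ U, ∀ W ∈ U, ∃ X ∈ U,
        Subgroup.normalizer ((sSup (S V ∩ S W) : Subgroup G) : Set G) ≤ X := by
      intro V hV W hW
      have hAT : A ≤ sSup (S V ∩ S W) := le_sSup ⟨h1 V hV, h1 W hW⟩
      have hTV : sSup (S V ∩ S W) ≤ V := by
        apply sSup_le
        intro B hB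
        exact hB.1.2.1
      refine ⟨Subgroup.normalizer ((sSup (S V ∩ S W) : Subgroup G) : Set G),
        ⟨hAT.trans Subgroup.le_normalizer, ?_⟩, le_refl _⟩
      intro hN
      apply hns
      have hTn : (sSup (S V ∩ S W) : Subgroup G).Normal :=
        Subgroup.normalizer_eq_top_iff.1 hN
      exact Subgroup.IsSubnormal.trans hAT
        (wc_subnormal_mid A _ V hTV (hW1 V hV.1 hV.2)) hTn.isSubnormal
    obtain ⟨M, hMU, hM⟩ := Cfsg.Agent.S0540.result A U ⟨A, hAU⟩ S (fun V B => Iff.rfl) h1 h2 h3
    -- all conjugates of A lie in M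
    have hconj : ∀ g : G, MulAut.conj g • A ≤ M := by
      intro g
      by_cases hJ : A ⊔ MulAut.conj g • A = ⊤
      · exfalso
        apply hns
        have h4 := h g
        rw [hJ] at h4
        exact wc_top A h4
      · exact le_sup_right.trans (hM _ ⟨le_sup_left, hJ⟩)
    have hNM : Subgroup.normalClosure (A : Set G) ≤ M := by
      unfold Subgroup.normalClosure
      rw [Subgroup.closure_le]
      intro y hy
      rw [Group.mem_conjugatesOfSet_iff] at hy
      obtain ⟨a, ha, hay⟩ := hy
      obtain ⟨c, hc⟩ := isConj_iff.1 hay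
      apply hconj c
      rw [wc_mem_conj_smul, ← hc]
      have e : c⁻¹ * (c * a * c⁻¹) * c = a := by group
      rw [e]; exact ha
    apply hns
    have hNtop : Subgroup.normalClosure (A : Set G) ≠ ⊤ := by
      intro hc
      apply hMU.2
      rw [hc] at hNM
      exact top_le_iff.1 hNM
    exact Subgroup.IsSubnormal.trans Subgroup.le_normalClosure
      (hW1 _ Subgroup.le_normalClosure hNtop)
      (Subgroup.normalClosure_normal).isSubnormal

theorem wielandt_criterion {G : Type u} [Group G] [Finite G] (A : Subgroup G)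
    (h : ∀ g : G, (A.subgroupOf (A ⊔ MulAut.conj g • A)).IsSubnormal) : A.IsSubnormal :=
  wielandt_criterion_aux (Nat.card G) G rfl A h

end Cfsg.Agent.Lib.Helper4
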